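import Groth.Prelude.Def_Red2

/-!
# Points of `Red.Ga S` and `Red.Gm S` (helper43)

API relating the group of `X`-valued points of `𝔾_a`, `𝔾_m` over `S` to global functions on `X`
(`Red.gaFn`, `Red.gmFn`).
-/

set_option autoImplicit false
universe u
open CategoryTheory MonoidalCategory CartesianMonoidalCategory MonObj GrpObj AlgebraicGeometry Limits

namespace Groth.Agent.Lib.Helper43

section StepA

variable {S B : Scheme.{u}} (f : S ⟶ B)

/-- The adjunction map on points: an `X`-point of the base change `f^* G` gives an `X`-point of `G`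
(over `B`). -/
noncomputable def toBase {G : Over B} {X : Over S} (x : X ⟶ Red.bc f G) : (Over.map f).obj X ⟶ G :=
  ((Over.mapPullbackAdj f).homEquiv X G).symm x

lemma toBase_left {G : Over B} {X : Over S} (x : X ⟶ Red.bc f G) :
    (toBase f x).left = x.left ≫ pullback.fst _ _ := rfl

lemma toBase_injective {G : Over B} {X : Over S} :
    Function.Injective (toBase f : (X ⟶ Red.bc f G) → _) :=
  ((Over.mapPullbackAdj f).homEquiv X G).symm.injective

lemma toBase_surjective {G : Over B} {X : Over S} :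
    Function.Surjective (toBase f : (X ⟶ Red.bc f G) → _) :=
  ((Over.mapPullbackAdj f).homEquiv X G).symm.surjective

lemma toBase_comp {G : Over B} {X Y : Over S} (g : Y ⟶ X) (x : X ⟶ Red.bc f G) :
    toBase f (g ≫ x) = (Over.map f).map g ≫ toBase f x := by
  ext
  simp [toBase_left]

lemma toBase_map {G H : Over B} {X : Over S} (x : X ⟶ Red.bc f G) (h : G ⟶ H) :
    toBase f (x ≫ (Over.pullback f).map h) = toBase f x ≫ h := by
  ext
  simp [toBase_left, pullback.lift_fst]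

lemma toBase_mul {G : Over B} [GrpObj G] {X : Over S} (x y : X ⟶ Red.bc f G) :
    toBase f (x * y) = toBase f x * toBase f y := by
  rw [Hom.mul_def, Hom.mul_def]
  show toBase f (lift x y ≫ (Functor.LaxMonoidal.μ (Over.pullback f) G G ≫ (Over.pullback f).map μ[G])) = _
  rw [← Category.assoc, toBase_map]
  congr 1
  apply CartesianMonoidalCategory.hom_ext
  · rw [← toBase_map, Category.assoc, Functor.Monoidal.μ_fst, lift_fst, lift_fst]
  · rw [← toBase_map, Category.assoc, Functor.Monoidal.μ_snd, lift_snd, lift_snd]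

lemma toBase_one {G : Over B} [GrpObj G] {X : Over S} :
    toBase f (1 : X ⟶ Red.bc f G) = 1 := by
  have h := toBase_mul f (1 : X ⟶ Red.bc f G) 1
  rw [_root_.mul_one] at h
  exact (mul_eq_left.mp h.symm)

/-- `toBase` as a monoid homomorphism. -/
noncomputable def toBaseHom (G : Over B) [GrpObj G] (X : Over S) :
    (X ⟶ Red.bc f G) →* ((Over.map f).obj X ⟶ G) where
  toFun := toBase f
  map_one' := toBase_one f
  map_mul' := toBase_mul f

lemma toBase_inv {G : Over B} [GrpObj G] {X : Over S} (x : X ⟶ Red.bc f G) :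
    toBase f x⁻¹ = (toBase f x)⁻¹ :=
  map_inv (toBaseHom f G X) x

end StepA

section StepB

open TensorProduct

variable {A : Type u} [CommRing A]

/-- The ring homomorphism `A → Γ(Z, ⊤)` attached to a morphism `g : Z ⟶ Spec A`. -/
noncomputable def ptHom {Z : Scheme.{u}} (g : Z ⟶ Spec (.of A)) : A →+* Γ(Z, ⊤) :=
  ((Scheme.ΓSpecIso (.of A)).inv ≫ g.appTop).hom

lemma ptHom_apply {Z : Scheme.{u}} (g : Z ⟶ Spec (.of A)) (a : A) :
    ptHom g a = g.appTop ((Scheme.ΓSpecIso (.of A)).inv a) := rfl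

lemma ptHom_comp_SpecMap {A' : Type u} [CommRing A'] {Z : Scheme.{u}} (g : Z ⟶ Spec (.of A))
    (φ : A' →+* A) :
    ptHom (g ≫ Spec.map (CommRingCat.ofHom φ)) = (ptHom g).comp φ := by
  unfold ptHom
  rw [Scheme.Hom.comp_appTop, ← Category.assoc, ← Scheme.ΓSpecIso_inv_naturality]
  rfl

lemma ptHom_comp {Z Z' : Scheme.{u}} (h : Z' ⟶ Z) (g : Z ⟶ Spec (.of A)) :
    ptHom (h ≫ g) = (h.appTop.hom).comp (ptHom g) := by
  unfold ptHom
  rw [Scheme.Hom.comp_appTop, ← Category.assoc]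
  rfl

lemma ptHom_injective {Z : Scheme.{u}} :
    Function.Injective (ptHom : (Z ⟶ Spec (.of A)) → (A →+* Γ(Z, ⊤))) := by
  intro g₁ g₂ h
  apply ext_to_Spec
  apply CommRingCat.hom_ext
  exact h

lemma ptHom_toSpecΓ_SpecMap {Z : Scheme.{u}} (ρ : A →+* Γ(Z, ⊤)) :
    ptHom (Z.toSpecΓ ≫ Spec.map (CommRingCat.ofHom ρ)) = ρ := by
  rw [ptHom_comp_SpecMap]
  unfold ptHom
  rw [Scheme.toSpecΓ_appTop, Iso.inv_hom_id]
  rfl

section Tensor

variable (R : Type u) [CommRing R] {A' : Type u} [CommRing A'] [Algebra R A] [Algebra R A']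

lemma ptHom_pullbackSpecIso {Z : Scheme.{u}}
    (g : Z ⟶ pullback (Spec.map (CommRingCat.ofHom (algebraMap R A)))
      (Spec.map (CommRingCat.ofHom (algebraMap R A')))) (a : A) (a' : A') :
    ptHom (g ≫ (pullbackSpecIso R A A').hom) (a ⊗ₜ[R] a') =
      ptHom (g ≫ pullback.fst _ _) a * ptHom (g ≫ pullback.snd _ _) a' := by
  have h1 : a ⊗ₜ[R] a' = Algebra.TensorProduct.includeLeftRingHom a *
      (RingHomClass.toRingHom (Algebra.TensorProduct.includeRight : A' →ₐ[R] A ⊗[R] A')) a' := by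
    simp [Algebra.TensorProduct.tmul_mul_tmul]
  rw [h1, map_mul]
  congr 1
  · rw [← pullbackSpecIso_hom_fst R A A', ← Category.assoc, ptHom_comp_SpecMap]
    rfl
  · rw [← pullbackSpecIso_hom_snd R A A', ← Category.assoc, ptHom_comp_SpecMap]
    rfl

end Tensor

section HopfMul

variable {R : Type u} [CommRing R] [HopfAlgebra R A]

lemma w_spec {Y : Over (Spec (CommRingCat.of R))}
    (y : Y ⟶ (Spec (CommRingCat.of A)).asOver (Spec (CommRingCat.of R))) :
    y.left ≫ Spec.map (CommRingCat.ofHom (algebraMap R A)) = Y.hom := Over.w y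

lemma mul_left_eq {Y : Over (Spec (CommRingCat.of R))}
    (y₁ y₂ : Y ⟶ (Spec (CommRingCat.of A)).asOver (Spec (CommRingCat.of R))) :
    (y₁ * y₂).left = pullback.lift (f := Spec.map (CommRingCat.ofHom (algebraMap R A)))
        (g := Spec.map (CommRingCat.ofHom (algebraMap R A))) y₁.left y₂.left
        ((w_spec y₁).trans (w_spec y₂).symm) ≫ (pullbackSpecIso R A A).hom ≫
      Spec.map (CommRingCat.ofHom (Bialgebra.comulAlgHom R A)) := by
  rw [Hom.mul_def, Over.comp_left, mul_spec_asOver_spec_left]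
  rfl

/-- The ring homomorphism `A ⊗ A → Γ(Y, ⊤)` attached to two points. -/
noncomputable def mulHom {Y : Over (Spec (CommRingCat.of R))}
    (y₁ y₂ : Y ⟶ (Spec (CommRingCat.of A)).asOver (Spec (CommRingCat.of R))) :
    A ⊗[R] A →+* Γ(Y.left, ⊤) :=
  ptHom (pullback.lift (f := Spec.map (CommRingCat.ofHom (algebraMap R A)))
        (g := Spec.map (CommRingCat.ofHom (algebraMap R A))) y₁.left y₂.left
        ((w_spec y₁).trans (w_spec y₂).symm) ≫ (pullbackSpecIso R A A).hom)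

lemma mulHom_tmul {Y : Over (Spec (CommRingCat.of R))}
    (y₁ y₂ : Y ⟶ (Spec (CommRingCat.of A)).asOver (Spec (CommRingCat.of R))) (a b : A) :
    mulHom y₁ y₂ (a ⊗ₜ[R] b) = ptHom y₁.left a * ptHom y₂.left b := by
  unfold mulHom
  rw [ptHom_pullbackSpecIso, pullback.lift_fst, pullback.lift_snd]

lemma ptHom_mul {Y : Over (Spec (CommRingCat.of R))}
    (y₁ y₂ : Y ⟶ (Spec (CommRingCat.of A)).asOver (Spec (CommRingCat.of R))) (a : A) :
    ptHom (y₁ * y₂).left a = mulHom y₁ y₂ (Coalgebra.comul (R := R) a) := by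
  rw [mul_left_eq, ← Category.assoc, ptHom_comp_SpecMap]
  rfl

end HopfMul

end StepB

section ULiftInt

/-- Ring homomorphisms out of `ULift ℤ` are unique. -/
lemma ringHom_ulift_int_ext {B : Type*} [NonAssocRing B] (f g : ULift.{u} ℤ →+* B) : f = g := by
  have h : f.comp (ULift.ringEquiv.symm : ℤ ≃+* ULift.{u} ℤ).toRingHom =
      g.comp (ULift.ringEquiv.symm : ℤ ≃+* ULift.{u} ℤ).toRingHom := RingHom.ext_int _ _
  ext ⟨n⟩
  exact RingHom.congr_fun h n

attribute [local instance] ULift.algebra' in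
/-- Every ring homomorphism out of a `ULift ℤ`-algebra is a `ULift ℤ`-algebra homomorphism. -/
noncomputable def toAlgHomULift {A B : Type*} [CommRing A] [Algebra (ULift.{u} ℤ) A] [CommRing B]
    (ρ : A →+* B) : A →ₐ[ULift.{u} ℤ] B :=
  { ρ with
    commutes' := fun r =>
      RingHom.congr_fun (ringHom_ulift_int_ext (ρ.comp (algebraMap (ULift.{u} ℤ) A))
        (algebraMap (ULift.{u} ℤ) B)) r }

attribute [local instance] ULift.algebra' in
/-- Two ring homomorphisms out of `ℤ[x]` (as a symmetric algebra) agreeing on `x` agree. -/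
lemma symm_ringHom_ext {B : Type*} [CommRing B]
    (ρ₁ ρ₂ : SymmetricAlgebra (ULift.{u} ℤ) (ULift.{u} ℤ) →+* B)
    (h : ρ₁ (SymmetricAlgebra.ι (ULift.{u} ℤ) (ULift.{u} ℤ) (ULift.up 1)) =
      ρ₂ (SymmetricAlgebra.ι (ULift.{u} ℤ) (ULift.{u} ℤ) (ULift.up 1))) : ρ₁ = ρ₂ := by
  have hF : toAlgHomULift ρ₁ = toAlgHomULift ρ₂ := by
    apply SymmetricAlgebra.algHom_ext
    apply LinearMap.ext_ring
    exact h
  refine RingHom.ext (fun x => ?_)
  exact DFunLike.congr_fun hF x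

attribute [local instance] ULift.algebra' in
/-- For every element `b` of a commutative ring there is a ring homomorphism `ℤ[x] → B`, `x ↦ b`. -/
lemma symm_ringHom_exists {B : Type*} [CommRing B] (b : B) :
    ∃ ρ : SymmetricAlgebra (ULift.{u} ℤ) (ULift.{u} ℤ) →+* B,
      ρ (SymmetricAlgebra.ι (ULift.{u} ℤ) (ULift.{u} ℤ) (ULift.up 1)) = b := by
  refine ⟨(SymmetricAlgebra.lift (LinearMap.toSpanSingleton (ULift.{u} ℤ) B b)).toRingHom, ?_⟩
  show SymmetricAlgebra.lift (LinearMap.toSpanSingleton (ULift.{u} ℤ) B b) _ = b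
  rw [SymmetricAlgebra.lift_ι_apply, LinearMap.toSpanSingleton_apply]
  show ((1 : ℤ) • b) = b
  simp

/-- Two ring homomorphisms out of `ℤ[t, t⁻¹]` (as a group algebra) agreeing on `t` agree. -/
lemma laurent_ringHom_ext {B : Type*} [CommRing B]
    (ρ₁ ρ₂ : MonoidAlgebra (ULift.{u} ℤ) (Multiplicative ℤ) →+* B)
    (h : ρ₁ (MonoidAlgebra.single (Multiplicative.ofAdd (1 : ℤ)) 1) =
      ρ₂ (MonoidAlgebra.single (Multiplicative.ofAdd (1 : ℤ)) 1)) : ρ₁ = ρ₂ := by
  apply MonoidAlgebra.ringHom_ext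
  · intro r
    exact RingHom.congr_fun (ringHom_ulift_int_ext (ρ₁.comp MonoidAlgebra.singleOneRingHom)
      (ρ₂.comp MonoidAlgebra.singleOneRingHom)) r
  · intro m
    have : (ρ₁ : MonoidAlgebra (ULift.{u} ℤ) (Multiplicative ℤ) →* B).comp
        (MonoidAlgebra.of (ULift.{u} ℤ) (Multiplicative ℤ)) =
        (ρ₂ : MonoidAlgebra (ULift.{u} ℤ) (Multiplicative ℤ) →* B).comp
        (MonoidAlgebra.of (ULift.{u} ℤ) (Multiplicative ℤ)) :=
      MonoidHom.ext_mint h
    exact DFunLike.congr_fun this m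

attribute [local instance] ULift.algebra' in
/-- For every unit `b` of a commutative ring there is a ring homomorphism `ℤ[t, t⁻¹] → B`,
`t ↦ b`. -/
lemma laurent_ringHom_exists {B : Type*} [CommRing B] (b : Bˣ) :
    ∃ ρ : MonoidAlgebra (ULift.{u} ℤ) (Multiplicative ℤ) →+* B,
      ρ (MonoidAlgebra.single (Multiplicative.ofAdd (1 : ℤ)) 1) = b := by
  refine ⟨(MonoidAlgebra.lift (ULift.{u} ℤ) B (Multiplicative ℤ)
    ((Units.coeHom B).comp (zpowersHom Bˣ b))).toRingHom, ?_⟩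
  show MonoidAlgebra.lift (ULift.{u} ℤ) B (Multiplicative ℤ) _ _ = _
  rw [MonoidAlgebra.lift_single]
  simp

lemma isUnit_laurent_gen :
    IsUnit (MonoidAlgebra.single (Multiplicative.ofAdd (1 : ℤ)) 1 :
      MonoidAlgebra (ULift.{u} ℤ) (Multiplicative ℤ)) :=
  (Group.isUnit (Multiplicative.ofAdd (1 : ℤ))).map
    (MonoidAlgebra.of (ULift.{u} ℤ) (Multiplicative ℤ))

end ULiftInt

section Ga

variable {S : Scheme.{u}}

/-- The structure map `S ⟶ Spec ℤ` (universe lifted). -/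
noncomputable abbrev toZ (S : Scheme.{u}) : S ⟶ Spec (CommRingCat.of (ULift.{u} ℤ)) :=
  Limits.IsTerminal.from specULiftZIsTerminal S

/-- The generator of the symmetric algebra. -/
noncomputable abbrev gaGen : SymmetricAlgebra (ULift.{u} ℤ) (ULift.{u} ℤ) :=
  SymmetricAlgebra.ι (ULift.{u} ℤ) (ULift.{u} ℤ) (ULift.up 1)

lemma gaFn_eq {X : Over S} (x : X ⟶ Red.Ga S) :
    Red.gaFn x = ptHom (toBase (toZ S) x).left gaGen := rfl

lemma gaFn_mul {X : Over S} (x y : X ⟶ Red.Ga S) :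
    Red.gaFn (x * y) = Red.gaFn x + Red.gaFn y := by
  rw [gaFn_eq, toBase_mul, ptHom_mul, SymmetricAlgebra.comul_ι, map_add, mulHom_tmul, mulHom_tmul,
    map_one, map_one, _root_.mul_one, _root_.one_mul]
  rfl

lemma gaFn_one {X : Over S} : Red.gaFn (1 : X ⟶ Red.Ga S) = 0 := by
  have h := gaFn_mul (1 : X ⟶ Red.Ga S) 1
  have h1 : (1 : X ⟶ Red.Ga S) * 1 = 1 := _root_.mul_one (1 : X ⟶ Red.Ga S)
  rw [h1] at h
  exact left_eq_add.mp h

lemma gaFn_inv {X : Over S} (x : X ⟶ Red.Ga S) : Red.gaFn x⁻¹ = - Red.gaFn x := by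
  have h := gaFn_mul x⁻¹ x
  rw [inv_mul_cancel, gaFn_one] at h
  exact eq_neg_of_add_eq_zero_left h.symm

lemma gaFn_div {X : Over S} (x y : X ⟶ Red.Ga S) : Red.gaFn (x / y) = Red.gaFn x - Red.gaFn y := by
  rw [div_eq_mul_inv, gaFn_mul, gaFn_inv, sub_eq_add_neg]

lemma gaFn_comp {X Y : Over S} (g : Y ⟶ X) (x : X ⟶ Red.Ga S) :
    Red.gaFn (g ≫ x) = g.left.appTop (Red.gaFn x) := by
  rw [gaFn_eq, gaFn_eq, toBase_comp, Over.comp_left]
  exact RingHom.congr_fun (ptHom_comp (A := SymmetricAlgebra (ULift.{u} ℤ) (ULift.{u} ℤ))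
    ((Over.map (toZ S)).map g).left (toBase (toZ S) x).left) gaGen

lemma gaFn_injective {X : Over S} :
    Function.Injective (Red.gaFn : (X ⟶ Red.Ga S) → Γ(X.left, ⊤)) := by
  intro x y h
  apply toBase_injective (toZ S)
  ext
  apply ptHom_injective
  apply symm_ringHom_ext
  exact h

lemma gaFn_surjective {X : Over S} :
    Function.Surjective (Red.gaFn : (X ⟶ Red.Ga S) → Γ(X.left, ⊤)) := by
  intro b
  obtain ⟨ρ, hρ⟩ := symm_ringHom_exists.{u} (B := Γ(X.left, ⊤)) b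
  let φ : (Over.map (toZ S)).obj X ⟶ Red.GaZ :=
    Over.homMk (X.left.toSpecΓ ≫ Spec.map (CommRingCat.ofHom ρ)) (specULiftZIsTerminal.hom_ext _ _)
  obtain ⟨x, hx⟩ := toBase_surjective (toZ S) φ
  refine ⟨x, ?_⟩
  rw [gaFn_eq, hx]
  show ptHom (X.left.toSpecΓ ≫ Spec.map (CommRingCat.ofHom ρ)) gaGen = b
  rw [ptHom_toSpecΓ_SpecMap]
  exact hρ

/-- The group of `X`-points of `𝔾_a` is the additive group of global functions. -/
noncomputable def gaEquiv (X : Over S) : (X ⟶ Red.Ga S) ≃* Multiplicative Γ(X.left, ⊤) :=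
  MulEquiv.ofBijective
    ({ toFun := fun x => Multiplicative.ofAdd (Red.gaFn x)
       map_one' := by rw [gaFn_one]; rfl
       map_mul' := fun x y => by rw [gaFn_mul]; rfl } :
      (X ⟶ Red.Ga S) →* Multiplicative Γ(X.left, ⊤))
    ⟨fun x y h => gaFn_injective (Multiplicative.ofAdd.injective h),
     fun b => by
      obtain ⟨x, hx⟩ := gaFn_surjective (X := X) (Multiplicative.toAdd b)
      exact ⟨x, congrArg Multiplicative.ofAdd hx⟩⟩

end Ga

section Gm

variable {S : Scheme.{u}}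

/-- The coordinate of the Laurent polynomial ring. -/
noncomputable abbrev gmGen : MonoidAlgebra (ULift.{u} ℤ) (Multiplicative ℤ) :=
  MonoidAlgebra.single (Multiplicative.ofAdd (1 : ℤ)) 1

lemma gmFn_eq {X : Over S} (t : X ⟶ Red.Gm S) :
    Red.gmFn t = ptHom (toBase (toZ S) t).left gmGen := rfl

lemma gmFn_mul {X : Over S} (s t : X ⟶ Red.Gm S) :
    Red.gmFn (s * t) = Red.gmFn s * Red.gmFn t := by
  rw [gmFn_eq, toBase_mul, ptHom_mul,
    (MonoidAlgebra.isGroupLikeElem_single_one (R := ULift.{u} ℤ) (A := ULift.{u} ℤ)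
      (Multiplicative.ofAdd (1 : ℤ))).comul_eq_tmul_self, mulHom_tmul]
  rfl

lemma gmFn_one {X : Over S} : Red.gmFn (1 : X ⟶ Red.Gm S) = 1 := by
  have hu : IsUnit (Red.gmFn (1 : X ⟶ Red.Gm S)) := by
    rw [gmFn_eq]
    exact isUnit_laurent_gen.map _
  have h := gmFn_mul (1 : X ⟶ Red.Gm S) 1
  have h1 : (1 : X ⟶ Red.Gm S) * 1 = 1 := _root_.mul_one (1 : X ⟶ Red.Gm S)
  rw [h1] at h
  exact (hu.mul_eq_left.mp h.symm)

lemma gmFn_isUnit {X : Over S} (t : X ⟶ Red.Gm S) : IsUnit (Red.gmFn t) := by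
  rw [gmFn_eq]
  exact isUnit_laurent_gen.map _

lemma gmFn_inv_mul {X : Over S} (t : X ⟶ Red.Gm S) : Red.gmFn t⁻¹ * Red.gmFn t = 1 := by
  rw [← gmFn_mul, inv_mul_cancel, gmFn_one]

lemma gmFn_mul_inv {X : Over S} (t : X ⟶ Red.Gm S) : Red.gmFn t * Red.gmFn t⁻¹ = 1 := by
  rw [← gmFn_mul, mul_inv_cancel, gmFn_one]

lemma gmFn_comp {X Y : Over S} (g : Y ⟶ X) (t : X ⟶ Red.Gm S) :
    Red.gmFn (g ≫ t) = g.left.appTop (Red.gmFn t) := by
  rw [gmFn_eq, gmFn_eq, toBase_comp, Over.comp_left]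
  exact RingHom.congr_fun (ptHom_comp (A := MonoidAlgebra (ULift.{u} ℤ) (Multiplicative ℤ))
    ((Over.map (toZ S)).map g).left (toBase (toZ S) t).left) gmGen

lemma gmFn_injective {X : Over S} :
    Function.Injective (Red.gmFn : (X ⟶ Red.Gm S) → Γ(X.left, ⊤)) := by
  intro x y h
  apply toBase_injective (toZ S)
  ext
  apply ptHom_injective
  apply laurent_ringHom_ext
  exact h

lemma gmFn_surjective {X : Over S} (b : Γ(X.left, ⊤)) (hb : IsUnit b) :
    ∃ t : X ⟶ Red.Gm S, Red.gmFn t = b := by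
  obtain ⟨ρ, hρ⟩ := laurent_ringHom_exists.{u} (B := Γ(X.left, ⊤)) hb.unit
  let φ : (Over.map (toZ S)).obj X ⟶ Red.diag (ULift.{u} ℤ) ℤ :=
    Over.homMk (X.left.toSpecΓ ≫ Spec.map (CommRingCat.ofHom ρ)) (specULiftZIsTerminal.hom_ext _ _)
  obtain ⟨x, hx⟩ := toBase_surjective (toZ S) φ
  refine ⟨x, ?_⟩
  rw [gmFn_eq, hx]
  show ptHom (X.left.toSpecΓ ≫ Spec.map (CommRingCat.ofHom ρ)) gmGen = b
  rw [ptHom_toSpecΓ_SpecMap]
  exact hρ

/-- `gmFn` as a monoid homomorphism. -/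
noncomputable def gmFnHom (X : Over S) : (X ⟶ Red.Gm S) →* Γ(X.left, ⊤) where
  toFun := Red.gmFn
  map_one' := gmFn_one
  map_mul' := gmFn_mul

lemma gmFn_pow {X : Over S} (t : X ⟶ Red.Gm S) (n : ℕ) : Red.gmFn (t ^ n) = Red.gmFn t ^ n :=
  map_pow (gmFnHom X) t n

lemma gmFn_comp_id_pow {X : Over S} (t : X ⟶ Red.Gm S) (n : ℕ) :
    Red.gmFn (t ≫ (𝟙 (Red.Gm S)) ^ n) = Red.gmFn t ^ n := by
  rw [MonObj.comp_pow, Category.comp_id, gmFn_pow]

end Gm

end Groth.Agent.Lib.Helper43
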