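import Groth.Agent.Lib.Helper43.ClosedPushSet
import Groth.Prelude.Def_CohTop

/-!
# Pushforward of abelian sheaves along a closed embedding
exactness, essential image, `i⁻¹ i_* ≅ id`.
-/

set_option autoImplicit false
universe u
open CategoryTheory CategoryTheory.Limits TopologicalSpace Opposite

namespace Groth.Agent.Lib.Helper43.ClosedPushAb

open Groth.Agent.Lib.Helper43.ClosedPush

variable {Z X : TopCat.{u}} {i : Z ⟶ X}

/-- sections of an abelian sheaf over the empty open set are trivial -/
lemma subsingleton_of_eq_bot {T : TopCat.{u}} (G : CohTop.Ab T) {W : Opens T} (h : W = ⊥) :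
    Subsingleton (G.1.obj (op W)) :=
  AddCommGrpCat.subsingleton_of_isZero (TopCat.Sheaf.isTerminalOfEqEmpty G h).isZero

/-- thin-category restriction lemma, elementwise for abelian presheaves -/
lemma thin_apply {T : TopCat.{u}} (P : T.Presheaf AddCommGrpCat.{u}) {A B D : (Opens T)ᵒᵖ}
    (f : A ⟶ B) (g : B ⟶ D) (h : A ⟶ D) (s : P.obj A) :
    (P.map g).hom ((P.map f).hom s) = (P.map h).hom s := by
  rw [← map_map_thin P f g h]
  rfl

theorem push_map_epi (hi : Topology.IsClosedEmbedding i) {F G : CohTop.Ab Z} (φ : F ⟶ G)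
    [Epi φ] : Epi ((CohTop.push i).map φ) := by
  have hφ : Sheaf.IsLocallySurjective φ :=
    (Sheaf.isLocallySurjective_iff_epi' (φ := φ)).mpr inferInstance
  rw [← Sheaf.isLocallySurjective_iff_epi']
  constructor
  intro V t x hx
  by_cases hxr : x ∈ Set.range i
  · obtain ⟨z, rfl⟩ := hxr
    obtain ⟨W, g, ⟨s, hs⟩, hzW⟩ := hφ.imageSieve_mem (U := (Opens.map i).obj V) t z hx
    have hle : (Opens.map i).obj (r hi.isInducing W ⊓ V) ≤ W :=
      (le_r_iff hi.isInducing).mp inf_le_left
    refine ⟨r hi.isInducing W ⊓ V, homOfLE inf_le_right, ⟨(F.1.map (homOfLE hle).op).hom s, ?_⟩, ?_⟩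
    · show (φ.hom.app _).hom ((F.1.map (homOfLE hle).op).hom s) = _
      have hn := ConcreteCategory.congr_hom (φ.hom.naturality (homOfLE hle).op) s
      simp only [ConcreteCategory.comp_apply] at hn
      erw [hn, hs]
      exact thin_apply G.1 _ _ _ t
    · refine ⟨?_, hx⟩
      have : z ∈ (Opens.map i).obj (r hi.isInducing W) := by
        rw [map_r]; exact hzW
      exact this
  · have hbot : (Opens.map i).obj (V ⊓ compl hi) = ⊥ :=
      map_eq_bot_of_le_compl hi inf_le_right
    refine ⟨V ⊓ compl hi, homOfLE inf_le_left, ⟨0, ?_⟩, ⟨hx, hxr⟩⟩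
    have := subsingleton_of_eq_bot G hbot
    exact Subsingleton.elim (α := G.1.obj (op ((Opens.map i).obj (V ⊓ compl hi)))) _ _

instance push_additive' : (CohTop.push i).Additive := inferInstance

/-- the adjunction `i⁻¹ ⊣ i_*` -/
noncomputable abbrev adjI (i : Z ⟶ X) : CohTop.pull i ⊣ CohTop.push i :=
  TopCat.Sheaf.pullbackPushforwardAdjunction AddCommGrpCat.{u} i

theorem push_preservesFiniteColimits (hi : Topology.IsClosedEmbedding i) :
    PreservesFiniteColimits (CohTop.push i) := by
  rw [Functor.preservesFiniteColimits_iff_forall_exact_map_and_epi]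
  intro S hS
  refine ⟨?_, ?_⟩
  · have hlim : PreservesFiniteLimits (CohTop.push i) := by
      have : PreservesLimitsOfSize.{0, 0} (CohTop.push i) :=
        (adjI i).rightAdjoint_preservesLimits
      exact ⟨fun _ _ _ => inferInstance⟩
    have h := (Functor.preservesFiniteLimits_iff_forall_exact_map_and_mono (CohTop.push i)).mp
      hlim S hS
    exact h.1
  · have := hS.epi_g
    exact push_map_epi hi S.g

theorem push_full (hi : Topology.IsInducing i) : (CohTop.push i).Full :=
  full_sheaf (C := AddCommGrpCat.{u}) hi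

theorem push_faithful (hi : Topology.IsInducing i) : (CohTop.push i).Faithful :=
  faithful_sheaf (C := AddCommGrpCat.{u}) hi

theorem counit_isIso (hi : Topology.IsInducing i) : IsIso (adjI i).counit := by
  have := push_full hi
  have := push_faithful hi
  infer_instance

/-- `i⁻¹ i_* ≅ id` for an inducing map -/
noncomputable def pushPullIso (hi : Topology.IsInducing i) :
    CohTop.push i ⋙ CohTop.pull i ≅ 𝟭 (CohTop.Ab Z) :=
  @asIso _ _ _ _ (adjI i).counit (counit_isIso hi)

/-- the underlying sheaf of sets of an abelian sheaf -/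
noncomputable abbrev toSet {T : TopCat.{u}} (F : CohTop.Ab T) : T.Sheaf (Type u) :=
  (sheafCompose (Opens.grothendieckTopology T) (forget AddCommGrpCat.{u})).obj F

theorem mem_essImage_of_sections (hi : Topology.IsClosedEmbedding i) (K : CohTop.Ab X)
    (h : ∀ V : Opens X, V ≤ compl hi → Subsingleton (K.1.obj (op V))) :
    (CohTop.push i).essImage K := by
  have hI := hi.isInducing
  let P : Z.Presheaf AddCommGrpCat.{u} := (rF hI).op ⋙ K.1
  let τ : (TopCat.Presheaf.pushforward AddCommGrpCat.{u} i).obj P ⟶ K.1 :=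
    { app := fun V => K.1.map (homOfLE (le_r hI V.unop)).op
      naturality := by
        intro V V' g
        exact (map_map_thin K.1 ((rF hI).op.map ((Opens.map i).op.map g))
          (homOfLE (le_r hI V'.unop)).op ((homOfLE (le_r hI V.unop)).op ≫ g)).trans
          (map_map_thin K.1 _ _ _).symm }
  have hbij : ∀ V : (Opens X)ᵒᵖ, Function.Bijective (τ.app V).hom := by
    intro V
    exact res_bijective (toSet K) (compl hi)
      (fun V hV => by
        have := h V hV
        exact ⟨⟨⟨(0 : K.1.obj (op V))⟩, fun a => Subsingleton.elim (α := K.1.obj (op V)) _ _⟩⟩)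
      (le_r hI V.unop) (r_map_le hi V.unop)
  have hτ : IsIso τ := by
    rw [NatTrans.isIso_iff_isIso_app]
    intro V
    exact (ConcreteCategory.isIso_iff_bijective _).mpr (hbij V)
  let eτ : (TopCat.Presheaf.pushforward AddCommGrpCat.{u} i).obj P ≅ K.1 := @asIso _ _ _ _ τ hτ
  have hP : P.IsSheaf := by
    have h1 : TopCat.Presheaf.IsSheaf (P ⋙ forget AddCommGrpCat.{u} : Z.Presheaf (Type u)) := by
      refine isSheaf_of_isSheaf_pushforward hI (P ⋙ forget AddCommGrpCat.{u}) ?_
      exact TopCat.Presheaf.isSheaf_of_iso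
        (Functor.isoWhiskerRight eτ (forget AddCommGrpCat.{u})).symm (toSet K).2
    exact (Presheaf.isSheaf_iff_isSheaf_forget _ P (forget AddCommGrpCat.{u})).mpr h1
  exact ⟨⟨P, hP⟩, ⟨ObjectProperty.isoMk _ eτ⟩⟩

theorem sections_subsingleton_of_stalks (K : CohTop.Ab X) (U₀ : Opens X)
    (hst : ∀ x ∈ U₀, IsZero (CohTop.stalk K x)) (V : Opens X) (hV : V ≤ U₀) :
    Subsingleton (K.1.obj (op V)) := by
  constructor
  intro s t
  refine TopCat.Presheaf.section_ext K V s t ?_
  intro x hx
  have := AddCommGrpCat.subsingleton_of_isZero (hst x (hV hx))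
  exact Subsingleton.elim (α := CohTop.stalk K x) _ _

theorem isZero_stalk_of_sections (K : CohTop.Ab X) (U₀ : Opens X)
    (h : ∀ V : Opens X, V ≤ U₀ → Subsingleton (K.1.obj (op V))) (x : X) (hx : x ∈ U₀) :
    IsZero (CohTop.stalk K x) := by
  have : Subsingleton (CohTop.stalk K x) := by
    constructor
    intro a b
    obtain ⟨U, hxU, a', rfl⟩ := TopCat.Presheaf.exists_germ_eq K.1 a
    obtain ⟨U', hxU', b', rfl⟩ := TopCat.Presheaf.exists_germ_eq K.1 b
    refine TopCat.Presheaf.germ_ext K.1 (U ⊓ U' ⊓ U₀) ⟨⟨hxU, hxU'⟩, hx⟩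
      (homOfLE (inf_le_left.trans inf_le_left)) (homOfLE (inf_le_left.trans inf_le_right)) ?_
    have := h (U ⊓ U' ⊓ U₀) inf_le_right
    exact Subsingleton.elim (α := K.1.obj (op (U ⊓ U' ⊓ U₀))) _ _
  exact AddCommGrpCat.isZero_of_subsingleton _

theorem sections_push_subsingleton (hi : Topology.IsClosedEmbedding i) (G : CohTop.Ab Z)
    (V : Opens X) (hV : V ≤ compl hi) :
    Subsingleton (((CohTop.push i).obj G).1.obj (op V)) :=
  subsingleton_of_eq_bot G (map_eq_bot_of_le_compl hi hV)

theorem mem_essImage_iff_stalks (hi : Topology.IsClosedEmbedding i) (K : CohTop.Ab X) :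
    (CohTop.push i).essImage K ↔ ∀ x : X, x ∉ Set.range i → IsZero (CohTop.stalk K x) := by
  constructor
  · rintro ⟨G, ⟨e⟩⟩ x hx
    have h0 : IsZero (CohTop.stalk ((CohTop.push i).obj G) x) :=
      isZero_stalk_of_sections _ (compl hi) (sections_push_subsingleton hi G) x hx
    exact h0.of_iso ((TopCat.Sheaf.forget AddCommGrpCat.{u} X ⋙
      TopCat.Presheaf.stalkFunctor AddCommGrpCat.{u} x).mapIso e.symm)
  · intro hst
    exact mem_essImage_of_sections hi K
      (sections_subsingleton_of_stalks K (compl hi) (fun x hx => hst x hx))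

end Groth.Agent.Lib.Helper43.ClosedPushAb
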