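import Groth.Agent.Lib.Helper43.StkGlue

/-!
# Gluing vertical morphisms between two objects in a stack in groupoids (helper43)

Two-object version of `StkGlue`: for objects `y`, `y'` over the same `U`, morphisms `y ⟶ y'` over
`𝟙 U` satisfy separation and gluing along the morphisms into `y` lying over a sieve `T` for which
`Stk.resSieve T 𝒮` is faithful, resp. full.
-/

set_option autoImplicit false

universe v₂ u₂ v u

open CategoryTheory CategoryTheory.Functor Opposite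

namespace Groth.Agent.Lib.Helper43.StkGlue2

open Groth.Agent.Lib.Helper80 Groth.Agent.Lib.Helper43.StkGlue

variable {C : Type u} [Category.{v} C] {𝒮 : BasedCategory.{v₂, u₂} C}
variable (hp : FibCat.IsFibGrpd 𝒮.p) {U : C}

section Sec

variable (y : 𝒮.obj) (hy : 𝒮.p.obj y = U)

include hp in
/-- The Yoneda section attached to `y` over `U`. -/
noncomputable def sec₂ : FibCat.overCat U ⥤ᵇ 𝒮 :=
  haveI := IsFibGrpd.isFibered 𝒮.p hp
  yonedaFunctor y hy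

/-- The cartesian leg `sec(a) ⟶ y` over `a.hom`. -/
noncomputable def leg₂ (a : Over U) : (sec₂ hp y hy).obj a ⟶ y :=
  haveI := IsFibGrpd.isFibered 𝒮.p hp
  IsPreFibered.pullbackMap hy a.hom

instance leg₂_isHomLift (a : Over U) : 𝒮.p.IsHomLift a.hom (leg₂ hp y hy a) := by
  have := IsFibGrpd.isFibered 𝒮.p hp
  unfold leg₂ sec₂
  have h : 𝒮.p.IsCartesian a.hom (IsPreFibered.pullbackMap (p := 𝒮.p) (a := y) hy a.hom) :=
    inferInstance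
  exact h.toIsHomLift

lemma sec₂_map_leg₂ {a a' : Over U} (w : a ⟶ a') :
    (sec₂ hp y hy).map w ≫ leg₂ hp y hy a' = leg₂ hp y hy a := by
  have := IsFibGrpd.isFibered 𝒮.p hp
  unfold leg₂ sec₂
  exact yonedaFunctor_map_fac y hy w

lemma isIso_leg₂_id : IsIso (leg₂ hp y hy (Over.mk (𝟙 U))) := by
  have h : 𝒮.p.IsHomLift (𝟙 U) (leg₂ hp y hy (Over.mk (𝟙 U))) :=
    leg₂_isHomLift hp y hy (Over.mk (𝟙 U))
  exact IsFibGrpd.isIso_of_base_isIso 𝒮.p hp (𝟙 U) _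

lemma leg₂_eq (a : Over U) :
    leg₂ hp y hy a = (sec₂ hp y hy).map (toId _ a) ≫ leg₂ hp y hy (Over.mk (𝟙 U)) :=
  (sec₂_map_leg₂ hp y hy (toId _ a)).symm

lemma leg₂_cart (a : Over U) : 𝒮.p.IsStronglyCartesian a.hom (leg₂ hp y hy a) :=
  IsFibGrpd.isStronglyCartesian' 𝒮.p hp a.hom (leg₂ hp y hy a)

end Sec

variable {y y' : 𝒮.obj} (hy : 𝒮.p.obj y = U) (hy' : 𝒮.p.obj y' = U)

lemma exists_ofNat₂ (Γ : sec₂ hp y hy ⟶ sec₂ hp y' hy') :
    ∃ m : y ⟶ y', 𝒮.p.IsHomLift (𝟙 U) m ∧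
      ∀ a, Γ.toNatTrans.app a ≫ leg₂ hp y' hy' a = leg₂ hp y hy a ≫ m := by
  have hi := isIso_leg₂_id hp y hy
  have h0 : 𝒮.p.IsHomLift (𝟙 U) (leg₂ hp y hy (Over.mk (𝟙 U))) :=
    leg₂_isHomLift hp y hy (Over.mk (𝟙 U))
  have h0' : 𝒮.p.IsHomLift (𝟙 U) (leg₂ hp y' hy' (Over.mk (𝟙 U))) :=
    leg₂_isHomLift hp y' hy' (Over.mk (𝟙 U))
  have h1 : 𝒮.p.IsHomLift (𝟙 U) (inv (leg₂ hp y hy (Over.mk (𝟙 U)))) := inferInstance
  have h2 : 𝒮.p.IsHomLift (𝟙 U) (Γ.toNatTrans.app (Over.mk (𝟙 U))) :=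
    app_isHomLift_left Γ (Over.mk (𝟙 U))
  have h3 : 𝒮.p.IsHomLift (𝟙 U) (inv (leg₂ hp y hy (Over.mk (𝟙 U))) ≫
      Γ.toNatTrans.app (Over.mk (𝟙 U)) ≫ leg₂ hp y' hy' (Over.mk (𝟙 U))) := by
    have : 𝒮.p.IsHomLift (𝟙 U ≫ 𝟙 U ≫ 𝟙 U) (inv (leg₂ hp y hy (Over.mk (𝟙 U))) ≫
      Γ.toNatTrans.app (Over.mk (𝟙 U)) ≫ leg₂ hp y' hy' (Over.mk (𝟙 U))) := inferInstance
    simpa using this
  refine ⟨inv (leg₂ hp y hy (Over.mk (𝟙 U))) ≫ Γ.toNatTrans.app (Over.mk (𝟙 U)) ≫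
    leg₂ hp y' hy' (Over.mk (𝟙 U)), h3, fun a => ?_⟩
  have e := Γ.toNatTrans.naturality (toId _ a)
  rw [leg₂_eq hp y' hy' a, leg₂_eq hp y hy a, ← Category.assoc, ← e]
  simp only [Category.assoc, IsIso.hom_inv_id_assoc]

lemma exists_toNat₂ (m : y ⟶ y') [𝒮.p.IsHomLift (𝟙 U) m] :
    ∃ Γ : sec₂ hp y hy ⟶ sec₂ hp y' hy',
      ∀ a, Γ.toNatTrans.app a ≫ leg₂ hp y' hy' a = leg₂ hp y hy a ≫ m := by
  have hi := isIso_leg₂_id hp y' hy'
  have h0 : 𝒮.p.IsHomLift (𝟙 U) (leg₂ hp y hy (Over.mk (𝟙 U))) :=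
    leg₂_isHomLift hp y hy (Over.mk (𝟙 U))
  have h0' : 𝒮.p.IsHomLift (𝟙 U) (leg₂ hp y' hy' (Over.mk (𝟙 U))) :=
    leg₂_isHomLift hp y' hy' (Over.mk (𝟙 U))
  have h1 : 𝒮.p.IsHomLift (𝟙 U) (inv (leg₂ hp y' hy' (Over.mk (𝟙 U)))) := inferInstance
  have hm : 𝒮.p.IsHomLift (𝟙 U)
      (leg₂ hp y hy (Over.mk (𝟙 U)) ≫ m ≫ inv (leg₂ hp y' hy' (Over.mk (𝟙 U)))) := by
    have : 𝒮.p.IsHomLift (𝟙 U ≫ 𝟙 U ≫ 𝟙 U)
      (leg₂ hp y hy (Over.mk (𝟙 U)) ≫ m ≫ inv (leg₂ hp y' hy' (Over.mk (𝟙 U)))) := inferInstance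
    simpa using this
  have hH : ∀ X : Over U,
      𝒮.p.IsStronglyCartesian X.hom ((sec₂ hp y' hy').map (toId _ X)) := by
    intro X
    have := map_toId_isHomLift (sec₂ hp y' hy') X
    exact IsFibGrpd.isStronglyCartesian' 𝒮.p hp _ _
  obtain ⟨Γ, hΓ⟩ := evalAtId_full_aux (sec₂ hp y hy) (sec₂ hp y' hy') hH
    (leg₂ hp y hy (Over.mk (𝟙 U)) ≫ m ≫ inv (leg₂ hp y' hy' (Over.mk (𝟙 U))))
  refine ⟨Γ, fun a => ?_⟩
  have e := Γ.toNatTrans.naturality (toId _ a)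
  rw [leg₂_eq hp y' hy' a, leg₂_eq hp y hy a, ← Category.assoc, ← e, hΓ]
  simp only [Category.assoc, IsIso.inv_hom_id, Category.comp_id]

/-- membership of the base morphism of a lift in the sieve -/
lemma T_of_lift₂ (T : Sieve U) {z : 𝒮.obj} (φ : z ⟶ y) {W : C} (f : W ⟶ U)
    [𝒮.p.IsHomLift f φ] (hf : T f) : T (𝒮.p.map φ ≫ eqToHom hy) := by
  have e := IsHomLift.fac' 𝒮.p f φ
  rw [e]
  simpa using T.downward_closed hf (eqToHom (IsHomLift.domain_eq 𝒮.p f φ))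

include hp hy' in
/-- Separation: two morphisms `y ⟶ y'` over `𝟙 U` which agree after precomposition with every
morphism into `y` lying over the sieve `T` are equal. -/
theorem sep₂ (T : Sieve U) [(Stk.resSieve T 𝒮).Faithful] (m m' : y ⟶ y')
    [𝒮.p.IsHomLift (𝟙 U) m] [𝒮.p.IsHomLift (𝟙 U) m']
    (h : ∀ {z : 𝒮.obj} (φ : z ⟶ y), T (𝒮.p.map φ ≫ eqToHom hy) → φ ≫ m = φ ≫ m') : m = m' := by
  obtain ⟨Γ, hΓ⟩ := exists_toNat₂ hp hy hy' m
  obtain ⟨Γ', hΓ'⟩ := exists_toNat₂ hp hy hy' m'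
  have key : (Stk.resSieve T 𝒮).map Γ = (Stk.resSieve T 𝒮).map Γ' := by
    apply BasedNatTrans.ext
    ext a
    change Γ.toNatTrans.app a.obj = Γ'.toNatTrans.app a.obj
    have := leg₂_cart hp y' hy' a.obj
    have := app_isHomLift_left Γ a.obj
    have := app_isHomLift_left Γ' a.obj
    apply IsCartesian.ext 𝒮.p a.obj.hom (leg₂ hp y' hy' a.obj)
    rw [hΓ, hΓ']
    exact h _ (T_of_lift₂ hy T (leg₂ hp y hy a.obj) a.obj.hom a.property)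
  have hΓΓ' : Γ = Γ' := (Stk.resSieve T 𝒮).map_injective key
  have hi := isIso_leg₂_id hp y hy
  have e1 := hΓ (Over.mk (𝟙 U))
  have e2 := hΓ' (Over.mk (𝟙 U))
  rw [hΓΓ'] at e1
  exact (cancel_epi (leg₂ hp y hy (Over.mk (𝟙 U)))).1 (e1.symm.trans e2)

include hp in
/-- Gluing: a compatible family of morphisms `z ⟶ y'`, indexed by the morphisms `φ : z ⟶ y` lying
over the sieve `T` and lying over the same base morphism as `φ`, comes from a morphism `y ⟶ y'`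
over `𝟙 U`. -/
theorem glue₂ (T : Sieve U) [(Stk.resSieve T 𝒮).Full]
    (β : ∀ {z : 𝒮.obj} (φ : z ⟶ y), T (𝒮.p.map φ ≫ eqToHom hy) → (z ⟶ y'))
    (hβl : ∀ {z : 𝒮.obj} (φ : z ⟶ y) (h : T (𝒮.p.map φ ≫ eqToHom hy)),
      𝒮.p.map (β φ h) = 𝒮.p.map φ ≫ eqToHom (hy.trans hy'.symm))
    (hβ : ∀ {z' z : 𝒮.obj} (ψ : z' ⟶ z) (φ : z ⟶ y) (h : T (𝒮.p.map φ ≫ eqToHom hy))
      (h' : T (𝒮.p.map (ψ ≫ φ) ≫ eqToHom hy)), β (ψ ≫ φ) h' = ψ ≫ β φ h) :
    ∃ m : y ⟶ y', 𝒮.p.IsHomLift (𝟙 U) m ∧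
      ∀ {z : 𝒮.obj} (φ : z ⟶ y) (h : T (𝒮.p.map φ ≫ eqToHom hy)), β φ h = φ ≫ m := by
  have β_congr : ∀ {z : 𝒮.obj} {φ φ' : z ⟶ y} (e : φ = φ') (h : T (𝒮.p.map φ ≫ eqToHom hy))
      (h' : T (𝒮.p.map φ' ≫ eqToHom hy)), β φ h = β φ' h' := by
    intro z φ φ' e h h'
    subst e
    rfl
  have hT : ∀ a : (Stk.sieveCat T).obj, T (𝒮.p.map (leg₂ hp y hy a.obj) ≫ eqToHom hy) := fun a =>
    T_of_lift₂ hy T (leg₂ hp y hy a.obj) a.obj.hom a.property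
  -- the legs of `β` lie over the structure morphisms
  have hβlift : ∀ a : (Stk.sieveCat T).obj,
      𝒮.p.IsHomLift a.obj.hom (β (leg₂ hp y hy a.obj) (hT a)) := by
    intro a
    have hdom : 𝒮.p.obj ((sec₂ hp y hy).obj a.obj) = a.obj.left :=
      IsHomLift.domain_eq 𝒮.p a.obj.hom (leg₂ hp y hy a.obj)
    apply IsHomLift.of_fac' 𝒮.p a.obj.hom _ hdom hy'
    rw [hβl, IsHomLift.fac' 𝒮.p a.obj.hom (leg₂ hp y hy a.obj)]
    simp
  let g : ∀ a : (Stk.sieveCat T).obj, (sec₂ hp y hy).obj a.obj ⟶ (sec₂ hp y' hy').obj a.obj :=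
    fun a =>
      haveI := leg₂_cart hp y' hy' a.obj
      haveI := hβlift a
      IsCartesian.map 𝒮.p a.obj.hom (leg₂ hp y' hy' a.obj) (β (leg₂ hp y hy a.obj) (hT a))
  have hg : ∀ a, g a ≫ leg₂ hp y' hy' a.obj = β (leg₂ hp y hy a.obj) (hT a) := by
    intro a
    haveI := leg₂_cart hp y' hy' a.obj
    haveI := hβlift a
    exact IsCartesian.fac 𝒮.p a.obj.hom (leg₂ hp y' hy' a.obj) (β (leg₂ hp y hy a.obj) (hT a))
  have hgl : ∀ a, 𝒮.p.IsHomLift (𝟙 a.obj.left) (g a) := by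
    intro a
    haveI := leg₂_cart hp y' hy' a.obj
    haveI := hβlift a
    exact IsCartesian.map_isHomLift 𝒮.p a.obj.hom (leg₂ hp y' hy' a.obj)
      (β (leg₂ hp y hy a.obj) (hT a))
  let γ : (Stk.resSieve T 𝒮).obj (sec₂ hp y hy) ⟶ (Stk.resSieve T 𝒮).obj (sec₂ hp y' hy') :=
    { toNatTrans :=
        { app := fun a => g a
          naturality := fun a a' w => by
            change (sec₂ hp y hy).map w.hom ≫ g a' = g a ≫ (sec₂ hp y' hy').map w.hom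
            have := leg₂_cart hp y' hy' a'.obj
            have := hgl a
            have := hgl a'
            have := map_isHomLift_left (sec₂ hp y hy) w.hom
            have := map_isHomLift_left (sec₂ hp y' hy') w.hom
            have l1 : 𝒮.p.IsHomLift w.hom.left ((sec₂ hp y hy).map w.hom ≫ g a') := by
              have : 𝒮.p.IsHomLift (w.hom.left ≫ 𝟙 _) ((sec₂ hp y hy).map w.hom ≫ g a') :=
                inferInstance
              simpa using this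
            have l2 : 𝒮.p.IsHomLift w.hom.left (g a ≫ (sec₂ hp y' hy').map w.hom) := by
              have : 𝒮.p.IsHomLift (𝟙 _ ≫ w.hom.left) (g a ≫ (sec₂ hp y' hy').map w.hom) :=
                inferInstance
              simpa using this
            apply IsStronglyCartesian.ext 𝒮.p a'.obj.hom (leg₂ hp y' hy' a'.obj) w.hom.left
            rw [Category.assoc, Category.assoc, hg a', sec₂_map_leg₂, hg a]
            have e := sec₂_map_leg₂ hp y hy w.hom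
            have h' : T (𝒮.p.map ((sec₂ hp y hy).map w.hom ≫ leg₂ hp y hy a'.obj) ≫
                eqToHom hy) := by
              rw [e]; exact hT a
            rw [← hβ ((sec₂ hp y hy).map w.hom) (leg₂ hp y hy a'.obj) (hT a') h',
              β_congr e h' (hT a)] }
      isHomLift' := fun a => by
        exact hgl a }
  obtain ⟨Γ, hΓ⟩ := (Stk.resSieve T 𝒮).map_surjective γ
  obtain ⟨m, hml, hm⟩ := exists_ofNat₂ hp hy hy' Γ
  refine ⟨m, hml, fun {z} φ h => ?_⟩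
  let a : Over U := Over.mk (𝒮.p.map φ ≫ eqToHom hy)
  have hc := leg₂_cart hp y hy a
  have hφ : 𝒮.p.IsHomLift a.hom φ := by
    apply IsHomLift.of_fac' 𝒮.p a.hom φ rfl hy
    simp [a]
  let ψ : z ⟶ (sec₂ hp y hy).obj a := IsCartesian.map 𝒮.p a.hom (leg₂ hp y hy a) φ
  have hψ : ψ ≫ leg₂ hp y hy a = φ := IsCartesian.fac 𝒮.p a.hom (leg₂ hp y hy a) φ
  have hΓa : Γ.toNatTrans.app a = g ⟨a, h⟩ :=
    congrArg (fun t => t.toNatTrans.app (⟨a, h⟩ : (Stk.sieveCat T).obj)) hΓ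
  have h2 : T (𝒮.p.map (ψ ≫ leg₂ hp y hy a) ≫ eqToHom hy) := by rw [hψ]; exact h
  rw [β_congr hψ.symm h h2, hβ ψ (leg₂ hp y hy a) (hT ⟨a, h⟩) h2, ← hg ⟨a, h⟩, ← hΓa, hm a,
    ← Category.assoc, hψ]

end Groth.Agent.Lib.Helper43.StkGlue2
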