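import Groth.Agent.Lib.Helper43.SliceBC
import Groth.Prelude.Def_BigSite

/-!
# Base change for big sites: `g_big⁻¹ f_big,* ≅ f'_big,* g'_big⁻¹`
-/

set_option autoImplicit false
universe v' u' u
open CategoryTheory CategoryTheory.Limits AlgebraicGeometry

namespace Groth.Agent.Lib.Helper43.BigSiteBC

variable (K : Precoverage Scheme.{u}) {S T S' T' : Scheme.{u}} (f : T ⟶ S) (g : S' ⟶ S) (g' : T' ⟶ T)
  (f' : T' ⟶ S') (hsq : IsPullback g' f' f g) (A : Type u') [Category.{v'} A]

/-- the base change isomorphism for the big sites of a precoverage -/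
noncomputable def bcIso
    [(Over.pullback f).IsContinuous (QuotSh.J K S) (QuotSh.J K T)]
    [(Over.pullback f').IsContinuous (QuotSh.J K S') (QuotSh.J K T')] :
    BigSite.pushBig K f A ⋙ BigSite.pullBig K g A ≅
      BigSite.pullBig K g' A ⋙ BigSite.pushBig K f' A :=
  haveI : (Over.map g ⋙ Over.pullback f).IsContinuous (QuotSh.J K S') (QuotSh.J K T) :=
    Functor.isContinuous_comp (Over.map g) (Over.pullback f) (QuotSh.J K S') (QuotSh.J K S)
      (QuotSh.J K T)
  (Functor.sheafPushforwardContinuousComp' (Iso.refl (Over.map g ⋙ Over.pullback f)) A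
    (QuotSh.J K S') (QuotSh.J K S) (QuotSh.J K T)) ≪≫
  (Functor.sheafPushforwardContinuousComp' (SliceBC.iso hsq) A
    (QuotSh.J K S') (QuotSh.J K T') (QuotSh.J K T)).symm

end Groth.Agent.Lib.Helper43.BigSiteBC
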