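import Groth.Agent.Lib.Helper43.BigSiteBC

/-!
# Big pushforward then restriction to the small étale site = restriction then small pushforward
-/

set_option autoImplicit false
universe u
open CategoryTheory CategoryTheory.Limits AlgebraicGeometry

namespace Groth.Agent.Lib.Helper43.BigSmallBC

variable (K : Precoverage Scheme.{u})

set_option backward.isDefEq.respectTransparency.types false in
/-- `f_big,*` followed by restriction to the small étale site is restriction followed by `f_small,*`. -/
noncomputable def pushResIso {T S : Scheme.{u}} (f : T ⟶ S) [BigSite.AEtCont K T] [BigSite.AEtCont K S]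
    [EtCoh.BCCont f] [(Over.pullback f).IsContinuous (QuotSh.J K S) (QuotSh.J K T)] :
    BigSite.pushBig K f AddCommGrpCat.{u + 1} ⋙ BigSite.resEt K S ≅
      BigSite.resEt K T ⋙ EtCoh.push f :=
  haveI : (EtFppf.a S ⋙ Over.pullback f).IsContinuous S.smallEtaleTopology (QuotSh.J K T) :=
    Functor.isContinuous_comp (EtFppf.a S) (Over.pullback f) S.smallEtaleTopology (QuotSh.J K S)
      (QuotSh.J K T)
  (Functor.sheafPushforwardContinuousComp' (Iso.refl (EtFppf.a S ⋙ Over.pullback f))
    AddCommGrpCat.{u + 1} S.smallEtaleTopology (QuotSh.J K S) (QuotSh.J K T)) ≪≫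
  (Functor.sheafPushforwardContinuousComp'
    (F := EtCoh.bc f) (G := EtFppf.a T) (FG := EtFppf.a S ⋙ Over.pullback f)
    (MorphismProperty.Over.pullbackCompForgetIso (P := EtCoh.etaleMP) (Q := ⊤) f)
    AddCommGrpCat.{u + 1} S.smallEtaleTopology T.smallEtaleTopology (QuotSh.J K T)).symm

end Groth.Agent.Lib.Helper43.BigSmallBC
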