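import Groth.Agent.Lib.Helper43.GerbBC

/-!
# Categories fibred in groupoids: composition, and the categorical pullback `Y ×_X X`
-/

set_option autoImplicit false
universe v₄ u₄ v₃ u₃ v₂ u₂ v u

open CategoryTheory Functor Limits

namespace Groth.Agent.Lib.Helper43.FibGrpdComp

open Groth.Agent.Lib.Helper43.FibGrpdFun Groth.Agent.Lib.Helper43.GerbComp
  Groth.Agent.Lib.Helper43.GerbBC

section Comp

variable {A : Type u₂} [Category.{v₂} A] {B : Type u₃} [Category.{v₃} B]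
  {C : Type u} [Category.{v} C] (p : A ⥤ B) (q : B ⥤ C)

lemma isHomLift_comp_iff {R S : C} (f : R ⟶ S) {a b : A} (φ : a ⟶ b) :
    (p ⋙ q).IsHomLift f φ ↔ q.IsHomLift f (p.map φ) := by
  constructor
  · intro h
    obtain ⟨⟩ := h
    exact (inferInstance : q.IsHomLift (q.map (p.map φ)) (p.map φ))
  · intro h
    exact IsHomLift.of_fac (p ⋙ q) f φ (IsHomLift.domain_eq q f (p.map φ))
      (IsHomLift.codomain_eq q f (p.map φ)) (IsHomLift.fac q f (p.map φ))

theorem isFibGrpd_comp (hp : FibCat.IsFibGrpd p) (hq : FibCat.IsFibGrpd q) :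
    FibCat.IsFibGrpd (p ⋙ q) where
  exists_lift := by
    intro x V f
    obtain ⟨b, ψ, hψ⟩ := hq.exists_lift (x := p.obj x) f
    obtain ⟨y, φ, hφ⟩ := hp.exists_lift (x := x) ψ
    refine ⟨y, φ, ?_⟩
    have hw := IsHomLift.domain_eq p ψ φ
    subst hw
    have hg := IsHomLift.eq_of_isHomLift p ψ φ
    subst hg
    exact (isHomLift_comp_iff p q f φ).2 hψ
  isStronglyCartesian := by
    intro y x φ
    refine ⟨?_⟩
    intro a' g φ' hφ'
    have h1 : q.IsStronglyCartesian (q.map (p.map φ)) (p.map φ) := hq.isStronglyCartesian _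
    have h2 : p.IsStronglyCartesian (p.map φ) φ := hp.isStronglyCartesian _
    have hφ'' : q.IsHomLift (g ≫ q.map (p.map φ)) (p.map φ') :=
      (isHomLift_comp_iff p q _ φ').1 hφ'
    obtain ⟨χB, ⟨hχB, hχBe⟩, hχBu⟩ := h1.universal_property' g (p.map φ')
    have h3 : p.IsHomLift (χB ≫ p.map φ) φ' := by
      rw [hχBe]; infer_instance
    obtain ⟨χ, ⟨hχ, hχe⟩, hχu⟩ := h2.universal_property' χB φ'
    refine ⟨χ, ⟨?_, hχe⟩, ?_⟩
    · rw [isHomLift_comp_iff]
      have := IsHomLift.eq_of_isHomLift p χB χ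
      rw [← this]
      exact hχB
    · rintro χ' ⟨hχ', hχ'e⟩
      have h4 : q.IsHomLift g (p.map χ') := (isHomLift_comp_iff p q g χ').1 hχ'
      have h5 : p.map χ' = χB := hχBu (p.map χ') ⟨h4, by rw [← Functor.map_comp, hχ'e]⟩
      have h6 : p.IsHomLift χB χ' := by rw [← h5]; infer_instance
      exact hχu χ' ⟨h6, hχ'e⟩

end Comp

section CatPullback

variable {S : Type u} [Category.{v} S] {X : Type u₂} [Category.{v₂} X]
  {Y : Type u₃} [Category.{v₃} Y] (πX : X ⥤ S) (F : Y ⥤ X)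
  (hX : FibCat.IsFibGrpd πX) (hY : FibCat.IsFibGrpd (F ⋙ πX))

open CategoricalPullback

variable {F}

/-- the structural isomorphism with clean types -/
def iso' (z : CategoricalPullback F (𝟭 X)) : F.obj z.fst ≅ z.snd := z.iso

lemma hom_w' {z₁ z₀ : CategoricalPullback F (𝟭 X)} (m : z₁ ⟶ z₀) :
    F.map m.fst ≫ (iso' z₀).hom = (iso' z₁).hom ≫ m.snd := m.w

/-- constructor for morphisms -/
def mkHom {z₁ z₀ : CategoricalPullback F (𝟭 X)} (a : z₁.fst ⟶ z₀.fst) (b : z₁.snd ⟶ z₀.snd)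
    (w : F.map a ≫ (iso' z₀).hom = (iso' z₁).hom ≫ b) : z₁ ⟶ z₀ := ⟨a, b, w⟩

lemma snd_eq_of_isHomLift {z₁ z₀ : CategoricalPullback F (𝟭 X)} (b : z₁.snd ⟶ z₀.snd)
    (m : z₁ ⟶ z₀) (h : (CategoricalPullback.π₂ F (𝟭 X)).IsHomLift b m) : m.snd = b := by
  exact (@IsHomLift.eq_of_isHomLift _ _ _ _ (CategoricalPullback.π₂ F (𝟭 X)) _ _ b m h).symm

lemma isHomLift_snd {z₁ z₀ : CategoricalPullback F (𝟭 X)} (m : z₁ ⟶ z₀) :
    (CategoricalPullback.π₂ F (𝟭 X)).IsHomLift m.snd m :=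
  (inferInstance : (CategoricalPullback.π₂ F (𝟭 X)).IsHomLift
      ((CategoricalPullback.π₂ F (𝟭 X)).map m) m)

variable (F)

include hX hY in
theorem isFibGrpd_π₂ : FibCat.IsFibGrpd (CategoricalPullback.π₂ F (𝟭 X)) where
  exists_lift := by
    intro z x' f
    obtain ⟨f, rfl⟩ : ∃ f₀ : x' ⟶ z.snd, f₀ = f := ⟨f, rfl⟩
    let f' : x' ⟶ F.obj z.fst := f ≫ (iso' z).inv
    obtain ⟨y', a, ha⟩ := hY.exists_lift (x := z.fst) (πX.map f')
    haveI h1 : πX.IsHomLift (πX.map f') (F.map a) := (isHomLift_comp_iff F πX _ a).1 ha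
    obtain ⟨χ, hχ, hχe⟩ := exists_factor_id πX hX (πX.map f') f' (F.map a)
    haveI := isIso_of_lift_id πX hX (πX.obj x') χ
    let z' : CategoricalPullback F (𝟭 X) := ⟨y', x', asIso χ⟩
    have w : F.map a ≫ (iso' z).hom = (iso' z').hom ≫ f := by
      change F.map a ≫ (iso' z).hom = χ ≫ f
      rw [← hχe]
      simp only [f', Category.assoc, Iso.inv_hom_id, Category.comp_id]
    have hl : (CategoricalPullback.π₂ F (𝟭 X)).IsHomLift f (mkHom (z₁ := z') (z₀ := z) a f w) :=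
      isHomLift_snd (mkHom (z₁ := z') (z₀ := z) a f w)
    exact ⟨z', mkHom a f w, hl⟩
  isStronglyCartesian := by
    intro z₁ z₀ m
    refine ⟨?_⟩
    intro z₂ h m' hm'
    obtain ⟨h, rfl⟩ : ∃ h₀ : z₂.snd ⟶ z₁.snd, h₀ = h := ⟨h, rfl⟩
    have hsnd : m'.snd = h ≫ m.snd := snd_eq_of_isHomLift (h ≫ m.snd) m' hm'
    let k : F.obj z₂.fst ⟶ F.obj z₁.fst := (iso' z₂).hom ≫ h ≫ (iso' z₁).inv
    have mw := hom_w' m
    have m'w := hom_w' m'
    have e1 : (iso' z₁).inv ≫ F.map m.fst = m.snd ≫ (iso' z₀).inv := by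
      rw [Iso.inv_comp_eq, ← Category.assoc, ← mw, Category.assoc, Iso.hom_inv_id,
        Category.comp_id]
    have star : F.map m'.fst = k ≫ F.map m.fst := by
      simp only [k, Category.assoc]
      rw [e1, ← Category.assoc h, ← hsnd, ← Category.assoc, ← m'w, Category.assoc,
        Iso.hom_inv_id, Category.comp_id]
    have hsc : (F ⋙ πX).IsStronglyCartesian ((F ⋙ πX).map m.fst) m.fst :=
      hY.isStronglyCartesian _
    have hl : (F ⋙ πX).IsHomLift (πX.map k ≫ (F ⋙ πX).map m.fst) m'.fst := by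
      have : πX.map k ≫ (F ⋙ πX).map m.fst = (F ⋙ πX).map m'.fst := by
        change πX.map k ≫ πX.map (F.map m.fst) = πX.map (F.map m'.fst)
        rw [← Functor.map_comp, ← star]
      rw [this]; infer_instance
    obtain ⟨c, ⟨hc, hce⟩, hcu⟩ := hsc.universal_property' (πX.map k) m'.fst
    haveI hc' : πX.IsHomLift (πX.map k) (F.map c) := (isHomLift_comp_iff F πX _ c).1 hc
    haveI hscX : πX.IsStronglyCartesian (πX.map (F.map m.fst)) (F.map m.fst) :=
      hX.isStronglyCartesian _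
    have hFc : F.map c = k := by
      apply IsStronglyCartesian.ext πX (πX.map (F.map m.fst)) (F.map m.fst) (πX.map k)
      rw [← Functor.map_comp, hce, star]
    have wχ : F.map c ≫ (iso' z₁).hom = (iso' z₂).hom ≫ h := by
      rw [hFc]
      simp only [k, Category.assoc, Iso.inv_hom_id, Category.comp_id]
    have hl2 : (CategoricalPullback.π₂ F (𝟭 X)).IsHomLift h (mkHom (z₁ := z₂) (z₀ := z₁) c h wχ) :=
      isHomLift_snd (mkHom (z₁ := z₂) (z₀ := z₁) c h wχ)
    refine ⟨mkHom c h wχ, ⟨hl2, ?_⟩, ?_⟩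
    · apply CategoricalPullback.hom_ext
      · exact hce
      · exact hsnd.symm
    · rintro χ' ⟨hχ', hχ'e⟩
      have h1 : χ'.snd = h := snd_eq_of_isHomLift h χ' hχ'
      have χ'w := hom_w' χ'
      have h2 : F.map χ'.fst = k := by
        simp only [k]
        rw [← h1, ← Category.assoc, ← χ'w, Category.assoc, Iso.hom_inv_id, Category.comp_id]
      have h3 : (F ⋙ πX).IsHomLift (πX.map k) χ'.fst := by
        rw [isHomLift_comp_iff, h2]; infer_instance
      have h4 : χ'.fst ≫ m.fst = m'.fst := congrArg (fun t => t.fst) hχ'e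
      have h5 : χ'.fst = c := hcu χ'.fst ⟨h3, h4⟩
      apply CategoricalPullback.hom_ext
      · exact h5
      · exact h1

end CatPullback

end Groth.Agent.Lib.Helper43.FibGrpdComp
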