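import Groth.Agent.Lib.Helper43.StkRefine
import Groth.Agent.Lib.Helper43.FibGrpdComp

/-!
# Full subcategories of stacks in groupoids

For a stack in groupoids `𝒳` over `(C, J)` and a property `Q` of objects which is stable under
pullback up to vertical isomorphism and local (up to vertical isomorphism), the full subcategory
on `Q` is again a stack in groupoids.
-/

set_option autoImplicit false
universe v u

open CategoryTheory Functor

namespace Groth.Agent.Lib.Helper43.StkFullSub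

open Groth.Agent.Lib.Helper43.FibGrpdFun Groth.Agent.Lib.Helper43.GerbComp
  Groth.Agent.Lib.Helper43.GerbBC Groth.Agent.Lib.Helper43.FibGrpdComp

variable {C : Type u} [Category.{v} C] {𝒳 : BasedCategory.{v, max u v} C}
  (Q : ObjectProperty 𝒳.obj)

/-- the full subcategory on `Q` as a based category -/
abbrev sub : BasedCategory.{v, max u v} C := BasedCategory.ofFunctor (Q.ι ⋙ 𝒳.p)

/-- the inclusion, a functor over `C` -/
def incl : sub Q ⥤ᵇ 𝒳 where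
  toFunctor := Q.ι
  w := rfl

lemma isHomLift_sub_iff {R S : C} (f : R ⟶ S) {a b : (sub Q).obj} (φ : a ⟶ b) :
    (sub Q).p.IsHomLift f φ ↔ 𝒳.p.IsHomLift f φ.hom :=
  isHomLift_comp_iff Q.ι 𝒳.p f φ

section FibGrpd

variable (h𝒳 : FibCat.IsFibGrpd 𝒳.p)
  (h1 : ∀ ⦃y x : 𝒳.obj⦄ (_ : y ⟶ x), Q x →
    ∃ (y' : 𝒳.obj) (e : y ≅ y'), Q y' ∧ 𝒳.p.IsHomLift (𝟙 (𝒳.p.obj y)) e.hom)

include h𝒳 h1 in
theorem isFibGrpd_sub : FibCat.IsFibGrpd (Q.ι ⋙ 𝒳.p) where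
  exists_lift := by
    intro x V f
    obtain ⟨y, φ, hφ⟩ := h𝒳.exists_lift (x := x.obj) f
    obtain ⟨y', e, hy', he⟩ := h1 φ x.property
    have hdom : 𝒳.p.obj y = V := IsHomLift.domain_eq 𝒳.p f φ
    subst hdom
    haveI := he
    haveI : 𝒳.p.IsHomLift (𝟙 (𝒳.p.obj y)) e.inv := IsHomLift.lift_id_inv _ _ e
    haveI : 𝒳.p.IsHomLift (𝟙 (𝒳.p.obj y) ≫ f) (e.inv ≫ φ) := inferInstance
    refine ⟨⟨y', hy'⟩, ObjectProperty.homMk (e.inv ≫ φ), ?_⟩
    rw [isHomLift_comp_iff]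
    have : 𝒳.p.IsHomLift f (e.inv ≫ φ) := by
      have h := (inferInstance : 𝒳.p.IsHomLift (𝟙 (𝒳.p.obj y) ≫ f) (e.inv ≫ φ))
      rwa [Category.id_comp] at h
    exact this
  isStronglyCartesian := by
    intro y x φ
    refine ⟨?_⟩
    intro a' g φ' hφ'
    have hsc : 𝒳.p.IsStronglyCartesian (𝒳.p.map φ.hom) φ.hom := h𝒳.isStronglyCartesian _
    haveI : 𝒳.p.IsHomLift (g ≫ 𝒳.p.map φ.hom) φ'.hom := (isHomLift_comp_iff Q.ι 𝒳.p _ φ').1 hφ'
    obtain ⟨χ, ⟨hχ, hχe⟩, hχu⟩ := hsc.universal_property' g φ'.hom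
    refine ⟨ObjectProperty.homMk χ, ⟨?_, ?_⟩, ?_⟩
    · rw [isHomLift_comp_iff]; exact hχ
    · exact ObjectProperty.hom_ext _ hχe
    · rintro χ' ⟨hχ', hχ'e⟩
      apply ObjectProperty.hom_ext
      refine hχu χ'.hom ⟨(isHomLift_comp_iff Q.ι 𝒳.p g χ').1 hχ', ?_⟩
      have := congrArg (fun m => m.hom) hχ'e
      exact this

end FibGrpd

section Post

variable {𝒜 : BasedCategory.{v, max u v} C}

/-- post-composition with the inclusion -/
def postFun (𝒜 : BasedCategory.{v, max u v} C) : (𝒜 ⥤ᵇ sub Q) ⥤ (𝒜 ⥤ᵇ 𝒳) where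
  obj G := BasedFunctor.comp G (incl Q)
  map α := BasedCategory.whiskerRight α (incl Q)
  map_id G := by apply BasedNatTrans.homCategory.ext; ext a; rfl
  map_comp α β := by apply BasedNatTrans.homCategory.ext; ext a; rfl

instance faithful_postFun : (postFun Q 𝒜).Faithful where
  map_injective {G G'} α β h := by
    apply BasedNatTrans.homCategory.ext
    ext a
    apply ObjectProperty.hom_ext
    have := congrArg (fun γ : (postFun Q 𝒜).obj G ⟶ (postFun Q 𝒜).obj G' => γ.toNatTrans.app a) h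
    exact this

/-- lifting a transformation between the composites to the full subcategory. -/
def liftTrans {G G' : 𝒜 ⥤ᵇ sub Q} (γ : (postFun Q 𝒜).obj G ⟶ (postFun Q 𝒜).obj G') : G ⟶ G' where
  toNatTrans :=
    { app := fun a => ObjectProperty.homMk (γ.toNatTrans.app a)
      naturality := by
        intro a b m
        apply ObjectProperty.hom_ext
        exact γ.toNatTrans.naturality m }
  isHomLift' := by
    intro a
    rw [isHomLift_sub_iff]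
    exact γ.isHomLift' a

instance full_postFun : (postFun Q 𝒜).Full where
  map_surjective {G G'} γ := ⟨liftTrans Q γ, by
    apply BasedNatTrans.homCategory.ext; ext a; rfl⟩

end Post

section Restr

variable {𝒜 ℬ : BasedCategory.{v, max u v} C} (ι : 𝒜 ⥤ᵇ ℬ)

/-- restriction commutes with post-composition. -/
def restrPostIso : Stk.restr ι (sub Q) ⋙ postFun Q 𝒜 ≅ postFun Q ℬ ⋙ Stk.restr ι 𝒳 :=
  Iso.refl _

theorem full_restr_sub [(Stk.restr ι 𝒳).Full] [(Stk.restr ι 𝒳).Faithful] :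
    (Stk.restr ι (sub Q)).Full :=
  Functor.Full.of_comp_faithful_iso (restrPostIso Q ι)

theorem faithful_restr_sub [(Stk.restr ι 𝒳).Faithful] :
    (Stk.restr ι (sub Q)).Faithful :=
  Functor.Faithful.of_comp_iso (restrPostIso Q ι)

end Restr

section Conj

variable {U : C} (G : FibCat.overCat U ⥤ᵇ 𝒳) (y' : Over U → 𝒳.obj)
  (e : ∀ a : Over U, G.obj a ≅ y' a) (hQ : ∀ a, Q (y' a))
  (he : ∀ a : Over U, 𝒳.p.IsHomLift (𝟙 a.left) (e a).hom)

lemma isHomLift_over {a b : Over U} (m : a ⟶ b) : (FibCat.overCat U).p.IsHomLift m.left m := by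
  show (Over.forget U).IsHomLift ((Over.forget U).map m) m
  infer_instance

include he in
lemma isHomLift_conj {a b : Over U} (m : a ⟶ b) :
    𝒳.p.IsHomLift m.left ((e a).inv ≫ G.map m ≫ (e b).hom) := by
  haveI := he a
  haveI := he b
  haveI : 𝒳.p.IsHomLift (𝟙 a.left) (e a).inv := IsHomLift.lift_id_inv _ _ (e a)
  haveI := isHomLift_over m
  haveI : 𝒳.p.IsHomLift m.left (G.map m) := inferInstance
  infer_instance

/-- the functor conjugated by vertical isomorphisms onto objects satisfying `Q`. -/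
def conjFun : FibCat.overCat U ⥤ᵇ sub Q where
  toFunctor :=
    { obj := fun a => ⟨y' a, hQ a⟩
      map := fun {a b} m => ObjectProperty.homMk ((e a).inv ≫ G.map m ≫ (e b).hom)
      map_id := by
        intro a
        apply ObjectProperty.hom_ext
        show (e a).inv ≫ G.map (𝟙 a) ≫ (e a).hom = 𝟙 _
        simp
      map_comp := by
        intro a b c m n
        apply ObjectProperty.hom_ext
        show (e a).inv ≫ G.map (m ≫ n) ≫ (e c).hom =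
          ((e a).inv ≫ G.map m ≫ (e b).hom) ≫ ((e b).inv ≫ G.map n ≫ (e c).hom)
        simp }
  w := by
    refine CategoryTheory.Functor.ext ?_ ?_
    · intro a
      have h := he a
      exact @IsHomLift.codomain_eq _ _ _ _ 𝒳.p _ _ _ _ _ _ h
    · intro a b m
      have h := isHomLift_conj G y' e he m
      exact @IsHomLift.fac' _ _ _ _ 𝒳.p _ _ _ _ _ _ h

/-- the conjugated functor is isomorphic (over `C`) to the original one. -/
def conjIso : (postFun Q (FibCat.overCat U)).obj (conjFun Q G y' e hQ he) ≅ G :=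
  BasedNatIso.mkNatIso
    (NatIso.ofComponents (fun a => (e a).symm) (by
      intro a b m
      show ((e a).inv ≫ G.map m ≫ (e b).hom) ≫ (e b).inv = (e a).inv ≫ G.map m
      simp))
    (by
      intro a
      haveI := he a
      show 𝒳.p.IsHomLift (𝟙 a.left) (e a).inv
      exact IsHomLift.lift_id_inv _ _ (e a))

end Conj

section EssSurj

variable (J : GrothendieckTopology C) (h𝒳 : FibCat.IsFibGrpd 𝒳.p)
  (h1 : ∀ ⦃y x : 𝒳.obj⦄ (_ : y ⟶ x), Q x →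
    ∃ (y' : 𝒳.obj) (e : y ≅ y'), Q y' ∧ 𝒳.p.IsHomLift (𝟙 (𝒳.p.obj y)) e.hom)
  (h3 : ∀ ⦃U : C⦄ (R : Sieve U), R ∈ J U → ∀ (x : 𝒳.obj), 𝒳.p.obj x = U →
    (∀ ⦃V : C⦄ (f : V ⟶ U), R f → ∀ (y : 𝒳.obj) (φ : y ⟶ x), 𝒳.p.IsHomLift f φ →
      ∃ (y' : 𝒳.obj) (e : y ≅ y'), Q y' ∧ 𝒳.p.IsHomLift (𝟙 V) e.hom) →
    ∃ (x' : 𝒳.obj) (e : x ≅ x'), Q x' ∧ 𝒳.p.IsHomLift (𝟙 U) e.hom)
  {U : C} (R : Sieve U) (hR : R ∈ J U)
  (G : FibCat.overCat U ⥤ᵇ 𝒳) (H : Stk.sieveCat R ⥤ᵇ sub Q)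
  (ε : (Stk.resSieve R 𝒳).obj G ≅ (postFun Q (Stk.sieveCat R)).obj H)

/-- the canonical map from an object of the slice to the terminal object of the slice. -/
def toTop (a : Over U) : a ⟶ Over.mk (𝟙 U) := Over.homMk a.hom

include h𝒳 h3 hR ε in
lemma exists_Q_top :
    ∃ (x' : 𝒳.obj) (e : G.obj (Over.mk (𝟙 U)) ≅ x'), Q x' ∧ 𝒳.p.IsHomLift (𝟙 U) e.hom := by
  refine h3 R hR (G.obj (Over.mk (𝟙 U))) (G.w_obj _) ?_
  intro V f hf y φ hφ
  haveI := hφ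
  let a : Over U := Over.mk f
  let m : a ⟶ Over.mk (𝟙 U) := toTop a
  haveI : (FibCat.overCat U).p.IsHomLift f m := isHomLift_over m
  haveI : 𝒳.p.IsHomLift f (G.map m) := inferInstance
  obtain ⟨χ, hχ, -⟩ := exists_factor_id 𝒳.p h𝒳 f (G.map m) φ
  haveI := hχ
  haveI := isIso_of_lift_id 𝒳.p h𝒳 V χ
  let θ : G.obj a ⟶ (H.obj ⟨a, hf⟩).obj := ε.hom.toNatTrans.app ⟨a, hf⟩
  haveI hθ : 𝒳.p.IsHomLift (𝟙 V) θ := ε.hom.isHomLift' ⟨a, hf⟩
  haveI := isIso_of_lift_id 𝒳.p h𝒳 V θ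
  refine ⟨(H.obj ⟨a, hf⟩).obj, asIso χ ≪≫ asIso θ, (H.obj ⟨a, hf⟩).property, ?_⟩
  show 𝒳.p.IsHomLift (𝟙 V) (χ ≫ θ)
  infer_instance

lemma isHomLift_id_of_eq {A B : C} (h : A = B) {a b : 𝒳.obj} (φ : a ⟶ b)
    (hφ : 𝒳.p.IsHomLift (𝟙 A) φ) : 𝒳.p.IsHomLift (𝟙 B) φ := by
  subst h; exact hφ

include h𝒳 h1 h3 hR ε in
lemma exists_Q_all (a : Over U) :
    ∃ (y' : 𝒳.obj) (e : G.obj a ≅ y'), Q y' ∧ 𝒳.p.IsHomLift (𝟙 a.left) e.hom := by
  obtain ⟨x', e₀, hx', -⟩ := exists_Q_top Q J h𝒳 h3 R hR G H ε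
  obtain ⟨y', e, hy', he⟩ := h1 (G.map (toTop a) ≫ e₀.hom) hx'
  exact ⟨y', e, hy', isHomLift_id_of_eq (G.w_obj a) _ he⟩

include h𝒳 h1 h3 hR ε in
lemma exists_preimage :
    ∃ G' : FibCat.overCat U ⥤ᵇ sub Q, Nonempty ((Stk.resSieve R (sub Q)).obj G' ≅ H) := by
  choose y' e hQ he using exists_Q_all Q J h𝒳 h1 h3 R hR G H ε
  refine ⟨conjFun Q G y' e hQ he, ⟨?_⟩⟩
  refine (postFun Q (Stk.sieveCat R)).preimageIso ?_
  exact (restrPostIso Q (Stk.sieveIncl R)).app _ ≪≫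
    (Stk.resSieve R 𝒳).mapIso (conjIso Q G y' e hQ he) ≪≫ ε

end EssSurj

section Main

variable (J : GrothendieckTopology C)

theorem isStack_sub (h𝒳 : Stk.IsStack J 𝒳)
    (h1 : ∀ ⦃y x : 𝒳.obj⦄ (_ : y ⟶ x), Q x →
      ∃ (y' : 𝒳.obj) (e : y ≅ y'), Q y' ∧ 𝒳.p.IsHomLift (𝟙 (𝒳.p.obj y)) e.hom)
    (h3 : ∀ ⦃U : C⦄ (R : Sieve U), R ∈ J U → ∀ (x : 𝒳.obj), 𝒳.p.obj x = U →
      (∀ ⦃V : C⦄ (f : V ⟶ U), R f → ∀ (y : 𝒳.obj) (φ : y ⟶ x), 𝒳.p.IsHomLift f φ →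
        ∃ (y' : 𝒳.obj) (e : y ≅ y'), Q y' ∧ 𝒳.p.IsHomLift (𝟙 V) e.hom) →
      ∃ (x' : 𝒳.obj) (e : x ≅ x'), Q x' ∧ 𝒳.p.IsHomLift (𝟙 U) e.hom) :
    Stk.IsStack J (sub Q) := by
  refine ⟨isFibGrpd_sub Q h𝒳.1 h1, ?_⟩
  intro U R hR
  have hst : (Stk.resSieve R 𝒳).IsEquivalence := h𝒳.2 R hR
  haveI : (Stk.restr (Stk.sieveIncl R) 𝒳).Full := hst.full
  haveI : (Stk.restr (Stk.sieveIncl R) 𝒳).Faithful := hst.faithful
  haveI : (Stk.resSieve R 𝒳).EssSurj := hst.essSurj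
  haveI : (Stk.resSieve R (sub Q)).Full := full_restr_sub Q (Stk.sieveIncl R)
  haveI : (Stk.resSieve R (sub Q)).Faithful := faithful_restr_sub Q (Stk.sieveIncl R)
  haveI : (Stk.resSieve R (sub Q)).EssSurj := by
    constructor
    intro H
    let G := (Stk.resSieve R 𝒳).objPreimage ((postFun Q (Stk.sieveCat R)).obj H)
    let ε := (Stk.resSieve R 𝒳).objObjPreimageIso ((postFun Q (Stk.sieveCat R)).obj H)
    obtain ⟨G', ⟨i⟩⟩ := exists_preimage Q J h𝒳.1 h1 h3 R hR G H ε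
    exact ⟨G', ⟨i⟩⟩
  show (Stk.resSieve R (sub Q)).IsEquivalence
  exact {}

end Main

end Groth.Agent.Lib.Helper43.StkFullSub
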