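import Mathlib

/-!
# Abelian sheaves as commutative group objects in sheaves of sets (helper43)

`toG J : Sheaf J AddCommGrpCat ⥤ CommGrp (Sheaf J (Type u))` and the proof that it is an
equivalence (fully faithful and essentially surjective).
-/

open CategoryTheory MonoidalCategory CartesianMonoidalCategory Limits Opposite MonObj

universe u

namespace H43G

variable {C : Type u} [SmallCategory C] (J : GrothendieckTopology C)

noncomputable instance (priority := 2000) sheafMonoidal : MonoidalCategory (Sheaf J (Type u)) :=
  SemiCartesianMonoidalCategory.toMonoidalCategory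
    (self := CartesianMonoidalCategory.toSemiCartesianMonoidalCategory)

noncomputable instance sheafBraided :
    @BraidedCategory (Sheaf J (Type u)) _
      (SemiCartesianMonoidalCategory.toMonoidalCategory
        (self := CartesianMonoidalCategory.toSemiCartesianMonoidalCategory)) :=
  .ofCartesianMonoidalCategory

/-- underlying sheaf of sets -/
noncomputable abbrev US (A : Sheaf J AddCommGrpCat.{u}) : Sheaf J (Type u) :=
  (sheafCompose J (forget AddCommGrpCat.{u})).obj A

noncomputable def addHom (A : Sheaf J AddCommGrpCat.{u}) : US J A ⊗ US J A ⟶ US J A :=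
  ⟨{ app := fun V => TypeCat.ofHom (fun p : (A.obj.obj V) × (A.obj.obj V) => p.1 + p.2)
     naturality := by
       intro V W f
       ext ⟨a, b⟩
       exact (@map_add (A.obj.obj V) (A.obj.obj W) _ _ _ _ _ (A.obj.map f).hom a b).symm }⟩

noncomputable def zeroHom (A : Sheaf J AddCommGrpCat.{u}) : 𝟙_ (Sheaf J (Type u)) ⟶ US J A :=
  ⟨{ app := fun V => TypeCat.ofHom (fun _ => (0 : A.obj.obj V))
     naturality := by
       intro V W f
       ext x
       exact (map_zero (A.obj.map f).hom).symm }⟩

noncomputable def negHom (A : Sheaf J AddCommGrpCat.{u}) : US J A ⟶ US J A :=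
  ⟨{ app := fun V => TypeCat.ofHom (fun a : A.obj.obj V => -a)
     naturality := by
       intro V W f
       ext a
       exact (@map_neg (A.obj.obj V) (A.obj.obj W) _ _ _ _ _ (A.obj.map f).hom a).symm }⟩

noncomputable instance monObj (A : Sheaf J AddCommGrpCat.{u}) : MonObj (US J A) where
  one := zeroHom J A
  mul := addHom J A
  one_mul := by
    ext V ⟨x, a⟩
    exact @zero_add (A.obj.obj V) _ a
  mul_one := by
    ext V ⟨a, x⟩
    exact @add_zero (A.obj.obj V) _ a
  mul_assoc := by
    ext V ⟨⟨a, b⟩, c⟩
    exact @add_assoc (A.obj.obj V) _ a b c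

noncomputable instance grpObj (A : Sheaf J AddCommGrpCat.{u}) : GrpObj (US J A) where
  toMonObj := monObj J A
  inv := negHom J A
  left_inv := by
    ext V a
    exact @neg_add_cancel (A.obj.obj V) _ a
  right_inv := by
    ext V a
    exact @add_neg_cancel (A.obj.obj V) _ a

instance comm (A : Sheaf J AddCommGrpCat.{u}) : IsCommMonObj (US J A) where
  mul_comm := by
    ext V ⟨a, b⟩
    exact @add_comm (A.obj.obj V) _ b a

/-- The commutative group object attached to an abelian sheaf. -/
noncomputable def toGObj (A : Sheaf J AddCommGrpCat.{u}) : CommGrp (Sheaf J (Type u)) :=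
  { X := US J A }

lemma one_toG (A : Sheaf J AddCommGrpCat.{u}) : η[(toGObj J A).X] = zeroHom J A := rfl
lemma mul_toG (A : Sheaf J AddCommGrpCat.{u}) : μ[(toGObj J A).X] = addHom J A := rfl

noncomputable def toGMap {A B : Sheaf J AddCommGrpCat.{u}} (f : A ⟶ B) :
    toGObj J A ⟶ toGObj J B :=
  InducedCategory.homMk (Grp.homMk'' ((sheafCompose J (forget AddCommGrpCat.{u})).map f)
    (by
      ext V x
      exact map_zero (f.hom.app V).hom)
    (by
      ext V ⟨a, b⟩
      exact @map_add (A.obj.obj V) (B.obj.obj V) _ _ _ _ _ (f.hom.app V).hom a b))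

lemma toGMap_hom {A B : Sheaf J AddCommGrpCat.{u}} (f : A ⟶ B) :
    (toGMap J f).hom.hom.hom = (sheafCompose J (forget AddCommGrpCat.{u})).map f := rfl

/-- The functor from abelian sheaves to commutative group objects in sheaves of sets. -/
noncomputable def toG : Sheaf J AddCommGrpCat.{u} ⥤ CommGrp (Sheaf J (Type u)) where
  obj A := toGObj J A
  map f := toGMap J f
  map_id A := by
    apply CommGrp.hom_ext
    rw [toGMap_hom]
    simp
    rfl
  map_comp f g := by
    apply CommGrp.hom_ext
    rw [toGMap_hom]
    simp
    rfl

end H43G
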