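import Groth.Agent.Lib.Helper43.AbGrpObj

/-!
# `toG` is an equivalence (helper43)
-/

open CategoryTheory MonoidalCategory CartesianMonoidalCategory Limits Opposite MonObj

universe u

namespace H43G

variable {C : Type u} [SmallCategory C] (J : GrothendieckTopology C)

instance faithful_toG : (toG J).Faithful where
  map_injective {A B f g} h := by
    have h1 : (toGMap J f).hom.hom.hom = (toGMap J g).hom.hom.hom := by
      change ((toG J).map f).hom.hom.hom = ((toG J).map g).hom.hom.hom
      rw [h]
    rw [toGMap_hom, toGMap_hom] at h1
    exact (sheafCompose J (forget AddCommGrpCat.{u})).map_injective h1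

/-- preimage of a morphism of group objects -/
noncomputable def preim {A B : Sheaf J AddCommGrpCat.{u}} (φ : toGObj J A ⟶ toGObj J B) :
    A ⟶ B :=
  ⟨{ app := fun V => AddCommGrpCat.ofHom
        { toFun := fun a => (φ.hom.hom.hom.hom.app V) a
          map_zero' := by
            have h := IsMonHom.one_hom φ.hom.hom.hom
            have h2 := congr_arg (fun k => k.hom.app V) h
            exact congr_arg (fun k => k PUnit.unit) h2
          map_add' := fun a b => by
            have h := IsMonHom.mul_hom φ.hom.hom.hom
            have h2 := congr_arg (fun k => k.hom.app V) h
            exact congr_arg (fun k => k (a, b)) h2 }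
     naturality := by
       intro V W f
       ext a
       exact congr_arg (fun k => k a) (φ.hom.hom.hom.hom.naturality f) }⟩

instance full_toG : (toG J).Full where
  map_surjective {A B} φ := by
    refine ⟨preim J φ, ?_⟩
    apply CommGrp.hom_ext
    change (toGMap J (preim J φ)).hom.hom.hom = _
    rw [toGMap_hom]
    ext V a
    rfl

end H43G
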