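import Groth.Agent.Lib.Helper43.AbGrpObj2

/-!
# `toG` is essentially surjective (helper43)
-/

open CategoryTheory MonoidalCategory CartesianMonoidalCategory Limits Opposite MonObj

universe u

namespace H43G

variable {C : Type u} [SmallCategory C] (J : GrothendieckTopology C)

section
variable (G : CommGrp (Sheaf J (Type u))) (V : Cᵒᵖ)

/-- sections -/
abbrev Sec : Type u := G.X.obj.obj V

noncomputable def sadd (a b : Sec J G V) : Sec J G V := (μ[G.X].hom.app V) (a, b)
noncomputable def szero : Sec J G V := (η[G.X].hom.app V) PUnit.unit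
noncomputable def sneg (a : Sec J G V) : Sec J G V := (ι[G.X].hom.app V) a

lemma sadd_assoc (a b c : Sec J G V) :
    sadd J G V (sadd J G V a b) c = sadd J G V a (sadd J G V b c) := by
  have h := MonObj.mul_assoc (X := G.X)
  have h2 := congr_arg (fun k => k.hom.app V) h
  exact congr_arg (fun k => k ((a, b), c)) h2

lemma szero_add (a : Sec J G V) : sadd J G V (szero J G V) a = a := by
  have h := MonObj.one_mul (X := G.X)
  have h2 := congr_arg (fun k => k.hom.app V) h
  exact congr_arg (fun k => k (PUnit.unit, a)) h2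

lemma sadd_zero (a : Sec J G V) : sadd J G V a (szero J G V) = a := by
  have h := MonObj.mul_one (X := G.X)
  have h2 := congr_arg (fun k => k.hom.app V) h
  exact congr_arg (fun k => k (a, PUnit.unit)) h2

lemma sneg_add (a : Sec J G V) : sadd J G V (sneg J G V a) a = szero J G V := by
  have h := GrpObj.left_inv (X := G.X)
  have h2 := congr_arg (fun k => k.hom.app V) h
  exact congr_arg (fun k => k a) h2

lemma sadd_comm (a b : Sec J G V) : sadd J G V a b = sadd J G V b a := by
  have h := IsCommMonObj.mul_comm (X := G.X)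
  have h2 := congr_arg (fun k => k.hom.app V) h
  exact (congr_arg (fun k => k (b, a)) h2)

@[instance_reducible]
noncomputable def secInst : AddCommGroup (Sec J G V) :=
  letI : Add (Sec J G V) := ⟨sadd J G V⟩
  letI : Zero (Sec J G V) := ⟨szero J G V⟩
  letI : Neg (Sec J G V) := ⟨sneg J G V⟩
  { AddGroup.ofLeftAxioms (sadd_assoc J G V) (szero_add J G V) (sneg_add J G V) with
    add_comm := sadd_comm J G V }

lemma secInst_add (a b : Sec J G V) :
    @HAdd.hAdd _ _ _ (@instHAdd _ (secInst J G V).toAddCommMonoid.toAddMonoid.toAddSemigroup.toAdd) a b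
      = sadd J G V a b := rfl

lemma secInst_zero :
    @OfNat.ofNat _ 0 (@Zero.toOfNat0 _ (secInst J G V).toAddCommMonoid.toAddMonoid.toZero)
      = szero J G V := rfl

end

variable (G : CommGrp (Sheaf J (Type u)))

lemma map_sadd {V W : Cᵒᵖ} (f : V ⟶ W) (a b : Sec J G V) :
    G.X.obj.map f (sadd J G V a b) = sadd J G W (G.X.obj.map f a) (G.X.obj.map f b) := by
  have h := (μ[G.X]).hom.naturality f
  exact (congr_arg (fun k => k (a, b)) h).symm

lemma map_szero {V W : Cᵒᵖ} (f : V ⟶ W) :
    G.X.obj.map f (szero J G V) = szero J G W := by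
  have h := (η[G.X]).hom.naturality f
  exact (congr_arg (fun k => k PUnit.unit) h).symm

/-- the abelian group of sections -/
noncomputable abbrev secGrp (V : Cᵒᵖ) : AddCommGrpCat.{u} :=
  @AddCommGrpCat.of (Sec J G V) (secInst J G V)

noncomputable def ofGMap {V W : Cᵒᵖ} (f : V ⟶ W) : secGrp J G V ⟶ secGrp J G W :=
  letI := secInst J G V
  letI := secInst J G W
  AddCommGrpCat.ofHom
    { toFun := G.X.obj.map f
      map_zero' := map_szero J G f
      map_add' := map_sadd J G f }

lemma ofGMap_apply {V W : Cᵒᵖ} (f : V ⟶ W) (a : Sec J G V) :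
    (ofGMap J G f).hom a = G.X.obj.map f a := rfl

/-- the presheaf of abelian groups attached to a commutative group object -/
noncomputable def ofGPre : Cᵒᵖ ⥤ AddCommGrpCat.{u} where
  obj V := secGrp J G V
  map {V W} f := ofGMap J G f
  map_id V := by
    refine AddCommGrpCat.hom_ext (DFunLike.ext _ _ (fun a => ?_))
    exact congr_arg (fun k => k a) (G.X.obj.map_id V)
  map_comp {U V W} f g := by
    refine AddCommGrpCat.hom_ext (DFunLike.ext _ _ (fun a => ?_))
    exact congr_arg (fun k => k a) (G.X.obj.map_comp f g)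

/-- forgetting the group structure gives back the sheaf of sets -/
noncomputable def ofGPreIso : ofGPre J G ⋙ forget AddCommGrpCat.{u} ≅ G.X.obj :=
  NatIso.ofComponents (fun V => Iso.refl _) (by
    intro V W f
    ext a
    rfl)

lemma ofGPre_isSheaf : Presheaf.IsSheaf J (ofGPre J G) := by
  rw [Presheaf.isSheaf_iff_isSheaf_forget J (ofGPre J G) (forget AddCommGrpCat.{u})]
  exact (Presheaf.isSheaf_of_iso_iff (ofGPreIso J G)).mpr G.X.property

/-- the abelian sheaf attached to a commutative group object -/
noncomputable def ofG : Sheaf J AddCommGrpCat.{u} := ⟨ofGPre J G, ofGPre_isSheaf J G⟩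

/-- underlying sheaf of sets of `ofG G` is `G.X` -/
noncomputable def usIso : US J (ofG J G) ≅ G.X where
  hom := ⟨(ofGPreIso J G).hom⟩
  inv := ⟨(ofGPreIso J G).inv⟩
  hom_inv_id := by
    ext V a
    rfl
  inv_hom_id := by
    ext V a
    rfl

noncomputable def toGofGIso : toGObj J (ofG J G) ≅ G :=
  CommGrp.mkIso (usIso J G)
    (by
      ext V x
      rfl)
    (by
      ext V ⟨a, b⟩
      rfl)

instance essSurj_toG : (toG J).EssSurj where
  mem_essImage G := ⟨ofG J G, ⟨toGofGIso J G⟩⟩

instance isEquivalence_toG : (toG J).IsEquivalence where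

end H43G
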