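import Groth.Agent.Lib.Helper43.AbGrpObj3

/-!
# Exactness of pullback of abelian sheaves from exactness on sheaves of sets (helper43)
-/

open CategoryTheory MonoidalCategory CartesianMonoidalCategory Limits Opposite MonObj

universe u

namespace H43G

variable {C D : Type u} [SmallCategory C] [SmallCategory D]
  (J : GrothendieckTopology C) (K : GrothendieckTopology D) (u : D ⥤ C) [u.IsContinuous K J]

/-- pushforward on sheaves of sets -/
noncomputable abbrev RS : Sheaf J (Type u) ⥤ Sheaf K (Type u) :=
  u.sheafPushforwardContinuous (Type u) K J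

/-- pushforward on abelian sheaves -/
noncomputable abbrev RA : Sheaf J AddCommGrpCat.{u} ⥤ Sheaf K AddCommGrpCat.{u} :=
  u.sheafPushforwardContinuous AddCommGrpCat.{u} K J

/-- pullback on sheaves of sets -/
noncomputable abbrev LS : Sheaf K (Type u) ⥤ Sheaf J (Type u) :=
  u.sheafPullback (Type u) K J

/-- pullback on abelian sheaves -/
noncomputable abbrev LA : Sheaf K AddCommGrpCat.{u} ⥤ Sheaf J AddCommGrpCat.{u} :=
  u.sheafPullback AddCommGrpCat.{u} K J

noncomputable abbrev adjS : LS J K u ⊣ RS J K u := u.sheafAdjunctionContinuous (Type u) K J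
noncomputable abbrev adjA : LA J K u ⊣ RA J K u := u.sheafAdjunctionContinuous AddCommGrpCat.{u} K J

instance : PreservesFiniteProducts (RS J K u) := by
  have : PreservesLimitsOfSize.{0, 0} (RS J K u) := (adjS J K u).rightAdjoint_preservesLimits
  exact ⟨fun n => inferInstance⟩

@[instance_reducible]
noncomputable def braidedRS : (RS J K u).Braided := Functor.Braided.ofChosenFiniteProducts _

attribute [local instance] braidedRS

lemma obj_eq (B : Sheaf J AddCommGrpCat.{u}) :
    (RS J K u).obj (US J B) = US K ((RA J K u).obj B) := rfl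

open Functor.LaxMonoidal Functor.OplaxMonoidal Functor.Monoidal in
lemma compat_one (B : Sheaf J AddCommGrpCat.{u}) :
    η[((RS J K u).mapCommGrp.obj (toGObj J B)).X] = zeroHom K ((RA J K u).obj B) := by
  change ε (RS J K u) ≫ (RS J K u).map (zeroHom J B) = _
  rw [Functor.Monoidal.ε_of_cartesianMonoidalCategory, Iso.inv_comp_eq]
  ext V x
  rfl

open Functor.LaxMonoidal Functor.OplaxMonoidal Functor.Monoidal in
lemma compat_mul (B : Sheaf J AddCommGrpCat.{u}) :
    μ[((RS J K u).mapCommGrp.obj (toGObj J B)).X] = addHom K ((RA J K u).obj B) := by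
  change Functor.LaxMonoidal.μ (RS J K u) _ _ ≫ (RS J K u).map (addHom J B) = _
  rw [Functor.Monoidal.μ_of_cartesianMonoidalCategory, Iso.inv_comp_eq]
  ext V ⟨a, b⟩
  rfl

/-- component of the compatibility isomorphism -/
noncomputable def compatApp (B : Sheaf J AddCommGrpCat.{u}) :
    (RS J K u).mapCommGrp.obj (toGObj J B) ≅ toGObj K ((RA J K u).obj B) :=
  CommGrp.mkIso (Iso.refl _)
    (by
      rw [compat_one]
      exact Category.comp_id _)
    (by
      rw [compat_mul]
      simp
      rfl)

lemma compatApp_hom (B : Sheaf J AddCommGrpCat.{u}) :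
    (compatApp J K u B).hom.hom.hom.hom = 𝟙 _ := rfl

/-- `toG` intertwines the pushforwards -/
noncomputable def compat :
    toG J ⋙ (RS J K u).mapCommGrp ≅ RA J K u ⋙ toG K :=
  NatIso.ofComponents (fun B => compatApp J K u B) (by
    intro B B' f
    apply CommGrp.hom_ext
    ext V a
    rfl)

end H43G
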