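import Groth.Agent.Lib.Helper43.AbPullExact

/-!
# Exactness of pullback of abelian sheaves from exactness on sheaves of sets: assembly (helper43)
-/

open CategoryTheory MonoidalCategory CartesianMonoidalCategory Limits Opposite MonObj

universe u

namespace H43G

variable {C D : Type u} [SmallCategory C] [SmallCategory D]
  (J : GrothendieckTopology C) (K : GrothendieckTopology D) (u : D ⥤ C) [u.IsContinuous K J]

attribute [local instance] braidedRS

section
variable [PreservesFiniteLimits (LS J K u)]

@[instance_reducible]
noncomputable def braidedLS : (LS J K u).Braided := Functor.Braided.ofChosenFiniteProducts _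

attribute [local instance] braidedLS

/-- the lifted adjunction on commutative group objects -/
noncomputable def adjG : (LS J K u).mapCommGrp ⊣ (RS J K u).mapCommGrp :=
  (adjS J K u).mapCommGrp

/-- the candidate pullback functor on abelian sheaves -/
noncomputable def P : Sheaf K AddCommGrpCat.{u} ⥤ Sheaf J AddCommGrpCat.{u} :=
  toG K ⋙ (LS J K u).mapCommGrp ⋙ (toG J).inv

/-- the right adjoint of `P` is isomorphic to the pushforward -/
noncomputable def rightIso :
    toG J ⋙ (RS J K u).mapCommGrp ⋙ (toG K).inv ≅ RA J K u :=
  (Functor.associator _ _ _).symm ≪≫ Functor.isoWhiskerRight (compat J K u) (toG K).inv ≪≫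
    Functor.associator _ _ _ ≪≫
    Functor.isoWhiskerLeft (RA J K u) ((toG K).asEquivalence.unitIso.symm) ≪≫
    Functor.rightUnitor _

noncomputable def adjP : P J K u ⊣ RA J K u :=
  (((toG K).asEquivalence.toAdjunction).comp
    ((adjG J K u).comp ((toG J).asEquivalence.symm.toAdjunction))).ofNatIsoRight (rightIso J K u)

noncomputable def isoP : P J K u ≅ LA J K u :=
  (adjP J K u).leftAdjointUniq (adjA J K u)

instance preservesMono_US : (sheafCompose K (forget AddCommGrpCat.{u})).PreservesMonomorphisms :=
  inferInstance

lemma mono_P {A B : Sheaf K AddCommGrpCat.{u}} (i : A ⟶ B) [Mono i] : Mono ((P J K u).map i) := by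
  have h1 : Mono ((sheafCompose K (forget AddCommGrpCat.{u})).map i) := inferInstance
  have h2 : Mono ((LS J K u).map ((sheafCompose K (forget AddCommGrpCat.{u})).map i)) :=
    inferInstance
  have h3 : Mono ((LS J K u).mapCommGrp.map ((toG K).map i)) := by
    apply (CommGrp.forget (Sheaf J (Type u))).mono_of_mono_map
    exact h2
  change Mono ((toG J).inv.map ((LS J K u).mapCommGrp.map ((toG K).map i)))
  infer_instance

instance preservesMono_P : (P J K u).PreservesMonomorphisms := ⟨fun i _ => mono_P J K u i⟩

instance preservesMono_LA : (LA J K u).PreservesMonomorphisms :=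
  Functor.PreservesMonomorphisms.of_iso (isoP J K u)

instance additive_RA : (RA J K u).Additive where
  map_add {X Y f g} := by
    apply Sheaf.hom_ext
    ext V : 2
    rfl

theorem main : PreservesFiniteLimits (LA J K u) := by
  haveI : (LA J K u).Additive := (adjA J K u).left_adjoint_additive
  haveI : PreservesFiniteColimits (LA J K u) := by
    have : PreservesColimitsOfSize.{0, 0} (LA J K u) := (adjA J K u).leftAdjoint_preservesColimits
    exact ⟨fun _ _ _ => inferInstance⟩
  rw [Functor.preservesFiniteLimits_iff_forall_exact_map_and_mono]
  intro S hS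
  refine ⟨?_, ?_⟩
  · exact ((Functor.preservesFiniteColimits_iff_forall_exact_map_and_epi (LA J K u)).mp
      inferInstance S hS).1
  · haveI := hS.mono_f
    infer_instance

end

end H43G
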