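import Mathlib.AlgebraicGeometry.Limits
import Mathlib.AlgebraicGeometry.Morphisms.QuasiCompact
import Mathlib.AlgebraicGeometry.Morphisms.Affine
import Mathlib.CategoryTheory.Sites.Grothendieck
import Mathlib.CategoryTheory.Comma.Over.Basic
import Mathlib.CategoryTheory.Extensive

/-!
# Grothendieck topology on `Over S` generated by a class of morphisms, affine-locally
(helper43, for S14463)
-/

set_option autoImplicit false
universe u
open CategoryTheory CategoryTheory.Limits AlgebraicGeometry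

namespace Groth.Agent.Lib.Helper43.BigSiteTop

variable {S : Scheme.{u}} (C : MorphismProperty Scheme.{u})

/-- finite affine `C`-family over `t : T ⟶ X.left` with members in `R`. -/
def GoodAt {X : Over S} (R : Sieve X) {T : Scheme.{u}} (t : T ⟶ X.left) : Prop :=
  ∃ (κ : Type u) (_ : Finite κ) (V : κ → Over S) (φ : ∀ j, V j ⟶ X)
    (ψ : ∀ j, (V j).left ⟶ T),
    (∀ j, IsAffine (V j).left) ∧ (∀ j, R.arrows (φ j)) ∧ (∀ j, ψ j ≫ t = (φ j).left) ∧
      C (Limits.Sigma.desc ψ)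

/-- the covering condition (verbatim the right-hand side of S14463). -/
def Cov (X : Over S) (R : Sieve X) : Prop :=
  ∃ (ι : Type u) (U : ι → X.left.Opens), (∀ i, IsAffineOpen (U i)) ∧ ⨆ i, U i = ⊤ ∧
    ∀ i, ∃ (κ : Type u) (_ : Finite κ) (V : κ → Over S) (φ : ∀ j, V j ⟶ X)
      (ψ : ∀ j, (V j).left ⟶ (U i : Scheme.{u})),
      (∀ j, IsAffine (V j).left) ∧ (∀ j, R.arrows (φ j)) ∧ (∀ j, ψ j ≫ (U i).ι = (φ j).left) ∧
        C (Limits.Sigma.desc ψ)

lemma cov_iff (X : Over S) (R : Sieve X) :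
    Cov C X R ↔ ∀ x : X.left, ∃ U : X.left.Opens, IsAffineOpen U ∧ x ∈ U ∧ GoodAt C R U.ι := by
  constructor
  · rintro ⟨ι, U, hU, hsup, hgood⟩ x
    have hx : x ∈ ⨆ i, U i := by rw [hsup]; trivial
    obtain ⟨i, hi⟩ := TopologicalSpace.Opens.mem_iSup.mp hx
    exact ⟨U i, hU i, hi, hgood i⟩
  · intro h
    choose U hU hx hgood using h
    refine ⟨X.left, U, hU, ?_, hgood⟩
    rw [eq_top_iff]
    intro x _
    exact TopologicalSpace.Opens.mem_iSup.mpr ⟨x, hx x⟩

section lemmas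

variable [C.IsStableUnderComposition] [C.IsStableUnderBaseChange]
variable (hcoprod : ∀ (κ : Type u) [Finite κ] (A B : κ → Scheme.{u}) (f : ∀ j, A j ⟶ B j),
      (∀ j, C (f j)) → C (Limits.Sigma.map f))
variable (haff : ∀ (U : Scheme.{u}) [IsAffine U] (κ : Type u) [Finite κ] (V : κ → U.Opens),
      (∀ j, IsAffineOpen (V j)) → ⨆ j, V j = ⊤ → C (Limits.Sigma.desc fun j => (V j).ι))

include hcoprod in
lemma sigma_comp (κ : Type u) [Finite κ] (lam : κ → Type u) [∀ j, Finite (lam j)]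
    (A : ∀ j, lam j → Scheme.{u}) (B : κ → Scheme.{u}) (T : Scheme.{u})
    (θ : ∀ j k, A j k ⟶ B j) (ψ : ∀ j, B j ⟶ T)
    (hθ : ∀ j, C (Sigma.desc (θ j))) (hψ : C (Sigma.desc ψ)) :
    C (Sigma.desc fun p : Σ j, lam j => θ p.1 p.2 ≫ ψ p.1) := by
  have e : (Sigma.desc fun p : Σ j, lam j => θ p.1 p.2 ≫ ψ p.1) =
      (sigmaSigmaIso lam A).inv ≫ Limits.Sigma.map (fun j => Sigma.desc (θ j)) ≫ Sigma.desc ψ := by
    apply Sigma.hom_ext
    rintro ⟨j, k⟩
    simp
  rw [e, C.cancel_left_of_respectsIso]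
  exact C.comp_mem _ _ (hcoprod κ _ _ _ hθ) hψ

omit [C.IsStableUnderComposition] in
lemma sigma_baseChange (κ : Type u) [Finite κ] (B : κ → Scheme.{u}) {T W : Scheme.{u}}
    (ψ : ∀ j, B j ⟶ T) (g : W ⟶ T) (hψ : C (Sigma.desc ψ)) :
    C (Sigma.desc fun p : κ × PUnit.{u+1} => pullback.snd (ψ p.1) g) := by
  have sq := FinitaryPreExtensive.isPullback_sigmaDesc ψ (fun _ : PUnit.{u+1} => g)
  have h1 := C.of_isPullback sq hψ
  have hiso : IsIso (Sigma.desc fun _ : PUnit.{u+1} => 𝟙 W) :=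
    ⟨Sigma.ι (fun _ : PUnit.{u+1} => W) PUnit.unit, by
      apply Sigma.hom_ext; rintro ⟨⟩; simp, by simp⟩
  have e : (Sigma.desc fun p : κ × PUnit.{u+1} => pullback.snd (ψ p.1) g) =
      (Sigma.desc fun p : κ × PUnit.{u+1} => pullback.snd (ψ p.1) g ≫
        Sigma.ι (fun _ : PUnit.{u+1} => W) p.2) ≫ (Sigma.desc fun _ : PUnit.{u+1} => 𝟙 W) := by
    apply Sigma.hom_ext
    rintro ⟨j, ⟨⟩⟩
    simp
  rw [e, C.cancel_right_of_respectsIso]
  exact h1

include haff in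
lemma C_id_affine (T : Scheme.{u}) [IsAffine T] : C (𝟙 T) := by
  have h := haff T PUnit.{u+1} (fun _ => ⊤) (fun _ => isAffineOpen_top T) (by simp)
  have hiso : IsIso (Sigma.desc fun _ : PUnit.{u+1} => (⊤ : T.Opens).ι) := by
    have : (Sigma.desc fun _ : PUnit.{u+1} => (⊤ : T.Opens).ι) =
        (Sigma.desc fun _ : PUnit.{u+1} => 𝟙 _) ≫ (⊤ : T.Opens).ι := by
      apply Sigma.hom_ext; rintro ⟨⟩; simp
    rw [this]
    have : IsIso (Sigma.desc fun _ : PUnit.{u+1} => 𝟙 ((⊤ : T.Opens) : Scheme.{u})) :=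
      ⟨Sigma.ι (fun _ : PUnit.{u+1} => ((⊤ : T.Opens) : Scheme.{u})) PUnit.unit, by
        apply Sigma.hom_ext; rintro ⟨⟩; simp, by simp⟩
    have : IsIso (⊤ : T.Opens).ι := by rw [← Scheme.topIso_hom]; infer_instance
    infer_instance
  have := (C.cancel_left_of_respectsIso
    (inv (Sigma.desc fun _ : PUnit.{u+1} => (⊤ : T.Opens).ι))
    (Sigma.desc fun _ : PUnit.{u+1} => (⊤ : T.Opens).ι)).mpr h
  simpa using this

include haff in
lemma C_iso_affine {A T : Scheme.{u}} [IsAffine T] (e : A ⟶ T) [IsIso e] : C e := by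
  have := (C.cancel_left_of_respectsIso e (𝟙 T)).mpr (C_id_affine C haff T)
  simpa using this


omit [C.IsStableUnderComposition] in
/-- pulling back a good family. -/
lemma goodAt_pullback {X Y : Over S} (R : Sieve X) (g : Y ⟶ X) {T T' : Scheme.{u}}
    [IsAffine T] [IsAffine T'] (t : T ⟶ X.left) (t' : T' ⟶ Y.left) (w : T' ⟶ T)
    (hw : w ≫ t = t' ≫ g.left) (h : GoodAt C R t) : GoodAt C (R.pullback g) t' := by
  obtain ⟨κ, hκ, V, φ, ψ, hV, hφ, hfac, hC⟩ := h
  have key : ∀ j, pullback.fst (ψ j) w ≫ (V j).hom = pullback.snd (ψ j) w ≫ t' ≫ Y.hom := by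
    intro j
    rw [← Over.w (φ j), ← hfac j, ← Over.w g]
    simp only [Category.assoc]
    rw [← reassoc_of% hw, pullback.condition_assoc]
  refine ⟨κ × PUnit.{u+1}, inferInstance,
    fun p => Over.mk (pullback.snd (ψ p.1) w ≫ t' ≫ Y.hom),
    fun p => Over.homMk (pullback.snd (ψ p.1) w ≫ t') (by simp),
    fun p => pullback.snd (ψ p.1) w, ?_, ?_, ?_, ?_⟩
  · intro p
    haveI := hV p.1
    dsimp
    infer_instance
  · intro p
    change R.arrows (_ ≫ g)
    have e : (Over.homMk (pullback.snd (ψ p.1) w ≫ t') (by simp) :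
          Over.mk (pullback.snd (ψ p.1) w ≫ t' ≫ Y.hom) ⟶ Y) ≫ g =
        (Over.homMk (pullback.fst (ψ p.1) w) (by simpa using key p.1) :
          Over.mk (pullback.snd (ψ p.1) w ≫ t' ≫ Y.hom) ⟶ V p.1) ≫ φ p.1 := by
      apply Over.OverMorphism.ext
      simp only [Over.comp_left, Over.homMk_left, Category.assoc]
      rw [← hfac p.1, ← hw, pullback.condition_assoc]
    rw [e]
    exact R.downward_closed (hφ p.1) _
  · intro p
    simp
  · exact sigma_baseChange C κ _ ψ w hC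

include hcoprod in
/-- composing good families. -/
lemma goodAt_trans {X : Over S} (Sv R : Sieve X) {T : Scheme.{u}} (t : T ⟶ X.left)
    (h : GoodAt C Sv t)
    (hR : ∀ ⦃Y : Over S⦄ (f : Y ⟶ X), Sv.arrows f → IsAffine Y.left →
      GoodAt C (R.pullback f) (𝟙 Y.left)) : GoodAt C R t := by
  obtain ⟨κ, hκ, V, φ, ψ, hV, hφ, hfac, hC⟩ := h
  have h2 := fun j => hR (φ j) (hφ j) (hV j)
  choose κ' hκ' V' φ' ψ' hV' hφ' hfac' hC' using h2
  refine ⟨Σ j, κ' j, inferInstance, fun p => V' p.1 p.2, fun p => φ' p.1 p.2 ≫ φ p.1,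
    fun p => ψ' p.1 p.2 ≫ ψ p.1, fun p => hV' p.1 p.2, fun p => hφ' p.1 p.2, ?_, ?_⟩
  · intro p
    have := hfac' p.1 p.2
    simp only [Category.comp_id] at this
    simp [hfac, this]
  · exact sigma_comp C hcoprod κ κ' (fun j k => (V' j k).left) (fun j => (V j).left) T ψ' ψ hC' hC

include hcoprod haff in
/-- on an affine object, a covering sieve is good at the identity. -/
lemma goodAt_of_cov {Y : Over S} [IsAffine Y.left] (R : Sieve Y) (h : Cov C Y R) :
    GoodAt C R (𝟙 Y.left) := by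
  rw [cov_iff] at h
  choose U hU hx hgood using h
  obtain ⟨t, ht⟩ := isCompact_univ.elim_finite_subcover (fun y => (U y : Set Y.left))
    (fun y => (U y).2) (fun y _ => Set.mem_iUnion.2 ⟨y, hx y⟩)
  have hsup : ⨆ k : {y // y ∈ t}, U k.1 = ⊤ := by
    rw [eq_top_iff]
    intro y _
    obtain ⟨z, hz⟩ := Set.mem_iUnion.1 (ht (Set.mem_univ y))
    obtain ⟨hzt, hyz⟩ := Set.mem_iUnion.1 hz
    exact TopologicalSpace.Opens.mem_iSup.mpr ⟨⟨z, hzt⟩, hyz⟩
  have hCU := haff Y.left {y // y ∈ t} (fun k => U k.1) (fun k => hU k.1) hsup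
  have h2 := fun k : {y // y ∈ t} => hgood k.1
  choose κ' hκ' V' φ' ψ' hV' hφ' hfac' hC' using h2
  refine ⟨Σ k, κ' k, inferInstance, fun p => V' p.1 p.2, fun p => φ' p.1 p.2,
    fun p => ψ' p.1 p.2 ≫ (U p.1.1).ι, fun p => hV' p.1 p.2, fun p => hφ' p.1 p.2, ?_, ?_⟩
  · intro p
    simp [hfac']
  · exact sigma_comp C hcoprod {y // y ∈ t} κ' (fun j k => (V' j k).left)
      (fun k => (U k.1 : Scheme.{u})) Y.left ψ' (fun k => (U k.1).ι) hC' hCU

end lemmas

section topology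

variable [C.IsStableUnderComposition] [C.IsStableUnderBaseChange]
variable (hcoprod : ∀ (κ : Type u) [Finite κ] (A B : κ → Scheme.{u}) (f : ∀ j, A j ⟶ B j),
      (∀ j, C (f j)) → C (Limits.Sigma.map f))
variable (haff : ∀ (U : Scheme.{u}) [IsAffine U] (κ : Type u) [Finite κ] (V : κ → U.Opens),
      (∀ j, IsAffineOpen (V j)) → ⨆ j, V j = ⊤ → C (Limits.Sigma.desc fun j => (V j).ι))

include haff in
lemma cov_top (X : Over S) : Cov C X ⊤ := by
  rw [cov_iff]
  intro x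
  obtain ⟨U, hU, hxU, -⟩ :=
    exists_isAffineOpen_mem_and_subset (x := x) (U := (⊤ : X.left.Opens)) trivial
  refine ⟨U, hU, hxU, PUnit.{u+1}, inferInstance, fun _ => Over.mk (U.ι ≫ X.hom),
    fun _ => Over.homMk U.ι, fun _ => 𝟙 _, fun _ => hU, fun _ => trivial, fun _ => by simp, ?_⟩
  have : IsAffine (U : Scheme.{u}) := hU
  have : IsIso (Sigma.desc fun _ : PUnit.{u+1} => 𝟙 (U : Scheme.{u})) :=
    ⟨Sigma.ι (fun _ : PUnit.{u+1} => (U : Scheme.{u})) PUnit.unit, by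
      apply Sigma.hom_ext; rintro ⟨⟩; simp, by simp⟩
  exact C_iso_affine C haff (Sigma.desc fun _ : PUnit.{u+1} => 𝟙 (U : Scheme.{u}))

omit [C.IsStableUnderComposition] in
lemma cov_pullback {X Y : Over S} (g : Y ⟶ X) (R : Sieve X) (h : Cov C X R) :
    Cov C Y (R.pullback g) := by
  rw [cov_iff] at h ⊢
  intro y
  obtain ⟨U, hU, hxU, hgood⟩ := h (g.left y)
  have hy : y ∈ g.left ⁻¹ᵁ U := hxU
  obtain ⟨W, hW, hyW, hWU⟩ := exists_isAffineOpen_mem_and_subset hy
  have : IsAffine (U : Scheme.{u}) := hU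
  have : IsAffine (W : Scheme.{u}) := hW
  have hrange : Set.range (W.ι ≫ g.left) ⊆ Set.range U.ι := by
    rintro _ ⟨z, rfl⟩
    rw [Scheme.Opens.range_ι]
    have : (W.ι z) ∈ g.left ⁻¹ᵁ U := hWU (by simp)
    simpa using this
  refine ⟨W, hW, hyW, ?_⟩
  exact goodAt_pullback C R g U.ι W.ι (IsOpenImmersion.lift U.ι (W.ι ≫ g.left) hrange)
    (by simp) hgood

include hcoprod haff in
lemma cov_trans {X : Over S} (Sv R : Sieve X) (hS : Cov C X Sv)
    (hR : ∀ ⦃Y : Over S⦄ ⦃f : Y ⟶ X⦄, Sv.arrows f → Cov C Y (R.pullback f)) : Cov C X R := by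
  rw [cov_iff] at hS ⊢
  intro x
  obtain ⟨U, hU, hxU, hgood⟩ := hS x
  refine ⟨U, hU, hxU, ?_⟩
  refine goodAt_trans C hcoprod Sv R U.ι hgood ?_
  intro Y f hf hY
  exact goodAt_of_cov C hcoprod haff _ (hR hf)

/-- the Grothendieck topology. -/
def topology : GrothendieckTopology (Over S) where
  sieves X := {R | Cov C X R}
  top_mem' X := cov_top C haff X
  pullback_stable' _ _ _ g h := cov_pullback C g _ h
  transitive' _ Sv hS R hR := cov_trans C hcoprod haff Sv R hS hR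

end topology

end Groth.Agent.Lib.Helper43.BigSiteTop
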