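import Groth.Agent.Lib.Helper43.GaGm
import Mathlib.RingTheory.AdjoinRoot
import Mathlib.RingTheory.Flat.FaithfullyFlat.Basic
import Mathlib.RingTheory.RingHom.FaithfullyFlat
import Mathlib.AlgebraicGeometry.PullbackCarrier

/-!
# A flat surjective cover with two units of sum one (helper43)

For every `X : Over S` there is `π : X' ⟶ X`, an epimorphism (flat and surjective), such that
`Γ(X', ⊤)` has two units with sum `1` (`X' = X × Spec ℤ[ω]/(ω² - ω + 1)`).
-/

set_option autoImplicit false
universe u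
open CategoryTheory MonoidalCategory CartesianMonoidalCategory MonObj GrpObj AlgebraicGeometry Limits
open Polynomial

namespace Groth.Agent.Lib.Helper43

/-- The polynomial `ω² - ω + 1`. -/
noncomputable abbrev cycloPoly : Polynomial (ULift.{u} ℤ) := X ^ 2 - X + 1

lemma cycloPoly_monic : (cycloPoly.{u}).Monic := by
  have h : (cycloPoly.{u}) = X ^ (1 + 1) - (X - C 1) := by
    unfold cycloPoly
    rw [map_one]
    ring
  rw [h]
  exact monic_X_pow_sub (lt_of_le_of_lt (degree_X_sub_C_le (1 : ULift.{u} ℤ)) (by norm_num))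

/-- The ring `ℤ[ω]/(ω² - ω + 1)`. -/
abbrev CycloRing : Type u := AdjoinRoot (cycloPoly.{u})

instance cycloRing_free : @Module.Free (ULift.{u} ℤ) CycloRing.{u} _ _ Algebra.toModule :=
  cycloPoly_monic.free_adjoinRoot

instance : Nontrivial CycloRing.{u} := by
  apply Ideal.Quotient.nontrivial_iff.mpr
  rw [Ne, Ideal.span_singleton_eq_top]
  intro hu
  have h1 := cycloPoly_monic.eq_one_of_isUnit hu
  have h2 := congrArg (fun p : Polynomial (ULift.{u} ℤ) => p.coeff 2) h1
  simp only [cycloPoly, coeff_add, coeff_sub, coeff_X_pow, coeff_X, coeff_one] at h2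
  norm_num at h2

/-- `ω`. -/
noncomputable abbrev omega : CycloRing.{u} := AdjoinRoot.root cycloPoly

lemma omega_mul : omega.{u} * (1 - omega) = 1 := by
  have h : (AdjoinRoot.mk cycloPoly.{u}) cycloPoly = 0 := AdjoinRoot.mk_self
  unfold cycloPoly at h
  simp only [map_add, map_sub, map_pow, AdjoinRoot.mk_X, map_one] at h
  linear_combination (-1 : CycloRing.{u}) * h

/-- The structure morphism `Spec ℤ[ω] ⟶ Spec ℤ`. -/
noncomputable abbrev cycloMap : Spec (CommRingCat.of CycloRing.{u}) ⟶ Spec (CommRingCat.of (ULift.{u} ℤ)) :=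
  Spec.map (CommRingCat.ofHom (algebraMap (ULift.{u} ℤ) CycloRing.{u}))

lemma cycloMap_flat_surjective : Flat cycloMap.{u} ∧ Surjective cycloMap.{u} := by
  rw [flat_and_surjective_SpecMap_iff]
  show (algebraMap (ULift.{u} ℤ) CycloRing.{u}).FaithfullyFlat
  rw [RingHom.faithfullyFlat_algebraMap_iff]
  exact @Module.FaithfullyFlat.instOfNontrivialOfFree (ULift.{u} ℤ) CycloRing.{u} _ _ Algebra.toModule _
    cycloRing_free

instance : Flat cycloMap.{u} := cycloMap_flat_surjective.1
instance : Surjective cycloMap.{u} := cycloMap_flat_surjective.2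

variable {S : Scheme.{u}}

/-- Every `X : Over S` has a cover `π : X' ⟶ X` which is an epimorphism and such that `Γ(X', ⊤)`
contains two units with sum one. -/
theorem exists_cover (X : Over S) : ∃ (X' : Over S) (π : X' ⟶ X) (u₁ u₂ : (Γ(X'.left, ⊤))ˣ),
    Epi π ∧ (u₁ : Γ(X'.left, ⊤)) + u₂ = 1 := by
  let g : X.left ⟶ Spec (CommRingCat.of (ULift.{u} ℤ)) := toZ X.left
  let Y := pullback g cycloMap.{u}
  let X' : Over S := Over.mk (pullback.fst g cycloMap.{u} ≫ X.hom)
  let π : X' ⟶ X := Over.homMk (pullback.fst g cycloMap.{u}) rfl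
  have hepi : Epi π.left := by
    show Epi (pullback.fst g cycloMap.{u})
    exact Flat.epi_of_flat_of_surjective _
  have : Epi π := Over.epi_of_epi_left π
  let ρ : CycloRing.{u} →+* Γ(X'.left, ⊤) := ptHom (pullback.snd g cycloMap.{u})
  have hω : omega.{u} * (1 - omega) = 1 := omega_mul
  have hu₁ : IsUnit (ρ omega) := IsUnit.map ρ (IsUnit.of_mul_eq_one _ hω)
  have hu₂ : IsUnit (ρ (1 - omega)) := IsUnit.map ρ (IsUnit.of_mul_eq_one _ (by rw [mul_comm]; exact hω))
  refine ⟨X', π, hu₁.unit, hu₂.unit, this, ?_⟩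
  show ρ omega + ρ (1 - omega) = 1
  rw [← map_add, add_sub_cancel, map_one]

/-- Descent of equalities along an epimorphism. -/
lemma eq_of_epi_comp {X X' G : Over S} (π : X' ⟶ X) [Epi π] {g₁ g₂ : X ⟶ G} (h : π ≫ g₁ = π ≫ g₂) :
    g₁ = g₂ := (cancel_epi π).mp h

end Groth.Agent.Lib.Helper43
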