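import Groth.Agent.Lib.Helper43.Bridge
import Groth.Agent.Lib.Helper43.Cover

/-!
# The braid relation for rank-one data on a group scheme, by flat descent (helper43)
-/

set_option autoImplicit false
universe u
open CategoryTheory MonoidalCategory CartesianMonoidalCategory MonObj GrpObj AlgebraicGeometry Limits

namespace Groth.Agent.Lib.Helper43

section

variable {S : Scheme.{u}}

lemma comp_gaPt {X X' : Over S} (π : X' ⟶ X) (a : Γ(X.left, ⊤)) :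
    π ≫ gaPt X a = gaPt X' (π.left.appTop a) := by
  apply gaFn_injective
  rw [gaFn_comp, gaFn_gaPt, gaFn_gaPt]

variable (S) (G T : Over S) [GrpObj G] [GrpObj T] (i : T ⟶ G) [IsMonHom i]
    (α : T ⟶ Red.Gm S) [IsMonHom α]
    (pp pm : Red.Ga S ⟶ G) [IsMonHom pp] [IsMonHom pm]
    (hpp : ∀ (X : Over S) (t : X ⟶ T) (x : X ⟶ Red.Ga S), ∃ x' : X ⟶ Red.Ga S,
      x' ≫ pp = (t ≫ i) * (x ≫ pp) * (t ≫ i)⁻¹ ∧ Red.gaFn x' = Red.gmFn (t ≫ α) * Red.gaFn x)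
    (hpm : ∀ (X : Over S) (t : X ⟶ T) (y : X ⟶ Red.Ga S), ∃ y' : X ⟶ Red.Ga S,
      y' ≫ pm = (t ≫ i) * (y ≫ pm) * (t ≫ i)⁻¹ ∧ Red.gaFn y' * Red.gmFn (t ≫ α) = Red.gaFn y)
    (av : Red.Gm S ⟶ T) [IsMonHom av] (h2 : av ≫ α = (𝟙 (Red.Gm S)) ^ 2)
    (hF : ∀ (X : Over S) (x y : X ⟶ Red.Ga S), IsUnit (1 + Red.gaFn x * Red.gaFn y) →
      ∃ (x' y' : X ⟶ Red.Ga S) (z : X ⟶ Red.Gm S), Red.gmFn z = 1 + Red.gaFn x * Red.gaFn y ∧
        Red.gaFn x' * Red.gmFn z = Red.gaFn x ∧ Red.gaFn y' * Red.gmFn z = Red.gaFn y ∧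
        (x ≫ pp) * (y ≫ pm) = (y' ≫ pm) * (z ≫ av ≫ i) * (x' ≫ pp))

/-- The braid relation `p₊(a) p₋(b) p₊(a) = p₋(b) p₊(a) p₋(b)` for `a b = -1`, on any test scheme. -/
theorem rankOneOf_braid (X : Over S) (a b : Γ(X.left, ⊤)) (hab : b * a = -1) :
    (rankOneOf S G T i α pp pm hpp hpm av h2 hF X).Braid a b := by
  obtain ⟨X', π, u₁, u₂, hπ, hu⟩ := exists_cover X
  have key := (rankOneOf S G T i α pp pm hpp hpm av h2 hF X').braid u₁ u₂ hu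
    (π.left.appTop a) (π.left.appTop b) (by rw [← map_mul, hab, map_neg, map_one])
  unfold RankOne.Braid
  apply eq_of_epi_comp π
  show π ≫ ((gaPt X a ≫ pp) * (gaPt X b ≫ pm) * (gaPt X a ≫ pp)) =
    π ≫ ((gaPt X b ≫ pm) * (gaPt X a ≫ pp) * (gaPt X b ≫ pm))
  rw [MonObj.comp_mul, MonObj.comp_mul, MonObj.comp_mul, MonObj.comp_mul]
  simp only [← Category.assoc, comp_gaPt]
  exact key

end

end Groth.Agent.Lib.Helper43
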