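import Mathlib.Algebra.Group.Units.Hom
import Mathlib.Algebra.Ring.Units
import Mathlib.Tactic.LinearCombination
import Mathlib.Tactic.Group
import Mathlib.Tactic.Ring

/-!
# Abstract rank-one computations (helper43)

A group `Γ` with two "root subgroups" `P, M : K → Γ` (additive), a torus `I : Tg →* Γ` acting on
them through a character `χ : Tg →* Kˣ` and its inverse, a coroot `cor : Kˣ →* Tg` with
`χ ∘ cor = (·)^2`, and the rank-one commutation rule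
`P a * M b = M (b/(1+ab)) * I (cor (1+ab)) * P (a/(1+ab))` whenever `1 + ab` is a unit.
-/

set_option autoImplicit false

namespace Groth.Agent.Lib.Helper43

structure RankOne (Γ Tg K : Type*) [Group Γ] [Group Tg] [CommRing K] where
  P : K → Γ
  M : K → Γ
  I : Tg →* Γ
  χ : Tg →* Kˣ
  cor : Kˣ →* Tg
  P_add : ∀ a b, P (a + b) = P a * P b
  M_add : ∀ a b, M (a + b) = M a * M b
  χ_cor : ∀ z, χ (cor z) = z ^ 2
  TP : ∀ t a, I t * P a * (I t)⁻¹ = P (↑(χ t) * a)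
  TM : ∀ t b, I t * M b * (I t)⁻¹ = M (↑(χ t)⁻¹ * b)
  F : ∀ a b (u : Kˣ), (u : K) = 1 + a * b →
    P a * M b = M (b * ↑u⁻¹) * I (cor u) * P (a * ↑u⁻¹)

namespace RankOne

variable {Γ Tg K : Type*} [Group Γ] [Group Tg] [CommRing K] (R : RankOne Γ Tg K)

/-- The coroot as a map to `Γ`. -/
def h (z : Kˣ) : Γ := R.I (R.cor z)

lemma h_mul (z w : Kˣ) : R.h (z * w) = R.h z * R.h w := by simp [h]

lemma h_one : R.h 1 = 1 := by simp [h]

lemma h_inv (z : Kˣ) : R.h z⁻¹ = (R.h z)⁻¹ := by simp [h]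

lemma P_zero : R.P 0 = 1 := by
  have := R.P_add 0 0
  rw [add_zero] at this
  exact (mul_eq_left.mp this.symm)

lemma M_zero : R.M 0 = 1 := by
  have := R.M_add 0 0
  rw [add_zero] at this
  exact (mul_eq_left.mp this.symm)

lemma P_neg (a : K) : R.P (-a) = (R.P a)⁻¹ := by
  have := R.P_add (-a) a
  rw [neg_add_cancel, P_zero] at this
  exact eq_inv_of_mul_eq_one_left this.symm

lemma M_neg (a : K) : R.M (-a) = (R.M a)⁻¹ := by
  have := R.M_add (-a) a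
  rw [neg_add_cancel, M_zero] at this
  exact eq_inv_of_mul_eq_one_left this.symm

lemma P_congr {a b : K} (h : a = b) : R.P a = R.P b := by rw [h]

lemma M_congr {a b : K} (h : a = b) : R.M a = R.M b := by rw [h]

lemma P_mul_P {a b c : K} (h : a + b = c) : R.P a * R.P b = R.P c := by rw [← h, R.P_add]

lemma M_mul_M {a b c : K} (h : a + b = c) : R.M a * R.M b = R.M c := by rw [← h, R.M_add]

lemma P_mul_P_neg (a : K) : R.P a * R.P (-a) = 1 := by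
  rw [← R.P_add, add_neg_cancel, P_zero]

lemma M_mul_M_neg (a : K) : R.M a * R.M (-a) = 1 := by
  rw [← R.M_add, add_neg_cancel, M_zero]

lemma TP' (t : Tg) (a : K) : R.I t * R.P a = R.P (↑(R.χ t) * a) * R.I t := by
  rw [← R.TP]; group

lemma TM' (t : Tg) (b : K) : R.I t * R.M b = R.M (↑(R.χ t)⁻¹ * b) * R.I t := by
  rw [← R.TM]; group

lemma hP (z : Kˣ) (a : K) : R.h z * R.P a = R.P ((z : K) ^ 2 * a) * R.h z := by
  rw [h, TP', R.χ_cor]; simp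

lemma hM (z : Kˣ) (b : K) : R.h z * R.M b = R.M ((↑z⁻¹ : K) ^ 2 * b) * R.h z := by
  rw [h, TM', R.χ_cor]; simp

/-- The commutation rule in the other order. -/
lemma F' (a b : K) (u : Kˣ) (hu : (u : K) = 1 + a * b) :
    R.M b * R.P a = R.P (a * ↑u⁻¹) * (R.h u)⁻¹ * R.M (b * ↑u⁻¹) := by
  have h1 := R.F (-a) (-b) u (by rw [hu]; ring)
  have h2 := congrArg (fun g => g⁻¹) h1
  simp only [mul_inv_rev, neg_mul, P_neg, M_neg, inv_inv] at h2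
  rw [h2, mul_assoc]
  rfl

lemma val_inv_eq (z : Kˣ) {Zi : K} (hz : (z : K) * Zi = 1) : (↑z⁻¹ : K) = Zi := by
  rw [← mul_one (↑z⁻¹ : K), ← hz, ← mul_assoc, z.inv_mul, one_mul]

/-- `w(z a) = h(z) w(a)`, where `w(a) = P(a) M(-a⁻¹) P(a)`. -/
lemma w_smul_aux (z : Kˣ) (A Ai : K) (ha : A * Ai = 1) :
    R.P (z * A) * R.M (-(↑z⁻¹ * Ai)) * R.P (z * A) = R.h z * (R.P A * R.M (-Ai) * R.P A) := by
  have hz : (z : K) * ↑z⁻¹ = 1 := z.mul_inv
  have e1 : R.P (z * A * (1 - z)) * R.M (-(↑z⁻¹ * Ai)) =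
      R.M (-(↑z⁻¹ * Ai) * ↑z⁻¹) * R.h z * R.P (z * A * (1 - z) * ↑z⁻¹) := by
    apply R.F
    linear_combination (1 - (z : K)) * (A * Ai) * hz + (1 - (z : K)) * ha
  have e2 : R.P (z * A) = R.P ((z : K) ^ 2 * A) * R.P (z * A * (1 - z)) := by
    rw [← R.P_add]; congr 1; ring
  have e3 : R.P (z * A * (1 - z) * ↑z⁻¹) * R.P (z * A) = R.P A := by
    rw [← R.P_add]; congr 1
    linear_combination (A * (1 - (z : K))) * hz
  have e4 : R.h z * R.P A = R.P ((z : K) ^ 2 * A) * R.h z := R.hP z A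
  have e5 : R.h z * R.M (-Ai) = R.M (-(↑z⁻¹ * Ai) * ↑z⁻¹) * R.h z := by
    rw [R.hM]; congr 2; ring
  calc R.P (z * A) * R.M (-(↑z⁻¹ * Ai)) * R.P (z * A)
      = R.P ((z : K) ^ 2 * A) * (R.P (z * A * (1 - z)) * R.M (-(↑z⁻¹ * Ai))) * R.P (z * A) := by
        rw [e2]; group
    _ = R.P ((z : K) ^ 2 * A) * R.M (-(↑z⁻¹ * Ai) * ↑z⁻¹) * R.h z *
          (R.P (z * A * (1 - z) * ↑z⁻¹) * R.P (z * A)) := by
        rw [e1]; group
    _ = R.P ((z : K) ^ 2 * A) * R.M (-(↑z⁻¹ * Ai) * ↑z⁻¹) * (R.h z * R.P A) := by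
        rw [e3]; group
    _ = R.P ((z : K) ^ 2 * A) * (R.M (-(↑z⁻¹ * Ai) * ↑z⁻¹) * R.h z) * R.P A := by
        simp only [mul_assoc]
    _ = (R.P ((z : K) ^ 2 * A) * R.h z) * R.M (-Ai) * R.P A := by
        rw [← e5]; group
    _ = R.h z * (R.P A * R.M (-Ai) * R.P A) := by
        rw [← e4]; group

/-- The Weyl element `w(a) = P(a) M(a') P(a)` where `a' a = -1`. -/
def W (A A' : K) : Γ := R.P A * R.M A' * R.P A

/-- `w(z a) = h(z) w(a)`. -/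
lemma W_smul (z : Kˣ) (A A' B B' : K) (hA : A' * A = -1) (hB : B = z * A) (hB' : B' * B = -1) :
    R.W B B' = R.h z * R.W A A' := by
  have hz : (z : K) * ↑z⁻¹ = 1 := z.mul_inv
  have hB'eq : B' = -(↑z⁻¹ * (-A')) := by
    subst hB
    linear_combination (-(↑z⁻¹ : K) * A') * hB' + (-B') * hz + (B' * z * ↑z⁻¹) * hA
  have h := R.w_smul_aux z A (-A') (by linear_combination (-1 : K) * hA)
  rw [neg_neg] at h
  rw [W, W, hB'eq, hB]
  exact h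

/-- `w(z a) = w(a) h(z)⁻¹`. -/
lemma W_smul_right (z : Kˣ) (A A' B B' : K) (hA : A' * A = -1) (hB : B = z * A)
    (hB' : B' * B = -1) : R.W B B' = R.W A A' * (R.h z)⁻¹ := by
  have hz : (z : K) * ↑z⁻¹ = 1 := z.mul_inv
  have h1 : R.W B B' = R.h z * R.W A A' := R.W_smul z A A' B B' hA hB hB'
  -- conjugating `w(a)` by `h z` gives `w(z² a)`
  have h2 : R.h z * R.W A A' = R.W ((z : K) ^ 2 * A) ((↑z⁻¹ : K) ^ 2 * A') * R.h z := by
    unfold W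
    calc R.h z * (R.P A * R.M A' * R.P A)
        = (R.h z * R.P A) * R.M A' * R.P A := by simp only [mul_assoc]
      _ = R.P ((z : K) ^ 2 * A) * (R.h z * R.M A') * R.P A := by rw [R.hP]; simp only [mul_assoc]
      _ = R.P ((z : K) ^ 2 * A) * R.M ((↑z⁻¹ : K) ^ 2 * A') * (R.h z * R.P A) := by
          rw [R.hM]; simp only [mul_assoc]
      _ = R.P ((z : K) ^ 2 * A) * R.M ((↑z⁻¹ : K) ^ 2 * A') * R.P ((z : K) ^ 2 * A) * R.h z := by
          rw [R.hP]; simp only [mul_assoc]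
  have h3 : R.W ((z : K) ^ 2 * A) ((↑z⁻¹ : K) ^ 2 * A') = R.h (z ^ 2) * R.W A A' := by
    apply R.W_smul (z ^ 2) A A' _ _ hA
    · simp
    · linear_combination ((↑z⁻¹ : K) ^ 2 * (z : K) ^ 2) * hA + (-(z : K) * ↑z⁻¹ - 1) * hz
  have h4 : R.h (z ^ 2) = R.h z * R.h z := by rw [pow_two, R.h_mul]
  rw [h3, h4] at h2
  rw [h1]
  have h5 : R.W A A' = R.h z * R.W A A' * R.h z := by
    have := congrArg (fun g => (R.h z)⁻¹ * g) h2
    simp only [mul_assoc, inv_mul_cancel_left] at this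
    simpa [mul_assoc] using this
  calc R.h z * R.W A A' = (R.h z * R.W A A' * R.h z) * (R.h z)⁻¹ := by group
    _ = R.W A A' * (R.h z)⁻¹ := by rw [← h5]

/-- `w(a)` normalises the torus: `w(a) t w(a)⁻¹ = h(χ t)⁻¹ t`. -/
lemma W_conj_torus (A A' : K) (hA : A' * A = -1) (t : Tg) :
    R.W A A' * R.I t * (R.W A A')⁻¹ = (R.h (R.χ t))⁻¹ * R.I t := by
  have hc : ((R.χ t : Kˣ) : K) * ↑(R.χ t)⁻¹ = 1 := (R.χ t).mul_inv
  have h1 : R.I t * R.W A A' = R.W (↑(R.χ t) * A) (↑(R.χ t)⁻¹ * A') * R.I t := by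
    unfold W
    calc R.I t * (R.P A * R.M A' * R.P A)
        = (R.I t * R.P A) * R.M A' * R.P A := by simp only [mul_assoc]
      _ = R.P (↑(R.χ t) * A) * (R.I t * R.M A') * R.P A := by rw [R.TP']; simp only [mul_assoc]
      _ = R.P (↑(R.χ t) * A) * R.M (↑(R.χ t)⁻¹ * A') * (R.I t * R.P A) := by
          rw [R.TM']; simp only [mul_assoc]
      _ = R.P (↑(R.χ t) * A) * R.M (↑(R.χ t)⁻¹ * A') * R.P (↑(R.χ t) * A) * R.I t := by
          rw [R.TP']; simp only [mul_assoc]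
  have h2 : R.W (↑(R.χ t) * A) (↑(R.χ t)⁻¹ * A') = R.h (R.χ t) * R.W A A' := by
    apply R.W_smul (R.χ t) A A' _ _ hA rfl
    linear_combination (↑(R.χ t)⁻¹ * ↑(R.χ t) : K) * hA + (-1 : K) * hc
  rw [h2] at h1
  -- `I t * W = h * W * I t`
  calc R.W A A' * R.I t * (R.W A A')⁻¹
      = (R.h (R.χ t))⁻¹ * (R.h (R.χ t) * R.W A A' * R.I t) * (R.W A A')⁻¹ := by group
    _ = (R.h (R.χ t))⁻¹ * (R.I t * R.W A A') * (R.W A A')⁻¹ := by rw [h1]
    _ = (R.h (R.χ t))⁻¹ * R.I t := by group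

/-- `w(b)² = h(-1)`. -/
lemma W_sq (B B' : K) (hB : B' * B = -1) : R.W B B' * R.W B B' = R.h (-1) := by
  have hval : (((-1 : Kˣ))⁻¹ : Kˣ) = -1 := by simp
  have e1 : R.P (B + B) * R.M B' = R.M (-B') * R.h (-1) * R.P (-(B + B)) := by
    have := R.F (B + B) B' (-1) (by simp only [Units.val_neg, Units.val_one]; linear_combination (-2 : K) * hB)
    rw [this, hval]
    simp only [Units.val_neg, Units.val_one, mul_neg, mul_one]
    rfl
  have e2 : R.h (-1) * R.P (-B) = R.P (-B) * R.h (-1) := by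
    rw [R.hP]; congr 2; simp
  unfold W
  calc R.P B * R.M B' * R.P B * (R.P B * R.M B' * R.P B)
      = R.P B * R.M B' * (R.P B * R.P B) * R.M B' * R.P B := by simp only [mul_assoc]
    _ = R.P B * R.M B' * (R.P (B + B) * R.M B') * R.P B := by rw [R.P_add]; simp only [mul_assoc]
    _ = R.P B * (R.M B' * R.M (-B')) * R.h (-1) * (R.P (-(B + B)) * R.P B) := by
        rw [e1]; simp only [mul_assoc]
    _ = R.P B * (R.h (-1) * R.P (-B)) := by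
        rw [R.M_mul_M_neg, R.P_mul_P (show -(B + B) + B = -B by ring)]
        simp only [mul_one, mul_assoc]
    _ = R.h (-1) := by
        rw [e2, ← mul_assoc, R.P_mul_P_neg, one_mul]

/-- `w(a) w(b) = h(u)` where `u b = -a`. -/
lemma W_mul_W (u : Kˣ) (A A' B B' : K) (hA : A' * A = -1) (hB : B' * B = -1)
    (hu : (u : K) * B = -A) : R.W A A' * R.W B B' = R.h u := by
  have h1 : R.W A A' = R.h (-u) * R.W B B' := by
    apply R.W_smul (-u) B B' A A' hB _ hA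
    rw [Units.val_neg]
    linear_combination hu
  rw [h1, mul_assoc, R.W_sq B B' hB, ← R.h_mul]
  simp

/-- The coroot through the root groups: `h(z) = M(z⁻¹ - 1) P(1) M(z - 1) P(-z⁻¹)`. -/
lemma h_eq_prod (z : Kˣ) (y₁ x₁ y₂ x₂ : K) (hy₁ : y₁ * z = 1 - z) (hx₁ : x₁ = 1)
    (hy₂ : y₂ = z - 1) (hx₂ : x₂ * z = -1) :
    R.h z = R.M y₁ * R.P x₁ * R.M y₂ * R.P x₂ := by
  have hz : (z : K) * ↑z⁻¹ = 1 := z.mul_inv
  have e1 : R.P x₁ * R.M y₂ = R.M (y₂ * ↑z⁻¹) * R.h z * R.P (x₁ * ↑z⁻¹) := by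
    apply R.F
    rw [hx₁, hy₂]; ring
  have e2 : R.M y₁ * R.M (y₂ * ↑z⁻¹) = 1 := by
    rw [← R.M_add, ← R.M_zero]; congr 1
    rw [hy₂]
    linear_combination (↑z⁻¹ : K) * hy₁ + (-y₁) * hz
  have e3 : R.P (x₁ * ↑z⁻¹) * R.P x₂ = 1 := by
    rw [← R.P_add, ← R.P_zero]; congr 1
    rw [hx₁]
    linear_combination (↑z⁻¹ : K) * hx₂ + (-x₂) * hz
  calc R.h z = (R.M y₁ * R.M (y₂ * ↑z⁻¹)) * R.h z * (R.P (x₁ * ↑z⁻¹) * R.P x₂) := by
        rw [e2, e3]; simp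
    _ = R.M y₁ * (R.M (y₂ * ↑z⁻¹) * R.h z * R.P (x₁ * ↑z⁻¹)) * R.P x₂ := by simp only [mul_assoc]
    _ = R.M y₁ * R.P x₁ * R.M y₂ * R.P x₂ := by rw [← e1]; simp only [mul_assoc]

/-- Product of two elements of the big cell. -/
lemma bigCell_mul (x y x' y' y₂ x₂ : K) (t t' : Tg) (u : Kˣ)
    (hu : (u : K) = 1 + x * y')
    (hy₂ : (y₂ - y) * u * ↑(R.χ t) = y')
    (hx₂ : (x₂ - x') * u * ↑(R.χ t') = x) :
    (R.M y * R.I t * R.P x) * (R.M y' * R.I t' * R.P x') =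
      R.M y₂ * R.I (t * R.cor u * t') * R.P x₂ := by
  have huu : (u : K) * ↑u⁻¹ = 1 := u.mul_inv
  have hc : ((R.χ t : Kˣ) : K) * ↑(R.χ t)⁻¹ = 1 := (R.χ t).mul_inv
  have hc' : ((R.χ t' : Kˣ) : K) * ↑(R.χ t')⁻¹ = 1 := (R.χ t').mul_inv
  have e1 : R.P x * R.M y' = R.M (y' * ↑u⁻¹) * R.h u * R.P (x * ↑u⁻¹) := R.F x y' u hu
  have e2 : R.I t * R.M (y' * ↑u⁻¹) = R.M (↑(R.χ t)⁻¹ * (y' * ↑u⁻¹)) * R.I t := R.TM' t _
  have e3 : R.P (x * ↑u⁻¹) * R.I t' = R.I t' * R.P (↑(R.χ t')⁻¹ * (x * ↑u⁻¹)) := by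
    rw [R.TP']; congr 2
    linear_combination (-(x * ↑u⁻¹)) * hc'
  have e4 : R.M y * R.M (↑(R.χ t)⁻¹ * (y' * ↑u⁻¹)) = R.M y₂ := by
    apply R.M_mul_M
    rw [← hy₂]
    linear_combination ((y₂ - y) * ↑(R.χ t) * ↑(R.χ t)⁻¹) * huu + (y₂ - y) * hc
  have e5 : R.P (↑(R.χ t')⁻¹ * (x * ↑u⁻¹)) * R.P x' = R.P x₂ := by
    apply R.P_mul_P
    rw [← hx₂]
    linear_combination ((x₂ - x') * ↑(R.χ t') * ↑(R.χ t')⁻¹) * huu + (x₂ - x') * hc'
  have e6 : R.I (t * R.cor u * t') = R.I t * R.h u * R.I t' := by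
    simp [h]
  calc (R.M y * R.I t * R.P x) * (R.M y' * R.I t' * R.P x')
      = R.M y * R.I t * (R.P x * R.M y') * R.I t' * R.P x' := by simp only [mul_assoc]
    _ = R.M y * (R.I t * R.M (y' * ↑u⁻¹)) * R.h u * (R.P (x * ↑u⁻¹) * R.I t') * R.P x' := by
        rw [e1]; simp only [mul_assoc]
    _ = (R.M y * R.M (↑(R.χ t)⁻¹ * (y' * ↑u⁻¹))) * (R.I t * R.h u * R.I t') *
          (R.P (↑(R.χ t')⁻¹ * (x * ↑u⁻¹)) * R.P x') := by
        rw [e2, e3]; simp only [mul_assoc]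
    _ = R.M y₂ * R.I (t * R.cor u * t') * R.P x₂ := by rw [e4, e5, e6]

/-- The structure with the roles of `P` and `M` exchanged. -/
def swap : RankOne Γ Tg K where
  P := R.M
  M := R.P
  I := R.I
  χ := R.χ⁻¹
  cor := R.cor.comp (invMonoidHom : Kˣ →* Kˣ)
  P_add := R.M_add
  M_add := R.P_add
  χ_cor z := by
    show (R.χ (R.cor z⁻¹))⁻¹ = z ^ 2
    rw [R.χ_cor]; simp
  TP t a := by
    show R.I t * R.M a * (R.I t)⁻¹ = R.M (↑((R.χ t)⁻¹) * a)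
    exact R.TM t a
  TM t b := by
    show R.I t * R.P b * (R.I t)⁻¹ = R.P (↑((R.χ t)⁻¹)⁻¹ * b)
    rw [inv_inv]; exact R.TP t b
  F a b u hu := by
    show R.M a * R.P b = R.P (b * ↑u⁻¹) * R.I (R.cor u⁻¹) * R.M (a * ↑u⁻¹)
    have := R.F' b a u (by rw [hu]; ring)
    rw [this, h, map_inv, map_inv]

lemma swap_P (a : K) : R.swap.P a = R.M a := rfl
lemma swap_M (a : K) : R.swap.M a = R.P a := rfl
lemma swap_h (z : Kˣ) : R.swap.h z = (R.h z)⁻¹ := by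
  show R.I (R.cor z⁻¹) = (R.I (R.cor z))⁻¹
  rw [map_inv, map_inv]
lemma swap_W (a a' : K) : R.swap.W a a' = R.M a * R.P a' * R.M a := rfl

/-- The braid relation `P(a) M(b) P(a) = M(b) P(a) M(b)` (`a b = -1`), provided the ring has two units with
sum one. -/
lemma braid (u₁ u₂ : Kˣ) (hu : (u₁ : K) + u₂ = 1) (a b : K) (hab : b * a = -1) :
    R.P a * R.M b * R.P a = R.M b * R.P a * R.M b := by
  have h1 : (u₁ : K) * ↑u₁⁻¹ = 1 := u₁.mul_inv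
  have h2 : (u₂ : K) * ↑u₂⁻¹ = 1 := u₂.mul_inv
  -- split `M b = M (u₁ b) M (u₂ b)`
  have e0 : R.M b = R.M (u₁ * b) * R.M (u₂ * b) := by
    rw [← R.M_add]; congr 1; linear_combination (-b) * hu
  have e1 : R.P a * R.M (u₁ * b) = R.M (u₁ * b * ↑u₂⁻¹) * R.h u₂ * R.P (a * ↑u₂⁻¹) := by
    apply R.F
    linear_combination hu - (u₁ : K) * hab
  have e2 : R.M (u₂ * b) * R.P a = R.P (a * ↑u₁⁻¹) * (R.h u₁)⁻¹ * R.M (u₂ * b * ↑u₁⁻¹) := by
    apply R.F'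
    linear_combination hu - (u₂ : K) * hab
  have e3 : R.P (a * ↑u₂⁻¹) * R.P (a * ↑u₁⁻¹) = R.P (a * ↑u₁⁻¹ * ↑u₂⁻¹) := by
    rw [← R.P_add]; congr 1
    linear_combination (a * ↑u₁⁻¹ * ↑u₂⁻¹) * hu - (a * ↑u₂⁻¹) * h1 - (a * ↑u₁⁻¹) * h2
  -- move the torus elements to the right
  have e4 : R.h u₂ * R.P (a * ↑u₁⁻¹ * ↑u₂⁻¹) = R.P (u₂ * a * ↑u₁⁻¹) * R.h u₂ := by
    rw [R.hP]; congr 2
    linear_combination (a * ↑u₁⁻¹ * u₂) * h2
  have e5 : R.h (u₂ * u₁⁻¹) * R.M (u₂ * b * ↑u₁⁻¹) = R.M (u₁ * b * ↑u₂⁻¹) * R.h (u₂ * u₁⁻¹) := by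
    rw [R.hM]; congr 2
    have : ((u₂ * u₁⁻¹)⁻¹ : Kˣ) = u₁ * u₂⁻¹ := by rw [mul_inv, inv_inv, mul_comm]
    rw [this, Units.val_mul]
    linear_combination (u₁ * ↑u₂⁻¹ * b * u₁ * ↑u₁⁻¹) * h2 +
      (u₁ * ↑u₂⁻¹ * b) * h1
  have e6 : R.h u₂ * (R.h u₁)⁻¹ = R.h (u₂ * u₁⁻¹) := by rw [R.h_mul, R.h_inv]
  -- the left-hand side is `W₋(β) h(u₂/u₁)` with `β = u₁ b / u₂`
  have lhs : R.P a * R.M b * R.P a =
      R.swap.W (u₁ * b * ↑u₂⁻¹) (u₂ * a * ↑u₁⁻¹) * R.h (u₂ * u₁⁻¹) := by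
    rw [swap_W]
    calc R.P a * R.M b * R.P a
        = (R.P a * R.M (u₁ * b)) * (R.M (u₂ * b) * R.P a) := by rw [e0]; simp only [mul_assoc]
      _ = R.M (u₁ * b * ↑u₂⁻¹) * R.h u₂ * (R.P (a * ↑u₂⁻¹) * R.P (a * ↑u₁⁻¹)) * (R.h u₁)⁻¹ *
            R.M (u₂ * b * ↑u₁⁻¹) := by rw [e1, e2]; simp only [mul_assoc]
      _ = R.M (u₁ * b * ↑u₂⁻¹) * (R.h u₂ * R.P (a * ↑u₁⁻¹ * ↑u₂⁻¹)) * (R.h u₁)⁻¹ *
            R.M (u₂ * b * ↑u₁⁻¹) := by rw [e3]; simp only [mul_assoc]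
      _ = R.M (u₁ * b * ↑u₂⁻¹) * R.P (u₂ * a * ↑u₁⁻¹) * (R.h u₂ * (R.h u₁)⁻¹) *
            R.M (u₂ * b * ↑u₁⁻¹) := by rw [e4]; simp only [mul_assoc]
      _ = R.M (u₁ * b * ↑u₂⁻¹) * R.P (u₂ * a * ↑u₁⁻¹) * (R.h (u₂ * u₁⁻¹) *
            R.M (u₂ * b * ↑u₁⁻¹)) := by rw [e6]; simp only [mul_assoc]
      _ = R.M (u₁ * b * ↑u₂⁻¹) * R.P (u₂ * a * ↑u₁⁻¹) * R.M (u₁ * b * ↑u₂⁻¹) *
            R.h (u₂ * u₁⁻¹) := by rw [e5]; simp only [mul_assoc]
  -- and `W₋(β) = W₋(b) h(u₁/u₂)`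
  have hsw : R.swap.W (u₁ * b * ↑u₂⁻¹) (u₂ * a * ↑u₁⁻¹) =
      R.swap.W b a * (R.swap.h (u₁ * u₂⁻¹))⁻¹ := by
    apply R.swap.W_smul_right (u₁ * u₂⁻¹) b a _ _ (by linear_combination hab)
    · rw [Units.val_mul]; ring
    · linear_combination (↑u₁⁻¹ * ↑u₂⁻¹ * (u₁ : K) * u₂) * hab + (-(↑u₂⁻¹ * (u₂ : K))) * h1 + (-1 : K) * h2
  rw [lhs, hsw, swap_W, swap_h, inv_inv, mul_assoc, ← R.h_mul]
  have : u₁ * u₂⁻¹ * (u₂ * u₁⁻¹) = 1 := by
    rw [mul_assoc, ← mul_assoc u₂⁻¹, inv_mul_cancel, one_mul, mul_inv_cancel]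
  rw [this, R.h_one, mul_one]

/-- The braid relation as a hypothesis. -/
def Braid (a b : K) : Prop := R.P a * R.M b * R.P a = R.M b * R.P a * R.M b

lemma W_conj_P_of_braid (a a' : K) (hb : R.Braid a a') :
    R.W a a' * R.P a * (R.W a a')⁻¹ = R.M a' := by
  unfold Braid at hb
  have : R.W a a' * R.P a = R.M a' * R.W a a' := by
    unfold W
    calc R.P a * R.M a' * R.P a * R.P a = (R.M a' * R.P a * R.M a') * R.P a := by rw [hb]
      _ = R.M a' * (R.P a * R.M a' * R.P a) := by simp only [mul_assoc]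
  rw [this]; group

lemma W_mul_P_cube_of_braid (a a' : K) (ha : a' * a = -1) (hb : R.Braid a a') :
    (R.W a a' * R.P a) ^ 3 = 1 := by
  have h1 : R.W a a' * R.P a = R.M a' * R.W a a' := by
    have := R.W_conj_P_of_braid a a' hb
    rw [← this]; group
  have h2 : R.W a a' * R.M a' = R.P a * R.W a a' := by
    unfold Braid at hb
    unfold W
    calc R.P a * R.M a' * R.P a * R.M a' = R.P a * (R.M a' * R.P a * R.M a') := by
          simp only [mul_assoc]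
      _ = R.P a * (R.P a * R.M a' * R.P a) := by rw [hb]
  have h3 : R.M a' * R.P a * R.M a' = R.W a a' := by
    unfold Braid at hb; rw [← hb]; rfl
  have h4 : R.W a a' * R.W a a' = R.h (-1) := R.W_sq a a' ha
  have h5 : R.h (-1) * R.h (-1) = 1 := by rw [← R.h_mul]; simp [R.h_one]
  calc (R.W a a' * R.P a) ^ 3
      = (R.M a' * R.W a a') * (R.M a' * R.W a a') * (R.M a' * R.W a a') := by
        rw [h1, pow_succ, pow_two]
    _ = R.M a' * (R.W a a' * R.M a') * (R.W a a' * R.M a') * R.W a a' := by simp only [mul_assoc]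
    _ = R.M a' * (R.P a * R.W a a') * (R.P a * R.W a a') * R.W a a' := by rw [h2]
    _ = R.M a' * R.P a * (R.W a a' * R.P a) * R.W a a' * R.W a a' := by simp only [mul_assoc]
    _ = R.M a' * R.P a * (R.M a' * R.W a a') * R.W a a' * R.W a a' := by rw [h1]
    _ = (R.M a' * R.P a * R.M a') * R.W a a' * R.W a a' * R.W a a' := by simp only [mul_assoc]
    _ = (R.W a a' * R.W a a') * (R.W a a' * R.W a a') := by rw [h3]; simp only [mul_assoc]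
    _ = 1 := by rw [h4, h5]

lemma negW_eq (a a' : K) : R.P (-a) * R.M (-a') * R.P (-a) = (R.W a a')⁻¹ := by
  unfold W
  rw [P_neg, M_neg]; group

lemma swapW_neg_eq_of_braid (a a' : K) (hb : R.Braid (-a) (-a')) :
    R.M (-a') * R.P (-a) * R.M (-a') = (R.W a a')⁻¹ := by
  unfold Braid at hb
  rw [← hb, negW_eq]

lemma W_mul_swapW_of_braid (z : Kˣ) (x x' y y' : K) (hx : x' * x = -1) (hy : y' * y = -1)
    (hz : (z : K) = x * y) (hb : R.Braid y' y) :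
    R.W x x' * (R.M y * R.P y' * R.M y) = R.h z := by
  unfold Braid at hb
  rw [← hb]
  apply R.W_mul_W z x x' y' y hx (by linear_combination hy)
  rw [hz]
  linear_combination x * hy

end RankOne

end Groth.Agent.Lib.Helper43
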