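import Groth.Agent.Lib.Helper43.GaGm
import Groth.Agent.Lib.Helper43.RankOne

/-!
# From rank-one data on a group scheme to the abstract `RankOne` structure (helper43)
-/

set_option autoImplicit false
universe u
open CategoryTheory MonoidalCategory CartesianMonoidalCategory MonObj GrpObj AlgebraicGeometry Limits

namespace Groth.Agent.Lib.Helper43

section Points

variable {S : Scheme.{u}}

/-- The `X`-point of `𝔾_a` with a given coordinate. -/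
noncomputable def gaPt (X : Over S) (a : Γ(X.left, ⊤)) : X ⟶ Red.Ga S :=
  (gaEquiv X).symm (Multiplicative.ofAdd a)

lemma gaFn_gaPt (X : Over S) (a : Γ(X.left, ⊤)) : Red.gaFn (gaPt X a) = a := by
  have := (gaEquiv X).apply_symm_apply (Multiplicative.ofAdd a)
  exact Multiplicative.ofAdd.injective this

lemma gaPt_gaFn {X : Over S} (x : X ⟶ Red.Ga S) : gaPt X (Red.gaFn x) = x :=
  gaFn_injective (gaFn_gaPt X _)

lemma gaPt_add (X : Over S) (a b : Γ(X.left, ⊤)) : gaPt X (a + b) = gaPt X a * gaPt X b := by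
  apply gaFn_injective
  rw [gaFn_mul, gaFn_gaPt, gaFn_gaPt, gaFn_gaPt]

lemma eq_gaPt {X : Over S} {x : X ⟶ Red.Ga S} {a : Γ(X.left, ⊤)} (h : Red.gaFn x = a) :
    x = gaPt X a := by
  rw [← h, gaPt_gaFn]

/-- `gmFn` as a homomorphism to the units. -/
noncomputable def gmUnits (X : Over S) : (X ⟶ Red.Gm S) →* (Γ(X.left, ⊤))ˣ :=
  MonoidHom.toHomUnits (G := X ⟶ Red.Gm S) (gmFnHom X)

lemma gmUnits_val {X : Over S} (t : X ⟶ Red.Gm S) : ((gmUnits X t : (Γ(X.left, ⊤))ˣ) : Γ(X.left, ⊤)) =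
    Red.gmFn t := rfl

/-- The group of `X`-points of `𝔾_m` is the group of units of global functions. -/
noncomputable def gmEquiv (X : Over S) : (X ⟶ Red.Gm S) ≃* (Γ(X.left, ⊤))ˣ :=
  MulEquiv.ofBijective (gmUnits X)
    ⟨fun s t h => gmFn_injective (congrArg Units.val h),
     fun b => by
      obtain ⟨t, ht⟩ := gmFn_surjective (X := X) (b : Γ(X.left, ⊤)) b.isUnit
      exact ⟨t, Units.ext ht⟩⟩

/-- The `X`-point of `𝔾_m` with a given (invertible) coordinate. -/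
noncomputable def gmPt (X : Over S) : (Γ(X.left, ⊤))ˣ →* (X ⟶ Red.Gm S) :=
  (gmEquiv X).symm.toMonoidHom

lemma gmFn_gmPt (X : Over S) (z : (Γ(X.left, ⊤))ˣ) : Red.gmFn (gmPt X z) = z := by
  have := (gmEquiv X).apply_symm_apply z
  exact congrArg Units.val this

lemma eq_gmPt {X : Over S} {t : X ⟶ Red.Gm S} {z : (Γ(X.left, ⊤))ˣ} (h : Red.gmFn t = z) :
    t = gmPt X z :=
  gmFn_injective (h.trans (gmFn_gmPt X z).symm)

end Points

section Bridge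

variable (S : Scheme.{u}) (G T : Over S) [GrpObj G] [GrpObj T] (i : T ⟶ G) [IsMonHom i]
    (α : T ⟶ Red.Gm S) [IsMonHom α]
    (pp pm : Red.Ga S ⟶ G) [IsMonHom pp] [IsMonHom pm]
    (hpp : ∀ (X : Over S) (t : X ⟶ T) (x : X ⟶ Red.Ga S), ∃ x' : X ⟶ Red.Ga S,
      x' ≫ pp = (t ≫ i) * (x ≫ pp) * (t ≫ i)⁻¹ ∧ Red.gaFn x' = Red.gmFn (t ≫ α) * Red.gaFn x)
    (hpm : ∀ (X : Over S) (t : X ⟶ T) (y : X ⟶ Red.Ga S), ∃ y' : X ⟶ Red.Ga S,
      y' ≫ pm = (t ≫ i) * (y ≫ pm) * (t ≫ i)⁻¹ ∧ Red.gaFn y' * Red.gmFn (t ≫ α) = Red.gaFn y)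
    (av : Red.Gm S ⟶ T) [IsMonHom av] (h2 : av ≫ α = (𝟙 (Red.Gm S)) ^ 2)
    (hF : ∀ (X : Over S) (x y : X ⟶ Red.Ga S), IsUnit (1 + Red.gaFn x * Red.gaFn y) →
      ∃ (x' y' : X ⟶ Red.Ga S) (z : X ⟶ Red.Gm S), Red.gmFn z = 1 + Red.gaFn x * Red.gaFn y ∧
        Red.gaFn x' * Red.gmFn z = Red.gaFn x ∧ Red.gaFn y' * Red.gmFn z = Red.gaFn y ∧
        (x ≫ pp) * (y ≫ pm) = (y' ≫ pm) * (z ≫ av ≫ i) * (x' ≫ pp))

include hpp hpm h2 hF in
/-- The abstract rank-one structure on the groups of `X`-points. -/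
noncomputable def rankOneOf (X : Over S) : RankOne (X ⟶ G) (X ⟶ T) Γ(X.left, ⊤) where
  P a := gaPt X a ≫ pp
  M a := gaPt X a ≫ pm
  I := IsMonHom.monoidHom i X
  χ := (gmUnits X).comp (IsMonHom.monoidHom α X)
  cor := (IsMonHom.monoidHom av X).comp (gmPt X)
  P_add a b := by rw [gaPt_add, MonObj.mul_comp]
  M_add a b := by rw [gaPt_add, MonObj.mul_comp]
  χ_cor z := by
    apply Units.ext
    show Red.gmFn ((gmPt X z ≫ av) ≫ α) = _
    rw [Category.assoc, h2, gmFn_comp_id_pow, gmFn_gmPt]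
    simp
  TP t a := by
    obtain ⟨x', h1, h2'⟩ := hpp X t (gaPt X a)
    rw [gaFn_gaPt] at h2'
    show (t ≫ i) * (gaPt X a ≫ pp) * (t ≫ i)⁻¹ = gaPt X _ ≫ pp
    rw [← h1, eq_gaPt h2']
    rfl
  TM t b := by
    obtain ⟨y', h1, h2'⟩ := hpm X t (gaPt X b)
    rw [gaFn_gaPt] at h2'
    show (t ≫ i) * (gaPt X b ≫ pm) * (t ≫ i)⁻¹ = gaPt X _ ≫ pm
    rw [← h1]
    congr 1
    apply eq_gaPt
    have hu : Red.gmFn (t ≫ α) * ↑((gmUnits X (t ≫ α))⁻¹) = 1 := (gmUnits X (t ≫ α)).mul_inv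
    show Red.gaFn y' = ↑((gmUnits X (t ≫ α))⁻¹) * b
    rw [← h2']
    linear_combination (-Red.gaFn y') * hu
  F a b u hu := by
    obtain ⟨x', y', z, hz, hx', hy', h⟩ := hF X (gaPt X a) (gaPt X b)
      (by rw [gaFn_gaPt, gaFn_gaPt, ← hu]; exact u.isUnit)
    simp only [gaFn_gaPt] at hz hx' hy'
    rw [← hu] at hz
    have huu : (u : Γ(X.left, ⊤)) * ↑u⁻¹ = 1 := u.mul_inv
    rw [h, eq_gmPt hz, eq_gaPt (a := a * ↑u⁻¹) (x := x'), eq_gaPt (a := b * ↑u⁻¹) (x := y')]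
    · rfl
    · rw [← hy', hz]; linear_combination (-Red.gaFn y') * huu
    · rw [← hx', hz]; linear_combination (-Red.gaFn x') * huu

variable {S G T i α pp pm av}

lemma rankOneOf_P {X : Over S} (x : X ⟶ Red.Ga S) :
    (rankOneOf S G T i α pp pm hpp hpm av h2 hF X).P (Red.gaFn x) = x ≫ pp := by
  show gaPt X (Red.gaFn x) ≫ pp = _
  rw [gaPt_gaFn]

lemma rankOneOf_M {X : Over S} (y : X ⟶ Red.Ga S) :
    (rankOneOf S G T i α pp pm hpp hpm av h2 hF X).M (Red.gaFn y) = y ≫ pm := by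
  show gaPt X (Red.gaFn y) ≫ pm = _
  rw [gaPt_gaFn]

lemma rankOneOf_I {X : Over S} (t : X ⟶ T) :
    (rankOneOf S G T i α pp pm hpp hpm av h2 hF X).I t = t ≫ i := rfl

lemma rankOneOf_cor {X : Over S} (z : X ⟶ Red.Gm S) :
    (rankOneOf S G T i α pp pm hpp hpm av h2 hF X).cor (gmUnits X z) = z ≫ av := by
  show gmPt X (gmUnits X z) ≫ av = _
  rw [← eq_gmPt (t := z) (z := gmUnits X z) rfl]

lemma rankOneOf_h {X : Over S} (z : X ⟶ Red.Gm S) :
    (rankOneOf S G T i α pp pm hpp hpm av h2 hF X).h (gmUnits X z) = z ≫ av ≫ i := by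
  show (gmPt X (gmUnits X z) ≫ av) ≫ i = _
  rw [← eq_gmPt (t := z) (z := gmUnits X z) rfl, Category.assoc]

lemma rankOneOf_χ {X : Over S} (t : X ⟶ T) :
    (rankOneOf S G T i α pp pm hpp hpm av h2 hF X).χ t = gmUnits X (t ≫ α) := rfl

end Bridge

end Groth.Agent.Lib.Helper43
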