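import Groth.Agent.Lib.Helper43.GerbBC
import Mathlib.CategoryTheory.Limits.Shapes.Pullback.Categorical.Basic

/-!
# Base change of a category fibred in groupoids: `C ×_D E ⥤ C` is fibred in groupoids
-/

set_option autoImplicit false
universe v₃ u₃ v₂ u₂ v u

open CategoryTheory Functor Limits

namespace Groth.Agent.Lib.Helper43.CatPbFib

open Groth.Agent.Lib.Helper43.FibGrpdFun Groth.Agent.Lib.Helper43.GerbComp
  Groth.Agent.Lib.Helper43.GerbBC

variable {C : Type u} [Category.{v} C] {D : Type u₂} [Category.{v₂} D]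
  {E : Type u₃} [Category.{v₃} E] (u : C ⥤ D) (p : E ⥤ D) (hp : FibCat.IsFibGrpd p)

/-- the structural isomorphism with clean types -/
def iso' (z : CategoricalPullback u p) : u.obj z.fst ≅ p.obj z.snd := z.iso

lemma hom_w' {z₁ z₀ : CategoricalPullback u p} (m : z₁ ⟶ z₀) :
    u.map m.fst ≫ (iso' u p z₀).hom = (iso' u p z₁).hom ≫ p.map m.snd := m.w

/-- constructor for morphisms -/
def mkHom {z₁ z₀ : CategoricalPullback u p} (a : z₁.fst ⟶ z₀.fst) (b : z₁.snd ⟶ z₀.snd)
    (w : u.map a ≫ (iso' u p z₀).hom = (iso' u p z₁).hom ≫ p.map b) : z₁ ⟶ z₀ := ⟨a, b, w⟩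

lemma fst_eq_of_isHomLift {z₁ z₀ : CategoricalPullback u p} (a : z₁.fst ⟶ z₀.fst)
    (m : z₁ ⟶ z₀) (h : (CategoricalPullback.π₁ u p).IsHomLift a m) : m.fst = a :=
  (@IsHomLift.eq_of_isHomLift _ _ _ _ (CategoricalPullback.π₁ u p) _ _ a m h).symm

lemma isHomLift_fst {z₁ z₀ : CategoricalPullback u p} (m : z₁ ⟶ z₀) :
    (CategoricalPullback.π₁ u p).IsHomLift m.fst m :=
  (inferInstance : (CategoricalPullback.π₁ u p).IsHomLift
      ((CategoricalPullback.π₁ u p).map m) m)

include hp in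
theorem isFibGrpd_π₁ : FibCat.IsFibGrpd (CategoricalPullback.π₁ u p) where
  exists_lift := by
    intro z V f
    obtain ⟨f, rfl⟩ : ∃ f₀ : V ⟶ z.fst, f₀ = f := ⟨f, rfl⟩
    obtain ⟨t', ψ, hψ⟩ := hp.exists_lift (x := z.snd) (u.map f ≫ (iso' u p z).hom)
    have hd : p.obj t' = u.obj V := IsHomLift.domain_eq p (u.map f ≫ (iso' u p z).hom) ψ
    let z' : CategoricalPullback u p := ⟨V, t', eqToIso hd.symm⟩
    have w : u.map f ≫ (iso' u p z).hom = (iso' u p z').hom ≫ p.map ψ := by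
      change u.map f ≫ (iso' u p z).hom = eqToHom hd.symm ≫ p.map ψ
      rw [IsHomLift.fac' p (u.map f ≫ (iso' u p z).hom) ψ]
      simp
    exact ⟨z', mkHom u p (z₁ := z') (z₀ := z) f ψ w,
      isHomLift_fst u p (mkHom u p (z₁ := z') (z₀ := z) f ψ w)⟩
  isStronglyCartesian := by
    intro z₁ z₀ m
    refine ⟨?_⟩
    intro z₂ h m' hm'
    obtain ⟨h, rfl⟩ : ∃ h₀ : z₂.fst ⟶ z₁.fst, h₀ = h := ⟨h, rfl⟩
    have hfst : m'.fst = h ≫ m.fst := fst_eq_of_isHomLift u p (h ≫ m.fst) m' hm'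
    let k : p.obj z₂.snd ⟶ p.obj z₁.snd := (iso' u p z₂).inv ≫ u.map h ≫ (iso' u p z₁).hom
    have mw := hom_w' u p m
    have m'w := hom_w' u p m'
    have star : p.map m'.snd = k ≫ p.map m.snd := by
      simp only [k, Category.assoc]
      rw [← mw, ← Category.assoc (u.map h), ← u.map_comp, ← hfst, m'w, Iso.inv_hom_id_assoc]
    have hsc : p.IsStronglyCartesian (p.map m.snd) m.snd := hp.isStronglyCartesian _
    have hl : p.IsHomLift (k ≫ p.map m.snd) m'.snd := by
      rw [← star]; infer_instance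
    obtain ⟨c, ⟨hc, hce⟩, hcu⟩ := hsc.universal_property' k m'.snd
    have hpc : p.map c = k := (IsHomLift.eq_of_isHomLift p k c).symm
    have wχ : u.map h ≫ (iso' u p z₁).hom = (iso' u p z₂).hom ≫ p.map c := by
      rw [hpc]
      simp only [k, Iso.hom_inv_id_assoc]
    refine ⟨mkHom u p h c wχ, ⟨isHomLift_fst u p (mkHom u p h c wχ), ?_⟩, ?_⟩
    · apply CategoricalPullback.hom_ext
      · exact hfst.symm
      · exact hce
    · rintro χ' ⟨hχ', hχ'e⟩
      have h1 : χ'.fst = h := fst_eq_of_isHomLift u p h χ' hχ'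
      have χ'w := hom_w' u p χ'
      have h2 : p.map χ'.snd = k := by
        simp only [k]
        rw [← h1, χ'w, Iso.inv_hom_id_assoc]
      have h3 : p.IsHomLift k χ'.snd := by
        rw [← h2]; infer_instance
      have h4 : χ'.snd ≫ m.snd = m'.snd := congrArg (fun t => t.snd) hχ'e
      have h5 : χ'.snd = c := hcu χ'.snd ⟨h3, h4⟩
      apply CategoricalPullback.hom_ext
      · exact h1
      · exact h5

end Groth.Agent.Lib.Helper43.CatPbFib
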