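import Groth.Agent.Lib.Helper43.HyperSite
import Mathlib.Algebra.Homology.ShortComplex.Ab
import Mathlib.Algebra.Homology.ShortComplex.HomologicalComplex
import Mathlib.CategoryTheory.Limits.Shapes.ConcreteCategory
import Mathlib.Algebra.Category.Grp.Abelian

/-!
# Elementwise calculus for `FormalCoproduct.evalOp` in abelian groups, and `H⁰` of a cochain complex
-/

set_option autoImplicit false
set_option linter.deprecated false
universe u
open CategoryTheory CategoryTheory.Limits Opposite Simplicial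

namespace Groth.Agent.Lib.Helper43.CechEval

section HZero

variable {A : Type*} [Category A] [Abelian A]

lemma homologyZeroIso (K : CochainComplex A ℕ) {Z : A} (ι : Z ⟶ K.X 0) (w : ι ≫ K.d 0 1 = 0)
    [Mono ι] (hex : (ShortComplex.mk ι (K.d 0 1) w).Exact) : Nonempty (K.homology 0 ≅ Z) := by
  let S' := K.sc' 0 0 1
  have hf : S'.f = 0 := K.shape 0 0 (by simp)
  let c : KernelFork S'.g := KernelFork.ofι ι w
  have hc : IsLimit c := hex.fIsKernel
  let h := ShortComplex.HomologyData.ofIsLimitKernelFork S' hf c hc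
  exact ⟨ShortComplex.homologyMapIso (K.isoSc' 0 0 1 (by simp) (by simp)) ≪≫ h.left.homologyIso⟩

end HZero

section Eval

variable {D : Type u} [SmallCategory D] (P : Dᵒᵖ ⥤ AddCommGrpCat.{u})

/-- The evaluation of `P` on a formal coproduct. -/
noncomputable abbrev E (L : FormalCoproduct.{u} D) : AddCommGrpCat.{u} :=
  ((FormalCoproduct.evalOp.{u} D AddCommGrpCat.{u}).obj P).obj (op L)

/-- functoriality -/
noncomputable abbrev Emap {L' L : FormalCoproduct.{u} D} (f : L' ⟶ L) : E P L ⟶ E P L' :=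
  ((FormalCoproduct.evalOp.{u} D AddCommGrpCat.{u}).obj P).map f.op

/-- The value of a section `x` of `P` over `L` at a point `t : incl V ⟶ L`. -/
noncomputable def ev {L : FormalCoproduct.{u} D} (x : E P L) {V : D}
    (t : (FormalCoproduct.incl D).obj V ⟶ L) : P.obj (op V) :=
  P.map (t.φ PUnit.unit).op (Pi.π (fun i : L.I => P.obj (op (L.obj i))) (t.f PUnit.unit) x)

lemma ev_fromIncl {L : FormalCoproduct.{u} D} (x : E P L) (i : L.I) :
    ev P x (FormalCoproduct.Hom.fromIncl i (𝟙 (L.obj i))) =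
      Pi.π (fun i : L.I => P.obj (op (L.obj i))) i x := by
  unfold ev
  show (P.map (𝟙 (L.obj i)).op) ((Pi.π (fun i => P.obj (op (L.obj i))) i) x) = _
  rw [op_id, P.map_id]
  rfl

lemma π_Emap {L' L : FormalCoproduct.{u} D} (f : L' ⟶ L) (x : E P L) (i : L'.I) :
    Pi.π (fun i : L'.I => P.obj (op (L'.obj i))) i (Emap P f x) =
      P.map (f.φ i).op (Pi.π (fun i : L.I => P.obj (op (L.obj i))) (f.f i) x) := by
  have h : Emap P f ≫ Pi.π (fun i : L'.I => P.obj (op (L'.obj i))) i =
      Pi.π (fun i : L.I => P.obj (op (L.obj i))) (f.f i) ≫ P.map (f.φ i).op := by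
    simp only [Emap, FormalCoproduct.evalOp_obj_map]
    exact Pi.lift_π _ _
  exact ConcreteCategory.congr_hom h x

lemma ev_Emap {L' L : FormalCoproduct.{u} D} (f : L' ⟶ L) (x : E P L) {V : D}
    (t : (FormalCoproduct.incl D).obj V ⟶ L') : ev P (Emap P f x) t = ev P x (t ≫ f) := by
  unfold ev
  rw [π_Emap]
  show P.map _ (P.map _ _) = P.map ((t.φ PUnit.unit) ≫ f.φ (t.f PUnit.unit)).op _
  rw [op_comp, P.map_comp]
  rfl

lemma ev_res {L : FormalCoproduct.{u} D} (x : E P L) {V V' : D} (g : V' ⟶ V)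
    (t : (FormalCoproduct.incl D).obj V ⟶ L) :
    P.map g.op (ev P x t) = ev P x ((FormalCoproduct.incl D).map g ≫ t) := by
  unfold ev
  show _ = P.map (g ≫ t.φ PUnit.unit).op _
  rw [op_comp, P.map_comp]
  rfl

lemma E_ext {L : FormalCoproduct.{u} D} (x y : E P L)
    (h : ∀ i, Pi.π (fun i : L.I => P.obj (op (L.obj i))) i x =
      Pi.π (fun i : L.I => P.obj (op (L.obj i))) i y) : x = y := by
  apply (Concrete.productEquiv (fun i : L.I => P.obj (op (L.obj i)))).injective
  funext i
  rw [Concrete.productEquiv_apply_apply, Concrete.productEquiv_apply_apply]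
  exact h i

lemma E_ext' {L : FormalCoproduct.{u} D} (x y : E P L)
    (h : ∀ (V : D) (t : (FormalCoproduct.incl D).obj V ⟶ L), ev P x t = ev P y t) : x = y := by
  apply E_ext
  intro i
  rw [← ev_fromIncl, ← ev_fromIncl]
  exact h _ _

end Eval

end Groth.Agent.Lib.Helper43.CechEval
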