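import Mathlib

/-!
Homology of short complexes / homological complexes of abelian groups commutes with
filtered colimits.
-/

open CategoryTheory CategoryTheory.Limits

universe w

namespace Groth.Agent.Lib.Helper43.HomologyFiltered

variable {I : Type w} [SmallCategory I] [IsFiltered I]

instance : PreservesColimitsOfShape I (forget AddCommGrpCat.{w}) :=
  PreservesFilteredColimitsOfSize.preserves_filtered_colimits I

section Gen

variable {A : Type*} [Category A] {D : I ⥤ A} {c : Cocone D} (hc : IsColimit c)
  (P : A ⥤ AddCommGrpCat.{w}) [PreservesColimitsOfShape I P]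

/-- the legs of a cocone, with a clean type. -/
def leg (c : Cocone D) (i : I) : D.obj i ⟶ c.pt := c.ι.app i

lemma leg_w (c : Cocone D) {i k : I} (f : i ⟶ k) : D.map f ≫ leg c k = leg c i := c.w f

include hc in
lemma jointly_surj (x : P.obj c.pt) : ∃ (i : I) (y : P.obj (D.obj i)), P.map (leg c i) y = x := by
  have h := isColimitOfPreserves (P ⋙ forget AddCommGrpCat.{w}) hc
  obtain ⟨i, y, hy⟩ := Types.jointly_surjective _ h x
  exact ⟨i, y, hy⟩

include hc in
lemma eq_of_map_eq {i : I} (y y' : P.obj (D.obj i))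
    (h : P.map (leg c i) y = P.map (leg c i) y') :
    ∃ (k : I) (f : i ⟶ k), P.map (D.map f) y = P.map (D.map f) y' := by
  have h' := isColimitOfPreserves (P ⋙ forget AddCommGrpCat.{w}) hc
  exact (Types.FilteredColimit.isColimit_eq_iff' h' y y').mp h

include hc in
lemma eq_zero_of_map_eq_zero {i : I} (y : P.obj (D.obj i))
    (h : P.map (leg c i) y = 0) :
    ∃ (k : I) (f : i ⟶ k), P.map (D.map f) y = 0 := by
  obtain ⟨k, f, hf⟩ := eq_of_map_eq hc P y 0 (by rw [h, map_zero])
  exact ⟨k, f, by rw [hf, map_zero]⟩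

end Gen

section SC

variable (S : ShortComplex AddCommGrpCat.{w})

lemma exists_cycle (x : S.X₂) (hx : S.g x = 0) : ∃ z : S.cycles, S.iCycles z = x :=
  ⟨S.abCyclesIso.inv ⟨x, hx⟩, S.abCyclesIso_inv_apply_iCycles ⟨x, hx⟩⟩

lemma iCycles_injective : Function.Injective S.iCycles :=
  (AddCommGrpCat.mono_iff_injective _).mp inferInstance

lemma homologyπ_surjective : Function.Surjective S.homologyπ :=
  (AddCommGrpCat.epi_iff_surjective _).mp inferInstance

lemma exists_of_homologyπ_eq_zero (z : S.cycles) (hz : S.homologyπ z = 0) :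
    ∃ x : S.X₁, S.toCycles x = z := by
  let T := ShortComplex.mk S.toCycles S.homologyπ S.toCycles_comp_homologyπ
  have hT : T.Exact := T.exact_of_g_is_cokernel S.homologyIsCokernel
  exact (ShortComplex.ab_exact_iff T).mp hT z hz

end SC

section Main

open ShortComplex

lemma comp_apply' {X Y Z : AddCommGrpCat.{w}} {f : X ⟶ Y} {g : Y ⟶ Z} {k : X ⟶ Z}
    (h : f ≫ g = k) (x : X) : g (f x) = k x := by
  rw [← h]; rfl

lemma comp_apply'' {X Y Z W : AddCommGrpCat.{w}} {f : X ⟶ Y} {g : Y ⟶ Z} {f' : X ⟶ W} {g' : W ⟶ Z}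
    (h : f ≫ g = f' ≫ g') (x : X) : g (f x) = g' (f' x) := by
  have := ConcreteCategory.congr_hom h x
  simpa using this

instance : ReflectsColimitsOfShape I (forget AddCommGrpCat.{w}) :=
  reflectsColimitsOfShape_of_reflectsIsomorphisms

instance preservesHomologySC :
    PreservesColimitsOfShape I (ShortComplex.homologyFunctor AddCommGrpCat.{w}) where
  preservesColimit {D} := ⟨fun {c} hc => ⟨by
    apply isColimitOfReflects (forget AddCommGrpCat.{w})
    apply Types.FilteredColimit.isColimitOf'
    · -- joint surjectivity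
      intro x
      change c.pt.homology at x
      obtain ⟨z, rfl⟩ := homologyπ_surjective c.pt x
      have hz : c.pt.g (c.pt.iCycles z) = 0 := by
        rw [comp_apply' c.pt.iCycles_g z]; rfl
      obtain ⟨i, y, hy⟩ := jointly_surj hc ShortComplex.π₂ (c.pt.iCycles z)
      change (leg c i).τ₂ y = _ at hy
      have h3 : (leg c i).τ₃ ((D.obj i).g y) = 0 := by
        rw [← comp_apply'' (leg c i).comm₂₃ y, hy, hz]
      obtain ⟨k, f, hf⟩ := eq_zero_of_map_eq_zero hc ShortComplex.π₃ _ h3
      change (D.map f).τ₃ ((D.obj i).g y) = 0 at hf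
      let y' : (D.obj k).X₂ := (D.map f).τ₂ y
      have hy' : (D.obj k).g y' = 0 := by
        rw [comp_apply'' (D.map f).comm₂₃ y, hf]
      obtain ⟨z', hz'⟩ := exists_cycle (D.obj k) y' hy'
      refine ⟨k, (D.obj k).homologyπ z', ?_⟩
      change c.pt.homologyπ z = homologyMap (leg c k) ((D.obj k).homologyπ z')
      rw [comp_apply'' (homologyπ_naturality (leg c k)) z']
      congr 1
      apply iCycles_injective
      rw [comp_apply'' (cyclesMap_i (leg c k)) z', hz', ← hy]
      change _ = (leg c k).τ₂ ((D.map f).τ₂ y)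
      have hw : D.map f ≫ leg c k = leg c i := leg_w c f
      rw [← hw]
      rfl
    · -- injectivity
      intro i x x' hxx'
      change (D.obj i).homology at x x'
      change homologyMap (leg c i) x = homologyMap (leg c i) x' at hxx'
      suffices h : ∀ u : (D.obj i).homology, homologyMap (leg c i) u = 0 →
          ∃ (k : I) (f : i ⟶ k), homologyMap (D.map f) u = 0 by
        obtain ⟨k, f, hf⟩ := h (x - x') (by rw [map_sub, hxx', sub_self])
        refine ⟨k, f, ?_⟩
        change homologyMap (D.map f) x = homologyMap (D.map f) x'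
        rw [map_sub, sub_eq_zero] at hf
        exact hf
      intro u hu
      obtain ⟨zi, rfl⟩ := homologyπ_surjective (D.obj i) u
      rw [comp_apply'' (homologyπ_naturality (leg c i)) zi] at hu
      obtain ⟨x₁, hx₁⟩ := exists_of_homologyπ_eq_zero c.pt _ hu
      obtain ⟨j, w, hw⟩ := jointly_surj hc ShortComplex.π₁ x₁
      change (leg c j).τ₁ w = _ at hw
      let k := IsFiltered.max i j
      let f : i ⟶ k := IsFiltered.leftToMax i j
      let g : j ⟶ k := IsFiltered.rightToMax i j
      let a : (D.obj k).X₂ := (D.map f).τ₂ ((D.obj i).iCycles zi)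
      let b : (D.obj k).X₂ := (D.obj k).f ((D.map g).τ₁ w)
      have hfw : D.map f ≫ leg c k = leg c i := leg_w c f
      have hgw : D.map g ≫ leg c k = leg c j := leg_w c g
      have ha : (leg c k).τ₂ a = c.pt.f x₁ := by
        change (leg c k).τ₂ ((D.map f).τ₂ ((D.obj i).iCycles zi)) = _
        have : (leg c k).τ₂ ((D.map f).τ₂ ((D.obj i).iCycles zi)) =
            (leg c i).τ₂ ((D.obj i).iCycles zi) := by
          rw [← hfw]; rfl
        rw [this, ← comp_apply'' (cyclesMap_i (leg c i)) zi, ← hx₁,
          comp_apply' c.pt.toCycles_i x₁]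
      have hb : (leg c k).τ₂ b = c.pt.f x₁ := by
        change (leg c k).τ₂ ((D.obj k).f ((D.map g).τ₁ w)) = _
        rw [← comp_apply'' (leg c k).comm₁₂ ((D.map g).τ₁ w)]
        have : (leg c k).τ₁ ((D.map g).τ₁ w) = (leg c j).τ₁ w := by
          rw [← hgw]; rfl
        rw [this, hw]
      obtain ⟨l, h, hl⟩ := eq_of_map_eq hc ShortComplex.π₂ a b (by
        change (leg c k).τ₂ a = (leg c k).τ₂ b
        rw [ha, hb])
      change (D.map h).τ₂ a = (D.map h).τ₂ b at hl
      refine ⟨l, f ≫ h, ?_⟩
      rw [comp_apply'' (homologyπ_naturality (D.map (f ≫ h))) zi]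
      have key : cyclesMap (D.map (f ≫ h)) zi =
          (D.obj l).toCycles ((D.map (g ≫ h)).τ₁ w) := by
        apply iCycles_injective
        rw [comp_apply'' (cyclesMap_i (D.map (f ≫ h))) zi,
          comp_apply' (D.obj l).toCycles_i]
        have e1 : (D.map (f ≫ h)).τ₂ ((D.obj i).iCycles zi) = (D.map h).τ₂ a := by
          rw [D.map_comp]; rfl
        have e2 : (D.obj l).f ((D.map (g ≫ h)).τ₁ w) = (D.map h).τ₂ b := by
          have e3 : (D.map (g ≫ h)).τ₁ w = (D.map h).τ₁ ((D.map g).τ₁ w) := by
            rw [D.map_comp]; rfl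
          rw [e3]
          exact comp_apply'' (D.map h).comm₁₂ ((D.map g).τ₁ w)
        rw [e1, e2, hl]
      rw [key, comp_apply' (D.obj l).toCycles_comp_homologyπ]
      rfl⟩⟩

end Main

section HC

variable {κ : Type*} (sh : ComplexShape κ) (q : κ)

instance preservesShortComplexFunctor :
    PreservesColimitsOfShape I
      (HomologicalComplex.shortComplexFunctor AddCommGrpCat.{w} sh q) where
  preservesColimit {D} := ⟨fun {cc} hc => ⟨ShortComplex.isColimitOfIsColimitπ _
    (isColimitOfPreserves (HomologicalComplex.eval _ sh (sh.prev q)) hc)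
    (isColimitOfPreserves (HomologicalComplex.eval _ sh q) hc)
    (isColimitOfPreserves (HomologicalComplex.eval _ sh (sh.next q)) hc)⟩⟩

instance preservesHomologyHC :
    PreservesColimitsOfShape I
      (HomologicalComplex.homologyFunctor AddCommGrpCat.{w} sh q) :=
  preservesColimitsOfShape_of_natIso
    (HomologicalComplex.homologyFunctorIso AddCommGrpCat.{w} sh q).symm

end HC

end Groth.Agent.Lib.Helper43.HomologyFiltered
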