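import Mathlib
import Groth.Agent.Lib.Helper73.FilteredSheaf
import Groth.Agent.Lib.Helper43.HomologyFiltered

/-!
Finite products of functors to abelian groups preserving filtered colimits preserve filtered
colimits.
-/

open CategoryTheory CategoryTheory.Limits

universe w

namespace Groth.Agent.Lib.Helper43.PiFiltered

open Groth.Agent.Lib.Helper73 Groth.Agent.Lib.Helper43.HomologyFiltered

variable {I : Type w} [SmallCategory I] [IsFiltered I]
variable {B : Type*} [Category B] {α : Type w} (G : α → (B ⥤ AddCommGrpCat.{w}))

/-- the pointwise product. -/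
noncomputable abbrev piObj (b : B) : AddCommGrpCat.{w} := ∏ᶜ fun a => (G a).obj b

/-- the pointwise product of a family of functors. -/
noncomputable def piFunctor : B ⥤ AddCommGrpCat.{w} where
  obj b := piObj G b
  map f := Limits.Pi.map fun a => (G a).map f
  map_id := by intro b; ext; simp
  map_comp := by intros; ext; simp

lemma π_map_apply {b b' : B} (f : b ⟶ b') (a : α) (x : piObj G b) :
    Pi.π (fun a => (G a).obj b') a ((piFunctor G).map f x) =
      (G a).map f (Pi.π (fun a => (G a).obj b) a x) :=
  comp_apply'' (Limits.Pi.map_π (fun a => (G a).map f) a) x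

lemma pi_ext {b : B} (x y : piObj G b)
    (h : ∀ a, Pi.π (fun a => (G a).obj b) a x = Pi.π (fun a => (G a).obj b) a y) : x = y := by
  apply (Concrete.productEquiv (fun a => (G a).obj b)).injective
  funext a
  rw [Concrete.productEquiv_apply_apply, Concrete.productEquiv_apply_apply]
  exact h a

theorem preserves_pi [Finite α] [∀ a, PreservesColimitsOfShape I (G a)] :
    PreservesColimitsOfShape I (piFunctor G) where
  preservesColimit {D} := ⟨fun {c} hc => ⟨by
    apply isColimitOfReflects (forget AddCommGrpCat.{w})
    have ht : ∀ a, IsColimit ((G a ⋙ forget AddCommGrpCat.{w}).mapCocone c) :=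
      fun a => isColimitOfPreserves _ hc
    apply Types.FilteredColimit.isColimitOf'
    · intro x
      change piObj G c.pt at x
      obtain ⟨j, y, hy⟩ := exists_lift_finite ht (fun a => Pi.π (fun a => (G a).obj c.pt) a x)
      refine ⟨j, (Concrete.productEquiv (fun a => (G a).obj (D.obj j))).symm y, ?_⟩
      apply pi_ext
      intro a
      change _ = Pi.π (fun a => (G a).obj c.pt) a ((piFunctor G).map (c.ι.app j) _)
      rw [π_map_apply, Concrete.productEquiv_symm_apply_π]
      exact (hy a).symm
    · intro i x x' h
      change piObj G (D.obj i) at x x'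
      change (piFunctor G).map (c.ι.app i) x = (piFunctor G).map (c.ι.app i) x' at h
      obtain ⟨j', f, hf⟩ := exists_map_eq_finite ht
        (fun a => Pi.π (fun a => (G a).obj (D.obj i)) a x)
        (fun a => Pi.π (fun a => (G a).obj (D.obj i)) a x') (fun a => by
          change (G a).map (c.ι.app i) _ = (G a).map (c.ι.app i) _
          rw [← π_map_apply, ← π_map_apply, h])
      refine ⟨j', f, ?_⟩
      change (piFunctor G).map (D.map f) x = (piFunctor G).map (D.map f) x'
      apply pi_ext
      intro a
      rw [π_map_apply, π_map_apply]
      exact hf a⟩⟩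

end Groth.Agent.Lib.Helper43.PiFiltered
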