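import Mathlib
import Groth.Prelude.Def_CechTot
import Groth.Agent.Lib.Helper43.PiFiltered

/-!
# The Čech complex functor (values in abelian groups) is exact

Short exact sequences of presheaves of abelian groups give short exact sequences of Čech
complexes, hence long exact sequences of Čech cohomology; two vanishing consequences.
-/

universe u
open CategoryTheory CategoryTheory.Limits Opposite

namespace Groth.Agent.Lib.Helper43.CechExact

open Groth.Agent.Lib.Helper43.PiFiltered

section Pi

variable {B : Type*} [Category B] [Abelian B] {α : Type u}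
  (G : α → (B ⥤ AddCommGrpCat.{u}))

instance piFunctor_preservesZero [∀ a, (G a).PreservesZeroMorphisms] :
    (piFunctor G).PreservesZeroMorphisms where
  map_zero X Y := by
    change Limits.Pi.map (fun a => (G a).map (0 : X ⟶ Y)) = 0
    apply Limits.Pi.hom_ext
    intro a
    simp

lemma π_zero (b : B) (a : α) :
    Pi.π (fun a => (G a).obj b) a (0 : piObj G b) = 0 := map_zero _

theorem pi_shortExact [∀ a, (G a).PreservesZeroMorphisms] (S : ShortComplex B)
    (h : ∀ a, (S.map (G a)).ShortExact) : (S.map (piFunctor G)).ShortExact := by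
  have hex : ∀ a, ∀ x₂ : (G a).obj S.X₂, (G a).map S.g x₂ = 0 →
      ∃ x₁ : (G a).obj S.X₁, (G a).map S.f x₁ = x₂ :=
    fun a => (ShortComplex.ab_exact_iff _).mp (h a).exact
  have hinj : ∀ a, Function.Injective ((G a).map S.f) :=
    fun a => (AddCommGrpCat.mono_iff_injective _).mp (h a).mono_f
  have hsurj : ∀ a, Function.Surjective ((G a).map S.g) :=
    fun a => (AddCommGrpCat.epi_iff_surjective _).mp (h a).epi_g
  have hexact : (S.map (piFunctor G)).Exact := by
    rw [ShortComplex.ab_exact_iff]
    intro x₂ hx₂
    change piObj G S.X₂ at x₂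
    change (piFunctor G).map S.g x₂ = 0 at hx₂
    have h1 : ∀ a, ∃ x₁ : (G a).obj S.X₁,
        (G a).map S.f x₁ = Pi.π (fun a => (G a).obj S.X₂) a x₂ := fun a => by
      apply hex a
      rw [← π_map_apply, hx₂]
      exact π_zero G _ a
    choose y hy using h1
    refine ⟨(Concrete.productEquiv (fun a => (G a).obj S.X₁)).symm y, ?_⟩
    change (piFunctor G).map S.f _ = x₂
    apply pi_ext
    intro a
    rw [π_map_apply, Concrete.productEquiv_symm_apply_π]
    exact hy a
  have hmono : Mono (S.map (piFunctor G)).f := by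
    rw [AddCommGrpCat.mono_iff_injective, injective_iff_map_eq_zero]
    intro x hx
    change piObj G S.X₁ at x
    change (piFunctor G).map S.f x = 0 at hx
    refine pi_ext G x (0 : piObj G S.X₁) (fun a => ?_)
    rw [π_zero]
    apply hinj a
    rw [← π_map_apply, hx, map_zero]
    exact π_zero G _ a
  have hepi : Epi (S.map (piFunctor G)).g := by
    rw [AddCommGrpCat.epi_iff_surjective]
    intro y
    change piObj G S.X₃ at y
    have h1 : ∀ a, ∃ x : (G a).obj S.X₂,
        (G a).map S.g x = Pi.π (fun a => (G a).obj S.X₃) a y := fun a => hsurj a _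
    choose z hz using h1
    refine ⟨(Concrete.productEquiv (fun a => (G a).obj S.X₂)).symm z, ?_⟩
    change (piFunctor G).map S.g _ = y
    apply pi_ext
    intro a
    rw [π_map_apply, Concrete.productEquiv_symm_apply_π]
    exact hz a
  exact { exact := hexact, mono_f := hmono, epi_g := hepi }

end Pi

section Cech

variable {C : Type u} [SmallCategory C] [HasFiniteProducts C] {ι : Type u} (U : ι → C)

/-- the degree `n` part of the Čech complex, as a functor. -/
noncomputable def degFunctor (n : ℕ) : (Cᵒᵖ ⥤ AddCommGrpCat.{u}) ⥤ AddCommGrpCat.{u} :=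
  piFunctor (fun x : Fin (n + 1) → ι =>
    (evaluation Cᵒᵖ AddCommGrpCat.{u}).obj (op (∏ᶜ (U ∘ x))))

instance (n : ℕ) : (degFunctor U n).PreservesZeroMorphisms := by
  unfold degFunctor
  infer_instance

/-- identification with the degree `n` part of Mathlib's Čech complex functor -/
noncomputable def degIso (n : ℕ) :
    degFunctor U n ≅ cechComplexFunctor U ⋙ HomologicalComplex.eval _ _ n :=
  NatIso.ofComponents (fun F => Iso.refl _) (by
    intro F F' α
    simp only [Iso.refl_hom, Category.id_comp]
    rfl)

theorem cech_shortExact (S : ShortComplex (Cᵒᵖ ⥤ AddCommGrpCat.{u})) (hS : S.ShortExact) :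
    (S.map (cechComplexFunctor U)).ShortExact := by
  apply HomologicalComplex.shortExact_of_degreewise_shortExact
  intro n
  have h1 : (S.map (degFunctor U n)).ShortExact :=
    pi_shortExact _ S (fun x => hS.map_of_exact _)
  exact ShortComplex.shortExact_of_iso (S.mapNatIso (degIso U n)) h1

/-- Čech cohomology. -/
noncomputable abbrev H (P : Cᵒᵖ ⥤ AddCommGrpCat.{u}) (q : ℕ) : AddCommGrpCat.{u} :=
  ((cechComplexFunctor U).obj P).homology q

/-- middle term vanishing -/
theorem isZero_mid (S : ShortComplex (Cᵒᵖ ⥤ AddCommGrpCat.{u})) (hS : S.ShortExact) (q : ℕ)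
    (h1 : IsZero (H U S.X₁ q)) (h3 : IsZero (H U S.X₃ q)) : IsZero (H U S.X₂ q) :=
  ((cech_shortExact U S hS).homology_exact₂ q).isZero_of_both_isZero h1 h3

/-- left term vanishing -/
theorem isZero_left (S : ShortComplex (Cᵒᵖ ⥤ AddCommGrpCat.{u})) (hS : S.ShortExact) (q : ℕ)
    (h2 : IsZero (H U S.X₂ (q + 1))) (h3 : IsZero (H U S.X₃ q)) : IsZero (H U S.X₁ (q + 1)) :=
  ((cech_shortExact U S hS).homology_exact₁ q (q + 1) (by simp)).isZero_of_both_isZero h3 h2

end Cech

end Groth.Agent.Lib.Helper43.CechExact
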