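import Mathlib
import Groth.Agent.S14632
import Groth.Agent.Lib.Helper43.HomologyFiltered

/-!
Sections of abelian étale sheaves over quasi-compact quasi-separated objects commute with
filtered colimits.
-/

universe u
open CategoryTheory CategoryTheory.Limits AlgebraicGeometry Opposite

namespace Groth.Agent.Lib.Helper43.QcAb

open Groth.Agent.Lib.Helper73 Groth.Agent.Lib.Helper43.HomologyFiltered

variable {X : Scheme.{u}} {I : Type (u + 1)} [SmallCategory I] [IsFiltered I]

abbrev J (X : Scheme.{u}) := X.smallEtaleTopology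


/-- the quasi-compact quasi-separated condition (on the underlying spaces). -/
theorem hasFiniteSubcoversQS (W : X.Etale) [CompactSpace ↥(W.left)]
    [QuasiSeparatedSpace ↥(W.left)] : HasFiniteSubcoversQS (J X) W := by
  intro S hS
  obtain ⟨n, V, g, h1, h2, h3⟩ := Groth.Agent.S14632.exists_finite_affine_subcover W S hS
  refine ⟨n, V, g, h1, h2, fun k l => ?_⟩
  have := h3 k
  have := h3 l
  have := Groth.Agent.S14632.compactSpace_pullback_left (g k) (g l)
  exact Groth.Agent.S14632.hasFiniteSubcovers_of_compactSpace _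

theorem preservesColimitsOfShape_sections (W : X.Etale) [CompactSpace ↥(W.left)]
    [QuasiSeparatedSpace ↥(W.left)] :
    PreservesColimitsOfShape I
      (sheafToPresheaf (J X) AddCommGrpCat.{u + 1} ⋙ (evaluation X.Etaleᵒᵖ AddCommGrpCat.{u + 1}).obj (op W)) where
  preservesColimit {D} := by
    let c := colimit.cocone (D ⋙ sheafToPresheaf (J X) AddCommGrpCat.{u + 1})
    have hc : IsColimit c := colimit.isColimit _
    apply preservesColimit_of_preserves_colimit_cocone (Sheaf.isColimitSheafifyCocone c hc)
    let Wh := (Functor.whiskeringRight X.Etaleᵒᵖ AddCommGrpCat.{u + 1} (Type (u + 1))).obj (forget AddCommGrpCat.{u + 1})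
    have hc' : IsColimit (Wh.mapCocone c) := isColimitOfPreserves Wh hc
    have hP : IsSheafForFiniteCovers (J X) (c.pt ⋙ forget AddCommGrpCat.{u + 1}) :=
      isSheafForFiniteCovers_of_isColimit (J X) hc' fun i =>
        (isSheaf_iff_isSheaf_of_type _ _).mp
          ((Presheaf.isSheaf_iff_isSheaf_forget (J X) _ (forget AddCommGrpCat.{u + 1})).mp (D.obj i).property)
    have hQ : Presieve.IsSheaf (J X) (sheafify (J X) c.pt ⋙ forget AddCommGrpCat.{u + 1}) :=
      (isSheaf_iff_isSheaf_of_type _ _).mp
        ((Presheaf.isSheaf_iff_isSheaf_forget (J X) _ (forget AddCommGrpCat.{u + 1})).mp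
          ((presheafToSheaf (J X) AddCommGrpCat.{u + 1}).obj c.pt).property)
    have hbij := bijective_app_of_hasFiniteSubcoversQS
      (Functor.whiskerRight (toSheafify (J X) c.pt) (forget AddCommGrpCat.{u + 1})) hP hQ (hasFiniteSubcoversQS W)
    have hiso : IsIso ((toSheafify (J X) c.pt).app (op W)) :=
      (ConcreteCategory.isIso_iff_bijective _).mpr hbij
    refine IsColimit.ofIsoColimit (isColimitOfPreserves ((evaluation X.Etaleᵒᵖ AddCommGrpCat.{u + 1}).obj (op W)) hc)
      (Cocone.ext (@asIso _ _ _ _ ((toSheafify (J X) c.pt).app (op W)) hiso) (fun i => ?_))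
    dsimp
    rw [Sheaf.sheafifyCocone_ι_app_val]
    rfl

end Groth.Agent.Lib.Helper43.QcAb
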