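import Mathlib
import Groth.Statements.S14630

/-!
Finite products in `Over U` (for `U` in the small étale site) of quasi-compact quasi-separated
objects are quasi-compact quasi-separated.
-/

universe u
open CategoryTheory CategoryTheory.Limits AlgebraicGeometry Opposite

namespace Groth.Agent.Lib.Helper43.QcProd

variable {X : Scheme.{u}} (U : X.Etale)

/-- the forgetful functor to schemes. -/
abbrev Fg (X : Scheme.{u}) : X.Etale ⥤ Scheme.{u} := Scheme.Etale.forget X ⋙ Over.forget X

/-- the property of having a quasi-compact quasi-separated underlying scheme. -/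
def Q : ObjectProperty (Over U) :=
  fun A => CompactSpace ↥(A.left.left) ∧ QuasiSeparatedSpace ↥(A.left.left)

lemma qcqs_of_iso {S T : Scheme.{u}} (e : S ≅ T) (_ : CompactSpace ↥S)
    (_ : QuasiSeparatedSpace ↥S) :
    CompactSpace ↥T ∧ QuasiSeparatedSpace ↥T := by
  constructor
  · exact e.hom.homeomorph.compactSpace
  · exact e.inv.homeomorph.isOpenEmbedding.quasiSeparatedSpace

instance : (Q U).IsClosedUnderIsomorphisms where
  of_iso {A B} e hA := by
    obtain ⟨h1, h2⟩ := hA
    exact qcqs_of_iso ((Over.forget U ⋙ Fg X).mapIso e) h1 h2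

variable [CompactSpace ↥(U.left)] [QuasiSeparatedSpace ↥(U.left)]

instance : (Q U).IsClosedUnderLimitsOfShape (Discrete.{0} PEmpty) where
  limitsOfShape_le := by
    rintro A ⟨p⟩
    have hA : IsTerminal A :=
      (IsLimit.equivOfNatIsoOfIso p.diag.uniqueFromEmpty _ _
        (by exact Cone.ext (Iso.refl _) (by rintro ⟨⟨⟩⟩))).1 p.isLimit
    have e : Over.mk (𝟙 U) ≅ A := IsLimit.conePointUniqueUpToIso Over.mkIdTerminal hA
    exact (Q U).prop_of_iso e ⟨inferInstanceAs (CompactSpace ↥(U.left)),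
      inferInstanceAs (QuasiSeparatedSpace ↥(U.left))⟩

lemma qcqs_pullback {A B S : Scheme.{u}} (f : A ⟶ S) (g : B ⟶ S) (_ : CompactSpace ↥A)
    (_ : QuasiSeparatedSpace ↥A) (_ : CompactSpace ↥B) (_ : QuasiSeparatedSpace ↥B)
    (_ : QuasiSeparatedSpace ↥S) :
    CompactSpace ↥(pullback f g) ∧ QuasiSeparatedSpace ↥(pullback f g) := by
  constructor
  · infer_instance
  · exact quasiSeparatedSpace_of_quasiSeparated (pullback.fst f g)

lemma Q_prod (A B : Over U) (hA : Q U A) (hB : Q U B) : Q U (A ⨯ B) := by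
  obtain ⟨h1, h2⟩ := hA
  obtain ⟨h3, h4⟩ := hB
  let e1 : (A ⨯ B).left ≅ pullback A.hom B.hom := Over.prodLeftIsoPullback A B
  let e2 : (Fg X).obj (pullback A.hom B.hom) ≅ pullback ((Fg X).map A.hom) ((Fg X).map B.hom) :=
    PreservesPullback.iso (Fg X) A.hom B.hom
  have := qcqs_pullback ((Fg X).map A.hom) ((Fg X).map B.hom) h1 h2 h3 h4
    (inferInstanceAs (QuasiSeparatedSpace ↥(U.left)))
  obtain ⟨h5, h6⟩ := this
  exact qcqs_of_iso ((Fg X).mapIso e1 ≪≫ e2).symm h5 h6

instance : (Q U).IsClosedUnderBinaryProducts where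
  limitsOfShape_le := by
    rintro A ⟨p⟩
    let e : A ≅ p.diag.obj ⟨.left⟩ ⨯ p.diag.obj ⟨.right⟩ :=
      p.isLimit.conePointUniqueUpToIso (limit.isLimit _) ≪≫
        HasLimit.isoOfNatIso (diagramIsoPair p.diag)
    exact (Q U).prop_of_iso e.symm (Q_prod U _ _ (p.prop_diag_obj _) (p.prop_diag_obj _))

instance : (Q U).IsClosedUnderFiniteProducts := ObjectProperty.IsClosedUnderFiniteProducts.mk'

/-- finite products of qcqs objects over `U` are qcqs. -/
theorem qcqs_product {α : Type*} [Finite α] (f : α → Over U) [HasProduct f]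
    (h : ∀ a, CompactSpace ↥((f a).left.left) ∧ QuasiSeparatedSpace ↥((f a).left.left)) :
    CompactSpace ↥((∏ᶜ f).left.left) ∧ QuasiSeparatedSpace ↥((∏ᶜ f).left.left) :=
  (Q U).prop_product h

end Groth.Agent.Lib.Helper43.QcProd
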