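import Mathlib
import Groth.Statements.S14630
import Groth.Agent.Lib.Helper43.HomologyFiltered
import Groth.Agent.Lib.Helper43.PiFiltered
import Groth.Agent.Lib.Helper43.QcAb
import Groth.Agent.Lib.Helper43.QcProd

/-!
Čech cohomology of a finite family of qcqs étale objects commutes with filtered colimits of
abelian étale sheaves.
-/

universe u
open CategoryTheory CategoryTheory.Limits AlgebraicGeometry Opposite

namespace Groth.Agent.Lib.Helper43.CechFiltered

open Groth.Agent.Lib.Helper43.HomologyFiltered Groth.Agent.Lib.Helper43.PiFiltered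
  Groth.Agent.Lib.Helper43.QcAb Groth.Agent.Lib.Helper43.QcProd

theorem main (X : Scheme.{u}) [CompactSpace ↥X]
    [QuasiSeparatedSpace ↥X] (U : X.Etale) [QuasiCompact U.hom] [QuasiSeparated U.hom]
    [HasFiniteProducts (Over U)] (ι : Type (u + 1)) [Finite ι] (Uf : ι → Over U)
    [∀ i, QuasiCompact (Uf i).left.hom] [∀ i, QuasiSeparated (Uf i).left.hom]
    (q : ℕ) (I : Type (u + 1)) [SmallCategory I] [IsFiltered I] :
    PreservesColimitsOfShape I
      (sheafToPresheaf X.smallEtaleTopology AddCommGrpCat.{u + 1} ⋙ EtCech.cechHFunctor Uf q) := by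
  have hcU : CompactSpace ↥(U.left) :=
    @QuasiCompact.compactSpace_of_compactSpace U.left X U.hom inferInstance ‹CompactSpace ↥X›
  have hqU : QuasiSeparatedSpace ↥(U.left) :=
    @quasiSeparatedSpace_of_quasiSeparated U.left X U.hom ‹QuasiSeparatedSpace ↥X› inferInstance
  have hUf : ∀ a, CompactSpace ↥((Uf a).left.left) ∧ QuasiSeparatedSpace ↥((Uf a).left.left) :=
    fun a => ⟨@QuasiCompact.compactSpace_of_compactSpace (Uf a).left.left X (Uf a).left.hom
        inferInstance ‹CompactSpace ↥X›,
      @quasiSeparatedSpace_of_quasiSeparated (Uf a).left.left X (Uf a).left.hom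
        ‹QuasiSeparatedSpace ↥X› inferInstance⟩
  let K : Sheaf X.smallEtaleTopology AddCommGrpCat.{u + 1} ⥤
      CochainComplex AddCommGrpCat.{u + 1} ℕ :=
    sheafToPresheaf X.smallEtaleTopology AddCommGrpCat.{u + 1} ⋙
      (Functor.whiskeringLeft (Over U)ᵒᵖ X.Etaleᵒᵖ AddCommGrpCat.{u + 1}).obj (Over.forget U).op ⋙
      cechComplexFunctor Uf
  have hK : PreservesColimitsOfShape I K := by
    apply HomologicalComplex.preservesColimitsOfShape_of_eval
    intro n
    let G : (Fin (n + 1) → ι) → (Sheaf X.smallEtaleTopology AddCommGrpCat.{u + 1} ⥤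
        AddCommGrpCat.{u + 1}) := fun i =>
      sheafToPresheaf X.smallEtaleTopology AddCommGrpCat.{u + 1} ⋙
        (evaluation X.Etaleᵒᵖ AddCommGrpCat.{u + 1}).obj (op (∏ᶜ (Uf ∘ i)).left)
    have hG : ∀ i, PreservesColimitsOfShape I (G i) := fun i => by
      obtain ⟨h1, h2⟩ := qcqs_product U (Uf ∘ i) (fun a => hUf (i a))
      exact preservesColimitsOfShape_sections _
    have hpi : PreservesColimitsOfShape I (piFunctor G) := preserves_pi G
    exact preservesColimitsOfShape_of_natIso
      (NatIso.ofComponents (fun F => Iso.refl _) (by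
        intro F F' α
        simp only [Iso.refl_hom, Category.comp_id, Category.id_comp]
        rfl) : piFunctor G ≅ K ⋙ HomologicalComplex.eval _ _ n)
  change PreservesColimitsOfShape I (K ⋙ HomologicalComplex.homologyFunctor _ _ q)
  infer_instance

end Groth.Agent.Lib.Helper43.CechFiltered
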