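import Groth.Agent.Lib.Helper43.CechEval
import Groth.Prelude.Def_Hyper

/-!
# `H⁰` of the Čech complex of a hypercovering
-/

set_option autoImplicit false
set_option linter.deprecated false
universe u
open CategoryTheory CategoryTheory.Limits Opposite Simplicial
open Groth.Agent.Lib.Helper43.CechEval

namespace Groth.Agent.Lib.Helper43.CechH0

variable {C : Type u} [SmallCategory C] (X : C)
  (K : SimplicialObject (FormalCoproduct.{u} (Over X)))
  (Q : Cᵒᵖ ⥤ AddCommGrpCat.{u})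

lemma alt_d_zero (Xc : CosimplicialObject AddCommGrpCat.{u}) :
    ((AlgebraicTopology.alternatingCofaceMapComplex AddCommGrpCat.{u}).obj Xc).d 0 1 =
      Xc.δ (0 : Fin 2) - Xc.δ (1 : Fin 2) := by
  have h := CochainComplex.of_d (fun n => Xc.obj ⦋n⦌)
    (AlgebraicTopology.AlternatingCofaceMapComplex.objD Xc) 0
  refine Eq.trans h ?_
  show (∑ i : Fin 2, (-1 : ℤ) ^ (i : ℕ) • Xc.δ i) = _
  rw [Fin.sum_univ_two]
  simp only [Fin.val_zero, pow_zero, one_smul, Fin.val_one, pow_one, neg_smul]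
  rw [← sub_eq_add_neg]

lemma cechCx_d_zero :
    (Hyper.cechCx X K Q).d 0 1 =
      Emap ((Over.forget X).op ⋙ Q) (K.δ (0 : Fin 2)) -
        Emap ((Over.forget X).op ⋙ Q) (K.δ (1 : Fin 2)) :=
  alt_d_zero _

section Main

variable (J : GrothendieckTopology C) (F : Sheaf J AddCommGrpCat.{u})

/-- The restriction map `F(X) ⟶ ∏ F(K_0,i)`. -/
noncomputable def ι : F.obj.obj (op X) ⟶ E ((Over.forget X).op ⋙ F.obj) (K.obj (op ⦋0⦌)) :=
  Pi.lift (fun i => F.obj.map ((K.obj (op ⦋0⦌)).obj i).hom.op)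

lemma ev_ι (s : F.obj.obj (op X)) {V : Over X}
    (t : (FormalCoproduct.incl (Over X)).obj V ⟶ K.obj (op ⦋0⦌)) :
    ev ((Over.forget X).op ⋙ F.obj) (ι X K J F s) t = F.obj.map V.hom.op s := by
  unfold ev
  have h1 : Pi.π (fun i : (K.obj (op ⦋0⦌)).I =>
      ((Over.forget X).op ⋙ F.obj).obj (op ((K.obj (op ⦋0⦌)).obj i))) (t.f PUnit.unit) (ι X K J F s) =
      F.obj.map ((K.obj (op ⦋0⦌)).obj (t.f PUnit.unit)).hom.op s :=
    ConcreteCategory.congr_hom (Pi.lift_π _ _) s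
  rw [h1]
  show F.obj.map (t.φ PUnit.unit).left.op (F.obj.map _ s) = _
  rw [← ConcreteCategory.comp_apply, ← F.obj.map_comp, ← op_comp, Over.w]
  rfl

lemma sep_over (hF : Presieve.IsSheaf J (F.obj ⋙ forget AddCommGrpCat.{u})) {W : Over X}
    (R : Sieve W) (hR : R ∈ (J.over X) W) (a b : F.obj.obj (op W.left))
    (h : ∀ ⦃V : Over X⦄ (g : V ⟶ W), R g →
      ((Over.forget X).op ⋙ F.obj).map g.op a = ((Over.forget X).op ⋙ F.obj).map g.op b) :
    a = b := by
  rw [GrothendieckTopology.mem_over_iff] at hR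
  refine (hF _ hR).isSeparatedFor.ext ?_
  intro Z k hk
  rw [Sieve.overEquiv_iff] at hk
  exact h _ hk

variable [HasPullbacks C]
  [∀ (n : ℕ) (G : (SimplexCategory.Truncated n)ᵒᵖ ⥤ FormalCoproduct.{u} (Over X)),
    (SimplexCategory.Truncated.inclusion n).op.HasRightKanExtension G]

theorem cechH_zero (hK : Hyper.IsHypercovering J X K) :
    Nonempty (Hyper.cechH X K F.obj 0 ≅ F.obj.obj (op X)) := by
  obtain ⟨h0, hn⟩ := hK
  have hρ : Hyper.IsSRCovering (J.over X)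
      ((HyperSite.ρ K).app (op (SimplexCategory.mk (0 + 1)))) := by
    obtain ⟨e, he⟩ := HyperSite.exists_iso_unit_ρ K
    rw [← he]
    exact SRCov.comp _ _ _ (hn 0) (SRCov.of_iso _ e)
  have hF : Presieve.IsSheaf J (F.obj ⋙ forget AddCommGrpCat.{u}) :=
    (isSheaf_iff_isSheaf_of_type J _).mp
      ((Presheaf.isSheaf_iff_isSheaf_forget J F.obj (forget _)).mp F.property)
  have hsh := (Presieve.isSheafFor_arrows_iff (P := F.obj ⋙ forget AddCommGrpCat.{u})
    (π := fun i => ((K.obj (op ⦋0⦌)).obj i).hom)).mp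
    ((Presieve.isSheafFor_iff_generate _).mpr (hF _ h0))
  have w' : ι X K J F ≫ (Emap ((Over.forget X).op ⋙ F.obj) (K.δ (0 : Fin 2)) -
        Emap ((Over.forget X).op ⋙ F.obj) (K.δ (1 : Fin 2))) = 0 := by
    rw [Preadditive.comp_sub, sub_eq_zero]
    apply ConcreteCategory.hom_ext
    intro s
    apply E_ext'
    intro V t
    show ev _ (Emap _ (K.δ (0 : Fin 2)) (ι X K J F s)) t = ev _ (Emap _ (K.δ (1 : Fin 2)) (ι X K J F s)) t
    rw [ev_Emap, ev_Emap, ev_ι, ev_ι]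
  let ι' : F.obj.obj (op X) ⟶ (Hyper.cechCx X K F.obj).X 0 := ι X K J F
  have w : ι' ≫ (Hyper.cechCx X K F.obj).d 0 1 = 0 := by
    rw [cechCx_d_zero]
    exact w'
  have hmono : Mono (ι X K J F) := by
    rw [AddCommGrpCat.mono_iff_injective]
    intro s s' hss
    obtain ⟨t, -, ht⟩ := hsh (fun i => F.obj.map ((K.obj (op ⦋0⦌)).obj i).hom.op s) (by
      intro i j Z gi gj hij
      show F.obj.map gi.op (F.obj.map _ s) = F.obj.map gj.op (F.obj.map _ s)
      rw [← ConcreteCategory.comp_apply, ← ConcreteCategory.comp_apply, ← F.obj.map_comp,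
        ← F.obj.map_comp, ← op_comp, ← op_comp, hij])
    have e1 : s = t := ht s (fun i => rfl)
    have e2 : s' = t := ht s' (fun i => by
      have := congrArg (Pi.π (fun i : (K.obj (op ⦋0⦌)).I =>
        ((Over.forget X).op ⋙ F.obj).obj (op ((K.obj (op ⦋0⦌)).obj i))) i) hss
      have h1 : ∀ r, Pi.π (fun i : (K.obj (op ⦋0⦌)).I =>
          ((Over.forget X).op ⋙ F.obj).obj (op ((K.obj (op ⦋0⦌)).obj i))) i (ι X K J F r) =
          F.obj.map ((K.obj (op ⦋0⦌)).obj i).hom.op r :=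
        fun r => ConcreteCategory.congr_hom (Pi.lift_π _ _) r
      rw [h1, h1] at this
      exact this.symm)
    rw [e1, e2]
  haveI : Mono ι' := hmono
  apply homologyZeroIso (Hyper.cechCx X K F.obj) ι' w
  rw [ShortComplex.ab_exact_iff]
  intro x hx
  have hx2 : (ConcreteCategory.hom ((Hyper.cechCx X K F.obj).d 0 1)) x = 0 := hx
  rw [cechCx_d_zero] at hx2
  have hx3 : Emap ((Over.forget X).op ⋙ F.obj) (K.δ (0 : Fin 2)) x =
      Emap ((Over.forget X).op ⋙ F.obj) (K.δ (1 : Fin 2)) x := by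
    have : (Emap ((Over.forget X).op ⋙ F.obj) (K.δ (0 : Fin 2))).hom x -
        (Emap ((Over.forget X).op ⋙ F.obj) (K.δ (1 : Fin 2))).hom x = 0 := hx2
    exact sub_eq_zero.mp this
  -- values of `x` at points of `K_1`
  have hx4 : ∀ {V : Over X} (t : (FormalCoproduct.incl (Over X)).obj V ⟶ K.obj (op ⦋0 + 1⦌)),
      ev ((Over.forget X).op ⋙ F.obj) x (t ≫ K.δ (0 : Fin 2)) =
        ev ((Over.forget X).op ⋙ F.obj) x (t ≫ K.δ (1 : Fin 2)) := by
    intro V t
    rw [← ev_Emap, ← ev_Emap, hx3]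
  -- the family is compatible
  obtain ⟨s, hs, -⟩ := hsh (fun i => Pi.π (fun i : (K.obj (op ⦋0⦌)).I =>
      ((Over.forget X).op ⋙ F.obj).obj (op ((K.obj (op ⦋0⦌)).obj i))) i x) (by
    intro i j Z gi gj hij
    let W : Over X := Over.mk (gi ≫ ((K.obj (op ⦋0⦌)).obj i).hom)
    let c₁ : (FormalCoproduct.incl (Over X)).obj W ⟶ K.obj (op ⦋0⦌) :=
      FormalCoproduct.Hom.fromIncl i (Over.homMk gi rfl)
    let c₂ : (FormalCoproduct.incl (Over X)).obj W ⟶ K.obj (op ⦋0⦌) :=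
      FormalCoproduct.Hom.fromIncl j (Over.homMk gj hij.symm)
    show ev ((Over.forget X).op ⋙ F.obj) x c₁ = ev ((Over.forget X).op ⋙ F.obj) x c₂
    let c : (FormalCoproduct.incl (Over X)).obj W ⟶
        (cechNerveTerminalFrom (K.obj (op ⦋0⦌))).obj (op (SimplexCategory.mk (0 + 1))) :=
      Pi.lift (fun l : Fin 2 => ![c₁, c₂] l)
    have hc0 : c ≫ Pi.π (fun _ : Fin 2 => K.obj (op ⦋0⦌)) 0 = c₁ := Pi.lift_π _ _
    have hc1 : c ≫ Pi.π (fun _ : Fin 2 => K.obj (op ⦋0⦌)) 1 = c₂ := Pi.lift_π _ _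
    have hρ0 : (HyperSite.ρ K).app (op (SimplexCategory.mk (0 + 1))) ≫
        Pi.π (fun _ : Fin 2 => K.obj (op ⦋0⦌)) 0 = K.δ (1 : Fin 2) := by
      have := HyperSite.ρ_π K (op (SimplexCategory.mk (0 + 1))) 0
      rw [this, SimplicialObject.δ, SimplexCategory.δ_one_eq_const]
    have hρ1 : (HyperSite.ρ K).app (op (SimplexCategory.mk (0 + 1))) ≫
        Pi.π (fun _ : Fin 2 => K.obj (op ⦋0⦌)) 1 = K.δ (0 : Fin 2) := by
      have := HyperSite.ρ_π K (op (SimplexCategory.mk (0 + 1))) 1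
      rw [this, SimplicialObject.δ, SimplexCategory.δ_zero_eq_const]
    refine sep_over X J F hF _ (SRLoc.liftSieve_mem (J.over X) _ hρ c) _ _ ?_
    rintro V g ⟨t, ht⟩
    rw [ev_res, ev_res, ← hc0, ← hc1, ← Category.assoc, ← Category.assoc, ← ht,
      Category.assoc, Category.assoc, hρ0, hρ1]
    exact (hx4 t).symm)
  let s' : F.obj.obj (op X) := s
  refine ⟨s', ?_⟩
  apply E_ext
  intro i
  have h1 : Pi.π (fun i : (K.obj (op ⦋0⦌)).I =>
      ((Over.forget X).op ⋙ F.obj).obj (op ((K.obj (op ⦋0⦌)).obj i))) i (ι X K J F s') =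
      F.obj.map ((K.obj (op ⦋0⦌)).obj i).hom.op s' :=
    ConcreteCategory.congr_hom (Pi.lift_π _ _) s'
  exact h1.trans (hs i)

end Main

end Groth.Agent.Lib.Helper43.CechH0
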