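import Groth.Agent.Lib.Helper43.CechH0

/-!
# `H⁰` of the Čech complex of a Verdier hypercovering of the final object
-/

set_option autoImplicit false
set_option linter.deprecated false
universe u
open CategoryTheory CategoryTheory.Limits Opposite Simplicial
open Groth.Agent.Lib.Helper43.CechEval

namespace Groth.Agent.Lib.Helper43.CechH0Site

variable {C : Type u} [SmallCategory C]

section Val

variable (P : Cᵒᵖ ⥤ AddCommGrpCat.{u})

/-- the component of `x` at `i`, as an element of the underlying presheaf of sets -/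
noncomputable def pt {L : FormalCoproduct.{u} C} (x : E P L) (i : L.I) :
    (P ⋙ forget AddCommGrpCat.{u}).obj (op (L.obj i)) :=
  Pi.π (fun i : L.I => P.obj (op (L.obj i))) i x

/-- the natural transformation attached to `x ∈ P(L)` -/
noncomputable def valNat {L : FormalCoproduct.{u} C} (x : E P L) :
    FormalCoproduct.yoneda.obj L ⟶ P ⋙ forget AddCommGrpCat.{u} :=
  (Sigma.desc (fun i : L.I => yonedaEquiv.symm (pt P x i)) :
    (∐ fun i : L.I => yoneda.obj (L.obj i)) ⟶ P ⋙ forget AddCommGrpCat.{u})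

/-- the value of `x ∈ P(L)` at a section of the presheaf of sets attached to `L` -/
noncomputable def val {L : FormalCoproduct.{u} C} (x : E P L) (V : C)
    (σ : (FormalCoproduct.yoneda.obj L).obj (op V)) : P.obj (op V) :=
  (valNat P x).app (op V) σ

lemma val_τ {L : FormalCoproduct.{u} C} (x : E P L) (V : C)
    (t : (FormalCoproduct.incl C).obj V ⟶ L) : val P x V (SRLoc.τ L V t) = ev P x t := by
  unfold val SRLoc.τ ev valNat
  have h := Sigma.ι_desc (fun i : L.I => yonedaEquiv.symm (pt P x i)) (t.f PUnit.unit)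
  have h2 := ConcreteCategory.congr_hom (NatTrans.congr_app h (op V)) (t.φ PUnit.unit)
  refine h2.trans ?_
  exact yonedaEquiv_symm_app_apply (pt P x (t.f PUnit.unit)) (op V) (t.φ PUnit.unit)

end Val

section Main

variable (J : GrothendieckTopology C) (K : SimplicialObject (FormalCoproduct.{u} C))
  (F : Sheaf J AddCommGrpCat.{u})

lemma cechCxSite_d_zero (Q : Cᵒᵖ ⥤ AddCommGrpCat.{u}) :
    (Hyper.cechCxSite K Q).d 0 1 = Emap Q (K.δ (0 : Fin 2)) - Emap Q (K.δ (1 : Fin 2)) :=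
  CechH0.alt_d_zero _

/-- The restriction map `lim F ⟶ ∏ F(K_0,i)`. -/
noncomputable def ι : limit F.obj ⟶ E F.obj (K.obj (op ⦋0⦌)) :=
  Pi.lift (fun i => limit.π F.obj (op ((K.obj (op ⦋0⦌)).obj i)))

lemma ev_ι (s : (limit F.obj : AddCommGrpCat.{u})) {V : C}
    (t : (FormalCoproduct.incl C).obj V ⟶ K.obj (op ⦋0⦌)) :
    ev F.obj (ι J K F s) t = limit.π F.obj (op V) s := by
  unfold ev
  have h1 : Pi.π (fun i : (K.obj (op ⦋0⦌)).I => F.obj.obj (op ((K.obj (op ⦋0⦌)).obj i)))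
      (t.f PUnit.unit) (ι J K F s) = limit.π F.obj (op ((K.obj (op ⦋0⦌)).obj (t.f PUnit.unit))) s :=
    ConcreteCategory.congr_hom (Pi.lift_π _ _) s
  rw [h1]
  exact ConcreteCategory.congr_hom (limit.w F.obj (t.φ PUnit.unit).op) s

/-- the sieve of arrows `V' ⟶ V` whose source admits a point of `K₀` -/
def ptSieve (K0 : FormalCoproduct.{u} C) (V : C) : Sieve V where
  arrows V' _ := Nonempty ((FormalCoproduct.incl C).obj V' ⟶ K0)
  downward_closed := by
    rintro V' V'' g ⟨t⟩ h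
    exact ⟨(FormalCoproduct.incl C).map h ≫ t⟩

lemma ptSieve_mem (K0 : FormalCoproduct.{u} C)
    (h : Presheaf.IsLocallySurjective J (terminal.from (FormalCoproduct.yoneda.obj K0))) (V : C) :
    ptSieve K0 V ∈ J V := by
  let s₀ : (⊤_ (Cᵒᵖ ⥤ Type u)).obj (op V) := (terminal.from (yoneda.obj V)).app (op V) (𝟙 V)
  refine J.superset_covering ?_ (Presheaf.imageSieve_mem J (terminal.from (FormalCoproduct.yoneda.obj K0)) s₀)
  rintro V' g ⟨σ, -⟩
  obtain ⟨t, -⟩ := SRLoc.τ_surjective K0 V' σ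
  exact ⟨t⟩

variable (hF : Presieve.IsSheaf J (F.obj ⋙ forget AddCommGrpCat.{u}))
include hF

/-- independence of the chosen point -/
lemma ev_indep
    (h2 : Presheaf.IsLocallySurjective J
      (prod.lift (FormalCoproduct.yoneda.map (K.δ (1 : Fin 2)))
        (FormalCoproduct.yoneda.map (K.δ (0 : Fin 2)))))
    (x : E F.obj (K.obj (op ⦋0⦌)))
    (hx : Emap F.obj (K.δ (0 : Fin 2)) x = Emap F.obj (K.δ (1 : Fin 2)) x) {V : C}
    (t t' : (FormalCoproduct.incl C).obj V ⟶ K.obj (op ⦋0⦌)) :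
    ev F.obj x t = ev F.obj x t' := by
  let a : yoneda.obj V ⟶ FormalCoproduct.yoneda.obj (K.obj (op ⦋0⦌)) :=
    yonedaEquiv.symm (SRLoc.τ _ V t)
  let b : yoneda.obj V ⟶ FormalCoproduct.yoneda.obj (K.obj (op ⦋0⦌)) :=
    yonedaEquiv.symm (SRLoc.τ _ V t')
  let p : (FormalCoproduct.yoneda.obj (K.obj (op ⦋0⦌)) ⨯
      FormalCoproduct.yoneda.obj (K.obj (op ⦋0⦌))).obj (op V) := (prod.lift a b).app (op V) (𝟙 V)
  have hp1 : (prod.fst : FormalCoproduct.yoneda.obj (K.obj (op ⦋0⦌)) ⨯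
      FormalCoproduct.yoneda.obj (K.obj (op ⦋0⦌)) ⟶ _).app (op V) p = SRLoc.τ _ V t := by
    have e := ConcreteCategory.congr_hom (NatTrans.congr_app (prod.lift_fst a b) (op V)) (𝟙 V)
    refine e.trans ?_
    exact yonedaEquiv.apply_symm_apply _
  have hp2 : (prod.snd : FormalCoproduct.yoneda.obj (K.obj (op ⦋0⦌)) ⨯
      FormalCoproduct.yoneda.obj (K.obj (op ⦋0⦌)) ⟶ _).app (op V) p = SRLoc.τ _ V t' := by
    have e := ConcreteCategory.congr_hom (NatTrans.congr_app (prod.lift_snd a b) (op V)) (𝟙 V)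
    refine e.trans ?_
    exact yonedaEquiv.apply_symm_apply _
  have hcov := Presheaf.imageSieve_mem J (prod.lift (FormalCoproduct.yoneda.map (K.δ (1 : Fin 2)))
        (FormalCoproduct.yoneda.map (K.δ (0 : Fin 2)))) p
  refine (hF _ hcov).isSeparatedFor.ext ?_
  rintro V' g ⟨w, hw⟩
  obtain ⟨u, rfl⟩ := SRLoc.τ_surjective _ V' w
  -- first components
  have e1 := congrArg ((prod.fst : FormalCoproduct.yoneda.obj (K.obj (op ⦋0⦌)) ⨯
      FormalCoproduct.yoneda.obj (K.obj (op ⦋0⦌)) ⟶ _).app (op V')) hw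
  have e1a := ConcreteCategory.congr_hom (NatTrans.congr_app (prod.lift_fst
      (FormalCoproduct.yoneda.map (K.δ (1 : Fin 2))) (FormalCoproduct.yoneda.map (K.δ (0 : Fin 2))))
      (op V')) (SRLoc.τ _ V' u)
  have e1b := NatTrans.naturality_apply (prod.fst : FormalCoproduct.yoneda.obj (K.obj (op ⦋0⦌)) ⨯
      FormalCoproduct.yoneda.obj (K.obj (op ⦋0⦌)) ⟶ _) g.op p
  have f1 : SRLoc.τ _ V' (u ≫ K.δ (1 : Fin 2)) =
      SRLoc.τ _ V' ((FormalCoproduct.incl C).map g ≫ t) := by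
    rw [← SRLoc.τ_map, ← SRLoc.τ_res, ← hp1]
    exact e1a.symm.trans (e1.trans e1b)
  have e2 := congrArg ((prod.snd : FormalCoproduct.yoneda.obj (K.obj (op ⦋0⦌)) ⨯
      FormalCoproduct.yoneda.obj (K.obj (op ⦋0⦌)) ⟶ _).app (op V')) hw
  have e2a := ConcreteCategory.congr_hom (NatTrans.congr_app (prod.lift_snd
      (FormalCoproduct.yoneda.map (K.δ (1 : Fin 2))) (FormalCoproduct.yoneda.map (K.δ (0 : Fin 2))))
      (op V')) (SRLoc.τ _ V' u)
  have e2b := NatTrans.naturality_apply (prod.snd : FormalCoproduct.yoneda.obj (K.obj (op ⦋0⦌)) ⨯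
      FormalCoproduct.yoneda.obj (K.obj (op ⦋0⦌)) ⟶ _) g.op p
  have f2 : SRLoc.τ _ V' (u ≫ K.δ (0 : Fin 2)) =
      SRLoc.τ _ V' ((FormalCoproduct.incl C).map g ≫ t') := by
    rw [← SRLoc.τ_map, ← SRLoc.τ_res, ← hp2]
    exact e2a.symm.trans (e2.trans e2b)
  have g1 := congrArg (val F.obj x V') f1
  have g2 := congrArg (val F.obj x V') f2
  rw [val_τ, val_τ] at g1 g2
  show F.obj.map g.op (ev F.obj x t) = F.obj.map g.op (ev F.obj x t')
  rw [ev_res, ev_res, ← g1, ← g2, ← ev_Emap, ← ev_Emap, hx]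

omit hF in
theorem cechH_zero
    (h1 : Presheaf.IsLocallySurjective J
      (terminal.from (FormalCoproduct.yoneda.obj (K.obj (op ⦋0⦌)))))
    (h2 : Presheaf.IsLocallySurjective J
      (prod.lift (FormalCoproduct.yoneda.map (K.δ (1 : Fin 2)))
        (FormalCoproduct.yoneda.map (K.δ (0 : Fin 2))))) :
    Nonempty ((Hyper.cechCxSite K F.obj).homology 0 ≅ limit F.obj) := by
  have hF : Presieve.IsSheaf J (F.obj ⋙ forget AddCommGrpCat.{u}) :=
    (isSheaf_iff_isSheaf_of_type J _).mp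
      ((Presheaf.isSheaf_iff_isSheaf_forget J F.obj (forget _)).mp F.property)
  have hpt := ptSieve_mem J (K.obj (op ⦋0⦌)) h1
  have w' : ι J K F ≫ (Emap F.obj (K.δ (0 : Fin 2)) - Emap F.obj (K.δ (1 : Fin 2))) = 0 := by
    rw [Preadditive.comp_sub, sub_eq_zero]
    apply ConcreteCategory.hom_ext
    intro s
    apply E_ext'
    intro V t
    show ev _ (Emap _ (K.δ (0 : Fin 2)) (ι J K F s)) t = ev _ (Emap _ (K.δ (1 : Fin 2)) (ι J K F s)) t
    rw [ev_Emap, ev_Emap, ev_ι, ev_ι]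
  let ι' : limit F.obj ⟶ (Hyper.cechCxSite K F.obj).X 0 := ι J K F
  have w : ι' ≫ (Hyper.cechCxSite K F.obj).d 0 1 = 0 := by
    rw [cechCxSite_d_zero]
    exact w'
  have hmono : Mono (ι J K F) := by
    rw [AddCommGrpCat.mono_iff_injective]
    intro s s' hss
    apply Concrete.limit_ext
    intro V
    refine (hF _ (hpt V.unop)).isSeparatedFor.ext ?_
    rintro V' g ⟨t⟩
    have e1 := ConcreteCategory.congr_hom (limit.w F.obj g.op) s
    have e2 := ConcreteCategory.congr_hom (limit.w F.obj g.op) s'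
    show F.obj.map g.op (limit.π F.obj V s) = F.obj.map g.op (limit.π F.obj V s')
    refine e1.trans (Eq.trans ?_ e2.symm)
    rw [← ev_ι J K F s t, ← ev_ι J K F s' t, hss]
  haveI : Mono ι' := hmono
  apply homologyZeroIso (Hyper.cechCxSite K F.obj) ι' w
  rw [ShortComplex.ab_exact_iff]
  intro x hx
  have hx2 : (ConcreteCategory.hom ((Hyper.cechCxSite K F.obj).d 0 1)) x = 0 := hx
  rw [cechCxSite_d_zero] at hx2
  have hx3 : Emap F.obj (K.δ (0 : Fin 2)) x = Emap F.obj (K.δ (1 : Fin 2)) x := by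
    have : (Emap F.obj (K.δ (0 : Fin 2))).hom x - (Emap F.obj (K.δ (1 : Fin 2))).hom x = 0 := hx2
    exact sub_eq_zero.mp this
  have hind := fun {V : C} (t t' : (FormalCoproduct.incl C).obj V ⟶ K.obj (op ⦋0⦌)) =>
    ev_indep J K F hF h2 x hx3 t t'
  -- the local sections
  have hglue : ∀ V : C, ∃ s : F.obj.obj (op V), ∀ {V' : C} (g : V' ⟶ V)
      (t : (FormalCoproduct.incl C).obj V' ⟶ K.obj (op ⦋0⦌)), F.obj.map g.op s = ev F.obj x t := by
    intro V
    let fam : Presieve.FamilyOfElements (F.obj ⋙ forget AddCommGrpCat.{u})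
        (ptSieve (K.obj (op ⦋0⦌)) V).arrows := fun V' g hg => ev F.obj x hg.some
    have hfam : fam.Compatible := by
      rw [Presieve.compatible_iff_sieveCompatible]
      intro V' V'' g h hg
      show ev F.obj x _ = F.obj.map h.op (ev F.obj x _)
      rw [ev_res]
      exact hind _ _
    obtain ⟨s, hs, -⟩ := hF _ (hpt V) fam hfam
    refine ⟨s, ?_⟩
    intro V' g t
    exact (hs g ⟨t⟩).trans (hind _ _)
  choose sV hsV using hglue
  have hcompat : ∀ {V W : C} (f : W ⟶ V), F.obj.map f.op (sV V) = sV W := by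
    intro V W f
    refine (hF _ (hpt W)).isSeparatedFor.ext ?_
    rintro W' g ⟨t⟩
    show F.obj.map g.op (F.obj.map f.op (sV V)) = F.obj.map g.op (sV W)
    rw [hsV W g t, ← ConcreteCategory.comp_apply, ← F.obj.map_comp, ← op_comp, hsV V (g ≫ f) t]
  -- the element of the limit
  let hlim := isLimitOfPreserves (forget AddCommGrpCat.{u}) (limit.isLimit F.obj)
  let sec : (F.obj ⋙ forget AddCommGrpCat.{u}).sections :=
    ⟨fun V => sV V.unop, by
      intro V W f
      exact hcompat f.unop⟩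
  let s : (limit F.obj : AddCommGrpCat.{u}) := (Types.isLimitEquivSections hlim).symm sec
  have hs : ∀ V : Cᵒᵖ, limit.π F.obj V s = sV V.unop := fun V =>
    Types.isLimitEquivSections_symm_apply hlim sec V
  refine ⟨s, ?_⟩
  apply E_ext
  intro i
  have h1 : Pi.π (fun i : (K.obj (op ⦋0⦌)).I => F.obj.obj (op ((K.obj (op ⦋0⦌)).obj i))) i
      (ι J K F s) = limit.π F.obj (op ((K.obj (op ⦋0⦌)).obj i)) s :=
    ConcreteCategory.congr_hom (Pi.lift_π _ _) s
  refine h1.trans ?_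
  rw [hs, ← ev_fromIncl]
  have := hsV ((K.obj (op ⦋0⦌)).obj i) (𝟙 _) (FormalCoproduct.Hom.fromIncl i (𝟙 _))
  rw [op_id, F.obj.map_id] at this
  exact this

end Main

end Groth.Agent.Lib.Helper43.CechH0Site
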