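import Groth.Agent.Lib.Helper43.SimpHtpyFin

/-!
# The simplicial homotopy between the maps of Čech objects of formal coproducts induced by two
morphisms `f g : 𝒰 ⟶ 𝒰'`
-/

set_option autoImplicit false
universe w v u
open CategoryTheory CategoryTheory.Limits Simplicial Opposite

namespace Groth.Agent.Lib.Helper43.CechHtpy

open Groth.Agent.Lib.Helper43.SimpHtpyFin FormalCoproduct

variable {C : Type u} [Category.{v} C] {𝒰 𝒰' : FormalCoproduct.{w} C} (f g : 𝒰 ⟶ 𝒰')

/-- the map `𝒰.power α ⟶ 𝒰'.power β` with `b`-th component `π_{θ b} ≫ (f or g)` -/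
noncomputable def mix {α β : Type} [HasProductsOfShape α C] [HasProductsOfShape β C]
    (θ : β → α) (c : β → Bool) : 𝒰.power α ⟶ 𝒰'.power β :=
  Fan.IsLimit.lift (𝒰'.isLimitPowerFan β) (fun b => 𝒰.powerπ (θ b) ≫ (if c b then f else g))

@[reassoc]
lemma mix_π {α β : Type} [HasProductsOfShape α C] [HasProductsOfShape β C]
    (θ : β → α) (c : β → Bool) (b : β) :
    mix f g θ c ≫ 𝒰'.powerπ b = 𝒰.powerπ (θ b) ≫ (if c b then f else g) :=
  Fan.IsLimit.fac (𝒰'.isLimitPowerFan β) _ b

lemma hom_ext_power {β : Type} [HasProductsOfShape β C] {T : FormalCoproduct.{w} C}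
    (a a' : T ⟶ 𝒰'.power β) (h : ∀ b, a ≫ 𝒰'.powerπ b = a' ≫ 𝒰'.powerπ b) : a = a' :=
  Fan.IsLimit.hom_ext (𝒰'.isLimitPowerFan β) _ _ h

lemma mix_congr {α β : Type} [HasProductsOfShape α C] [HasProductsOfShape β C]
    {θ θ' : β → α} {c c' : β → Bool} (h : ∀ b, θ b = θ' b ∧ c b = c' b) :
    mix f g θ c = mix f g θ' c' := by
  have h1 : θ = θ' := funext fun b => (h b).1
  have h2 : c = c' := funext fun b => (h b).2
  rw [h1, h2]

lemma mix_mapPower {α β γ : Type} [HasProductsOfShape α C] [HasProductsOfShape β C]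
    [HasProductsOfShape γ C] (θ : β → α) (c : β → Bool) (φ : γ → β) :
    mix f g θ c ≫ 𝒰'.mapPower φ = mix f g (θ ∘ φ) (c ∘ φ) := by
  apply hom_ext_power
  intro d
  rw [Category.assoc, mapPower_π, mix_π, mix_π]
  rfl

lemma mapPower_mix {α α' β : Type} [HasProductsOfShape α C] [HasProductsOfShape α' C]
    [HasProductsOfShape β C] (θ : β → α) (c : β → Bool) (ψ : α → α') :
    𝒰.mapPower ψ ≫ mix f g θ c = mix f g (ψ ∘ θ) c := by
  apply hom_ext_power
  intro d
  rw [Category.assoc, mix_π, mix_π, mapPower_π_assoc]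
  rfl

lemma powerMap_π {α : Type} [HasProductsOfShape α C] (a : α) :
    powerMap f α ≫ 𝒰'.powerπ a = 𝒰.powerπ a ≫ f := by
  ext i
  · rfl
  · dsimp
    have : ∀ (h : 𝒰'.obj ((powerMap f α ≫ 𝒰'.powerπ a).f i) = 𝒰'.obj ((𝒰.powerπ a ≫ f).f i)),
        eqToHom h = 𝟙 _ := fun _ => rfl
    rw [this]
    refine (Category.comp_id _).trans ?_
    exact Limits.Pi.map_π (fun a => f.φ (i a)) a

lemma mix_id_true {α : Type} [HasProductsOfShape α C] :
    mix f g (id : α → α) (fun _ => true) = powerMap f α := by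
  apply hom_ext_power
  intro d
  rw [mix_π, powerMap_π]
  rfl

lemma mix_id_false {α : Type} [HasProductsOfShape α C] :
    mix f g (id : α → α) (fun _ => false) = powerMap g α := by
  apply hom_ext_power
  intro d
  rw [mix_π, powerMap_π]
  rfl

variable [HasFiniteProducts C]

lemma δ_eq (𝒱 : FormalCoproduct.{w} C) {n : ℕ} (i : Fin (n + 2)) :
    (𝒱.cech).δ i = 𝒱.mapPower (Fin.succAbove i) := rfl

lemma σ_eq (𝒱 : FormalCoproduct.{w} C) {n : ℕ} (i : Fin (n + 1)) :
    (𝒱.cech).σ i = 𝒱.mapPower (Fin.predAbove i) := rfl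

/-- the simplicial homotopy between `Č(f)` and `Č(g)` -/
noncomputable def homotopy :
    SimplicialObject.Homotopy (cechFunctor.map f) (cechFunctor.map g) where
  h {n} j := mix f g (θ j) (c j)
  h_zero_comp_δ_zero n :=
    (mix_mapPower f g (θ (0 : Fin (n + 1))) (c 0) (Fin.succAbove (0 : Fin (n + 2)))).trans
      ((mix_congr f g (fun b => id1 b)).trans (mix_id_false f g))
  h_last_comp_δ_last n :=
    (mix_mapPower f g (θ (Fin.last n)) (c (Fin.last n)) (Fin.succAbove (Fin.last (n + 1)))).trans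
      ((mix_congr f g (fun b => id2 b)).trans (mix_id_true f g))
  h_succ_comp_δ_castSucc_of_lt {n} i j hij :=
    (mix_mapPower f g (θ j.succ) (c j.succ) (Fin.succAbove i.castSucc)).trans
      ((mix_congr f g (fun b => id3 i j hij b)).trans
        (mapPower_mix f g (θ j) (c j) (Fin.succAbove i)).symm)
  h_succ_comp_δ_castSucc_succ {n} j :=
    (mix_mapPower f g (θ j.succ) (c j.succ) (Fin.succAbove j.castSucc.succ)).trans
      ((mix_congr f g (fun b => id4 j b)).trans
        (mix_mapPower f g (θ j.castSucc) (c j.castSucc) (Fin.succAbove j.castSucc.succ)).symm)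
  h_castSucc_comp_δ_succ_of_lt {n} i j hji :=
    (mix_mapPower f g (θ j.castSucc) (c j.castSucc) (Fin.succAbove i.succ)).trans
      ((mix_congr f g (fun b => id5 i j hji b)).trans
        (mapPower_mix f g (θ j) (c j) (Fin.succAbove i)).symm)
  h_comp_σ_castSucc_of_le {n} i j hij :=
    (mix_mapPower f g (θ j) (c j) (Fin.predAbove i.castSucc)).trans
      ((mix_congr f g (fun b => id6 i j hij b)).trans
        (mapPower_mix f g (θ j.succ) (c j.succ) (Fin.predAbove i)).symm)
  h_comp_σ_succ_of_lt {n} i j hji :=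
    (mix_mapPower f g (θ j) (c j) (Fin.predAbove i.succ)).trans
      ((mix_congr f g (fun b => id7 i j hji b)).trans
        (mapPower_mix f g (θ j.castSucc) (c j.castSucc) (Fin.predAbove i)).symm)

end Groth.Agent.Lib.Helper43.CechHtpy
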