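import Mathlib
import Groth.Agent.Lib.Cohomology.helper5_CechThin

/-!
# Čech acyclicity of `V ↦ P (V ⊓ U i₀)`

For a family `U : ι → Opens X` and an index `i₀`, the presheaf `V ↦ P (V ⊓ U i₀)` has vanishing
Čech cohomology in positive degrees with respect to `U`: the Čech simplicial object, after
intersecting with `U i₀`, has an extra degeneracy.
-/

universe u
open CategoryTheory CategoryTheory.Limits Opposite Simplicial AlgebraicTopology TopologicalSpace

namespace Groth.Agent.Lib.Helper43.CechInfAcyclic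

open Groth.Agent.Lib.Cohomology

variable {X : TopCat.{u}} {ι : Type u} (U : ι → Opens X) (i₀ : ι)

/-- intersecting with `U i₀` -/
def infF : Opens X ⥤ Opens X where
  obj V := V ⊓ U i₀
  map f := homOfLE (inf_le_inf_right _ f.le)
  map_id _ := Subsingleton.elim _ _
  map_comp _ _ := Subsingleton.elim _ _

/-- the functor induced on formal coproducts -/
def mapFC (F : Opens X ⥤ Opens X) :
    FormalCoproduct.{u} (Opens X) ⥤ FormalCoproduct.{u} (Opens X) where
  obj Y := ⟨Y.I, fun i => F.obj (Y.obj i)⟩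
  map f := ⟨f.f, fun i => F.map (f.φ i)⟩
  map_id _ := CechThin.formal_hom_ext rfl
  map_comp _ _ := CechThin.formal_hom_ext rfl

/-- the Čech simplicial object intersected with `U i₀` -/
noncomputable abbrev X' : SimplicialObject (FormalCoproduct.{u} (Opens X)) :=
  CechThin.E U ⋙ mapFC (infF U i₀)

/-- augmentation towards `U i₀` -/
noncomputable def augmented' : SimplicialObject.Augmented (FormalCoproduct.{u} (Opens X)) where
  left := X' U i₀
  right := (FormalCoproduct.incl (Opens X)).obj (U i₀)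
  hom :=
    { app := fun n => ⟨fun _ => PUnit.unit, fun x => homOfLE inf_le_right⟩
      naturality := fun _ _ _ => CechThin.formal_hom_ext rfl }

/-- The extra degeneracy on indices. -/
noncomputable def sHom' (n : ℕ) : (X' U i₀) _⦋n⦌ ⟶ (X' U i₀) _⦋n + 1⦌ where
  f := fun x => (Fin.cons i₀ x : Fin (n + 2) → ι)
  φ := fun x => homOfLE (le_inf
    (Pi.lift (fun a => Fin.cases
      (motive := fun a => ((∏ᶜ (U ∘ x)) ⊓ U i₀ ⟶ U ((Fin.cons i₀ x : Fin (n + 2) → ι) a)))
      (homOfLE inf_le_right) (fun b => homOfLE inf_le_left ≫ Pi.π _ b) a)).le inf_le_right)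

/-- The extra degeneracy. -/
noncomputable def extraDegeneracy' :
    SimplicialObject.Augmented.ExtraDegeneracy (augmented' U i₀) where
  s' := FormalCoproduct.Hom.fromIncl (fun _ => i₀)
    (homOfLE (le_inf (Pi.lift fun _ => 𝟙 (U i₀)).le le_rfl))
  s := sHom' U i₀
  s'_comp_ε := CechThin.formal_hom_ext rfl
  s₀_comp_δ₁ := CechThin.formal_hom_ext (by
    funext x
    funext a
    change (Fin.cons i₀ x : Fin 2 → ι) ((1 : Fin 2).succAbove a) = i₀
    have : a = (0 : Fin 1) := Subsingleton.elim (α := Fin 1) _ _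
    subst this
    rfl)
  s_comp_δ₀ := fun n => CechThin.formal_hom_ext (by
    funext x
    funext a
    change (Fin.cons i₀ x : Fin (n + 2) → ι) ((0 : Fin (n + 2)).succAbove a) = x a
    rw [Fin.succAbove_zero, Fin.cons_succ])
  s_comp_δ := fun n i => CechThin.formal_hom_ext (by
    funext x
    funext a
    change (Fin.cons i₀ x : Fin (n + 3) → ι) (i.succ.succAbove a) =
      (Fin.cons i₀ (fun b => x (i.succAbove b)) : Fin (n + 2) → ι) a
    refine Fin.cases ?_ (fun b => ?_) a
    · rw [Fin.succ_succAbove_zero, Fin.cons_zero, Fin.cons_zero]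
    · rw [Fin.succ_succAbove_succ, Fin.cons_succ, Fin.cons_succ])
  s_comp_σ := fun n i => CechThin.formal_hom_ext (by
    funext x
    funext a
    change (Fin.cons i₀ x : Fin (n + 2) → ι) (i.succ.predAbove a) =
      (Fin.cons i₀ (fun b => x (i.predAbove b)) : Fin (n + 3) → ι) a
    refine Fin.cases ?_ (fun b => ?_) a
    · rw [Fin.predAbove_right_zero, Fin.cons_zero, Fin.cons_zero]
    · rw [Fin.succ_predAbove_succ, Fin.cons_succ, Fin.cons_succ])

/-- the Čech complex of `V ↦ P (V ⊓ U i₀)` is contractible onto degree `0`. -/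
noncomputable def acyclicEquiv (P : (Opens X)ᵒᵖ ⥤ AddCommGrpCat.{u}) :
    HomotopyEquiv ((CochainComplex.single₀ AddCommGrpCat.{u}).obj
        (((FormalCoproduct.evalOp.{u} (Opens X) AddCommGrpCat.{u}).obj P).obj
          (op ((FormalCoproduct.incl (Opens X)).obj (U i₀)))))
      ((cechComplexFunctor U).obj ((infF U i₀).op ⋙ P)) :=
  cofaceHomotopyEquivOfExtraDegeneracy (extraDegeneracy' U i₀)
    ((FormalCoproduct.evalOp.{u} (Opens X) AddCommGrpCat.{u}).obj P)

theorem isZero_homology_succ (P : (Opens X)ᵒᵖ ⥤ AddCommGrpCat.{u}) (q : ℕ) :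
    IsZero (((cechComplexFunctor U).obj ((infF U i₀).op ⋙ P)).homology (q + 1)) :=
  (HomologicalComplex.isZero_single_obj_homology _ _ _ (q + 1) (by simp)).of_iso
    ((acyclicEquiv U i₀ P).toHomologyIso (q + 1)).symm

end Groth.Agent.Lib.Helper43.CechInfAcyclic
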