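import Groth.Agent.Lib.Helper43.SimpHtpyFin

/-!
# Any two endomorphisms over the base of an arrow induce simplicially homotopic maps of Čech nerves
-/

set_option autoImplicit false
universe v u
open CategoryTheory CategoryTheory.Limits Simplicial Opposite

namespace Groth.Agent.Lib.Helper43.CechNerveHtpy

open Groth.Agent.Lib.Helper43.SimpHtpyFin

variable {C : Type u} [Category.{v} C] (A : Arrow C)
  [∀ n : ℕ, HasWidePullback A.right (fun _ : Fin (n + 1) => A.left) (fun _ => A.hom)]

/-- the `n`-th term of the Čech nerve -/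
noncomputable abbrev P (n : ℕ) : C :=
  widePullback A.right (fun _ : Fin (n + 1) => A.left) (fun _ => A.hom)

/-- reindexing map -/
noncomputable def mapθ {m n : ℕ} (φ : Fin (n + 1) → Fin (m + 1)) : P A m ⟶ P A n :=
  WidePullback.lift (WidePullback.base _) (fun k => WidePullback.π _ (φ k))
    (fun k => WidePullback.π_arrow _ _)

variable {A}
variable (a b : A ⟶ A) (ha : a.right = 𝟙 _) (hb : b.right = 𝟙 _)

lemma left_hom {a : A ⟶ A} (ha : a.right = 𝟙 _) : a.left ≫ A.hom = A.hom := by
  have h : a.left ≫ A.hom = A.hom ≫ a.right := a.w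
  rw [h, ha, Category.comp_id]

include ha hb in
lemma mix_aux {m n : ℕ} (θ : Fin (n + 1) → Fin (m + 1)) (c : Fin (n + 1) → Bool)
    (k : Fin (n + 1)) :
    (WidePullback.π (fun _ : Fin (m + 1) => A.hom) (θ k) ≫ (if c k then a.left else b.left)) ≫ A.hom =
      WidePullback.base (fun _ : Fin (m + 1) => A.hom) := by
  split_ifs
  · rw [Category.assoc, left_hom ha, WidePullback.π_arrow]
  · rw [Category.assoc, left_hom hb, WidePullback.π_arrow]

/-- the map with `k`-th component `π_{θ k} ≫ (a or b)` -/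
noncomputable def mix {m n : ℕ} (θ : Fin (n + 1) → Fin (m + 1)) (c : Fin (n + 1) → Bool) :
    P A m ⟶ P A n :=
  WidePullback.lift (WidePullback.base _)
    (fun k => WidePullback.π _ (θ k) ≫ (if c k then a.left else b.left)) (mix_aux a b ha hb θ c)

lemma mix_π {m n : ℕ} (θ : Fin (n + 1) → Fin (m + 1)) (c : Fin (n + 1) → Bool) (k : Fin (n + 1)) :
    mix a b ha hb θ c ≫ WidePullback.π _ k =
      WidePullback.π _ (θ k) ≫ (if c k then a.left else b.left) :=
  WidePullback.lift_π _ _ _ _ _

lemma mix_base {m n : ℕ} (θ : Fin (n + 1) → Fin (m + 1)) (c : Fin (n + 1) → Bool) :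
    mix a b ha hb θ c ≫ WidePullback.base _ = WidePullback.base _ :=
  WidePullback.lift_base _ _ _ _

lemma mapθ_π {m n : ℕ} (φ : Fin (n + 1) → Fin (m + 1)) (k : Fin (n + 1)) :
    mapθ A φ ≫ WidePullback.π _ k = WidePullback.π _ (φ k) :=
  WidePullback.lift_π _ _ _ _ _

lemma mapθ_base {m n : ℕ} (φ : Fin (n + 1) → Fin (m + 1)) :
    mapθ A φ ≫ WidePullback.base _ = WidePullback.base _ :=
  WidePullback.lift_base _ _ _ _

lemma mix_congr {m n : ℕ} {θ θ' : Fin (n + 1) → Fin (m + 1)} {c c' : Fin (n + 1) → Bool}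
    (h : ∀ k, θ k = θ' k ∧ c k = c' k) : mix a b ha hb θ c = mix a b ha hb θ' c' := by
  have h1 : θ = θ' := funext fun k => (h k).1
  have h2 : c = c' := funext fun k => (h k).2
  rw [h1, h2]

lemma mix_mapθ {m n l : ℕ} (θ : Fin (n + 1) → Fin (m + 1)) (c : Fin (n + 1) → Bool)
    (φ : Fin (l + 1) → Fin (n + 1)) :
    mix a b ha hb θ c ≫ mapθ A φ = mix a b ha hb (θ ∘ φ) (c ∘ φ) := by
  apply WidePullback.hom_ext
  · intro k
    rw [Category.assoc, mapθ_π, mix_π, mix_π]
    rfl
  · rw [Category.assoc, mapθ_base, mix_base, mix_base]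

lemma mapθ_mix {m m' n : ℕ} (θ : Fin (n + 1) → Fin (m + 1)) (c : Fin (n + 1) → Bool)
    (ψ : Fin (m + 1) → Fin (m' + 1)) :
    mapθ A ψ ≫ mix a b ha hb θ c = mix a b ha hb (ψ ∘ θ) c := by
  apply WidePullback.hom_ext
  · intro k
    rw [Category.assoc, mix_π, mix_π, ← Category.assoc, mapθ_π]
    rfl
  · rw [Category.assoc, mix_base, mix_base, mapθ_base]

lemma mix_id_true (n : ℕ) :
    mix a b ha hb (id : Fin (n + 1) → Fin (n + 1)) (fun _ => true) =
      (Arrow.mapCechNerve a).app (op ⦋n⦌) := by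
  apply WidePullback.hom_ext
  · intro k
    rw [mix_π]
    have : (Arrow.mapCechNerve a).app (op ⦋n⦌) ≫
        WidePullback.π (fun _ : Fin (n + 1) => A.hom) k = WidePullback.π _ k ≫ a.left :=
      WidePullback.lift_π _ _ _ _ _
    rw [this]
    rfl
  · rw [mix_base]
    have : (Arrow.mapCechNerve a).app (op ⦋n⦌) ≫
        WidePullback.base (fun _ : Fin (n + 1) => A.hom) = WidePullback.base _ ≫ a.right :=
      WidePullback.lift_base _ _ _ _
    rw [this, ha, Category.comp_id]

lemma mix_id_false (n : ℕ) :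
    mix a b ha hb (id : Fin (n + 1) → Fin (n + 1)) (fun _ => false) =
      (Arrow.mapCechNerve b).app (op ⦋n⦌) := by
  apply WidePullback.hom_ext
  · intro k
    rw [mix_π]
    have : (Arrow.mapCechNerve b).app (op ⦋n⦌) ≫
        WidePullback.π (fun _ : Fin (n + 1) => A.hom) k = WidePullback.π _ k ≫ b.left :=
      WidePullback.lift_π _ _ _ _ _
    rw [this]
    rfl
  · rw [mix_base]
    have : (Arrow.mapCechNerve b).app (op ⦋n⦌) ≫
        WidePullback.base (fun _ : Fin (n + 1) => A.hom) = WidePullback.base _ ≫ b.right :=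
      WidePullback.lift_base _ _ _ _
    rw [this, hb, Category.comp_id]

/-- the simplicial homotopy -/
noncomputable def homotopy :
    SimplicialObject.Homotopy (Arrow.mapCechNerve a) (Arrow.mapCechNerve b) where
  h {n} j := mix a b ha hb (θ j) (c j)
  h_zero_comp_δ_zero n :=
    (mix_mapθ a b ha hb (θ (0 : Fin (n + 1))) (c 0) (Fin.succAbove (0 : Fin (n + 2)))).trans
      ((mix_congr a b ha hb (fun k => id1 k)).trans (mix_id_false a b ha hb n))
  h_last_comp_δ_last n :=
    (mix_mapθ a b ha hb (θ (Fin.last n)) (c (Fin.last n)) (Fin.succAbove (Fin.last (n + 1)))).trans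
      ((mix_congr a b ha hb (fun k => id2 k)).trans (mix_id_true a b ha hb n))
  h_succ_comp_δ_castSucc_of_lt {n} i j hij :=
    (mix_mapθ a b ha hb (θ j.succ) (c j.succ) (Fin.succAbove i.castSucc)).trans
      ((mix_congr a b ha hb (fun k => id3 i j hij k)).trans
        (mapθ_mix a b ha hb (θ j) (c j) (Fin.succAbove i)).symm)
  h_succ_comp_δ_castSucc_succ {n} j :=
    (mix_mapθ a b ha hb (θ j.succ) (c j.succ) (Fin.succAbove j.castSucc.succ)).trans
      ((mix_congr a b ha hb (fun k => id4 j k)).trans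
        (mix_mapθ a b ha hb (θ j.castSucc) (c j.castSucc) (Fin.succAbove j.castSucc.succ)).symm)
  h_castSucc_comp_δ_succ_of_lt {n} i j hji :=
    (mix_mapθ a b ha hb (θ j.castSucc) (c j.castSucc) (Fin.succAbove i.succ)).trans
      ((mix_congr a b ha hb (fun k => id5 i j hji k)).trans
        (mapθ_mix a b ha hb (θ j) (c j) (Fin.succAbove i)).symm)
  h_comp_σ_castSucc_of_le {n} i j hij :=
    (mix_mapθ a b ha hb (θ j) (c j) (Fin.predAbove i.castSucc)).trans
      ((mix_congr a b ha hb (fun k => id6 i j hij k)).trans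
        (mapθ_mix a b ha hb (θ j.succ) (c j.succ) (Fin.predAbove i)).symm)
  h_comp_σ_succ_of_lt {n} i j hji :=
    (mix_mapθ a b ha hb (θ j) (c j) (Fin.predAbove i.succ)).trans
      ((mix_congr a b ha hb (fun k => id7 i j hji k)).trans
        (mapθ_mix a b ha hb (θ j.castSucc) (c j.castSucc) (Fin.predAbove i)).symm)

lemma mapCechNerve_id : Arrow.mapCechNerve (𝟙 A) = 𝟙 A.cechNerve := by
  ext n
  apply WidePullback.hom_ext
  · intro k
    refine (WidePullback.lift_π _ _ _ _ _).trans ?_
    simp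
  · refine (WidePullback.lift_base _ _ _ _).trans ?_
    simp

end Groth.Agent.Lib.Helper43.CechNerveHtpy
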