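import Groth.Agent.Lib.Cohomology.helper5_SiteCechH0
import Groth.Prelude.Def_CechEdge

/-!
# An abelian presheaf is a sheaf iff `P(U) → Ȟ⁰(Y, P)` is bijective for all covering families
-/

set_option autoImplicit false
universe u
open CategoryTheory Opposite CategoryTheory.Limits
open Groth.Agent.Lib.Cohomology.SiteCech

namespace Groth.Agent.Lib.Helper43.CechSheafIff

variable {C : Type u} [SmallCategory C] [HasPullbacks C] {U : C} {ι : Type u} (Y : ι → Over U)
  (P : Cᵒᵖ ⥤ AddCommGrpCat.{u})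

/-- restriction of `P` to `Over U` -/
abbrev Q : (Over U)ᵒᵖ ⥤ AddCommGrpCat.{u} := (Over.forget U).op ⋙ P

lemma toCech₀_proj_apply (i : Fin 1 → ι) (s : P.obj (op U)) :
    proj (Q (U := U) P) Y 0 i (CechEdge.toCech₀ P Y s) = P.map ((inter Y i).hom).op s := by
  have h : CechEdge.toCech₀ P Y ≫ proj (Q (U := U) P) Y 0 i = P.map ((inter Y i).hom).op :=
    Pi.lift_π _ _
  exact ConcreteCategory.congr_hom h s

lemma ev_toCech₀ (W : Over U) (σ : Fin 1 → Tup Y W) (s : P.obj (op U)) :
    ev (Q (U := U) P) Y 0 W σ (CechEdge.toCech₀ P Y s) = P.map W.hom.op s := by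
  rw [ev_apply, toCech₀_proj_apply]
  change P.map (tupLift Y σ).left.op (P.map _ s) = _
  rw [← ConcreteCategory.comp_apply, ← P.map_comp, ← op_comp, Over.w]

lemma exists_cycle (K : CochainComplex AddCommGrpCat.{u} ℕ) (x : K.X 0) (hx : K.d 0 1 x = 0) :
    ∃ z : K.cycles 0, K.iCycles 0 z = x := by
  have hex : (ShortComplex.mk (K.iCycles 0) (K.d 0 1) (K.iCycles_d 0 1)).Exact :=
    ShortComplex.exact_of_f_is_kernel _ (K.cyclesIsKernel 0 1 (by simp))
  rw [ShortComplex.ab_exact_iff] at hex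
  exact hex x hx

lemma iCycles_injective' (K : CochainComplex AddCommGrpCat.{u} ℕ) :
    Function.Injective (K.iCycles 0) :=
  (AddCommGrpCat.mono_iff_injective _).1 inferInstance

lemma toCycles_i_apply (s : P.obj (op U)) :
    (CechEdge.cx P Y).iCycles 0 (CechEdge.toCycles P Y s) = CechEdge.toCech₀ P Y s :=
  ConcreteCategory.congr_hom (CechEdge.toCycles_i P Y) s

lemma toCycles_bijective (h : Function.Bijective (CechEdge.toCech Y P)) :
    Function.Bijective (CechEdge.toCycles P Y) := by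
  have h1 : Function.Bijective ((CechEdge.cx P Y).homologyπ 0) :=
    (ConcreteCategory.isIso_iff_bijective _).1 inferInstance
  have h2 : (CechEdge.toCech Y P : P.obj (op U) → _) =
      ((CechEdge.cx P Y).homologyπ 0) ∘ (CechEdge.toCycles P Y) := by
    funext s; rfl
  rw [h2] at h
  exact (Function.Bijective.of_comp_iff' h1 _).mp h

/-- the cochain attached to a family of sections -/
noncomputable def coch (xx : ∀ i : ι, P.obj (op (Y i).left)) : (cx (Q (U := U) P) Y).X 0 :=
  (cochEquiv (Q (U := U) P) Y 0).symm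
    (fun i => (Q (U := U) P).map (Pi.π (Y ∘ i) 0).op (xx (i 0)))

lemma ev_coch (xx : ∀ i : ι, P.obj (op (Y i).left)) (W : Over U) (σ : Fin 1 → Tup Y W) :
    ev (Q (U := U) P) Y 0 W σ (coch Y P xx) = P.map (σ 0).2.left.op (xx (σ 0).1) := by
  rw [ev_apply, coch, proj_cochEquiv_symm]
  change (Q (U := U) P).map _ ((Q (U := U) P).map _ _) = (Q (U := U) P).map (σ 0).2.op _
  rw [← ConcreteCategory.comp_apply, ← (Q (U := U) P).map_comp, ← op_comp]
  have : tupLift Y σ ≫ Pi.π (Y ∘ fun k => (σ k).1) 0 = (σ 0).2 :=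
    Pi.lift_π (f := Y ∘ (fun k => (σ k).1)) (fun k => (σ k).2) 0
  rw [this]

lemma d_coch (xx : ∀ i : ι, P.obj (op (Y i).left))
    (hxx : Presieve.Arrows.Compatible (P ⋙ forget AddCommGrpCat.{u}) (fun i => (Y i).hom) xx) :
    (cx (Q (U := U) P) Y).d 0 1 (coch Y P xx) = 0 := by
  apply cx_ext_ev
  intro W σ
  rw [map_zero, ev_d, Fin.sum_univ_succ, Fin.sum_univ_succ, Fin.sum_univ_zero, ev_coch, ev_coch]
  simp only [Fin.val_zero, pow_zero, one_smul, Fin.val_succ, zero_add, pow_one, neg_smul, add_zero]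
  rw [add_neg_eq_zero]
  exact hxx _ _ W.left _ _ ((Over.w _).trans (Over.w _).symm)

theorem isSheafFor_of_bijective (h : Function.Bijective (CechEdge.toCech Y P)) :
    (Presieve.ofArrows (fun i => (Y i).left) (fun i => (Y i).hom)).IsSheafFor
      (P ⋙ forget AddCommGrpCat.{u}) := by
  have hb := toCycles_bijective Y P h
  rw [Presieve.isSheafFor_arrows_iff]
  intro xx hxx
  obtain ⟨z, hz⟩ := exists_cycle (CechEdge.cx P Y) (coch Y P xx) (d_coch Y P xx hxx)
  obtain ⟨s, hs⟩ := hb.2 z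
  have hs0 : CechEdge.toCech₀ P Y s = coch Y P xx := by
    rw [← toCycles_i_apply, hs, hz]
  refine ⟨s, ?_, ?_⟩
  · intro i
    have e1 := ev_toCech₀ Y P (Y i) (fun _ => ⟨i, 𝟙 _⟩) s
    have e2 := ev_coch Y P xx (Y i) (fun _ => ⟨i, 𝟙 _⟩)
    rw [hs0, e2] at e1
    change P.map (Y i).hom.op s = xx i
    rw [← e1]
    change P.map (𝟙 (Y i).left).op (xx i) = xx i
    rw [op_id, P.map_id]
    rfl
  · intro s' hs'
    apply hb.1
    apply iCycles_injective'
    rw [toCycles_i_apply, toCycles_i_apply, hs0]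
    apply cx_ext_ev
    intro W σ
    rw [ev_toCech₀, ev_coch]
    have : W.hom = (σ 0).2.left ≫ (Y (σ 0).1).hom := (Over.w _).symm
    rw [this, op_comp, P.map_comp, ConcreteCategory.comp_apply]
    congr 1
    exact hs' (σ 0).1

end Groth.Agent.Lib.Helper43.CechSheafIff
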