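import Mathlib

/-!
# The augmentation of the Čech nerve of a surjection of sets is a trivial Kan fibration
-/

set_option autoImplicit false
universe u

open CategoryTheory Limits Simplicial Opposite

namespace Groth.Agent.Lib.Helper43.CechTrivFib

open SSet

variable {A B : Type u} (f : A ⟶ B)

/-- the Čech nerve as a simplicial set -/
noncomputable abbrev N : SSet.{u} := (Arrow.mk f).cechNerve

/-- the augmentation -/
noncomputable abbrev p : N f ⟶ (SimplicialObject.const (Type u)).obj B :=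
  (Arrow.mk f).augmentedCechNerve.hom

variable {f} (hf : Function.Surjective f) {n : ℕ} (t : (∂Δ[n] : SSet.{u}) ⟶ N f)
  (β : (Δ[n] : SSet.{u}) ⟶ (SimplicialObject.const (Type u)).obj B)
  (sq : t ≫ p f = (∂Δ[n]).ι ≫ β)

/-- The augmented simplicial object `Δ[n] ⟶ B`. -/
noncomputable def XΔ : SimplicialObject.Augmented (Type u) :=
  { left := (Δ[n] : SSet.{u}), right := B, hom := β }

/-- The augmented simplicial object `∂Δ[n] ⟶ B`. -/
noncomputable def Xb : SimplicialObject.Augmented (Type u) :=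
  { left := ((∂Δ[n] : (Δ[n] : SSet.{u}).Subcomplex) : SSet.{u}), right := B, hom := (∂Δ[n]).ι ≫ β }

include hf in
lemma exists_preimage (b : B) : ∃ a : A, f a = b := hf b

open Classical in
/-- The map on vertices. -/
noncomputable def vert (v : (Δ[n] : SSet.{u}).obj (op ⦋0⦌)) : A :=
  if h : v ∈ (∂Δ[n] : (Δ[n] : SSet.{u}).Subcomplex).obj (op ⦋0⦌) then
    WidePullback.π (fun _ : Fin (0 + 1) => (Arrow.mk f).hom) 0 (t.app (op ⦋0⦌) ⟨v, h⟩)
  else (exists_preimage hf (β.app (op ⦋0⦌) v)).choose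

include sq in
lemma vert_spec (v : (Δ[n] : SSet.{u}).obj (op ⦋0⦌)) :
    f (vert hf t β v) = β.app (op ⦋0⦌) v := by
  unfold vert
  split_ifs with h
  · have h1 := ConcreteCategory.congr_hom
      (WidePullback.π_arrow (fun _ : Fin (0 + 1) => (Arrow.mk f).hom) 0) (t.app (op ⦋0⦌) ⟨v, h⟩)
    have h2 := ConcreteCategory.congr_hom (NatTrans.congr_app sq (op ⦋0⦌)) ⟨v, h⟩
    exact h1.trans h2
  · exact (exists_preimage hf (β.app (op ⦋0⦌) v)).choose_spec

/-- The map of arrows `((Δ[n])₀ → B) ⟶ (A → B)`. -/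
noncomputable def g : SimplicialObject.Augmented.toArrow.obj (XΔ β) ⟶ Arrow.mk f :=
  Arrow.homMk (↾(vert hf t β)) (𝟙 B) (by
    ext v
    exact vert_spec hf t β sq v)

/-- The lift, as a morphism of augmented simplicial objects. -/
noncomputable def GΔ : XΔ β ⟶ (Arrow.mk f).augmentedCechNerve :=
  SimplicialObject.equivalenceLeftToRight (XΔ β) (Arrow.mk f) (g hf t β sq)

lemma GΔ_left_comp_p : (GΔ hf t β sq).left ≫ p f = β := by
  have h := (GΔ hf t β sq).w
  have hr : (GΔ hf t β sq).right = 𝟙 B := rfl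
  rw [hr] at h
  change (GΔ hf t β sq).left ≫ p f = β ≫ (SimplicialObject.const (Type u)).map (𝟙 B) at h
  rw [h, CategoryTheory.Functor.map_id]
  exact Category.comp_id _

lemma GΔ_left_π (v : (Δ[n] : SSet.{u}).obj (op ⦋0⦌)) :
    WidePullback.π (fun _ : Fin (0 + 1) => (Arrow.mk f).hom) 0
      ((GΔ hf t β sq).left.app (op ⦋0⦌) v) = vert hf t β v := by
  have h : (GΔ hf t β sq).left.app (op ⦋0⦌) ≫
      WidePullback.π (fun _ : Fin (0 + 1) => (Arrow.mk f).hom) 0 =
      (Δ[n] : SSet.{u}).map (SimplexCategory.const ⦋0⦌ ⦋0⦌ 0).op ≫ (g hf t β sq).left := by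
    unfold GΔ
    rw [SimplicialObject.equivalenceLeftToRight_left_app]
    erw [WidePullback.lift_π]
    rfl
  have h' := ConcreteCategory.congr_hom h v
  rw [SimplexCategory.hom_zero_zero (SimplexCategory.const ⦋0⦌ ⦋0⦌ 0), op_id,
    CategoryTheory.Functor.map_id, Category.id_comp] at h'
  exact h'

/-- the inclusion of augmented simplicial objects -/
noncomputable def incl : Xb β ⟶ XΔ β :=
  { left := (∂Δ[n]).ι
    right := 𝟙 B
    w := by
      change (∂Δ[n]).ι ≫ β = ((∂Δ[n]).ι ≫ β) ≫ (SimplicialObject.const (Type u)).map (𝟙 B)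
      rw [CategoryTheory.Functor.map_id]
      exact (Category.comp_id _).symm }

/-- the given map on the boundary, as a morphism of augmented simplicial objects -/
noncomputable def Gb : Xb β ⟶ (Arrow.mk f).augmentedCechNerve :=
  { left := t
    right := 𝟙 B
    w := by
      change t ≫ p f = ((∂Δ[n]).ι ≫ β) ≫ (SimplicialObject.const (Type u)).map (𝟙 B)
      rw [CategoryTheory.Functor.map_id, sq]
      exact (Category.comp_id _).symm }

lemma incl_GΔ : incl β ≫ GΔ hf t β sq = Gb t β sq := by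
  apply (SimplicialObject.cechNerveEquiv (Xb β) (Arrow.mk f)).symm.injective
  change SimplicialObject.equivalenceRightToLeft _ _ _ =
    SimplicialObject.equivalenceRightToLeft _ _ _
  apply Arrow.hom_ext
  · ext ⟨v, h⟩
    change WidePullback.π (fun _ : Fin (0 + 1) => (Arrow.mk f).hom) 0
      ((GΔ hf t β sq).left.app (op ⦋0⦌) v) =
        WidePullback.π (fun _ : Fin (0 + 1) => (Arrow.mk f).hom) 0 (t.app (op ⦋0⦌) ⟨v, h⟩)
    rw [GΔ_left_π]
    unfold vert
    rw [dif_pos h]
  · change 𝟙 B ≫ 𝟙 B = 𝟙 B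
    exact Category.id_comp _

lemma ι_GΔ_left : (∂Δ[n]).ι ≫ (GΔ hf t β sq).left = t :=
  congrArg CommaMorphism.left (incl_GΔ hf t β sq)

include hf in
theorem main : SSet.modelCategoryQuillen.I.rlp (Arrow.mk f).augmentedCechNerve.hom := by
  intro A' B' i hi
  cases hi with
  | mk n =>
    constructor
    intro t β sq
    exact ⟨⟨{ l := (GΔ hf t β sq.w).left
              fac_left := ι_GΔ_left hf t β sq.w
              fac_right := GΔ_left_comp_p hf t β sq.w }⟩⟩

end Groth.Agent.Lib.Helper43.CechTrivFib
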