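import Mathlib
import Groth.Agent.Lib.Helper43.CechExact
import Groth.Agent.Lib.Helper43.CechInfAcyclic

/-!
# Vanishing of ordered Čech cohomology above the number of members of a finite cover

For a family `U : ι → Opens X` and a presheaf `P` of abelian groups which vanishes on all opens
contained in some `U i` with `i ∉ T` (`T` a finite set of `m` indices), the Čech cohomology of `P`
with respect to `U` (all ordered cochains) vanishes in degrees `≥ m`.  Induction on `m`, using the
map `P ⟶ P (- ⊓ U i₀)` whose target is Čech-acyclic and whose kernel and cokernel vanish inside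
`U i₀`.
-/

universe u
open CategoryTheory CategoryTheory.Limits Opposite TopologicalSpace

namespace Groth.Agent.Lib.Helper43.CechVanish

open Groth.Agent.Lib.Helper43.CechExact Groth.Agent.Lib.Helper43.CechInfAcyclic

variable {X : TopCat.{u}} {ι : Type u} (U : ι → Opens X)

/-- presheaves of abelian groups -/
abbrev PSh (X : TopCat.{u}) := (Opens X)ᵒᵖ ⥤ AddCommGrpCat.{u}

/-- `P` vanishes on opens contained in a member `U i` with `i ∉ T`. -/
def VanishOff (T : Finset ι) (P : PSh X) : Prop :=
  ∀ i, i ∉ T → ∀ V : Opens X, V ≤ U i → IsZero (P.obj (op V))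

/-- restriction to the intersection with `U i₀` -/
def eta (i₀ : ι) (P : PSh X) : P ⟶ (infF U i₀).op ⋙ P where
  app V := P.map (homOfLE (inf_le_left : V.unop ⊓ U i₀ ≤ V.unop)).op
  naturality V W f := by
    change P.map f ≫ P.map _ = P.map _ ≫ P.map _
    rw [← P.map_comp, ← P.map_comp]
    exact congrArg _ (Subsingleton.elim _ _)

lemma isIso_eta_app (i₀ : ι) (P : PSh X) (V : Opens X) (hV : V ≤ U i₀) :
    IsIso ((eta U i₀ P).app (op V)) := by
  have : IsIso (homOfLE (inf_le_left : V ⊓ U i₀ ≤ V)) :=
    ⟨homOfLE (le_inf le_rfl hV), Subsingleton.elim _ _, Subsingleton.elim _ _⟩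
  change IsIso (P.map (homOfLE (inf_le_left : V ⊓ U i₀ ≤ V)).op)
  infer_instance

lemma isZero_pi {α : Type u} (f : α → AddCommGrpCat.{u}) (h : ∀ a, IsZero (f a)) :
    IsZero (∏ᶜ f) := by
  rw [IsZero.iff_id_eq_zero]
  apply Limits.Pi.hom_ext
  intro a
  exact (h a).eq_of_tgt _ _

lemma isZero_H_of_empty (P : PSh X) (hP : VanishOff U ∅ P) (q : ℕ) : IsZero (H U P q) := by
  have hterm : IsZero (((cechComplexFunctor U).obj P).X q) := by
    change IsZero (∏ᶜ fun x : Fin (q + 1) → ι => P.obj (op (∏ᶜ (U ∘ x))))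
    apply isZero_pi
    intro x
    exact hP (x 0) (Finset.notMem_empty _) _ (Pi.π (U ∘ x) 0).le
  exact (HomologicalComplex.exactAt_iff_isZero_homology _ _).mp
    (HomologicalComplex.ExactAt.of_isZero hterm)

section Step

variable (i₀ : ι) (P : PSh X)

/-- kernel sequence `0 → K → P → coim → 0` -/
noncomputable def S1 : ShortComplex (PSh X) :=
  ShortComplex.mk (kernel.ι (eta U i₀ P)) (cokernel.π (kernel.ι (eta U i₀ P)))
    (cokernel.condition _)

/-- cokernel sequence `0 → im → I → Q → 0` -/
noncomputable def S2 : ShortComplex (PSh X) :=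
  ShortComplex.mk (kernel.ι (cokernel.π (eta U i₀ P))) (cokernel.π (eta U i₀ P))
    (kernel.condition _)

lemma S1_shortExact : (S1 U i₀ P).ShortExact where
  exact := ShortComplex.exact_of_g_is_cokernel _ (cokernelIsCokernel _)
  mono_f := by dsimp [S1]; infer_instance
  epi_g := by dsimp [S1]; infer_instance

lemma S2_shortExact : (S2 U i₀ P).ShortExact where
  exact := ShortComplex.exact_of_f_is_kernel _ (kernelIsKernel _)
  mono_f := by dsimp [S2]; infer_instance
  epi_g := by dsimp [S2]; infer_instance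

lemma vanishOff_kernel [DecidableEq ι] (T : Finset ι) (hP : VanishOff U T P) :
    VanishOff U (T.erase i₀) (kernel (eta U i₀ P)) := by
  intro i hi V hV
  have hmono : Mono ((kernel.ι (eta U i₀ P)).app (op V)) :=
    (NatTrans.mono_iff_mono_app _).mp inferInstance (op V)
  by_cases hiT : i ∈ T
  · have : i = i₀ := by
      by_contra hne
      exact hi (Finset.mem_erase.mpr ⟨hne, hiT⟩)
    subst this
    have hiso := isIso_eta_app U i P V hV
    apply IsZero.of_mono_eq_zero ((kernel.ι (eta U i P)).app (op V))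
    have h0 : (kernel.ι (eta U i P)).app (op V) ≫ (eta U i P).app (op V) = 0 := by
      rw [← NatTrans.comp_app, kernel.condition]
      rfl
    rw [← cancel_mono ((eta U i P).app (op V)), h0, zero_comp]
  · exact IsZero.of_mono ((kernel.ι (eta U i₀ P)).app (op V)) (hP i hiT V hV)

lemma vanishOff_cokernel [DecidableEq ι] (T : Finset ι) (hP : VanishOff U T P) :
    VanishOff U (T.erase i₀) (cokernel (eta U i₀ P)) := by
  intro i hi V hV
  have hepi : Epi ((cokernel.π (eta U i₀ P)).app (op V)) :=
    (NatTrans.epi_iff_epi_app _).mp inferInstance (op V)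
  by_cases hiT : i ∈ T
  · have : i = i₀ := by
      by_contra hne
      exact hi (Finset.mem_erase.mpr ⟨hne, hiT⟩)
    subst this
    have hiso := isIso_eta_app U i P V hV
    apply IsZero.of_epi_eq_zero ((cokernel.π (eta U i P)).app (op V))
    have h0 : (eta U i P).app (op V) ≫ (cokernel.π (eta U i P)).app (op V) = 0 := by
      rw [← NatTrans.comp_app, cokernel.condition]
      rfl
    rw [← cancel_epi ((eta U i P).app (op V)), h0, comp_zero]
  · refine IsZero.of_epi ((cokernel.π (eta U i₀ P)).app (op V)) ?_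
    change IsZero (P.obj (op (V ⊓ U i₀)))
    exact hP i hiT _ (inf_le_left.trans hV)

end Step

theorem vanish (m : ℕ) : ∀ (T : Finset ι), T.card = m → ∀ (P : PSh X), VanishOff U T P →
    ∀ q, m ≤ q → IsZero (H U P q) := by
  classical
  induction m with
  | zero =>
    intro T hT P hP q _
    rw [Finset.card_eq_zero] at hT
    subst hT
    exact isZero_H_of_empty U P hP q
  | succ m ih =>
    intro T hT P hP q hq
    obtain ⟨i₀, hi₀⟩ : T.Nonempty := by
      rw [← Finset.card_pos, hT]; exact Nat.succ_pos m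
    have hT' : (T.erase i₀).card = m := by
      rw [Finset.card_erase_of_mem hi₀, hT]; rfl
    obtain ⟨q', rfl⟩ : ∃ q', q = q' + 1 := ⟨q - 1, by omega⟩
    have hq' : m ≤ q' := by omega
    have hK := ih (T.erase i₀) hT' _ (vanishOff_kernel U i₀ P T hP)
    have hQ := ih (T.erase i₀) hT' _ (vanishOff_cokernel U i₀ P T hP)
    -- image
    have hR2 : IsZero (H U (S2 U i₀ P).X₁ (q' + 1)) :=
      isZero_left U (S2 U i₀ P) (S2_shortExact U i₀ P) q'
        (isZero_homology_succ U i₀ P q') (hQ q' hq')
    -- coimage ≅ image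
    have e : (S1 U i₀ P).X₃ ≅ (S2 U i₀ P).X₁ := Abelian.coimageIsoImage (eta U i₀ P)
    have hR1 : IsZero (H U (S1 U i₀ P).X₃ (q' + 1)) :=
      hR2.of_iso ((cechComplexFunctor U ⋙
        HomologicalComplex.homologyFunctor _ _ (q' + 1)).mapIso e)
    exact isZero_mid U (S1 U i₀ P) (S1_shortExact U i₀ P) (q' + 1)
      (hK (q' + 1) (by omega)) hR1

theorem main [Finite ι] (P : PSh X) (q : ℕ) (hq : Nat.card ι ≤ q) : IsZero (H U P q) := by
  classical
  haveI := Fintype.ofFinite ι
  refine vanish U (Nat.card ι) Finset.univ ?_ P ?_ q hq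
  · rw [Finset.card_univ, Nat.card_eq_fintype_card]
  · intro i hi
    exact absurd (Finset.mem_univ i) hi

end Groth.Agent.Lib.Helper43.CechVanish
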