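import Mathlib.CategoryTheory.Adhesive.Basic
import Mathlib.CategoryTheory.Sites.LeftExact
import Mathlib.CategoryTheory.Limits.Shapes.Pullback.IsPullback.Basic

/-!
# The square `X ⟶ X_CU` is cartesian iff `m` is an isomorphism over `U` (helper43, for S12107)
-/

set_option autoImplicit false

universe v u

open CategoryTheory CategoryTheory.Limits

namespace Groth.Agent.Lib.Helper43.ClosedPartSq

variable {E : Type u} [Category.{v} E] [Adhesive E] [HasBinaryProducts E] [HasTerminal E]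
  [HasPushouts E]

lemma mono_snd (U X : E) [Mono (terminal.from U)] : Mono (prod.snd : U ⨯ X ⟶ X) where
  right_cancellation a b h := by
    apply Limits.prod.hom_ext
    · rw [← cancel_mono (terminal.from U)]
      apply Subsingleton.elim
    · exact h

lemma isPullback_prod_map (U : E) {X X' : E} (m : X ⟶ X') :
    IsPullback (prod.snd : U ⨯ X ⟶ X) (prod.map (𝟙 U) m) m (prod.snd : U ⨯ X' ⟶ X') := by
  refine ⟨⟨(prod.map_snd (𝟙 U) m).symm⟩,
    ⟨PullbackCone.IsLimit.mk _ (fun s => prod.lift (s.snd ≫ prod.fst) s.fst)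
    (fun s => prod.lift_snd _ _) (fun s => ?_) (fun s l h₁ h₂ => ?_)⟩⟩
  · apply Limits.prod.hom_ext
    · rw [Category.assoc, prod.map_fst, Category.comp_id, prod.lift_fst]
    · rw [Category.assoc, prod.map_snd, prod.lift_snd_assoc, s.condition]
  · apply Limits.prod.hom_ext
    · rw [prod.lift_fst, ← h₂, Category.assoc, prod.map_fst, Category.comp_id]
    · rw [prod.lift_snd, h₁]

theorem main (U : E) [Mono (terminal.from U)] {X X' : E} (m : X ⟶ X')
    (k : pushout (prod.fst : U ⨯ X ⟶ U) (prod.snd : U ⨯ X ⟶ X) ⟶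
      pushout (prod.fst : U ⨯ X' ⟶ U) (prod.snd : U ⨯ X' ⟶ X'))
    (hk₁ : pushout.inl (prod.fst : U ⨯ X ⟶ U) (prod.snd : U ⨯ X ⟶ X) ≫ k =
      pushout.inl (prod.fst : U ⨯ X' ⟶ U) (prod.snd : U ⨯ X' ⟶ X'))
    (hk₂ : pushout.inr (prod.fst : U ⨯ X ⟶ U) (prod.snd : U ⨯ X ⟶ X) ≫ k =
      m ≫ pushout.inr (prod.fst : U ⨯ X' ⟶ U) (prod.snd : U ⨯ X' ⟶ X')) :
    IsPullback m (pushout.inr (prod.fst : U ⨯ X ⟶ U) (prod.snd : U ⨯ X ⟶ X))
        (pushout.inr (prod.fst : U ⨯ X' ⟶ U) (prod.snd : U ⨯ X' ⟶ X')) k ↔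
      IsIso (prod.map (𝟙 U) m) := by
  haveI := mono_snd U X
  haveI := mono_snd U X'
  have H : IsPushout (prod.fst : U ⨯ X ⟶ U) (prod.snd : U ⨯ X ⟶ X)
      (pushout.inl _ _) (pushout.inr _ _) := IsPushout.of_hasPushout _ _
  have H' : IsPushout (prod.fst : U ⨯ X' ⟶ U) (prod.snd : U ⨯ X' ⟶ X')
      (pushout.inl _ _) (pushout.inr _ _) := IsPushout.of_hasPushout _ _
  have A : IsPullback (prod.fst : U ⨯ X ⟶ U) (prod.snd : U ⨯ X ⟶ X)
      (pushout.inl _ _) (pushout.inr _ _) := Adhesive.isPullback_of_isPushout_of_mono_right H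
  have A' : IsPullback (prod.fst : U ⨯ X' ⟶ U) (prod.snd : U ⨯ X' ⟶ X')
      (pushout.inl _ _) (pushout.inr _ _) := Adhesive.isPullback_of_isPushout_of_mono_right H'
  constructor
  · intro B
    -- paste `A` and `B`
    have AB : IsPullback (prod.fst : U ⨯ X ⟶ U) ((prod.snd : U ⨯ X ⟶ X) ≫ m)
        (pushout.inl (prod.fst : U ⨯ X ⟶ U) (prod.snd : U ⨯ X ⟶ X) ≫ k)
        (pushout.inr (prod.fst : U ⨯ X' ⟶ U) (prod.snd : U ⨯ X' ⟶ X')) :=
      (A.flip.paste_horiz B).flip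
    rw [hk₁] at AB
    let e := AB.isoIsPullback _ _ A'
    have h1 : e.hom ≫ prod.fst = prod.fst := AB.isoIsPullback_hom_fst _ _ A'
    have h2 : e.hom ≫ prod.snd = prod.snd ≫ m := AB.isoIsPullback_hom_snd _ _ A'
    have : prod.map (𝟙 U) m = e.hom := by
      apply Limits.prod.hom_ext
      · rw [h1, prod.map_fst, Category.comp_id]
      · rw [h2, prod.map_snd]
    rw [this]
    infer_instance
  · intro hiso
    have VK := Adhesive.van_kampen' H'
    have h1 : IsPullback (prod.fst : U ⨯ X ⟶ U) (prod.map (𝟙 U) m) (𝟙 U)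
        (prod.fst : U ⨯ X' ⟶ U) := IsPullback.of_vert_isIso ⟨by rw [prod.map_fst, Category.comp_id]⟩
    have h2 := isPullback_prod_map U m
    have := (VK (prod.fst : U ⨯ X ⟶ U) (prod.snd : U ⨯ X ⟶ X) (pushout.inl _ _) (pushout.inr _ _)
      (prod.map (𝟙 U) m) (𝟙 U) m k h1 h2 ⟨by rw [hk₁, Category.id_comp]⟩ ⟨hk₂⟩
      ⟨pushout.condition⟩).1 H
    exact this.2.flip

end Groth.Agent.Lib.Helper43.ClosedPartSq
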