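import Mathlib

/-!
# Pushforward of (pre)sheaves along an inducing map is fully faithful
-/

set_option autoImplicit false
universe u v w
open CategoryTheory TopologicalSpace Opposite

namespace Groth.Agent.Lib.Helper43.ClosedPush

variable {C : Type v} [Category.{w} C] {Z X : TopCat.{u}} {i : Z ⟶ X}

lemma op_hom_subsingleton {T : TopCat.{u}} {A B : (Opens T)ᵒᵖ} (f g : A ⟶ B) : f = g :=
  Quiver.Hom.unop_inj (Subsingleton.elim _ _)

lemma map_map_thin {T : TopCat.{u}} (F : T.Presheaf C) {A B D : (Opens T)ᵒᵖ} (f : A ⟶ B)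
    (g : B ⟶ D) (h : A ⟶ D) : F.map f ≫ F.map g = F.map h := by
  rw [← F.map_comp]
  exact congrArg _ (op_hom_subsingleton _ _)

lemma map_thin_id {T : TopCat.{u}} (F : T.Presheaf C) {A : (Opens T)ᵒᵖ} (f : A ⟶ A) :
    F.map f = 𝟙 _ := by
  rw [op_hom_subsingleton f (𝟙 A), F.map_id]

variable (hi : Topology.IsInducing i)

/-- the largest open of `X` with preimage `W` -/
noncomputable irreducible_def r (W : Opens Z) : Opens X := hi.functorObj W

lemma map_r (W : Opens Z) : (Opens.map i).obj (r hi W) = W := by
  rw [r_def]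
  exact hi.map_functorObj W

lemma le_r_iff {W : Opens Z} {V : Opens X} : V ≤ r hi W ↔ (Opens.map i).obj V ≤ W := by
  rw [r_def]
  exact hi.le_functorObj_iff

lemma r_mono {W W' : Opens Z} (h : W' ≤ W) : r hi W' ≤ r hi W :=
  (le_r_iff hi).mpr ((map_r hi W').le.trans h)

lemma le_r (V : Opens X) : V ≤ r hi ((Opens.map i).obj V) := (le_r_iff hi).mpr le_rfl

/-- the preimage of a morphism of pushforwards -/
noncomputable def preimage {F G : Z.Presheaf C}
    (α : (TopCat.Presheaf.pushforward C i).obj F ⟶ (TopCat.Presheaf.pushforward C i).obj G) :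
    F ⟶ G where
  app W := F.map (eqToHom (map_r hi W.unop)).op ≫ α.app (op (r hi W.unop)) ≫
    G.map (eqToHom (map_r hi W.unop).symm).op
  naturality W W' g := by
    have hnat : F.map ((Opens.map i).map (homOfLE (r_mono hi g.unop.le))).op ≫
        α.app (op (r hi W'.unop)) = α.app (op (r hi W.unop)) ≫
          G.map ((Opens.map i).map (homOfLE (r_mono hi g.unop.le))).op :=
      α.naturality (homOfLE (r_mono hi g.unop.le)).op
    have e1 : F.map g ≫ F.map (eqToHom (map_r hi W'.unop)).op =
        F.map (eqToHom (map_r hi W.unop)).op ≫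
          F.map ((Opens.map i).map (homOfLE (r_mono hi g.unop.le))).op := by
      rw [map_map_thin F _ _ (g ≫ (eqToHom (map_r hi W'.unop)).op), map_map_thin F _ _ _]
    have e2 : G.map ((Opens.map i).map (homOfLE (r_mono hi g.unop.le))).op ≫
        G.map (eqToHom (map_r hi W'.unop).symm).op =
        G.map (eqToHom (map_r hi W.unop).symm).op ≫ G.map g := by
      rw [map_map_thin G _ _ ((eqToHom (map_r hi W.unop).symm).op ≫ g)]
      rw [map_map_thin G _ _ ((eqToHom (map_r hi W.unop).symm).op ≫ g)]
    rw [reassoc_of% e1, reassoc_of% hnat, e2]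
    simp only [Category.assoc]

lemma pushforward_preimage {F G : Z.Presheaf C}
    (α : (TopCat.Presheaf.pushforward C i).obj F ⟶ (TopCat.Presheaf.pushforward C i).obj G) :
    (TopCat.Presheaf.pushforward C i).map (preimage hi α) = α := by
  suffices key : ∀ V : Opens X,
      ((TopCat.Presheaf.pushforward C i).map (preimage hi α)).app (op V) = α.app (op V) by
    ext V
    exact key V
  intro V
  have hnat : F.map ((Opens.map i).map (homOfLE (le_r hi V))).op ≫ α.app (op V) =
      α.app (op (r hi ((Opens.map i).obj V))) ≫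
        G.map ((Opens.map i).map (homOfLE (le_r hi V))).op :=
    α.naturality (homOfLE (le_r hi V)).op
  have e2 : G.map (eqToHom (map_r hi ((Opens.map i).obj V)).symm).op =
      G.map ((Opens.map i).map (homOfLE (le_r hi V))).op :=
    congrArg _ (op_hom_subsingleton _ _)
  have e1 : F.map (eqToHom (map_r hi ((Opens.map i).obj V))).op ≫
      F.map ((Opens.map i).map (homOfLE (le_r hi V))).op = 𝟙 _ := by
    rw [map_map_thin F _ _ (𝟙 _), F.map_id]
  show F.map (eqToHom (map_r hi ((Opens.map i).obj V))).op ≫
    α.app (op (r hi ((Opens.map i).obj V))) ≫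
      G.map (eqToHom (map_r hi ((Opens.map i).obj V)).symm).op = α.app (op V)
  rw [e2, ← hnat, reassoc_of% e1]

include hi in
lemma eq_of_pushforward_eq {F G : Z.Presheaf C} (β β' : F ⟶ G)
    (h : (TopCat.Presheaf.pushforward C i).map β = (TopCat.Presheaf.pushforward C i).map β') :
    β = β' := by
  suffices key : ∀ W : Opens Z, β.app (op W) = β'.app (op W) by
    ext W
    exact key W
  intro W
  have h1 : β.app (op ((Opens.map i).obj (r hi W))) =
      β'.app (op ((Opens.map i).obj (r hi W))) :=
    congrArg (fun γ => γ.app (op (r hi W))) h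
  have n1 := β.naturality (eqToHom (map_r hi W)).op
  have n2 := β'.naturality (eqToHom (map_r hi W)).op
  have hiso : IsIso (G.map (eqToHom (map_r hi W)).op) := inferInstance
  rw [← cancel_mono (G.map (eqToHom (map_r hi W)).op), ← n1, ← n2, h1]

include hi in
theorem full_presheaf : (TopCat.Presheaf.pushforward C i).Full :=
  ⟨fun α => ⟨preimage hi α, pushforward_preimage hi α⟩⟩

include hi in
theorem faithful_presheaf : (TopCat.Presheaf.pushforward C i).Faithful :=
  ⟨fun {_ _ β β'} h => eq_of_pushforward_eq hi β β' h⟩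

include hi in
theorem full_sheaf : (TopCat.Sheaf.pushforward C i).Full := by
  refine ⟨fun {F G} α => ?_⟩
  refine ⟨⟨preimage hi α.1⟩, ?_⟩
  apply ObjectProperty.hom_ext
  exact pushforward_preimage hi α.1

include hi in
theorem faithful_sheaf : (TopCat.Sheaf.pushforward C i).Faithful := by
  refine ⟨fun {F G β β'} h => ?_⟩
  apply ObjectProperty.hom_ext
  refine eq_of_pushforward_eq hi β.1 β'.1 ?_
  exact congrArg (fun γ => γ.1) h

end Groth.Agent.Lib.Helper43.ClosedPush
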