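import Mathlib

/-!
# Sections of a directed colimit of sheaves of sets on a topological space

For a directed system `F : J ⥤ X.Sheaf (Type u)` with colimit cocone `c`, we compare
`colim_i F_i(U)` with `(colim F)(U)`, via stalks.
-/

set_option autoImplicit false
set_option linter.deprecated false
universe u
open CategoryTheory CategoryTheory.Limits TopologicalSpace Opposite

namespace Groth.Agent.Lib.Helper43.ShColim

variable {X : TopCat.{u}} {J : Type u} [Preorder J]
  (F : J ⥤ X.Sheaf (Type u)) (c : Cocone F)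

/-- transition map on sections -/
def tr {i k : J} (h : i ≤ k) (V : Opens X) :
    (F.obj i).1.obj (op V) → (F.obj k).1.obj (op V) :=
  fun y => (F.map (homOfLE h)).1.app (op V) y

/-- cocone leg on sections -/
def ι (i : J) (V : Opens X) : (F.obj i).1.obj (op V) → c.pt.1.obj (op V) :=
  fun y => (c.ι.app i).1.app (op V) y

/-- restriction -/
def res (G : X.Sheaf (Type u)) {V U : Opens X} (h : V ≤ U) :
    G.1.obj (op U) → G.1.obj (op V) :=
  fun y => G.1.map (homOfLE h).op y

lemma res_res (G : X.Sheaf (Type u)) {W V U : Opens X} (h : W ≤ V) (h' : V ≤ U)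
    (y : G.1.obj (op U)) : res G h (res G h' y) = res G (h.trans h') y := by
  unfold res
  rw [← FunctorToTypes.map_comp_apply]
  rfl

lemma res_self (G : X.Sheaf (Type u)) {U : Opens X} (h : U ≤ U)
    (y : G.1.obj (op U)) : res G h y = y := by
  unfold res
  have : (homOfLE h).op = 𝟙 (op U) := rfl
  rw [this, FunctorToTypes.map_id_apply]

lemma ι_tr {i k : J} (h : i ≤ k) (V : Opens X) (y : (F.obj i).1.obj (op V)) :
    ι F c k V (tr F h V y) = ι F c i V y := by
  unfold ι tr
  have := c.w (homOfLE h)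
  rw [← this]
  rfl

lemma tr_tr {i k l : J} (h : i ≤ k) (h' : k ≤ l) (V : Opens X) (y : (F.obj i).1.obj (op V)) :
    tr F h' V (tr F h V y) = tr F (h.trans h') V y := by
  unfold tr
  have : homOfLE (h.trans h') = homOfLE h ≫ homOfLE h' := rfl
  rw [this, F.map_comp]
  rfl

lemma ι_res (i : J) {V U : Opens X} (h : V ≤ U) (y : (F.obj i).1.obj (op U)) :
    ι F c i V (res (F.obj i) h y) = res c.pt h (ι F c i U y) := by
  unfold ι res
  exact ConcreteCategory.congr_hom ((c.ι.app i).1.naturality (homOfLE h).op) y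

lemma tr_res {i k : J} (hik : i ≤ k) {V U : Opens X} (h : V ≤ U) (y : (F.obj i).1.obj (op U)) :
    tr F hik V (res (F.obj i) h y) = res (F.obj k) h (tr F hik U y) := by
  unfold tr res
  exact ConcreteCategory.congr_hom ((F.map (homOfLE hik)).1.naturality (homOfLE h).op) y

variable {F c}

/-- locality of equality of sections, pointwise form -/
lemma eq_of_forall_mem {G : X.Sheaf (Type u)} {V : Opens X} (s t : G.1.obj (op V))
    (h : ∀ x ∈ V, ∃ (W : Opens X) (hW : W ≤ V), x ∈ W ∧ res G hW s = res G hW t) : s = t := by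
  choose W hW hxW hst using h
  refine TopCat.Sheaf.eq_of_locally_eq' G (fun x : V => W x.1 x.2) V
    (fun x => homOfLE (hW x.1 x.2)) ?_ s t (fun x => hst x.1 x.2)
  intro x hx
  exact Opens.mem_iSup.mpr ⟨⟨x, hx⟩, hxW x hx⟩

/-- gluing along a cover, in `res` form -/
lemma exists_glue {G : X.Sheaf (Type u)} {A : Type*} {U : Opens X} (W : A → Opens X)
    (hWU : ∀ a, W a ≤ U) (hcov : U ≤ ⨆ a, W a) (t : ∀ a, G.1.obj (op (W a)))
    (hcompat : ∀ a b, res G (inf_le_left : W a ⊓ W b ≤ W a) (t a) =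
      res G (inf_le_right : W a ⊓ W b ≤ W b) (t b)) :
    ∃ s : G.1.obj (op U), ∀ a, res G (hWU a) s = t a := by
  obtain ⟨s, hs, -⟩ := TopCat.Sheaf.existsUnique_gluing' G W U (fun a => homOfLE (hWU a)) hcov t
    (fun a b => hcompat a b)
  exact ⟨s, hs⟩

section
variable [Nonempty J] [IsDirected J (· ≤ ·)] (hc : IsColimit c)
include hc

omit [Nonempty J] [IsDirected J (· ≤ ·)] in
/-- Lemma A: every section of the colimit sheaf locally comes from a stage. -/
theorem exists_local_lift {U : Opens X} (s : c.pt.1.obj (op U)) (x : X) (hx : x ∈ U) :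
    ∃ (i : J) (V : Opens X) (hV : V ≤ U) (_ : x ∈ V) (t : (F.obj i).1.obj (op V)),
      ι F c i V t = res c.pt hV s := by
  let G := TopCat.Sheaf.forget (Type u) X ⋙ TopCat.Presheaf.stalkFunctor (Type u) x
  have hG : IsColimit (G.mapCocone c) := isColimitOfPreserves G hc
  obtain ⟨i, g, hg⟩ := Types.jointly_surjective_of_isColimit hG (TopCat.Presheaf.germ c.pt.1 U x hx s)
  obtain ⟨V, hxV, t, rfl⟩ := TopCat.Presheaf.exists_germ_eq (F.obj i).1 g
  have h2 : TopCat.Presheaf.germ c.pt.1 V x hxV ((c.ι.app i).1.app (op V) t) = TopCat.Presheaf.germ c.pt.1 U x hx s := by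
    rw [← hg]
    exact (TopCat.Presheaf.stalkFunctor_map_germ_apply V x hxV (c.ι.app i).1 t).symm
  obtain ⟨W, hxW, iV, iU, e⟩ := TopCat.Presheaf.germ_eq c.pt.1 x hxV hx _ _ h2
  refine ⟨i, W, iU.le, hxW, res (F.obj i) iV.le t, ?_⟩
  rw [ι_res]
  exact e

/-- Lemma B: two sections at a stage with the same image in the colimit become locally equal
at a later stage. -/
theorem exists_local_eq {U : Opens X} {i : J} (s t : (F.obj i).1.obj (op U))
    (h : ι F c i U s = ι F c i U t) (x : X) (hx : x ∈ U) :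
    ∃ (k : J) (hik : i ≤ k) (V : Opens X) (hV : V ≤ U) (_ : x ∈ V),
      res (F.obj k) hV (tr F hik U s) = res (F.obj k) hV (tr F hik U t) := by
  let G := TopCat.Sheaf.forget (Type u) X ⋙ TopCat.Presheaf.stalkFunctor (Type u) x
  have hG : IsColimit (G.mapCocone c) := isColimitOfPreserves G hc
  have h1 : (G.mapCocone c).ι.app i (TopCat.Presheaf.germ (F.obj i).1 U x hx s) =
      (G.mapCocone c).ι.app i (TopCat.Presheaf.germ (F.obj i).1 U x hx t) := by
    have e1 := TopCat.Presheaf.stalkFunctor_map_germ_apply U x hx (c.ι.app i).1 s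
    have e2 := TopCat.Presheaf.stalkFunctor_map_germ_apply U x hx (c.ι.app i).1 t
    refine e1.trans (Eq.trans ?_ e2.symm)
    exact congrArg _ h
  obtain ⟨k, f, hf⟩ := (Types.FilteredColimit.isColimit_eq_iff' hG _ _).mp h1
  have e1 := TopCat.Presheaf.stalkFunctor_map_germ_apply U x hx (F.map f).1 s
  have e2 := TopCat.Presheaf.stalkFunctor_map_germ_apply U x hx (F.map f).1 t
  have h3 : TopCat.Presheaf.germ (F.obj k).1 U x hx ((F.map f).1.app (op U) s) =
      TopCat.Presheaf.germ (F.obj k).1 U x hx ((F.map f).1.app (op U) t) :=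
    e1.symm.trans (hf.trans e2)
  obtain ⟨W, hxW, iV, iU, e⟩ := TopCat.Presheaf.germ_eq (F.obj k).1 x hx hx _ _ h3
  exact ⟨k, leOfHom f, W, iU.le, hxW, e⟩

/-- D1: if all transition maps are injective on sections then so are the cocone legs. -/
theorem ι_injective_of_tr_injective
    (hinj : ∀ (i j : J) (h : i ⟶ j) (V : Opens X), Function.Injective ((F.map h).1.app (op V)))
    (i : J) (V : Opens X) : Function.Injective (ι F c i V) := by
  intro y z hyz
  refine eq_of_forall_mem y z ?_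
  intro x hx
  obtain ⟨k, hik, W, hW, hxW, e⟩ := exists_local_eq hc y z hyz x hx
  refine ⟨W, hW, hxW, ?_⟩
  rw [← tr_res, ← tr_res] at e
  exact hinj i k (homOfLE hik) W e

/-- D2: on a quasi-compact open, two sections with equal image in the colimit become equal at a
later stage. -/
theorem exists_tr_eq_of_isCompact {V : Opens X} (hV : IsCompact (V : Set X)) {i : J}
    (y z : (F.obj i).1.obj (op V)) (hyz : ι F c i V y = ι F c i V z) :
    ∃ (k : J) (hik : i ≤ k), tr F hik V y = tr F hik V z := by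
  classical
  have H := fun (x : V) => exists_local_eq hc y z hyz x.1 x.2
  choose k hik W hW hxW e using H
  obtain ⟨T, hT⟩ := hV.elim_finite_subcover (fun x : V => (W x : Set X)) (fun x => (W x).2)
    (fun x hx => Set.mem_iUnion.mpr ⟨⟨x, hx⟩, hxW ⟨x, hx⟩⟩)
  obtain ⟨M, hM⟩ := Finset.exists_le (T.image k)
  obtain ⟨M', hMM', hiM'⟩ := exists_ge_ge M i
  refine ⟨M', hiM', ?_⟩
  refine eq_of_forall_mem _ _ ?_
  intro p hp
  obtain ⟨x, hxT, hpx⟩ : ∃ x ∈ T, p ∈ W x := by
    have := hT hp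
    simpa using this
  refine ⟨W x, hW x, hpx, ?_⟩
  have hkM : k x ≤ M' := (hM (k x) (Finset.mem_image_of_mem k hxT)).trans hMM'
  have e' := congrArg (tr F hkM (W x)) (e x)
  rw [tr_res, tr_res, tr_tr, tr_tr] at e'
  exact e'

omit [Nonempty J] [IsDirected J (· ≤ ·)] hc in
/-- E: a section of the colimit which lifts compatibly along a cover at a single stage lifts. -/
theorem exists_lift_of_cover {A : Type*} {U : Opens X} (s : c.pt.1.obj (op U)) (W : A → Opens X)
    (hWU : ∀ a, W a ≤ U) (hcov : U ≤ ⨆ a, W a) (k : J) (t : ∀ a, (F.obj k).1.obj (op (W a)))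
    (ht : ∀ a, ι F c k (W a) (t a) = res c.pt (hWU a) s)
    (hcompat : ∀ a b, res (F.obj k) (inf_le_left : W a ⊓ W b ≤ W a) (t a) =
      res (F.obj k) (inf_le_right : W a ⊓ W b ≤ W b) (t b)) :
    ∃ t' : (F.obj k).1.obj (op U), ι F c k U t' = s := by
  obtain ⟨t', ht'⟩ := exists_glue W hWU hcov t hcompat
  refine ⟨t', eq_of_forall_mem _ _ ?_⟩
  intro x hx
  obtain ⟨a, hxa⟩ := Opens.mem_iSup.mp (hcov hx)
  refine ⟨W a, hWU a, hxa, ?_⟩
  rw [← ι_res, ht' a, ht a]

omit hc in
/-- F: a section of the colimit which lifts locally along a finite cover, with overlaps on which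
equality in the colimit is detected at a later stage, lifts to some stage. -/
theorem exists_lift_of_finite_cover {A : Type*} [Finite A] {U : Opens X}
    (s : c.pt.1.obj (op U)) (W : A → Opens X)
    (hWU : ∀ a, W a ≤ U) (hcov : U ≤ ⨆ a, W a)
    (hloc : ∀ a, ∃ (i : J) (t : (F.obj i).1.obj (op (W a))),
      ι F c i (W a) t = res c.pt (hWU a) s)
    (hov : ∀ (a b : A) (i : J) (y z : (F.obj i).1.obj (op (W a ⊓ W b))),
        ι F c i _ y = ι F c i _ z → ∃ (k : J) (hik : i ≤ k), tr F hik _ y = tr F hik _ z) :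
    ∃ (i : J) (t : (F.obj i).1.obj (op U)), ι F c i U t = s := by
  choose i t ht using hloc
  obtain ⟨k, hk⟩ := Finite.exists_le i
  -- move everything to stage `k`
  obtain ⟨t', ht'⟩ : ∃ t' : ∀ j, (F.obj k).1.obj (op (W j)),
      ∀ j, ι F c k (W j) (t' j) = res c.pt (hWU j) s :=
    ⟨fun j => tr F (hk j) (W j) (t j), fun j => by rw [ι_tr]; exact ht j⟩
  -- equalise on overlaps
  have hov' : ∀ (p : A × A), ∃ (k' : J) (hkk' : k ≤ k'),
      tr F hkk' _ (res (F.obj k) (inf_le_left : W p.1 ⊓ W p.2 ≤ W p.1) (t' p.1)) =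
      tr F hkk' _ (res (F.obj k) (inf_le_right : W p.1 ⊓ W p.2 ≤ W p.2) (t' p.2)) := by
    intro p
    refine hov p.1 p.2 k _ _ ?_
    rw [ι_res, ι_res, ht', ht', res_res, res_res]
  choose k' hkk' e using hov'
  obtain ⟨M, hM⟩ := Finite.exists_le k'
  by_cases hA : IsEmpty A
  · obtain ⟨t0, ht0⟩ := exists_lift_of_cover (F := F) (c := c) s W hWU hcov k t' ht'
      (fun a => hA.elim a)
    exact ⟨k, t0, ht0⟩
  · rw [not_isEmpty_iff] at hA
    obtain ⟨a0⟩ := hA
    have hkM : k ≤ M := (hkk' (a0, a0)).trans (hM (a0, a0))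
    obtain ⟨t'', ht'', h''⟩ : ∃ t'' : ∀ j, (F.obj M).1.obj (op (W j)),
        (∀ j, ι F c M (W j) (t'' j) = res c.pt (hWU j) s) ∧
        ∀ j, t'' j = tr F hkM (W j) (t' j) :=
      ⟨fun j => tr F hkM (W j) (t' j), fun j => by rw [ι_tr]; exact ht' j, fun j => rfl⟩
    have hcomp : ∀ a b, res (F.obj M) (inf_le_left : W a ⊓ W b ≤ W a) (t'' a) =
        res (F.obj M) (inf_le_right : W a ⊓ W b ≤ W b) (t'' b) := by
      intro a b
      have e1 := congrArg (tr F (hM (a, b)) _) (e (a, b))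
      rw [tr_tr, tr_tr] at e1
      rw [h'' a, h'' b, ← tr_res, ← tr_res]
      exact e1
    obtain ⟨t0, ht0⟩ := exists_lift_of_cover (F := F) (c := c) s W hWU hcov M t'' ht'' hcomp
    exact ⟨M, t0, ht0⟩

end

section Psi
variable (F c) (U : Opens X)

/-- sections over `U` as a functor on sheaves -/
noncomputable abbrev ev : X.Sheaf (Type u) ⥤ Type u :=
  TopCat.Sheaf.forget (Type u) X ⋙ (evaluation (Opens X)ᵒᵖ (Type u)).obj (op U)

lemma desc_ι (i : J) (y : (F.obj i).1.obj (op U)) :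
    colimit.desc (F ⋙ ev U) ((ev U).mapCocone c) (colimit.ι (F ⋙ ev U) i y) = ι F c i U y :=
  ConcreteCategory.congr_hom (colimit.ι_desc ((ev U).mapCocone c) i) y

lemma colimit_ι_tr {i k : J} (h : i ≤ k) (y : (F.obj i).1.obj (op U)) :
    colimit.ι (F ⋙ ev U) k (tr F h U y) = colimit.ι (F ⋙ ev U) i y :=
  ConcreteCategory.congr_hom (colimit.w (F ⋙ ev U) (homOfLE h)) y

variable {F c U}

theorem desc_injective_of [IsDirected J (· ≤ ·)]
    (H : ∀ (i : J) (y z : (F.obj i).1.obj (op U)), ι F c i U y = ι F c i U z →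
      ∃ (k : J) (hik : i ≤ k), tr F hik U y = tr F hik U z) :
    Function.Injective (colimit.desc (F ⋙ ev U) ((ev U).mapCocone c)) := by
  intro a b hab
  obtain ⟨i, y, rfl⟩ := Types.jointly_surjective' a
  obtain ⟨j, z, rfl⟩ := Types.jointly_surjective' b
  obtain ⟨k, hik, hjk⟩ := exists_ge_ge i j
  rw [← colimit_ι_tr F U hik y, ← colimit_ι_tr F U hjk z] at hab ⊢
  rw [desc_ι, desc_ι] at hab
  obtain ⟨k', hkk', e⟩ := H k _ _ hab
  rw [← colimit_ι_tr F U hkk', ← colimit_ι_tr F U hkk' (tr F hjk U z), e]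

theorem desc_surjective_of
    (H : ∀ s : c.pt.1.obj (op U), ∃ (i : J) (t : (F.obj i).1.obj (op U)), ι F c i U t = s) :
    Function.Surjective (colimit.desc (F ⋙ ev U) ((ev U).mapCocone c)) := by
  intro s
  obtain ⟨i, t, ht⟩ := H s
  exact ⟨colimit.ι (F ⋙ ev U) i t, (desc_ι F c U i t).trans ht⟩

end Psi

end Groth.Agent.Lib.Helper43.ShColim
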