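import Groth.Agent.Lib.Helper43.ClosedPush
import Groth.Agent.Lib.Helper43.ShColim

/-!
# Pushforward of sheaves of sets along a closed embedding: stalks and essential image
-/

set_option autoImplicit false
universe u
open CategoryTheory TopologicalSpace Opposite

namespace Groth.Agent.Lib.Helper43.ClosedPush

open Groth.Agent.Lib.Helper43.ShColim

variable {X : TopCat.{u}}

/-- if all sections on small opens around `x` are unique then the stalk at `x` is a singleton -/
theorem stalk_unique_of_local (P : X.Presheaf (Type u)) (x : X) (V₀ : Opens X) (hx : x ∈ V₀)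
    (hsub : ∀ V : Opens X, V ≤ V₀ → Subsingleton (P.obj (op V)))
    (hne : Nonempty (P.obj (op V₀))) : Nonempty (Unique (P.stalk x)) := by
  rw [unique_iff_subsingleton_and_nonempty]
  constructor
  · constructor
    intro a b
    obtain ⟨U, hxU, a', rfl⟩ := TopCat.Presheaf.exists_germ_eq P a
    obtain ⟨U', hxU', b', rfl⟩ := TopCat.Presheaf.exists_germ_eq P b
    refine TopCat.Presheaf.germ_ext P (U ⊓ U' ⊓ V₀) ⟨⟨hxU, hxU'⟩, hx⟩
      (homOfLE (inf_le_left.trans inf_le_left)) (homOfLE (inf_le_left.trans inf_le_right)) ?_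
    exact (hsub _ inf_le_right).elim _ _
  · obtain ⟨s⟩ := hne
    exact ⟨TopCat.Presheaf.germ P V₀ x hx s⟩

variable {Z : TopCat.{u}} {i : Z ⟶ X}

/-- the open complement of the range of a closed embedding -/
def compl (hi : Topology.IsClosedEmbedding i) : Opens X :=
  ⟨(Set.range i)ᶜ, hi.isClosed_range.isOpen_compl⟩

lemma map_eq_bot_of_le_compl (hi : Topology.IsClosedEmbedding i) {V : Opens X}
    (hV : V ≤ compl hi) : (Opens.map i).obj V = ⊥ := by
  ext z
  simp only [Opens.coe_bot, Set.mem_empty_iff_false, iff_false]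
  intro hz
  exact hV hz ⟨z, rfl⟩

theorem stalk_pushforward_unique (hi : Topology.IsClosedEmbedding i) (F : Z.Sheaf (Type u))
    (x : X) (hx : x ∉ Set.range i) :
    Nonempty (Unique (((TopCat.Sheaf.pushforward (Type u) i).obj F).presheaf.stalk x)) := by
  have huniq : ∀ V : Opens X, V ≤ compl hi →
      Unique (((TopCat.Sheaf.pushforward (Type u) i).obj F).presheaf.obj (op V)) := by
    intro V hV
    exact (Limits.Types.isTerminalEquivUnique _).toFun
      (TopCat.Sheaf.isTerminalOfEqEmpty F (map_eq_bot_of_le_compl hi hV))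
  refine stalk_unique_of_local _ x (compl hi) hx (fun V hV => ?_) ?_
  · have := huniq V hV
    infer_instance
  · have := huniq (compl hi) le_rfl
    exact ⟨default⟩

lemma thin_apply {T : TopCat.{u}} (P : T.Presheaf (Type u)) {A B D : (Opens T)ᵒᵖ} (f : A ⟶ B)
    (g : B ⟶ D) (h : A ⟶ D) (x : P.obj A) : P.map g (P.map f x) = P.map h x := by
  have := map_map_thin P f g h
  exact ConcreteCategory.congr_hom this x

lemma thin_apply_id {T : TopCat.{u}} (P : T.Presheaf (Type u)) {A : (Opens T)ᵒᵖ} (f : A ⟶ A)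
    (x : P.obj A) : P.map f x = x := by
  have := map_thin_id P f
  exact ConcreteCategory.congr_hom this x

/-- Lemma C: the sheaf condition descends along pushforward by an inducing map. -/
theorem isSheaf_of_isSheaf_pushforward (hi : Topology.IsInducing i) (P : Z.Presheaf (Type u))
    (hP : ((TopCat.Presheaf.pushforward (Type u) i).obj P).IsSheaf) : P.IsSheaf := by
  rw [TopCat.Presheaf.isSheaf_iff_isSheafUniqueGluing_types] at hP ⊢
  intro ι W sf hsf
  set Q := (TopCat.Presheaf.pushforward (Type u) i).obj P with hQ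
  have e : ∀ a, (Opens.map i).obj (r hi (W a)) = W a := fun a => map_r hi (W a)
  have eS : (Opens.map i).obj (iSup fun a => r hi (W a)) = iSup W := by
    rw [Opens.map_iSup]
    congr 1
    funext a
    exact e a
  let sf' : ∀ a, Q.obj (op (r hi (W a))) := fun a => P.map (eqToHom (e a)).op (sf a)
  have hQmap : ∀ {A B : (Opens X)ᵒᵖ} (g : A ⟶ B) (x : Q.obj A),
      Q.map g x = P.map ((Opens.map i).map g.unop).op x := fun g x => rfl
  have hsf' : TopCat.Presheaf.IsCompatible Q (fun a => r hi (W a)) sf' := by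
    intro a b
    have h := hsf a b
    have m : op (W a ⊓ W b) ⟶ op ((Opens.map i).obj (r hi (W a) ⊓ r hi (W b))) :=
      (homOfLE (by
        intro z hz
        exact ⟨(e a).le hz.1, (e b).le hz.2⟩)).op
    have h' := congrArg (P.map m) h
    rw [thin_apply P _ _ ((Opens.infLELeft (W a) (W b)).op ≫ m),
      thin_apply P _ _ ((Opens.infLERight (W a) (W b)).op ≫ m)] at h'
    rw [hQmap, hQmap]
    show P.map _ (P.map _ (sf a)) = P.map _ (P.map _ (sf b))
    rw [thin_apply P _ _ ((Opens.infLELeft (W a) (W b)).op ≫ m),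
      thin_apply P _ _ ((Opens.infLERight (W a) (W b)).op ≫ m)]
    exact h'
  obtain ⟨s', hs', hs'u⟩ := hP (fun a => r hi (W a)) sf' hsf'
  refine ⟨P.map (eqToHom eS.symm).op s', ?_, ?_⟩
  · intro a
    have h := hs' a
    rw [hQmap] at h
    have h2 := congrArg (P.map (eqToHom (e a).symm).op) h
    show P.map _ (P.map _ s') = sf a
    rw [thin_apply P _ _ (((Opens.map i).map (Opens.leSupr (fun a => r hi (W a)) a)).op ≫
      (eqToHom (e a).symm).op)] at h2 ⊢
    rw [h2]
    show P.map _ (P.map _ (sf a)) = sf a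
    rw [thin_apply P _ _ (𝟙 _), thin_apply_id]
  · intro s₂ hs₂
    have h3 : P.map (eqToHom eS).op s₂ = s' := by
      refine hs'u _ ?_
      intro a
      rw [hQmap]
      show P.map _ (P.map _ s₂) = P.map _ (sf a)
      rw [← hs₂ a]
      show _ = P.map _ (P.map _ s₂)
      rw [thin_apply P _ _ ((Opens.leSupr W a).op ≫ (eqToHom (e a)).op),
        thin_apply P _ _ ((Opens.leSupr W a).op ≫ (eqToHom (e a)).op)]
    rw [← h3]
    show s₂ = P.map _ (P.map _ s₂)
    rw [thin_apply P _ _ (𝟙 _), thin_apply_id]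

/-- Lemma A': a sheaf of sets with singleton stalks on an open has singleton sections there. -/
theorem sections_unique_of_stalks (G : X.Sheaf (Type u)) (U₀ : Opens X)
    (hst : ∀ x ∈ U₀, Nonempty (Unique (G.presheaf.stalk x))) (V : Opens X) (hV : V ≤ U₀) :
    Nonempty (Unique (G.1.obj (op V))) := by
  have hsub : ∀ V : Opens X, V ≤ U₀ → Subsingleton (G.1.obj (op V)) := by
    intro V hV
    constructor
    intro s t
    refine TopCat.Presheaf.section_ext G V s t ?_
    intro x hx
    obtain ⟨hu⟩ := hst x (hV hx)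
    exact Subsingleton.elim _ _
  rw [unique_iff_subsingleton_and_nonempty]
  refine ⟨hsub V hV, ?_⟩
  have H : ∀ x : V, ∃ (W : Opens X) (hW : W ≤ V), x.1 ∈ W ∧ Nonempty (G.1.obj (op W)) := by
    intro x
    obtain ⟨hu⟩ := hst x.1 (hV x.2)
    obtain ⟨W, hxW, s, -⟩ := TopCat.Presheaf.exists_germ_eq G.1 (default : G.presheaf.stalk x.1)
    exact ⟨W ⊓ V, inf_le_right, ⟨hxW, x.2⟩, ⟨G.1.map (homOfLE inf_le_left).op s⟩⟩
  choose W hW hxW hne using H
  obtain ⟨t, -⟩ := exists_glue (G := G) (U := V) W hW
    (fun x hx => Opens.mem_iSup.mpr ⟨⟨x, hx⟩, hxW ⟨x, hx⟩⟩) (fun a => (hne a).some)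
    (fun a b => (hsub _ (inf_le_left.trans ((hW a).trans hV))).elim _ _)
  exact ⟨t⟩

/-- Lemma B: restriction is bijective when the larger open only adds points of an open on which
all sections are unique. -/
theorem res_bijective (G : X.Sheaf (Type u)) (U₀ : Opens X)
    (huniq : ∀ V : Opens X, V ≤ U₀ → Nonempty (Unique (G.1.obj (op V))))
    {V V' : Opens X} (hVV' : V ≤ V') (hV' : V' ≤ V ⊔ U₀) :
    Function.Bijective (res G hVV') := by
  have hsub : ∀ V : Opens X, V ≤ U₀ → Subsingleton (G.1.obj (op V)) := by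
    intro V hV
    obtain ⟨h⟩ := huniq V hV
    infer_instance
  constructor
  · intro s s' hss'
    refine eq_of_forall_mem s s' ?_
    intro x hx
    rcases hV' hx with hxV | hxU
    · exact ⟨V, hVV', hxV, hss'⟩
    · exact ⟨V' ⊓ U₀, inf_le_left, ⟨hx, hxU⟩, (hsub _ inf_le_right).elim _ _⟩
  · intro s
    obtain ⟨hu₀⟩ := huniq (V' ⊓ U₀) inf_le_right
    have t₀ : G.1.obj (op (V' ⊓ U₀)) := default
    let W : Bool → Opens X := fun b => match b with
      | true => V
      | false => V' ⊓ U₀
    have hW : ∀ b, W b ≤ V' := fun b => match b with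
      | true => hVV'
      | false => inf_le_left
    let t : ∀ b, G.1.obj (op (W b)) := fun b => match b with
      | true => s
      | false => t₀
    have hcov : V' ≤ ⨆ b, W b := by
      intro x hx
      rcases hV' hx with hxV | hxU
      · exact Opens.mem_iSup.mpr ⟨true, hxV⟩
      · exact Opens.mem_iSup.mpr ⟨false, ⟨hx, hxU⟩⟩
    obtain ⟨s', hs'⟩ := exists_glue (G := G) (U := V') W hW hcov t (by
      intro a b
      match a, b with
      | true, true => rfl
      | false, false => rfl
      | true, false => exact (hsub _ (inf_le_right.trans inf_le_right)).elim _ _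
      | false, true => exact (hsub _ (inf_le_left.trans inf_le_right)).elim _ _)
    exact ⟨s', hs' true⟩

/-- functor version of `r` -/
noncomputable def rF (hi : Topology.IsInducing i) : Opens Z ⥤ Opens X where
  obj := r hi
  map f := homOfLE (r_mono hi f.le)

lemma r_map_le (hi : Topology.IsClosedEmbedding i) (V : Opens X) :
    r hi.isInducing ((Opens.map i).obj V) ≤ V ⊔ compl hi := by
  intro x hx
  by_cases hxr : x ∈ Set.range i
  · obtain ⟨z, rfl⟩ := hxr
    left
    have hz : z ∈ (Opens.map i).obj (r hi.isInducing ((Opens.map i).obj V)) := hx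
    rw [map_r] at hz
    exact hz
  · right
    exact hxr

theorem mem_essImage_of_stalks (hi : Topology.IsClosedEmbedding i) (G : X.Sheaf (Type u))
    (hst : ∀ x : X, x ∉ Set.range i → Nonempty (Unique (G.presheaf.stalk x))) :
    (TopCat.Sheaf.pushforward (Type u) i).essImage G := by
  have hI := hi.isInducing
  let P : Z.Presheaf (Type u) := (rF hI).op ⋙ G.1
  let τ : (TopCat.Presheaf.pushforward (Type u) i).obj P ⟶ G.1 :=
    { app := fun V => G.1.map (homOfLE (le_r hI V.unop)).op
      naturality := by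
        intro V V' g
        exact (map_map_thin G.1 ((rF hI).op.map ((Opens.map i).op.map g))
          (homOfLE (le_r hI V'.unop)).op ((homOfLE (le_r hI V.unop)).op ≫ g)).trans
          (map_map_thin G.1 _ _ _).symm }
  have hτ : IsIso τ := by
    rw [NatTrans.isIso_iff_isIso_app]
    intro V
    rw [isIso_iff_bijective]
    exact res_bijective G (compl hi)
      (fun V hV => sections_unique_of_stalks G (compl hi) (fun x hx => hst x hx) V hV)
      (le_r hI V.unop) (r_map_le hi V.unop)
  let eτ : (TopCat.Presheaf.pushforward (Type u) i).obj P ≅ G.1 := @asIso _ _ _ _ τ hτ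
  have hP : P.IsSheaf := isSheaf_of_isSheaf_pushforward hI P
    (TopCat.Presheaf.isSheaf_of_iso eτ.symm G.2)
  exact ⟨⟨P, hP⟩, ⟨ObjectProperty.isoMk _ eτ⟩⟩

theorem stalks_of_mem_essImage (hi : Topology.IsClosedEmbedding i) (G : X.Sheaf (Type u))
    (hG : (TopCat.Sheaf.pushforward (Type u) i).essImage G) (x : X) (hx : x ∉ Set.range i) :
    Nonempty (Unique (G.presheaf.stalk x)) := by
  obtain ⟨F, ⟨e⟩⟩ := hG
  obtain ⟨hu⟩ := stalk_pushforward_unique hi F x hx
  let e' := (TopCat.Sheaf.forget (Type u) X ⋙ TopCat.Presheaf.stalkFunctor (Type u) x).mapIso e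
  exact ⟨@Equiv.unique _ _ hu e'.toEquiv.symm⟩

end Groth.Agent.Lib.Helper43.ClosedPush
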