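import Mathlib.CategoryTheory.Comma.Basic
import Mathlib.CategoryTheory.Adjunction.FullyFaithful
import Mathlib.CategoryTheory.Limits.Shapes.Pullback.IsPullback.Basic
import Mathlib.CategoryTheory.Limits.Shapes.Pullback.HasPullback
import Mathlib.CategoryTheory.Limits.Preserves.Shapes.Pullbacks
import Mathlib.CategoryTheory.Limits.Shapes.Terminal
import Mathlib.CategoryTheory.Equivalence

/-! Artin gluing: a category with an "open" and a "closed" localisation which are jointly
conservative is the comma category of the gluing functor. -/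

set_option autoImplicit false
set_option linter.unusedSectionVars false
set_option linter.style.haveILetI false

universe v₁ v₂ v₃ u₁ u₂ u₃

open CategoryTheory CategoryTheory.Limits

namespace Groth.Agent.Lib.Helper43.Glue

section AdjLemmas

variable {A : Type*} [Category A] {B : Type*} [Category B] {L : A ⥤ B} {R : B ⥤ A} (adj : L ⊣ R)

/-- the unit with clean source and target -/
def u (X : A) : X ⟶ R.obj (L.obj X) := adj.unit.app X

/-- the counit with clean source and target -/
def cu (Y : B) : L.obj (R.obj Y) ⟶ Y := adj.counit.app Y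

lemma u_nat {X Y : A} (m : X ⟶ Y) : m ≫ u adj Y = u adj X ≫ R.map (L.map m) :=
  adj.unit.naturality m

lemma cu_nat {X Y : B} (a : X ⟶ Y) : L.map (R.map a) ≫ cu adj Y = cu adj X ≫ a :=
  adj.counit.naturality a

lemma left_tri (X : A) : L.map (u adj X) ≫ cu adj (L.obj X) = 𝟙 (L.obj X) :=
  adj.left_triangle_components X

lemma right_tri (Y : B) : u adj (R.obj Y) ≫ R.map (cu adj Y) = 𝟙 (R.obj Y) :=
  adj.right_triangle_components Y

instance [IsIso adj.counit] (Y : B) : IsIso (cu adj Y) :=
  inferInstanceAs (IsIso (adj.counit.app Y))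

lemma map_eq_of_comp_u {X Y : A} (m : X ⟶ Y) (a : L.obj X ⟶ L.obj Y)
    (h : m ≫ u adj Y = u adj X ≫ R.map a) : L.map m = a := by
  have h1 : L.map m = L.map (m ≫ u adj Y) ≫ cu adj (L.obj Y) := by
    rw [L.map_comp, Category.assoc, left_tri, Category.comp_id]
  rw [h1, h, L.map_comp, Category.assoc, cu_nat, ← Category.assoc, left_tri, Category.id_comp]

lemma isIso_map_u [IsIso adj.counit] (X : A) : IsIso (L.map (u adj X)) := by
  have : IsIso (L.map (u adj X) ≫ cu adj (L.obj X)) := by
    rw [left_tri]; exact IsIso.id _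
  exact IsIso.of_isIso_comp_right _ (cu adj (L.obj X))

end AdjLemmas

variable {E : Type u₁} [Category.{v₁} E] {F : Type u₂} [Category.{v₂} F]
  {O : Type u₃} [Category.{v₃} O]
  {iS : E ⥤ F} {iP : F ⥤ E} (adjI : iS ⊣ iP) {jS : E ⥤ O} {jP : O ⥤ E} (adjJ : jS ⊣ jP)

/-- the comparison functor `X ↦ (i^* X, j^* X, i^*(X → j_* j^* X))` -/
def Φ : E ⥤ Comma (𝟭 F) (jP ⋙ iS) where
  obj X := { left := iS.obj X, right := jS.obj X, hom := iS.map (u adjJ X) }
  map {X X'} m :=
    { left := iS.map m
      right := jS.map m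
      w := by
        change iS.map m ≫ iS.map (u adjJ X') = iS.map (u adjJ X) ≫ iS.map (jP.map (jS.map m))
        rw [← iS.map_comp, ← iS.map_comp, u_nat] }
  map_id X := by
    ext <;> simp
  map_comp f g := by
    ext <;> simp

/-- the type of triples -/
abbrev Triple (iS : E ⥤ F) (jP : O ⥤ E) := Comma (𝟭 F) (jP ⋙ iS)

/-- the structure map of a triple with clean source and target -/
def Triple.φ (c : Triple iS jP) : c.left ⟶ iS.obj (jP.obj c.right) := c.hom

lemma Φ_obj_φ (X : E) : Triple.φ ((Φ (iS := iS) adjJ).obj X) = iS.map (u adjJ X) := rfl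

lemma isIso_of_isTerminal {A B : O} (hA : IsTerminal A) (hB : IsTerminal B) (f : A ⟶ B) :
    IsIso f :=
  ⟨hA.from B, hA.hom_ext _ _, hB.hom_ext _ _⟩

variable [HasPullbacks E] [PreservesLimitsOfShape WalkingCospan iS]
  [PreservesLimitsOfShape WalkingCospan jS]

/-- the object glued from a triple -/
noncomputable def glueObj (c : Triple iS jP) : E :=
  pullback (iP.map c.φ) (u adjI (jP.obj c.right))

/-- first projection of the glued object -/
noncomputable def glueFst (c : Triple iS jP) : glueObj adjI c ⟶ iP.obj c.left :=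
  pullback.fst (iP.map c.φ) (u adjI (jP.obj c.right))

/-- second projection of the glued object -/
noncomputable def glueSnd (c : Triple iS jP) : glueObj adjI c ⟶ jP.obj c.right :=
  pullback.snd (iP.map c.φ) (u adjI (jP.obj c.right))

lemma glue_condition (c : Triple iS jP) :
    glueFst adjI c ≫ iP.map c.φ = glueSnd adjI c ≫ u adjI (jP.obj c.right) :=
  pullback.condition

lemma glue_isPullback (c : Triple iS jP) :
    IsPullback (glueFst adjI c) (glueSnd adjI c) (iP.map c.φ) (u adjI (jP.obj c.right)) :=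
  IsPullback.of_hasPullback _ _

lemma glue_hom_ext {c : Triple iS jP} {T : E} (f g : T ⟶ glueObj adjI c)
    (h1 : f ≫ glueFst adjI c = g ≫ glueFst adjI c)
    (h2 : f ≫ glueSnd adjI c = g ≫ glueSnd adjI c) : f = g :=
  pullback.hom_ext h1 h2

/-- maps into the glued object -/
noncomputable def glueLift (c : Triple iS jP) {T : E} (p : T ⟶ iP.obj c.left)
    (q : T ⟶ jP.obj c.right) (h : p ≫ iP.map c.φ = q ≫ u adjI (jP.obj c.right)) :
    T ⟶ glueObj adjI c :=
  pullback.lift p q h

lemma glueLift_fst (c : Triple iS jP) {T : E} (p : T ⟶ iP.obj c.left)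
    (q : T ⟶ jP.obj c.right) (h : p ≫ iP.map c.φ = q ≫ u adjI (jP.obj c.right)) :
    glueLift adjI c p q h ≫ glueFst adjI c = p := pullback.lift_fst _ _ _

lemma glueLift_snd (c : Triple iS jP) {T : E} (p : T ⟶ iP.obj c.left)
    (q : T ⟶ jP.obj c.right) (h : p ≫ iP.map c.φ = q ≫ u adjI (jP.obj c.right)) :
    glueLift adjI c p q h ≫ glueSnd adjI c = q := pullback.lift_snd _ _ _

section

variable [IsIso adjI.counit]

lemma isIso_map_glueFst (c : Triple iS jP) : IsIso (iS.map (glueFst adjI c)) := by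
  haveI := isIso_map_u adjI (jP.obj c.right)
  exact ((glue_isPullback adjI c).map iS).isIso_fst_of_isIso

end

lemma isIso_map_glueSnd (hT : ∀ Z : F, IsTerminal (jS.obj (iP.obj Z)))
    (c : Triple iS jP) : IsIso (jS.map (glueSnd adjI c)) := by
  haveI : IsIso (jS.map (iP.map c.φ)) := isIso_of_isTerminal (hT _) (hT _) _
  exact ((glue_isPullback adjI c).map jS).isIso_snd_of_isIso

section Main

variable [IsIso adjI.counit] [IsIso adjJ.counit]
  (hT : ∀ Z : F, IsTerminal (jS.obj (iP.obj Z)))

/-- `i^*` of the glued object -/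
noncomputable def glueLeftIso (c : Triple iS jP) : iS.obj (glueObj adjI c) ≅ c.left :=
  haveI := isIso_map_glueFst adjI c
  asIso (iS.map (glueFst adjI c)) ≪≫ asIso (cu adjI c.left)

include hT in
/-- `j^*` of the glued object -/
noncomputable def glueRightIso (c : Triple iS jP) :
    jS.obj (glueObj adjI c) ≅ c.right :=
  haveI := isIso_map_glueSnd adjI hT c
  asIso (jS.map (glueSnd adjI c)) ≪≫ asIso (cu adjJ c.right)

lemma glueLeftIso_hom (c : Triple iS jP) :
    (glueLeftIso adjI c).hom = iS.map (glueFst adjI c) ≫ cu adjI c.left := rfl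

lemma glueRightIso_hom (c : Triple iS jP) :
    (glueRightIso adjI adjJ hT c).hom = jS.map (glueSnd adjI c) ≫ cu adjJ c.right := rfl

lemma glueIso_w (c : Triple iS jP) :
    (glueLeftIso adjI c).hom ≫ c.φ =
      iS.map (u adjJ (glueObj adjI c)) ≫ iS.map (jP.map (glueRightIso adjI adjJ hT c).hom) := by
  rw [glueLeftIso_hom, glueRightIso_hom]
  -- right hand side
  have hR : u adjJ (glueObj adjI c) ≫
      jP.map (jS.map (glueSnd adjI c) ≫ cu adjJ c.right) = glueSnd adjI c := by
    rw [jP.map_comp, ← Category.assoc, ← u_nat adjJ, Category.assoc, right_tri, Category.comp_id]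
  rw [← iS.map_comp, hR]
  -- left hand side
  rw [Category.assoc, ← cu_nat adjI c.φ, ← Category.assoc, ← iS.map_comp, glue_condition,
    iS.map_comp, Category.assoc, left_tri, Category.comp_id]

/-- the triple of the glued object is the given triple -/
noncomputable def glueIso (c : Triple iS jP) :
    (Φ (iS := iS) adjJ).obj (glueObj adjI c) ≅ c :=
  Comma.isoMk (glueLeftIso adjI c) (glueRightIso adjI adjJ hT c) (glueIso_w adjI adjJ hT c)

include adjI hT in
lemma essSurj_Φ : (Φ (iS := iS) adjJ).EssSurj :=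
  ⟨fun c => ⟨glueObj adjI c, ⟨glueIso adjI adjJ hT c⟩⟩⟩

/-- first projection of the object glued from the triple of `X` -/
noncomputable def pFst (X : E) :
    glueObj adjI ((Φ (iS := iS) adjJ).obj X) ⟶ iP.obj (iS.obj X) :=
  glueFst adjI ((Φ (iS := iS) adjJ).obj X)

/-- second projection of the object glued from the triple of `X` -/
noncomputable def pSnd (X : E) :
    glueObj adjI ((Φ (iS := iS) adjJ).obj X) ⟶ jP.obj (jS.obj X) :=
  glueSnd adjI ((Φ (iS := iS) adjJ).obj X)

lemma p_hom_ext {X T : E} (f g : T ⟶ glueObj adjI ((Φ (iS := iS) adjJ).obj X))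
    (h1 : f ≫ pFst adjI adjJ X = g ≫ pFst adjI adjJ X)
    (h2 : f ≫ pSnd adjI adjJ X = g ≫ pSnd adjI adjJ X) : f = g :=
  glue_hom_ext adjI f g h1 h2

/-- maps into the object glued from the triple of `X` -/
noncomputable def pLift (X : E) {T : E} (p : T ⟶ iP.obj (iS.obj X)) (q : T ⟶ jP.obj (jS.obj X))
    (h : p ≫ iP.map (iS.map (u adjJ X)) = q ≫ u adjI (jP.obj (jS.obj X))) :
    T ⟶ glueObj adjI ((Φ (iS := iS) adjJ).obj X) :=
  glueLift adjI ((Φ (iS := iS) adjJ).obj X) p q h

lemma pLift_fst (X : E) {T : E} (p : T ⟶ iP.obj (iS.obj X)) (q : T ⟶ jP.obj (jS.obj X))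
    (h : p ≫ iP.map (iS.map (u adjJ X)) = q ≫ u adjI (jP.obj (jS.obj X))) :
    pLift adjI adjJ X p q h ≫ pFst adjI adjJ X = p :=
  glueLift_fst adjI _ _ _ _

lemma pLift_snd (X : E) {T : E} (p : T ⟶ iP.obj (iS.obj X)) (q : T ⟶ jP.obj (jS.obj X))
    (h : p ≫ iP.map (iS.map (u adjJ X)) = q ≫ u adjI (jP.obj (jS.obj X))) :
    pLift adjI adjJ X p q h ≫ pSnd adjI adjJ X = q :=
  glueLift_snd adjI _ _ _ _

lemma isIso_map_pFst (X : E) : IsIso (iS.map (pFst adjI adjJ X)) :=
  isIso_map_glueFst adjI ((Φ (iS := iS) adjJ).obj X)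

include hT in
lemma isIso_map_pSnd (X : E) : IsIso (jS.map (pSnd adjI adjJ X)) :=
  isIso_map_glueSnd adjI hT ((Φ (iS := iS) adjJ).obj X)

/-- the canonical map from `X` to the object glued from its triple -/
noncomputable def toGlue (X : E) : X ⟶ glueObj adjI ((Φ (iS := iS) adjJ).obj X) :=
  pLift adjI adjJ X (u adjI X) (u adjJ X) (u_nat adjI (u adjJ X)).symm

lemma toGlue_fst (X : E) : toGlue adjI adjJ X ≫ pFst adjI adjJ X = u adjI X :=
  pLift_fst adjI adjJ X _ _ _

lemma toGlue_snd (X : E) : toGlue adjI adjJ X ≫ pSnd adjI adjJ X = u adjJ X :=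
  pLift_snd adjI adjJ X _ _ _

variable (hcons : ∀ {X Y : E} (m : X ⟶ Y), IsIso (iS.map m) → IsIso (jS.map m) → IsIso m)

include hT hcons in
lemma isIso_toGlue (X : E) : IsIso (toGlue adjI adjJ X) := by
  apply hcons
  · haveI := isIso_map_pFst adjI adjJ X
    have h : iS.map (toGlue adjI adjJ X) ≫ iS.map (pFst adjI adjJ X) = iS.map (u adjI X) := by
      rw [← iS.map_comp, toGlue_fst]
    have : IsIso (iS.map (toGlue adjI adjJ X) ≫ iS.map (pFst adjI adjJ X)) := by
      rw [h]; exact isIso_map_u adjI X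
    exact IsIso.of_isIso_comp_right _ (iS.map (pFst adjI adjJ X))
  · haveI := isIso_map_pSnd adjI adjJ hT X
    have h : jS.map (toGlue adjI adjJ X) ≫ jS.map (pSnd adjI adjJ X) = jS.map (u adjJ X) := by
      rw [← jS.map_comp, toGlue_snd]
    have : IsIso (jS.map (toGlue adjI adjJ X) ≫ jS.map (pSnd adjI adjJ X)) := by
      rw [h]; exact isIso_map_u adjJ X
    exact IsIso.of_isIso_comp_right _ (jS.map (pSnd adjI adjJ X))

include adjI hT hcons in
lemma faithful_Φ : (Φ (iS := iS) adjJ).Faithful := by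
  constructor
  intro X X' m₁ m₂ h
  have hl : iS.map m₁ = iS.map m₂ := congrArg CommaMorphism.left h
  have hr : jS.map m₁ = jS.map m₂ := congrArg CommaMorphism.right h
  haveI := isIso_toGlue adjI adjJ hT hcons X'
  rw [← cancel_mono (toGlue adjI adjJ X')]
  apply p_hom_ext adjI adjJ
  · rw [Category.assoc, Category.assoc, toGlue_fst, u_nat adjI m₁, u_nat adjI m₂, hl]
  · rw [Category.assoc, Category.assoc, toGlue_snd, u_nat adjJ m₁, u_nat adjJ m₂, hr]

include adjI hT hcons in
lemma full_Φ : (Φ (iS := iS) adjJ).Full := by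
  constructor
  intro X X' f
  haveI := isIso_toGlue adjI adjJ hT hcons X'
  let a : iS.obj X ⟶ iS.obj X' := f.left
  let b : jS.obj X ⟶ jS.obj X' := f.right
  have hw' : a ≫ iS.map (u adjJ X') = iS.map (u adjJ X) ≫ iS.map (jP.map b) := f.w
  let m' : X ⟶ glueObj adjI ((Φ (iS := iS) adjJ).obj X') :=
    pLift adjI adjJ X' (u adjI X ≫ iP.map a) (u adjJ X ≫ jP.map b) (by
      rw [u_nat adjI (u adjJ X ≫ jP.map b), Category.assoc, ← iP.map_comp, hw',
        ← iS.map_comp])
  have hm1 : m' ≫ pFst adjI adjJ X' = u adjI X ≫ iP.map a := pLift_fst adjI adjJ X' _ _ _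
  have hm2 : m' ≫ pSnd adjI adjJ X' = u adjJ X ≫ jP.map b := pLift_snd adjI adjJ X' _ _ _
  let m : X ⟶ X' := m' ≫ inv (toGlue adjI adjJ X')
  have hmu : m ≫ u adjI X' = u adjI X ≫ iP.map a := by
    rw [← toGlue_fst adjI adjJ X', ← hm1]
    simp only [m, Category.assoc, IsIso.inv_hom_id_assoc]
  have hme : m ≫ u adjJ X' = u adjJ X ≫ jP.map b := by
    rw [← toGlue_snd adjI adjJ X', ← hm2]
    simp only [m, Category.assoc, IsIso.inv_hom_id_assoc]
  refine ⟨m, ?_⟩
  apply CommaMorphism.ext
  · exact map_eq_of_comp_u adjI m a hmu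
  · exact map_eq_of_comp_u adjJ m b hme

include adjI hT hcons in
/-- Artin gluing -/
theorem isEquivalence_Φ : (Φ (iS := iS) adjJ).IsEquivalence :=
  { faithful := faithful_Φ adjI adjJ hT hcons
    full := full_Φ adjI adjJ hT hcons
    essSurj := essSurj_Φ adjI adjJ hT }

end Main

end Groth.Agent.Lib.Helper43.Glue
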