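import Groth.Prelude.Def_NonAbH1
import Mathlib.CategoryTheory.Sites.Subsheaf
import Mathlib.Tactic.Group

/-! General-site lemmas on `NonAbH1` (torsors under a sheaf of groups, boundary of a quotient). -/

set_option autoImplicit false
set_option linter.unusedSectionVars false

universe w v u

open CategoryTheory Opposite

namespace Groth.Agent.Lib.Helper43.NAH1

open NonAbH1 NonAbH1.GSheaf

variable {C : Type u} [Category.{v} C] {J : GrothendieckTopology C} {G : Sheaf J GrpCat.{w}}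

/-- morphism of sheaves of sets from a sectionwise natural family of functions -/
def mkHom {P Q : Sheaf J (Type w)} (a : ∀ U, P.obj.obj U → Q.obj.obj U)
    (h : ∀ ⦃U V : Cᵒᵖ⦄ (f : U ⟶ V) (x : P.obj.obj U), a V (P.obj.map f x) = Q.obj.map f (a U x)) :
    P ⟶ Q :=
  ObjectProperty.homMk
    { app := fun U => ↾(a U)
      naturality := fun U V f => by ext x; exact h f x }

@[simp] lemma mkHom_app {P Q : Sheaf J (Type w)} (a : ∀ U, P.obj.obj U → Q.obj.obj U)
    (h : ∀ ⦃U V : Cᵒᵖ⦄ (f : U ⟶ V) (x : P.obj.obj U), a V (P.obj.map f x) = Q.obj.map f (a U x))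
    (U : Cᵒᵖ) (x : P.obj.obj U) : (mkHom a h).hom.app U x = a U x := rfl

lemma hom_naturality {P Q : Sheaf J (Type w)} (φ : P ⟶ Q) ⦃U V : Cᵒᵖ⦄ (f : U ⟶ V)
    (x : P.obj.obj U) : φ.hom.app V (P.obj.map f x) = Q.obj.map f (φ.hom.app U x) :=
  NatTrans.naturality_apply φ.hom f x

lemma sheaf_hom_ext {P Q : Sheaf J (Type w)} {φ ψ : P ⟶ Q}
    (h : ∀ U (x : P.obj.obj U), φ.hom.app U x = ψ.hom.app U x) : φ = ψ := by
  apply Sheaf.hom_ext
  ext U x
  exact h U x

/-- equivariant iso from a sectionwise bijective equivariant morphism -/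
noncomputable def isoOfBijective {P Q : GSheaf G} (f : P ⟶ Q)
    (h : ∀ U, Function.Bijective (f.hom.hom.app U)) : P ≅ Q where
  hom := f
  inv :=
    { hom := mkHom (fun U => (Equiv.ofBijective _ (h U)).symm) (by
        intro U V g x
        apply (h V).1
        rw [hom_naturality]
        have e1 := (Equiv.ofBijective _ (h V)).apply_symm_apply (Q.P.obj.map g x)
        have e2 := (Equiv.ofBijective _ (h U)).apply_symm_apply x
        simp only [Equiv.ofBijective_apply] at e1 e2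
        rw [e1, e2])
      map_smul := by
        intro U g p
        apply (h U).1
        rw [mkHom_app, mkHom_app, f.map_smul]
        have e1 := (Equiv.ofBijective _ (h U)).apply_symm_apply (Q.smul g p)
        have e2 := (Equiv.ofBijective _ (h U)).apply_symm_apply p
        simp only [Equiv.ofBijective_apply] at e1 e2
        rw [e1, e2] }
  hom_inv_id := by
    apply GSheaf.hom_ext
    apply sheaf_hom_ext
    intro U x
    change (Equiv.ofBijective _ (h U)).symm (f.hom.hom.app U x) = x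
    exact (Equiv.ofBijective _ (h U)).symm_apply_apply x
  inv_hom_id := by
    apply GSheaf.hom_ext
    apply sheaf_hom_ext
    intro U x
    change f.hom.hom.app U ((Equiv.ofBijective _ (h U)).symm x) = x
    exact (Equiv.ofBijective _ (h U)).apply_symm_apply x

/-! ### Sheaf gluing wrappers -/

lemma isSheafFor (P : Sheaf J (Type w)) {U : C} (S : Sieve U) (hS : S ∈ J U) :
    Presieve.IsSheafFor P.obj S.arrows :=
  (isSheaf_iff_isSheaf_of_type J P.obj).1 P.property S hS

lemma sep (P : Sheaf J (Type w)) {U : C} (S : Sieve U) (hS : S ∈ J U) (x y : P.obj.obj (op U))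
    (h : ∀ ⦃V : C⦄ (a : V ⟶ U), S a → P.obj.map a.op x = P.obj.map a.op y) : x = y :=
  (isSheafFor P S hS).isSeparatedFor.ext (fun _ _ hf => h _ hf)

lemma glue (P : Sheaf J (Type w)) {U : C} (S : Sieve U) (hS : S ∈ J U)
    (x : ∀ ⦃V : C⦄ (a : V ⟶ U), S a → P.obj.obj (op V))
    (hx : ∀ ⦃V W : C⦄ (a : V ⟶ U) (g : W ⟶ V) (ha : S a),
      P.obj.map g.op (x a ha) = x (g ≫ a) (S.downward_closed ha g)) :
    ∃ t : P.obj.obj (op U), ∀ ⦃V : C⦄ (a : V ⟶ U) (ha : S a), P.obj.map a.op t = x a ha := by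
  have hc : Presieve.FamilyOfElements.Compatible (P := P.obj) (R := S.arrows) x := by
    rw [Presieve.compatible_iff_sieveCompatible]
    intro Y Z f g hf
    exact (hx f g hf).symm
  obtain ⟨t, ht, -⟩ := isSheafFor P S hS x hc
  exact ⟨t, fun V a ha => ht a ha⟩

lemma map_comp_apply' (P : Cᵒᵖ ⥤ Type w) {U V W : Cᵒᵖ} (f : U ⟶ V) (g : V ⟶ W) (x : P.obj U) :
    P.map (f ≫ g) x = P.map g (P.map f x) := by
  rw [P.map_comp]; rfl

lemma map_id_apply' (P : Cᵒᵖ ⥤ Type w) (U : Cᵒᵖ) (x : P.obj U) :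
    P.map (𝟙 U) x = x := by
  rw [P.map_id]; rfl

/-- Gluing a global section out of a locally nonempty, sectionwise constant natural family. -/
lemma exists_section_of_const {T P : Sheaf J (Type w)}
    (hne : ∀ U : C, ∃ S ∈ J U, ∀ ⦃V : C⦄ (f : V ⟶ U), S f → Nonempty (T.obj.obj (op V)))
    (ρ : ∀ U, T.obj.obj U → P.obj.obj U)
    (hnat : ∀ ⦃U V : Cᵒᵖ⦄ (f : U ⟶ V) (t : T.obj.obj U), ρ V (T.obj.map f t) = P.obj.map f (ρ U t))
    (hconst : ∀ U (t t' : T.obj.obj U), ρ U t = ρ U t') :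
    ∃ c : P.obj.sections, ∀ U (t : T.obj.obj U), c.1 U = ρ U t := by
  classical
  -- local characterisation
  have key : ∀ U : C, ∃ cU : P.obj.obj (op U),
      ∀ ⦃V : C⦄ (a : V ⟶ U) (t : T.obj.obj (op V)), P.obj.map a.op cU = ρ (op V) t := by
    intro U
    obtain ⟨S, hS, hne'⟩ := hne U
    obtain ⟨cU, hcU⟩ := glue P S hS (fun V a ha => ρ (op V) (hne' a ha).some) (by
      intro V W a g ha
      rw [← hnat]
      exact hconst _ _ _)
    refine ⟨cU, fun V a t => ?_⟩
    -- use separatedness on the pulled back sieve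
    apply sep P (S.pullback a) (J.pullback_stable a hS)
    intro W b hb
    rw [← map_comp_apply', ← op_comp, hcU (b ≫ a) hb, ← hnat]
    exact hconst _ _ _
  choose c hc using key
  have huniq : ∀ (U : C) (x : P.obj.obj (op U)),
      (∀ ⦃V : C⦄ (a : V ⟶ U) (t : T.obj.obj (op V)), P.obj.map a.op x = ρ (op V) t) → x = c U := by
    intro U x hx
    obtain ⟨S, hS, hne'⟩ := hne U
    apply sep P S hS
    intro V a ha
    rw [hx a (hne' a ha).some, hc U a (hne' a ha).some]
  refine ⟨⟨fun U => c U.unop, ?_⟩, ?_⟩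
  · intro U V f
    apply huniq
    intro W a t
    have : P.obj.map a.op (P.obj.map f (c U.unop)) = P.obj.map (a ≫ f.unop).op (c U.unop) := by
      rw [op_comp, map_comp_apply']; rfl
    rw [this]
    exact hc _ _ t
  · intro U t
    have := hc U.unop (𝟙 _) t
    rw [op_id, map_id_apply'] at this
    exact this

/-- Local liftings along a sectionwise injective morphism glue. -/
lemma exists_lift_of_local {T P : Sheaf J (Type w)} (i : T ⟶ P)
    (hinj : ∀ U, Function.Injective (i.hom.app U)) {U : C} (g : P.obj.obj (op U))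
    (S : Sieve U) (hS : S ∈ J U)
    (h : ∀ ⦃V : C⦄ (a : V ⟶ U), S a → ∃ t : T.obj.obj (op V), i.hom.app (op V) t = P.obj.map a.op g) :
    ∃ t : T.obj.obj (op U), i.hom.app (op U) t = g := by
  classical
  choose t ht using h
  obtain ⟨t₀, ht₀⟩ := glue T S hS t (by
    intro V W a b ha
    apply hinj
    rw [hom_naturality, ht, ht, op_comp, map_comp_apply'])
  refine ⟨t₀, ?_⟩
  apply sep P S hS
  intro V a ha
  rw [← hom_naturality, ht₀ a ha, ht]

/-! ### Trivial torsors and global sections -/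

section Triv

variable [J.HasSheafCompose (forget GrpCat.{w})]

lemma uSh_map {U V : Cᵒᵖ} (f : U ⟶ V) (x : (uSh G).obj.obj U) :
    (uSh G).obj.map f x = ofGrp (G.obj.map f (toGrp x)) := rfl

lemma trivial_smul {U : Cᵒᵖ} (g : G.obj.obj U) (p : (uSh G).obj.obj U) :
    (GSheaf.trivial G).smul g p = ofGrp (g * toGrp p) := rfl

lemma hasSection_of_isTrivial {P : GSheaf G} (h : P.IsTrivial) : P.HasSection := by
  obtain ⟨e⟩ := h
  refine ⟨fun U => e.hom.hom.hom.app U (ofGrp (1 : G.obj.obj U)), ?_⟩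
  intro U V f
  rw [← hom_naturality]
  congr 1
  change ofGrp (G.obj.map f (1 : G.obj.obj U)) = _
  rw [map_one]

lemma isTrivial_of_hasSection {P : GSheaf G} (hP : P.IsPseudoTorsor) (h : P.HasSection) :
    P.IsTrivial := by
  obtain ⟨s', hs'⟩ := h
  let s : P.P.obj.sections := ⟨s', hs'⟩
  let f : GSheaf.trivial G ⟶ P :=
    { hom := mkHom (fun U g => P.smul (toGrp g) (s.1 U)) (by
        intro U V a x
        rw [P.map_smul, s.2 a]
        rfl)
      map_smul := by
        intro U g p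
        rw [mkHom_app, mkHom_app, trivial_smul, ← P.mul_smul] }
  refine ⟨isoOfBijective f ?_⟩
  intro U
  constructor
  · intro g g' hgg
    change P.smul (toGrp g) (s.1 U) = P.smul (toGrp g') (s.1 U) at hgg
    obtain ⟨g₀, -, huniq⟩ := hP U (s.1 U) (P.smul (toGrp g') (s.1 U))
    exact (huniq _ hgg).trans (huniq _ rfl).symm
  · intro p
    obtain ⟨g₀, hg₀, -⟩ := hP U (s.1 U) p
    exact ⟨ofGrp g₀, hg₀⟩

lemma isTrivial_iff_hasSection {P : GSheaf G} (hP : P.IsPseudoTorsor) :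
    P.IsTrivial ↔ P.HasSection :=
  ⟨hasSection_of_isTrivial, isTrivial_of_hasSection hP⟩

lemma cl_eq_iff (T T' : Torsor G) : T.cl = T'.cl ↔ Nonempty (T.toGSheaf ≅ T'.toGSheaf) := by
  have heq : Equivalence (fun P Q : Torsor G => Nonempty (P.toGSheaf ≅ Q.toGSheaf)) :=
    ⟨fun _ => ⟨Iso.refl _⟩, fun ⟨e⟩ => ⟨e.symm⟩, fun ⟨e⟩ ⟨e'⟩ => ⟨e ≪≫ e'⟩⟩
  constructor
  · intro h
    have h' : Relation.EqvGen _ T T' := Quot.eqvGen_exact h
    exact (heq.eqvGen_iff).1 h'
  · intro h
    exact Quot.sound h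

lemma cl_eq_one_iff (T : Torsor G) : T.cl = 1 ↔ T.toGSheaf.IsTrivial := by
  change T.cl = (trivialTorsor G).cl ↔ _
  rw [cl_eq_iff]
  exact ⟨fun ⟨e⟩ => ⟨e.symm⟩, fun ⟨e⟩ => ⟨e.symm⟩⟩

lemma cl_eq_one_iff_hasSection (T : Torsor G) : T.cl = 1 ↔ T.toGSheaf.HasSection := by
  rw [cl_eq_one_iff, isTrivial_iff_hasSection T.isTorsor.1]

end Triv

/-! ### The boundary of a section of a quotient -/

section Boundary

variable [J.HasSheafCompose (forget GrpCat.{w})] {F : Sheaf J GrpCat.{w}} (u : F ⟶ G)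
  {Q : GSheaf G} (π : GSheaf.trivial G ⟶ Q)

lemma pi_mul {U : Cᵒᵖ} (g x : G.obj.obj U) :
    π.hom.hom.app U (ofGrp (g * x)) = Q.smul g (π.hom.hom.app U (ofGrp x)) :=
  π.map_smul g (ofGrp x)

lemma u_naturality {U V : Cᵒᵖ} (a : U ⟶ V) (f : F.obj.obj U) :
    u.hom.app V (F.obj.map a f) = G.obj.map a (u.hom.app U f) :=
  NatTrans.naturality_apply u.hom a f

lemma pi_naturality {U V : Cᵒᵖ} (a : U ⟶ V) (x : (uSh G).obj.obj U) :
    π.hom.hom.app V ((uSh G).obj.map a x) = Q.P.obj.map a (π.hom.hom.app U x) :=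
  hom_naturality π.hom a x

variable {u π}

lemma hasSection_iff_lift {c : Q.P.obj.sections} {T : GSheaf F} (hT : IsFibreOver u π c T) :
    T.HasSection ↔
      ∃ g : (uSh G).obj.sections, ∀ U : Cᵒᵖ, π.hom.hom.app U (g.1 U) = c.1 U := by
  obtain ⟨i, inj, mem, act⟩ := hT
  constructor
  · rintro ⟨t, ht⟩
    refine ⟨⟨fun U => i.hom.app U (t U), ?_⟩, fun U => ?_⟩
    · intro U V f
      rw [← hom_naturality, ht f]
    · exact (mem U _).1 ⟨t U, rfl⟩
  · rintro ⟨g, hg⟩
    have h1 : ∀ U, ∃ t, toGrp (i.hom.app U t) = toGrp (g.1 U) := fun U => (mem U _).2 (hg U)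
    choose t ht using h1
    refine ⟨t, ?_⟩
    intro U V f
    apply inj
    rw [hom_naturality]
    change _ = toGrp (i.hom.app V (t V))
    rw [ht V]
    have := ht U
    change i.hom.app U (t U) = g.1 U at this
    rw [this]
    exact g.2 f

lemma isPseudoTorsor_of_fibre (hu : ∀ U : Cᵒᵖ, Function.Injective (u.hom.app U))
    (hQ : IsQuotientBy u π) {c : Q.P.obj.sections} {T : GSheaf F} (hT : IsFibreOver u π c T) :
    T.IsPseudoTorsor := by
  obtain ⟨i, inj, mem, act⟩ := hT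
  intro U p q
  have hp := (mem U _).1 ⟨p, rfl⟩
  have hq := (mem U _).1 ⟨q, rfl⟩
  obtain ⟨f, hf⟩ := (hQ.1 U (toGrp (i.hom.app U p)) (toGrp (i.hom.app U q))).1 (hp.trans hq.symm)
  refine ⟨f⁻¹, ?_, ?_⟩
  · apply inj
    change toGrp (i.hom.app U (T.smul f⁻¹ p)) = toGrp (i.hom.app U q)
    rw [act, hf, map_inv, inv_inv]
  · intro f' hf'
    apply hu U
    have h1 : toGrp (i.hom.app U (T.smul f' p)) = toGrp (i.hom.app U q) := by rw [hf']
    rw [act, hf] at h1
    have h2 := mul_left_cancel h1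
    rw [map_inv, ← h2, inv_inv]

lemma locallyNonempty_of_fibre (hQ : IsQuotientBy u π) {c : Q.P.obj.sections} {T : GSheaf F}
    (hT : IsFibreOver u π c T) : T.LocallyNonempty := by
  obtain ⟨i, inj, mem, act⟩ := hT
  intro U
  obtain ⟨S, hS, h⟩ := hQ.2 U (c.1 (op U))
  refine ⟨S, hS, fun V a ha => ?_⟩
  obtain ⟨g, hg⟩ := h a ha
  rw [c.2 a.op] at hg
  obtain ⟨t, -⟩ := (mem (op V) g).2 hg
  exact ⟨t⟩

lemma isTorsor_of_fibre (hu : ∀ U : Cᵒᵖ, Function.Injective (u.hom.app U))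
    (hQ : IsQuotientBy u π) {c : Q.P.obj.sections} {T : GSheaf F} (hT : IsFibreOver u π c T) :
    T.IsTorsor :=
  ⟨isPseudoTorsor_of_fibre hu hQ hT, locallyNonempty_of_fibre hQ hT⟩

lemma isPushforward_of_fibre {c : Q.P.obj.sections} {T : GSheaf F} (hT : IsFibreOver u π c T) :
    IsPushforwardAlong u T (GSheaf.trivial G) := by
  obtain ⟨i, inj, mem, act⟩ := hT
  have hnat : ∀ ⦃U V : Cᵒᵖ⦄ (f : U ⟶ V) (x : T.P.obj.obj U),
      ofGrp (toGrp (i.hom.app V (T.P.obj.map f x)))⁻¹ =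
        (uSh G).obj.map f (ofGrp (toGrp (i.hom.app U x))⁻¹) := by
    intro U V f x
    rw [hom_naturality, uSh_map, uSh_map]
    change ofGrp (G.obj.map f (toGrp (i.hom.app U x)))⁻¹ = ofGrp (G.obj.map f (toGrp (i.hom.app U x))⁻¹)
    rw [map_inv]
  let φ : T.P ⟶ uSh G := mkHom (fun U t => ofGrp (toGrp (i.hom.app U t))⁻¹) hnat
  refine ⟨φ, ?_⟩
  intro U g p
  change ofGrp (toGrp (i.hom.app U (T.smul g p)))⁻¹ = ofGrp (u.hom.app U g * (toGrp (i.hom.app U p))⁻¹)
  rw [act, mul_inv_rev, inv_inv]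

end Boundary

section Boundary2

variable [J.HasSheafCompose (forget GrpCat.{w})] {F : Sheaf J GrpCat.{w}} {u : F ⟶ G}
  {Q : GSheaf G} {π : GSheaf.trivial G ⟶ Q}

lemma uSh_sections_map (g : (uSh G).obj.sections) {U V : Cᵒᵖ} (a : U ⟶ V) :
    G.obj.map a (toGrp (g.1 U)) = toGrp (g.1 V) := g.2 a

/-- if `g • c = c'` for a global section `g` of `G`, the sheaves of liftings are isomorphic -/
lemma iso_of_smul_eq {c c' : Q.P.obj.sections} {T T' : GSheaf F}
    (hT : IsFibreOver u π c T) (hT' : IsFibreOver u π c' T')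
    (g : (uSh G).obj.sections)
    (hg : ∀ U : Cᵒᵖ, Q.smul (toGrp (g.1 U)) (c.1 U) = c'.1 U) : Nonempty (T ≅ T') := by
  classical
  obtain ⟨i, inj, mem, act⟩ := hT
  obtain ⟨i', inj', mem', act'⟩ := hT'
  have hex : ∀ U (t : T.P.obj.obj U), ∃ t' : T'.P.obj.obj U,
      toGrp (i'.hom.app U t') = toGrp (g.1 U) * toGrp (i.hom.app U t) := by
    intro U t
    apply (mem' U _).2
    rw [pi_mul, (mem U _).1 ⟨t, rfl⟩, hg U]
  choose ψ hψ using hex
  let f : T ⟶ T' :=
    { hom := mkHom ψ (by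
        intro U V a x
        apply inj'
        rw [hom_naturality]
        change toGrp (i'.hom.app V (ψ V (T.P.obj.map a x))) = G.obj.map a (toGrp (i'.hom.app U (ψ U x)))
        rw [hψ, hψ, map_mul, uSh_sections_map, hom_naturality]
        rfl)
      map_smul := by
        intro U f p
        apply inj'
        change toGrp (i'.hom.app U (ψ U (T.smul f p))) = toGrp (i'.hom.app U (T'.smul f (ψ U p)))
        rw [hψ, act, act', hψ, mul_assoc] }
  refine ⟨isoOfBijective f ?_⟩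
  intro U
  constructor
  · intro t₁ t₂ h12
    change ψ U t₁ = ψ U t₂ at h12
    apply inj
    have h1 := hψ U t₁
    rw [h12, hψ U t₂] at h1
    exact (mul_left_cancel h1).symm
  · intro t'
    have : π.hom.hom.app U (ofGrp ((toGrp (g.1 U))⁻¹ * toGrp (i'.hom.app U t'))) = c.1 U := by
      rw [pi_mul, (mem' U _).1 ⟨t', rfl⟩, ← hg U, ← Q.mul_smul, inv_mul_cancel, Q.one_smul]
    obtain ⟨t, ht⟩ := (mem U _).2 this
    refine ⟨t, ?_⟩
    apply inj'
    change toGrp (i'.hom.app U (ψ U t)) = toGrp (i'.hom.app U t')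
    rw [hψ, ht, mul_inv_cancel_left]

/-- conversely an isomorphism of sheaves of liftings comes from a global section of `G` -/
lemma exists_smul_eq_of_iso {c c' : Q.P.obj.sections} {T T' : GSheaf F}
    (hT : IsFibreOver u π c T) (hT' : IsFibreOver u π c' T') (hTt : T.IsTorsor) (e : T ≅ T') :
    ∃ g : (uSh G).obj.sections, ∀ U : Cᵒᵖ, Q.smul (toGrp (g.1 U)) (c.1 U) = c'.1 U := by
  classical
  obtain ⟨i, inj, mem, act⟩ := hT
  obtain ⟨i', inj', mem', act'⟩ := hT'
  obtain ⟨g, hg⟩ := exists_section_of_const (T := T.P) (P := uSh G) hTt.2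
    (fun U t => ofGrp (toGrp (i'.hom.app U (e.hom.hom.hom.app U t)) * (toGrp (i.hom.app U t))⁻¹))
    (by
      intro U V a t
      rw [hom_naturality, hom_naturality, hom_naturality, uSh_map, uSh_map, uSh_map]
      change ofGrp (_ * _) = ofGrp (G.obj.map a (_ * _))
      rw [map_mul, map_inv])
    (by
      intro U t t'
      obtain ⟨f, hf, -⟩ := hTt.1 U t t'
      rw [← hf, e.hom.map_smul, act, act']
      congr 1
      group)
  refine ⟨g, fun U => ?_⟩
  obtain ⟨S, hS, hne⟩ := hTt.2 U.unop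
  apply sep Q.P S hS
  intro V a ha
  obtain ⟨t⟩ := hne a ha
  rw [Q.map_smul, c.2 a.op, c'.2 a.op, uSh_sections_map, hg (op V) t,
    ← (mem (op V) _).1 ⟨t, rfl⟩, ← pi_mul]
  change π.hom.hom.app (op V) (ofGrp (toGrp (i'.hom.app (op V) (e.hom.hom.hom.app (op V) t)) *
    (toGrp (i.hom.app (op V) t))⁻¹ * toGrp (i.hom.app (op V) t))) = _
  rw [inv_mul_cancel_right]
  exact (mem' (op V) _).1 ⟨_, rfl⟩

end Boundary2

section Existence

variable [J.HasSheafCompose (forget GrpCat.{w})] {F : Sheaf J GrpCat.{w}} {u : F ⟶ G}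
  {Q : GSheaf G} {π : GSheaf.trivial G ⟶ Q}

/-- the subfunctor of liftings of `c` -/
def liftSub (π : GSheaf.trivial G ⟶ Q) (c : Q.P.obj.sections) : Subfunctor (uSh G).obj where
  obj U := {g | π.hom.hom.app U g = c.1 U}
  map := by
    intro U V a g hg
    change π.hom.hom.app V ((uSh G).obj.map a g) = c.1 V
    have hg' : π.hom.hom.app U g = c.1 U := hg
    rw [pi_naturality, hg', c.2 a]

lemma liftSub_isSheaf (π : GSheaf.trivial G ⟶ Q) (c : Q.P.obj.sections) :
    Presheaf.IsSheaf J (liftSub π c).toFunctor := by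
  rw [isSheaf_iff_isSheaf_of_type]
  rw [Subfunctor.isSheaf_iff _ ((isSheaf_iff_isSheaf_of_type J _).1 (uSh G).property)]
  intro U s hs
  change π.hom.hom.app U s = c.1 U
  apply sep Q.P _ hs
  intro V a ha
  have : π.hom.hom.app (op V) ((uSh G).obj.map a.op s) = c.1 (op V) := ha
  rw [c.2 a.op, ← this, pi_naturality]

/-- the sheaf of liftings -/
def liftSheaf (π : GSheaf.trivial G ⟶ Q) (c : Q.P.obj.sections) : Sheaf J (Type w) :=
  ⟨(liftSub π c).toFunctor, liftSub_isSheaf π c⟩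

lemma pi_mul_u_inv (hQ : IsQuotientBy u π) {U : Cᵒᵖ} (g : G.obj.obj U) (f : F.obj.obj U) :
    π.hom.hom.app U (ofGrp (g * (u.hom.app U f)⁻¹)) = π.hom.hom.app U (ofGrp g) := by
  symm
  apply (hQ.1 U g (g * (u.hom.app U f)⁻¹)).2
  exact ⟨f⁻¹, by rw [map_inv]⟩

/-- the `F`-sheaf of liftings -/
def liftGSheaf (hQ : IsQuotientBy u π) (c : Q.P.obj.sections) : GSheaf F where
  P := liftSheaf π c
  smul {U} f t := ⟨ofGrp (toGrp t.1 * (u.hom.app U f)⁻¹), by
    change π.hom.hom.app U (ofGrp (toGrp t.1 * (u.hom.app U f)⁻¹)) = c.1 U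
    rw [pi_mul_u_inv hQ]
    exact t.2⟩
  one_smul {U} t := by
    apply Subtype.ext
    change ofGrp (toGrp t.1 * (u.hom.app U 1)⁻¹) = t.1
    rw [map_one, inv_one, mul_one]
  mul_smul {U} f h t := by
    apply Subtype.ext
    change ofGrp (toGrp t.1 * (u.hom.app U (f * h))⁻¹) =
      ofGrp (toGrp t.1 * (u.hom.app U h)⁻¹ * (u.hom.app U f)⁻¹)
    rw [map_mul, mul_inv_rev, mul_assoc]
  map_smul {U V} a f t := by
    apply Subtype.ext
    change G.obj.map a (toGrp t.1 * (u.hom.app U f)⁻¹) =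
      G.obj.map a (toGrp t.1) * (u.hom.app V (F.obj.map a f))⁻¹
    rw [map_mul, map_inv, u_naturality]

lemma liftGSheaf_isFibre (hQ : IsQuotientBy u π) (c : Q.P.obj.sections) :
    IsFibreOver u π c (liftGSheaf hQ c) := by
  refine ⟨ObjectProperty.homMk (liftSub π c).ι, ?_, ?_, ?_⟩
  · intro U x y h
    exact Subtype.ext h
  · intro U g
    constructor
    · rintro ⟨t, rfl⟩
      exact t.2
    · intro h
      exact ⟨⟨ofGrp g, h⟩, rfl⟩
  · intro U f t
    rfl

lemma exists_fibre (hu : ∀ U : Cᵒᵖ, Function.Injective (u.hom.app U))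
    (hQ : IsQuotientBy u π) (c : Q.P.obj.sections) :
    ∃ T : Torsor F, IsFibreOver u π c T.toGSheaf :=
  ⟨⟨liftGSheaf hQ c, isTorsor_of_fibre hu hQ (liftGSheaf_isFibre hQ c)⟩, liftGSheaf_isFibre hQ c⟩

/-- a torsor whose pushforward to `G` is trivial is the sheaf of liftings of some section -/
lemma exists_fibre_of_isPushforward (hu : ∀ U : Cᵒᵖ, Function.Injective (u.hom.app U))
    (hQ : IsQuotientBy u π) (T : GSheaf F) (hT : T.IsTorsor)
    (h : IsPushforwardAlong u T (GSheaf.trivial G)) :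
    ∃ c : Q.P.obj.sections, IsFibreOver u π c T := by
  classical
  obtain ⟨φ', hφ'⟩ := h
  let φ : T.P ⟶ uSh G := φ'
  have hφ : ∀ (U : Cᵒᵖ) (g : F.obj.obj U) (p : T.P.obj.obj U),
      toGrp (φ.hom.app U (T.smul g p)) = u.hom.app U g * toGrp (φ.hom.app U p) := hφ'
  -- ι = inverse of φ
  have hnat : ∀ ⦃U V : Cᵒᵖ⦄ (f : U ⟶ V) (x : T.P.obj.obj U),
      ofGrp (toGrp (φ.hom.app V (T.P.obj.map f x)))⁻¹ =
        (uSh G).obj.map f (ofGrp (toGrp (φ.hom.app U x))⁻¹) := by
    intro U V f x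
    rw [hom_naturality, uSh_map, uSh_map]
    change ofGrp (G.obj.map f (toGrp (φ.hom.app U x)))⁻¹ = ofGrp (G.obj.map f (toGrp (φ.hom.app U x))⁻¹)
    rw [map_inv]
  let i : T.P ⟶ uSh G := mkHom (fun U t => ofGrp (toGrp (φ.hom.app U t))⁻¹) hnat
  have hi : ∀ U t, toGrp (i.hom.app U t) = (toGrp (φ.hom.app U t))⁻¹ := fun U t => rfl
  have act : ∀ (U : Cᵒᵖ) (f : F.obj.obj U) (t : T.P.obj.obj U),
      toGrp (i.hom.app U (T.smul f t)) = toGrp (i.hom.app U t) * (u.hom.app U f)⁻¹ := by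
    intro U f t
    rw [hi, hi, hφ, mul_inv_rev]
  have inj : ∀ U : Cᵒᵖ, Function.Injective (i.hom.app U) := by
    intro U t t' htt
    obtain ⟨f, hf, -⟩ := hT.1 U t t'
    have h1 : toGrp (i.hom.app U t) = toGrp (i.hom.app U t') := htt
    rw [← hf, act] at h1
    have h2 : (u.hom.app U f)⁻¹ = 1 := by
      have := mul_left_cancel (a := toGrp (i.hom.app U t)) (b := 1) (c := (u.hom.app U f)⁻¹)
        (by rw [mul_one]; exact h1)
      exact this.symm
    have h3 : u.hom.app U f = u.hom.app U 1 := by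
      rw [map_one, ← inv_inj, h2, inv_one]
    have h4 := hu U h3
    rw [← hf, h4, T.one_smul]
  -- the section c
  obtain ⟨c, hc⟩ := exists_section_of_const (T := T.P) (P := Q.P) hT.2
    (fun U t => π.hom.hom.app U (i.hom.app U t))
    (by
      intro U V a t
      rw [hom_naturality, pi_naturality])
    (by
      intro U t t'
      obtain ⟨f, hf, -⟩ := hT.1 U t t'
      rw [← hf]
      have := pi_mul_u_inv hQ (toGrp (i.hom.app U t)) f
      rw [← act] at this
      exact this.symm)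
  refine ⟨c, i, inj, ?_, act⟩
  intro U g
  constructor
  · rintro ⟨t, rfl⟩
    exact (hc U t).symm
  · intro hg
    -- local liftings
    obtain ⟨S, hS, hne⟩ := hT.2 U.unop
    obtain ⟨t, ht⟩ := exists_lift_of_local i inj (U := U.unop) (ofGrp g) S hS (by
      intro V a ha
      obtain ⟨t⟩ := hne a ha
      have h1 : π.hom.hom.app (op V) ((uSh G).obj.map a.op (ofGrp g)) =
          π.hom.hom.app (op V) (i.hom.app (op V) t) := by
        rw [pi_naturality, ← hc (op V) t]
        have : π.hom.hom.app U (ofGrp g) = c.1 U := hg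
        rw [← c.2 a.op]
        exact congrArg _ this
      obtain ⟨f, hf⟩ := (hQ.1 (op V) _ _).1 h1
      refine ⟨T.smul f t, ?_⟩
      change toGrp (i.hom.app (op V) (T.smul f t)) = toGrp ((uSh G).obj.map a.op (ofGrp g))
      rw [act]
      have hf' : toGrp (i.hom.app (op V) t) = toGrp ((uSh G).obj.map a.op (ofGrp g)) * u.hom.app (op V) f := hf
      rw [hf', mul_inv_cancel_right])
    exact ⟨t, ht⟩

end Existence

end Groth.Agent.Lib.Helper43.NAH1
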