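import Groth.Prelude.Def_SGA4a
import Groth.Agent.Lib.Helper43.NAH1
import Groth.Agent.S6177
import Groth.Agent.Lib.Helper43.Glue
import Mathlib.CategoryTheory.Adjunction.Triple
import Mathlib.CategoryTheory.Comma.Over.Pullback
import Mathlib.CategoryTheory.Sites.Sheafification
import Mathlib.CategoryTheory.Sites.LocallyBijective
import Mathlib.CategoryTheory.Sites.LeftExact
import Mathlib.CategoryTheory.Sites.Limits
import Mathlib.CategoryTheory.Adjunction.Restrict
import Mathlib.CategoryTheory.Adjunction.Unique

/-! The closed complement of an open of a sheaf topos, as the sheaves for a finer topology. -/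

set_option autoImplicit false
set_option linter.style.haveILetI false
set_option linter.unusedSectionVars false

universe u

open CategoryTheory CategoryTheory.Limits Opposite

namespace Groth.Agent.Lib.Helper43.ClosedSub

variable {C : Type u} [SmallCategory C] (J : GrothendieckTopology C) (U : Cᵒᵖ ⥤ Type u)

/-- the sieve of arrows over whose source `U` has a section -/
def supp (W : C) : Sieve W where
  arrows V _ := Nonempty (U.obj (op V))
  downward_closed := by
    rintro V V' f ⟨u⟩ g
    exact ⟨U.map g.op u⟩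

lemma supp_apply {W V : C} (f : V ⟶ W) : supp U W f ↔ Nonempty (U.obj (op V)) := Iff.rfl

lemma supp_eq_top {W : C} (h : Nonempty (U.obj (op W))) : supp U W = ⊤ := by
  rw [← Sieve.id_mem_iff_eq_top]
  exact h

lemma supp_pullback {W W' : C} (g : W' ⟶ W) : (supp U W).pullback g = supp U W' := by
  ext V f
  exact Iff.rfl

lemma pullback_sup {W W' : C} (g : W' ⟶ W) (S R : Sieve W) :
    (S ⊔ R).pullback g = S.pullback g ⊔ R.pullback g := by
  ext V f
  exact Iff.rfl

/-- the topology whose sheaves are the closed complement of `U` -/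
def closedTop : GrothendieckTopology C where
  sieves W := {S | S ⊔ supp U W ∈ J W}
  top_mem' W := by
    change ⊤ ⊔ supp U W ∈ J W
    rw [top_sup_eq]
    exact J.top_mem W
  pullback_stable' W W' S g hS := by
    change S.pullback g ⊔ supp U W' ∈ J W'
    have := J.pullback_stable g hS
    rw [pullback_sup, supp_pullback] at this
    exact this
  transitive' W S hS R hR := by
    change R ⊔ supp U W ∈ J W
    refine J.transitive hS _ ?_
    rintro V f (hf | hf)
    · have := hR hf
      change R.pullback f ⊔ supp U V ∈ J V at this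
      rw [pullback_sup, supp_pullback]
      exact this
    · have h1 : supp U V = ⊤ := supp_eq_top U hf
      rw [pullback_sup, supp_pullback, h1, sup_top_eq]
      exact J.top_mem V

lemma mem_closedTop_iff {W : C} (S : Sieve W) : S ∈ closedTop J U W ↔ S ⊔ supp U W ∈ J W := Iff.rfl

lemma le_closedTop : J ≤ closedTop J U := by
  intro W S hS
  exact J.superset_covering le_sup_left hS

lemma bot_mem_closedTop {W : C} (h : Nonempty (U.obj (op W))) : ⊥ ∈ closedTop J U W := by
  rw [mem_closedTop_iff, bot_sup_eq, supp_eq_top U h]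
  exact J.top_mem W

/-- the sections of `X` are unique over every object over which `U` has a section -/
def IsClosedPre (X : Cᵒᵖ ⥤ Type u) : Prop :=
  ∀ W : C, Nonempty (U.obj (op W)) → ∃ x : X.obj (op W), ∀ y : X.obj (op W), y = x

variable {J U}

lemma IsClosedPre.eq {X : Cᵒᵖ ⥤ Type u} (h : IsClosedPre U X) {W : C}
    (hW : Nonempty (U.obj (op W))) (x y : X.obj (op W)) : x = y := by
  obtain ⟨z, hz⟩ := h W hW
  rw [hz x, hz y]

lemma isClosedPre_of_isSheaf {X : Cᵒᵖ ⥤ Type u} (h : Presieve.IsSheaf (closedTop J U) X) :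
    IsClosedPre U X := by
  intro W hW
  have hS := h (⊥ : Sieve W) (bot_mem_closedTop J U hW)
  let x : Presieve.FamilyOfElements X (⊥ : Sieve W).arrows := fun V f hf => False.elim hf
  have hx : x.Compatible := by
    intro Y₁ Y₂ Z g₁ g₂ f₁ f₂ h₁
    exact False.elim h₁
  obtain ⟨t, _, ht⟩ := hS x hx
  refine ⟨t, fun y => ht y ?_⟩
  intro V f hf
  exact False.elim hf

theorem isSheaf_closedTop_of {X : Cᵒᵖ ⥤ Type u} (hJ : Presieve.IsSheaf J X)
    (hc : IsClosedPre U X) : Presieve.IsSheaf (closedTop J U) X := by
  classical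
  intro W S hS
  have hS' : S ⊔ supp U W ∈ J W := hS
  intro x hx
  rw [Presieve.compatible_iff_sieveCompatible] at hx
  -- the extended family
  let x' : Presieve.FamilyOfElements X (S ⊔ supp U W).arrows := fun V f hf =>
    if h : S f then x f h else
      (hc V (hf.resolve_left h)).choose
  have hx' : x'.Compatible := by
    rw [Presieve.compatible_iff_sieveCompatible]
    intro V Z f g hf
    by_cases h : S f
    · have h2 : S (g ≫ f) := S.downward_closed h g
      simp only [x', dif_pos h, dif_pos h2]
      exact hx f g h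
    · exact hc.eq ⟨U.map g.op (hf.resolve_left h).some⟩ _ _
  refine ⟨(hJ _ hS').amalgamate x' hx', ?_, ?_⟩
  · intro V f hf
    have := (hJ _ hS').valid_glue hx' f (Or.inl hf)
    rw [this]
    simp only [x', dif_pos hf]
  · intro t ht
    apply (hJ _ hS').isSeparatedFor.ext
    rintro V f (hf | hf)
    · rw [ht f hf]
      have := (hJ _ hS').valid_glue hx' f (Or.inl hf)
      rw [this]
      simp only [x', dif_pos hf]
    · exact hc.eq hf _ _

theorem isSheaf_closedTop_iff (X : Cᵒᵖ ⥤ Type u) :
    Presieve.IsSheaf (closedTop J U) X ↔ Presieve.IsSheaf J X ∧ IsClosedPre U X :=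
  ⟨fun h => ⟨Presieve.isSheaf_of_le _ (le_closedTop J U) h, isClosedPre_of_isSheaf h⟩,
    fun h => isSheaf_closedTop_of h.1 h.2⟩

section General

variable {E : Type*} [Category E] [HasBinaryProducts E]

/-- two maps into an object of the closed complement from an object over `U` agree -/
lemma hom_eq_of_closed {U Z T : E} (hZ : IsIso (prod.fst : U ⨯ Z ⟶ U)) (w : T ⟶ U)
    (f g : T ⟶ Z) : f = g := by
  have h : prod.lift w f = prod.lift w g := by
    rw [← cancel_mono (prod.fst : U ⨯ Z ⟶ U), prod.lift_fst, prod.lift_fst]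
  have := congrArg (fun k => k ≫ (prod.snd : U ⨯ Z ⟶ Z)) h
  simp only [prod.lift_snd] at this
  exact this

/-- the map from `U` to an object of its closed complement -/
noncomputable def fromOpen {U Z : E} (hZ : IsIso (prod.fst : U ⨯ Z ⟶ U)) : U ⟶ Z :=
  inv (prod.fst : U ⨯ Z ⟶ U) ≫ prod.snd

lemma isIso_fst_of_hom {U Z : E} (s : U ⟶ Z)
    (h : (prod.fst : U ⨯ Z ⟶ U) ≫ s = prod.snd) : IsIso (prod.fst : U ⨯ Z ⟶ U) := by
  refine ⟨prod.lift (𝟙 U) s, ?_, prod.lift_fst _ _⟩
  apply Limits.prod.hom_ext
  · rw [Category.assoc, prod.lift_fst, Category.comp_id, Category.id_comp]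
  · rw [Category.assoc, prod.lift_snd, Category.id_comp, h]

end General

section Sheaf

open Groth.Agent.Lib.Helper43.NAH1

variable {J : GrothendieckTopology C} (U X : Sheaf J (Type u))

/-- sections of a sheaf as maps from the sheafified representable -/
noncomputable def secEquiv (X : Sheaf J (Type u)) (W : C) :
    ((presheafToSheaf J (Type u)).obj (yoneda.obj W) ⟶ X) ≃ X.obj.obj (op W) :=
  ((sheafificationAdjunction J (Type u)).homEquiv (yoneda.obj W) X).trans yonedaEquiv

theorem isClosedPre_of_closedCompl (h : SGA4.closedCompl U X) : IsClosedPre U.obj X.obj := by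
  intro W ⟨u⟩
  have hX : IsIso (prod.fst : U ⨯ X ⟶ U) := h
  refine ⟨(fromOpen hX).hom.app (op W) u, fun y => ?_⟩
  apply (secEquiv X W).symm.injective
  exact hom_eq_of_closed hX ((secEquiv U W).symm u) _ _

theorem closedCompl_of_isClosedPre (h : IsClosedPre U.obj X.obj) : SGA4.closedCompl U X := by
  let s : U ⟶ X := mkHom (fun W _ => (h W.unop ⟨by assumption⟩).choose) (by
    intro W V f x
    exact h.eq ⟨U.obj.map f x⟩ _ _)
  refine isIso_fst_of_hom s ?_
  apply sheaf_hom_ext
  intro W x
  exact h.eq ⟨(prod.fst : U ⨯ X ⟶ U).hom.app W x⟩ _ _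

theorem closedCompl_iff : SGA4.closedCompl U X ↔ IsClosedPre U.obj X.obj :=
  ⟨isClosedPre_of_closedCompl U X, closedCompl_of_isClosedPre U X⟩

theorem closedCompl_iff_isSheaf :
    SGA4.closedCompl U X ↔ Presheaf.IsSheaf (closedTop J U.obj) X.obj := by
  rw [closedCompl_iff, isSheaf_iff_isSheaf_of_type, isSheaf_closedTop_iff]
  exact ⟨fun h => ⟨(isSheaf_iff_isSheaf_of_type _ _).1 X.property, h⟩, fun h => h.2⟩

end Sheaf

section Reflector

variable {J : GrothendieckTopology C} (U : Sheaf J (Type u))

lemma isSheaf_le : Presheaf.IsSheaf (closedTop J U.obj) (A := Type u) ≤ Presheaf.IsSheaf J := by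
  intro X hX
  rw [isSheaf_iff_isSheaf_of_type] at hX ⊢
  exact Presieve.isSheaf_of_le _ (le_closedTop J U.obj) hX

/-- sheaves for the closed topology as objects of the closed complement -/
def toCompl : Sheaf (closedTop J U.obj) (Type u) ⥤ (SGA4.closedCompl U).FullSubcategory :=
  (SGA4.closedCompl U).lift (ObjectProperty.ιOfLE (isSheaf_le U))
    (fun Y => (closedCompl_iff_isSheaf U _).2 Y.property)

/-- objects of the closed complement as sheaves for the closed topology -/
def fromCompl : (SGA4.closedCompl U).FullSubcategory ⥤ Sheaf (closedTop J U.obj) (Type u) :=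
  ObjectProperty.lift (Presheaf.IsSheaf (closedTop J U.obj))
    ((SGA4.closedCompl U).ι ⋙ sheafToPresheaf J (Type u))
    (fun Z => (closedCompl_iff_isSheaf U Z.obj).1 Z.property)

/-- `toCompl ⋙ fromCompl` is the identity -/
def toFromIso : toCompl U ⋙ fromCompl U ≅ 𝟭 _ :=
  NatIso.ofComponents (fun _ => Iso.refl _)

/-- `fromCompl ⋙ toCompl` is the identity -/
def fromToIso : fromCompl U ⋙ toCompl U ≅ 𝟭 _ :=
  NatIso.ofComponents (fun _ => Iso.refl _)

/-- the closed complement is equivalent to the sheaves for the closed topology -/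
def complEquiv : Sheaf (closedTop J U.obj) (Type u) ≌ (SGA4.closedCompl U).FullSubcategory :=
  CategoryTheory.Equivalence.mk (toCompl U) (fromCompl U) (toFromIso U).symm (fromToIso U)

instance : (toCompl U).IsEquivalence := (complEquiv U).isEquivalence_functor

instance : (fromCompl U).IsEquivalence := (complEquiv U).isEquivalence_inverse

/-- the reflector onto the closed complement -/
noncomputable def reflector : Sheaf J (Type u) ⥤ (SGA4.closedCompl U).FullSubcategory :=
  sheafToPresheaf J (Type u) ⋙ presheafToSheaf (closedTop J U.obj) (Type u) ⋙ toCompl U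

/-- the reflector is left adjoint to the inclusion of the closed complement -/
noncomputable def reflectorAdj : reflector U ⊣ (SGA4.closedCompl U).ι :=
  (sheafificationAdjunction (closedTop J U.obj) (Type u)).restrictFullyFaithful
    (iC := sheafToPresheaf J (Type u)) (iD := fromCompl U)
    (fullyFaithfulSheafToPresheaf J (Type u)) (Functor.FullyFaithful.ofFullyFaithful _)
    (L := reflector U) (R := (SGA4.closedCompl U).ι)
    (Functor.isoWhiskerLeft
      (sheafToPresheaf J (Type u) ⋙ presheafToSheaf (closedTop J U.obj) (Type u))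
      (toFromIso U).symm)
    (Iso.refl _)

instance : PreservesFiniteLimits (reflector U) := by
  unfold reflector
  have h1 : PreservesFiniteLimits (sheafToPresheaf J (Type u)) := inferInstance
  have h2 : PreservesFiniteLimits (presheafToSheaf (closedTop J U.obj) (Type u)) := inferInstance
  have h3 : PreservesFiniteLimits (toCompl U) := inferInstance
  have h4 : PreservesFiniteLimits (presheafToSheaf (closedTop J U.obj) (Type u) ⋙ toCompl U) :=
    comp_preservesFiniteLimits _ _
  exact comp_preservesFiniteLimits _ _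

end Reflector

section Pushout

variable {E : Type*} [Category E] [HasFiniteProducts E] [HasPushouts E]

/-- any reflector onto the closed complement is given by the pushout `U ⊔_{U × X} X` -/
theorem nonempty_reflector_iso_pushout (U : E) (hU : Mono (terminal.from U))
    [PreservesColimitsOfShape WalkingSpan (prod.functor.obj U)]
    (L : E ⥤ (SGA4.closedCompl U).FullSubcategory) (adj : L ⊣ (SGA4.closedCompl U).ι) (X : E) :
    Nonempty (((SGA4.closedCompl U).ι).obj (L.obj X) ≅
      pushout (prod.fst : U ⨯ X ⟶ U) (prod.snd : U ⨯ X ⟶ X)) := by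
  have hP : SGA4.closedCompl U (pushout (prod.fst : U ⨯ X ⟶ U) (prod.snd : U ⨯ X ⟶ X)) :=
    Groth.Agent.S6177.core U X hU
  have hL : IsIso (prod.fst : U ⨯ (L.obj X).obj ⟶ U) := (L.obj X).property
  have hP' : IsIso (prod.fst : U ⨯ pushout (prod.fst : U ⨯ X ⟶ U) (prod.snd : U ⨯ X ⟶ X) ⟶ U) :=
    hP
  let P' : (SGA4.closedCompl U).FullSubcategory := ⟨_, hP⟩
  let η : X ⟶ (L.obj X).obj := adj.unit.app X
  let a : pushout (prod.fst : U ⨯ X ⟶ U) (prod.snd : U ⨯ X ⟶ X) ⟶ (L.obj X).obj :=
    pushout.desc (fromOpen hL) η (hom_eq_of_closed hL prod.fst _ _)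
  let b' : L.obj X ⟶ P' := (adj.homEquiv X P').symm (pushout.inr _ _)
  have hb : η ≫ b'.hom = pushout.inr _ _ := by
    have := (adj.homEquiv X P').apply_symm_apply (pushout.inr _ _)
    rw [Adjunction.homEquiv_unit] at this
    exact this
  refine ⟨⟨b'.hom, a, ?_, ?_⟩⟩
  · -- `b ≫ a = 𝟙`
    have h1 : b' ≫ (ObjectProperty.homMk a : P' ⟶ L.obj X) = 𝟙 (L.obj X) := by
      apply (adj.homEquiv X (L.obj X)).injective
      rw [Adjunction.homEquiv_unit, Adjunction.homEquiv_unit]
      change η ≫ b'.hom ≫ a = η ≫ 𝟙 _
      rw [← Category.assoc, hb, Category.comp_id]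
      exact pushout.inr_desc _ _ _
    exact congrArg (fun k => k.hom) h1
  · -- `a ≫ b = 𝟙`
    apply pushout.hom_ext
    · exact hom_eq_of_closed hP' (𝟙 U) _ _
    · rw [Category.comp_id, ← Category.assoc, pushout.inr_desc]
      exact hb

end Pushout

section Conservative

open Groth.Agent.Lib.Helper43.NAH1

variable {J : GrothendieckTopology C} (U : Sheaf J (Type u))

theorem injective_of_closed_of_open {X Y : Sheaf J (Type u)} (m : X ⟶ Y)
    (hopen : ∀ W : C, Nonempty (U.obj.obj (op W)) → Function.Injective (m.hom.app (op W)))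
    (hinj : Presheaf.IsLocallyInjective (closedTop J U.obj) m.hom) (W : Cᵒᵖ) :
    Function.Injective (m.hom.app W) := by
  intro x x' h
  have hS : Presheaf.equalizerSieve (F := X.obj) x x' ⊔ supp U.obj W.unop ∈ J W.unop :=
    (mem_closedTop_iff J U.obj _).1
      (Presheaf.equalizerSieve_mem (closedTop J U.obj) m.hom x x' h)
  refine sep X _ hS x x' ?_
  rintro V f (hf | hf)
  · exact hf
  · apply hopen V hf
    rw [hom_naturality, hom_naturality, h]

theorem surjective_of_closed_of_open {X Y : Sheaf J (Type u)} (m : X ⟶ Y)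
    (hopen : ∀ W : C, Nonempty (U.obj.obj (op W)) → Function.Bijective (m.hom.app (op W)))
    (hinj : Presheaf.IsLocallyInjective (closedTop J U.obj) m.hom)
    (hsurj : Presheaf.IsLocallySurjective (closedTop J U.obj) m.hom) (W : Cᵒᵖ) :
    Function.Surjective (m.hom.app W) := by
  have hi := injective_of_closed_of_open U m (fun W h => (hopen W h).1) hinj
  intro y
  have hS : Presheaf.imageSieve m.hom y ⊔ supp U.obj W.unop ∈ J W.unop :=
    (mem_closedTop_iff J U.obj _).1 (Presheaf.imageSieve_mem (closedTop J U.obj) m.hom y)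
  have key : ∀ ⦃V : C⦄ (f : V ⟶ W.unop), (Presheaf.imageSieve m.hom y ⊔ supp U.obj W.unop) f →
      ∃ t : X.obj.obj (op V), m.hom.app (op V) t = Y.obj.map f.op y := by
    rintro V f (hf | hf)
    · exact hf
    · exact (hopen V hf).2 _
  choose t ht using key
  obtain ⟨x, hx⟩ := glue X _ hS t (by
    intro V V' f g hf
    apply hi
    rw [hom_naturality, ht, ht]
    exact (map_comp_apply' Y.obj _ _ _).symm)
  refine ⟨x, ?_⟩
  refine sep Y _ hS _ _ ?_
  intro V f hf
  rw [← hom_naturality, hx f hf, ht]

theorem isIso_of_closed_of_open {X Y : Sheaf J (Type u)} (m : X ⟶ Y)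
    (hopen : ∀ W : C, Nonempty (U.obj.obj (op W)) → Function.Bijective (m.hom.app (op W)))
    (hinj : Presheaf.IsLocallyInjective (closedTop J U.obj) m.hom)
    (hsurj : Presheaf.IsLocallySurjective (closedTop J U.obj) m.hom) : IsIso m := by
  have : IsIso ((sheafToPresheaf J (Type u)).map m) := by
    rw [NatTrans.isIso_iff_isIso_app]
    intro W
    rw [isIso_iff_bijective]
    exact ⟨injective_of_closed_of_open U m (fun W h => (hopen W h).1) hinj W,
      surjective_of_closed_of_open U m hopen hinj hsurj W⟩
  exact isIso_of_reflects_iso m (sheafToPresheaf J (Type u))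

lemma secEquiv_comp {X Y : Sheaf J (Type u)} (m : X ⟶ Y) (W : C)
    (f : (presheafToSheaf J (Type u)).obj (yoneda.obj W) ⟶ X) :
    secEquiv Y W (f ≫ m) = m.hom.app (op W) (secEquiv X W f) := by
  unfold secEquiv
  simp only [Equiv.trans_apply]
  rw [Adjunction.homEquiv_naturality_right, yonedaEquiv_comp]
  rfl

theorem bijective_of_isIso_prod_map {X Y : Sheaf J (Type u)} (m : X ⟶ Y)
    (h : IsIso (prod.map (𝟙 U) m)) (W : C) (hW : Nonempty (U.obj.obj (op W))) :
    Function.Bijective (m.hom.app (op W)) := by
  obtain ⟨u⟩ := hW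
  let tu := (secEquiv U W).symm u
  constructor
  · intro x x' hx
    have h1 : (secEquiv X W).symm x ≫ m = (secEquiv X W).symm x' ≫ m := by
      apply (secEquiv Y W).injective
      rw [secEquiv_comp, secEquiv_comp, Equiv.apply_symm_apply, Equiv.apply_symm_apply, hx]
    have h2 : prod.lift tu ((secEquiv X W).symm x) = prod.lift tu ((secEquiv X W).symm x') := by
      rw [← cancel_mono (prod.map (𝟙 U) m), prod.lift_map, prod.lift_map, h1]
    have h3 := congrArg (fun k => k ≫ (prod.snd : U ⨯ X ⟶ X)) h2
    simp only [prod.lift_snd] at h3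
    exact (secEquiv X W).symm.injective h3
  · intro y
    let fx := prod.lift tu ((secEquiv Y W).symm y) ≫ inv (prod.map (𝟙 U) m) ≫ prod.snd
    have h1 : fx ≫ m = (secEquiv Y W).symm y := by
      have : (prod.snd : U ⨯ X ⟶ X) ≫ m = prod.map (𝟙 U) m ≫ prod.snd := (prod.map_snd _ _).symm
      simp only [fx, Category.assoc]
      rw [this, IsIso.inv_hom_id_assoc, prod.lift_snd]
    refine ⟨secEquiv X W fx, ?_⟩
    rw [← secEquiv_comp, h1, Equiv.apply_symm_apply]

/-- the open subtopos and any reflector onto its closed complement are jointly conservative -/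
theorem isIso_iff_of_adj (L : Sheaf J (Type u) ⥤ (SGA4.closedCompl U).FullSubcategory)
    (adj : L ⊣ (SGA4.closedCompl U).ι) {X Y : Sheaf J (Type u)} (m : X ⟶ Y) :
    IsIso m ↔ IsIso ((Over.star U).map m) ∧ IsIso (L.map m) := by
  constructor
  · intro h
    exact ⟨inferInstance, inferInstance⟩
  · rintro ⟨h1, h2⟩
    have h3 : IsIso (prod.map (𝟙 U) m) := by
      have : IsIso ((Over.forget U).map ((Over.star U).map m)) := inferInstance
      exact this
    have h4 : IsIso ((reflector U).map m) :=
      (NatIso.isIso_map_iff (adj.leftAdjointUniq (reflectorAdj U)) m).1 h2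
    have h5 : IsIso ((presheafToSheaf (closedTop J U.obj) (Type u)).map m.hom) := by
      have : IsIso ((toCompl U).map
          ((presheafToSheaf (closedTop J U.obj) (Type u)).map m.hom)) := h4
      exact isIso_of_reflects_iso _ (toCompl U)
    have h6 : (closedTop J U.obj).W m.hom := (GrothendieckTopology.W_iff _ _).2 h5
    rw [GrothendieckTopology.W_iff_isLocallyBijective] at h6
    exact isIso_of_closed_of_open U m (bijective_of_isIso_prod_map U m h3) h6.1 h6.2

end Conservative

section Gluing

variable {J : GrothendieckTopology C} (U : Sheaf J (Type u))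

section General

variable {E : Type*} [Category E] [HasFiniteProducts E] (U : E)

lemma isIso_lift_of_mono (hU : Mono (terminal.from U)) {A : E} (f : A ⟶ U) :
    IsIso (prod.lift f (𝟙 A)) := by
  refine ⟨prod.snd, prod.lift_snd _ _, ?_⟩
  apply Limits.prod.hom_ext
  · rw [Category.assoc, prod.lift_fst, Category.id_comp]
    rw [← cancel_mono (terminal.from U)]
    exact Subsingleton.elim _ _
  · rw [Category.assoc, prod.lift_snd, Category.id_comp, Category.comp_id]

lemma isIso_forgetAdjStar_unit (hU : Mono (terminal.from U)) :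
    IsIso (Over.forgetAdjStar U).unit := by
  have : ∀ Y : Over U, IsIso ((Over.forgetAdjStar U).unit.app Y) := by
    intro Y
    have h : IsIso ((Over.forget U).map ((Over.forgetAdjStar U).unit.app Y)) := by
      change IsIso ((Over.forgetAdjStar U).unit.app Y).left
      rw [Over.forgetAdjStar_unit_app_left]
      exact isIso_lift_of_mono U hU Y.hom
    exact isIso_of_reflects_iso _ (Over.forget U)
  exact NatIso.isIso_of_isIso_app _

/-- `j^*` of an object of the closed complement is terminal -/
noncomputable def isTerminalStar (Z : E) (hZ : IsIso (prod.fst : U ⨯ Z ⟶ U)) :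
    IsTerminal ((Over.star U).obj Z) :=
  IsTerminal.ofUniqueHom
    (fun Y => ((Over.forgetAdjStar U).homEquiv Y Z) (Y.hom ≫ fromOpen hZ))
    (fun Y m => by
      apply ((Over.forgetAdjStar U).homEquiv Y Z).symm.injective
      exact hom_eq_of_closed hZ Y.hom _ _)

end General

variable [(Over.star U).IsLeftAdjoint]

theorem nonempty_glue_equivalence (hU : SGA4.IsOpen U)
    (L : Sheaf J (Type u) ⥤ (SGA4.closedCompl U).FullSubcategory)
    (adj : L ⊣ (SGA4.closedCompl U).ι) :
    Nonempty (Sheaf J (Type u) ≌
      Comma (𝟭 (SGA4.closedCompl U).FullSubcategory) ((Over.star U).rightAdjoint ⋙ L)) := by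
  let adjJ : Over.star U ⊣ (Over.star U).rightAdjoint := Adjunction.ofIsLeftAdjoint (Over.star U)
  haveI : PreservesFiniteLimits L :=
    preservesFiniteLimits_of_natIso ((reflectorAdj U).leftAdjointUniq adj)
  haveI : PreservesLimitsOfShape WalkingCospan L := inferInstance
  haveI : PreservesLimitsOfSize.{0, 0} (Over.star U) :=
    (Over.forgetAdjStar U).rightAdjoint_preservesLimits
  haveI : PreservesLimitsOfShape WalkingCospan (Over.star U) := inferInstance
  haveI : IsIso adj.counit := inferInstance
  haveI : IsIso adjJ.counit := by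
    let t : Adjunction.Triple (Over.forget U) (Over.star U) (Over.star U).rightAdjoint :=
      ⟨Over.forgetAdjStar U, adjJ⟩
    exact (t.isIso_unit_iff_isIso_counit).1 (isIso_forgetAdjStar_unit U hU)
  have hT : ∀ Z : (SGA4.closedCompl U).FullSubcategory,
      IsTerminal ((Over.star U).obj ((SGA4.closedCompl U).ι.obj Z)) :=
    fun Z => isTerminalStar U Z.obj Z.property
  have hcons : ∀ {X Y : Sheaf J (Type u)} (m : X ⟶ Y), IsIso (L.map m) →
      IsIso ((Over.star U).map m) → IsIso m :=
    fun m h1 h2 => (isIso_iff_of_adj U L adj m).2 ⟨h2, h1⟩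
  haveI := Glue.isEquivalence_Φ adj adjJ hT hcons
  exact ⟨(Glue.Φ (iS := L) adjJ).asEquivalence⟩

end Gluing

end Groth.Agent.Lib.Helper43.ClosedSub
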