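import Groth.Agent.Lib.Helper43.Conn1Init
import Mathlib.CategoryTheory.Limits.Preserves.Shapes.Pullbacks
import Mathlib.CategoryTheory.Sites.Sieves

/-!
# Weak binary products in comma categories `(b/φ)`, in particular for `Over.post u` when `u`
preserves pullbacks, and for its restriction to a sieve.
-/

set_option autoImplicit false
open CategoryTheory Limits

namespace Groth.Agent.Lib.Helper43.CommaWeakProd

open Groth.Agent.Lib.Helper43.Conn1 Groth.Agent.Lib.Helper43.Conn1Init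

universe a b vA uA vB uB v u v₂ u₂

section Abstract

variable {A : Type uA} [Category.{vA} A] {B : Type uB} [Category.{vB} B] (φ : A ⥤ B)
  (P : ObjectProperty A)

/-- weak binary products in `A`, stable under `P`, weakly preserved by `φ`. -/
def WPD : Prop :=
  ∀ a a' : A, P a → ∃ (a'' : A) (π₁ : a'' ⟶ a) (π₂ : a'' ⟶ a'), P a'' ∧
    (∀ (a₀ : A) (f : a₀ ⟶ a) (g : a₀ ⟶ a'), ∃ l : a₀ ⟶ a'', l ≫ π₁ = f ∧ l ≫ π₂ = g) ∧
    (∀ (b : B) (ψ : b ⟶ φ.obj a) (ψ' : b ⟶ φ.obj a'),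
      ∃ ψ'' : b ⟶ φ.obj a'', ψ'' ≫ φ.map π₁ = ψ ∧ ψ'' ≫ φ.map π₂ = ψ') ∧
    (∀ (b : B) (χ χ' : b ⟶ φ.obj a''), χ ≫ φ.map π₁ = χ' ≫ φ.map π₁ →
      χ ≫ φ.map π₂ = χ' ≫ φ.map π₂ → χ = χ')

variable {φ P}

theorem weakProd_structuredArrow (h : WPD φ P) (hP : ∀ a, P a) (b : B)
    (i j : StructuredArrow b φ) :
    ∃ (w : StructuredArrow b φ) (π₁ : w ⟶ i) (π₂ : w ⟶ j), ∀ (w' : StructuredArrow b φ)
      (f : w' ⟶ i) (g : w' ⟶ j), ∃ l : w' ⟶ w, l ≫ π₁ = f ∧ l ≫ π₂ = g := by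
  obtain ⟨a'', π₁, π₂, -, h1, h2, h3⟩ := h i.right j.right (hP _)
  obtain ⟨ψ'', hψ1, hψ2⟩ := h2 b i.hom j.hom
  refine ⟨StructuredArrow.mk ψ'', StructuredArrow.homMk π₁ hψ1, StructuredArrow.homMk π₂ hψ2, ?_⟩
  intro w' f g
  obtain ⟨l, hl1, hl2⟩ := h1 w'.right f.right g.right
  have hw : w'.hom ≫ φ.map l = ψ'' := by
    apply h3
    · rw [Category.assoc, ← φ.map_comp, hl1, hψ1]; exact StructuredArrow.w f
    · rw [Category.assoc, ← φ.map_comp, hl2, hψ2]; exact StructuredArrow.w g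
  refine ⟨StructuredArrow.homMk l hw, ?_, ?_⟩
  · apply StructuredArrow.ext; exact hl1
  · apply StructuredArrow.ext; exact hl2

variable (Q : ObjectProperty B) (hQ : ∀ a : P.FullSubcategory, Q ((P.ι ⋙ φ).obj a))

theorem weakProd_structuredArrow_lift (h : WPD φ P) (b : Q.FullSubcategory)
    (i j : StructuredArrow b (Q.lift (P.ι ⋙ φ) hQ)) :
    ∃ (w : StructuredArrow b (Q.lift (P.ι ⋙ φ) hQ)) (π₁ : w ⟶ i) (π₂ : w ⟶ j),
      ∀ (w' : StructuredArrow b (Q.lift (P.ι ⋙ φ) hQ)) (f : w' ⟶ i) (g : w' ⟶ j),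
        ∃ l : w' ⟶ w, l ≫ π₁ = f ∧ l ≫ π₂ = g := by
  obtain ⟨a'', π₁, π₂, hPa, h1, h2, h3⟩ := h i.right.obj j.right.obj i.right.property
  obtain ⟨ψ'', hψ1, hψ2⟩ := h2 b.obj i.hom.hom j.hom.hom
  let A'' : P.FullSubcategory := ⟨a'', hPa⟩
  let pr₁ : A'' ⟶ i.right := ObjectProperty.homMk π₁
  let pr₂ : A'' ⟶ j.right := ObjectProperty.homMk π₂
  let Ψ : b ⟶ (Q.lift (P.ι ⋙ φ) hQ).obj A'' := ObjectProperty.homMk ψ''
  have e1 : Ψ ≫ (Q.lift (P.ι ⋙ φ) hQ).map pr₁ = i.hom := by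
    apply ObjectProperty.hom_ext; exact hψ1
  have e2 : Ψ ≫ (Q.lift (P.ι ⋙ φ) hQ).map pr₂ = j.hom := by
    apply ObjectProperty.hom_ext; exact hψ2
  refine ⟨StructuredArrow.mk Ψ, StructuredArrow.homMk pr₁ e1, StructuredArrow.homMk pr₂ e2, ?_⟩
  intro w' f g
  obtain ⟨l, hl1, hl2⟩ := h1 w'.right.obj f.right.hom g.right.hom
  let L : w'.right ⟶ A'' := ObjectProperty.homMk l
  have hf : w'.hom.hom ≫ φ.map f.right.hom = i.hom.hom :=
    congrArg (fun t => t.hom) (StructuredArrow.w f)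
  have hg : w'.hom.hom ≫ φ.map g.right.hom = j.hom.hom :=
    congrArg (fun t => t.hom) (StructuredArrow.w g)
  have hw : w'.hom ≫ (Q.lift (P.ι ⋙ φ) hQ).map L = Ψ := by
    apply ObjectProperty.hom_ext
    show w'.hom.hom ≫ φ.map l = ψ''
    apply h3
    · rw [Category.assoc, ← φ.map_comp, hl1, hψ1]; exact hf
    · rw [Category.assoc, ← φ.map_comp, hl2, hψ2]; exact hg
  refine ⟨StructuredArrow.homMk L hw, ?_, ?_⟩
  · apply StructuredArrow.ext; apply ObjectProperty.hom_ext; exact hl1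
  · apply StructuredArrow.ext; apply ObjectProperty.hom_ext; exact hl2

end Abstract

section OverPost

variable {C : Type u} [Category.{v} C] {D : Type u₂} [Category.{v₂} D] [HasPullbacks C]
  (u : C ⥤ D) [PreservesLimitsOfShape WalkingCospan u] {U : C} (R : Sieve U)

theorem wpd_post : WPD (Over.post u : Over U ⥤ Over (u.obj U)) (fun a => R a.hom) := by
  intro a a' ha
  haveI : HasPullback (u.map a.hom) (u.map a'.hom) :=
    hasPullback_of_preservesPullback u a.hom a'.hom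
  let a'' : Over U := Over.mk (pullback.fst a.hom a'.hom ≫ a.hom)
  let π₁ : a'' ⟶ a := Over.homMk (pullback.fst a.hom a'.hom) rfl
  let π₂ : a'' ⟶ a' := Over.homMk (pullback.snd a.hom a'.hom) pullback.condition.symm
  refine ⟨a'', π₁, π₂, R.downward_closed ha _, ?_, ?_, ?_⟩
  · intro a₀ f g
    refine ⟨Over.homMk (pullback.lift f.left g.left ((Over.w f).trans (Over.w g).symm)) ?_, ?_, ?_⟩
    · show pullback.lift f.left g.left _ ≫ pullback.fst a.hom a'.hom ≫ a.hom = a₀.hom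
      rw [pullback.lift_fst_assoc]; exact Over.w f
    · apply Over.OverMorphism.ext
      exact pullback.lift_fst _ _ _
    · apply Over.OverMorphism.ext
      exact pullback.lift_snd _ _ _
  · intro b ψ ψ'
    have hψ : ψ.left ≫ u.map a.hom = b.hom := Over.w ψ
    have hψ' : ψ'.left ≫ u.map a'.hom = b.hom := Over.w ψ'
    let t0 : b.left ⟶ pullback (u.map a.hom) (u.map a'.hom) :=
      pullback.lift ψ.left ψ'.left (hψ.trans hψ'.symm)
    let t : b.left ⟶ u.obj (pullback a.hom a'.hom) :=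
      t0 ≫ (PreservesPullback.iso u a.hom a'.hom).inv
    have ht1 : t ≫ u.map (pullback.fst a.hom a'.hom) = ψ.left := by
      show (t0 ≫ (PreservesPullback.iso u a.hom a'.hom).inv) ≫ _ = _
      rw [Category.assoc, PreservesPullback.iso_inv_fst]
      exact pullback.lift_fst _ _ _
    have ht2 : t ≫ u.map (pullback.snd a.hom a'.hom) = ψ'.left := by
      show (t0 ≫ (PreservesPullback.iso u a.hom a'.hom).inv) ≫ _ = _
      rw [Category.assoc, PreservesPullback.iso_inv_snd]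
      exact pullback.lift_snd _ _ _
    refine ⟨Over.homMk t ?_, ?_, ?_⟩
    · show t ≫ u.map (pullback.fst a.hom a'.hom ≫ a.hom) = b.hom
      rw [u.map_comp, ← Category.assoc, ht1]; exact hψ
    · apply Over.OverMorphism.ext
      exact ht1
    · apply Over.OverMorphism.ext
      exact ht2
  · intro b χ χ' h1 h2
    have h1' : χ.left ≫ u.map (pullback.fst a.hom a'.hom) =
        χ'.left ≫ u.map (pullback.fst a.hom a'.hom) := congrArg (fun t => t.left) h1
    have h2' : χ.left ≫ u.map (pullback.snd a.hom a'.hom) =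
        χ'.left ≫ u.map (pullback.snd a.hom a'.hom) := congrArg (fun t => t.left) h2
    apply Over.OverMorphism.ext
    have hiso : ∀ χ₀ : b.left ⟶ u.obj (pullback a.hom a'.hom),
        χ₀ = (χ₀ ≫ (PreservesPullback.iso u a.hom a'.hom).hom) ≫
          (PreservesPullback.iso u a.hom a'.hom).inv := by
      intro χ₀
      rw [Category.assoc, Iso.hom_inv_id, Category.comp_id]
    show χ.left = χ'.left
    rw [hiso χ.left, hiso χ'.left]
    congr 1
    apply pullback.hom_ext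
    · simp only [Category.assoc, PreservesPullback.iso_hom_fst]; exact h1'
    · simp only [Category.assoc, PreservesPullback.iso_hom_snd]; exact h2'

end OverPost

end Groth.Agent.Lib.Helper43.CommaWeakProd
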