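import Mathlib
import Groth.Prelude.Def_W4c2modmodulilectNerve

/-!
# 1-connected categories (trivial fundamental groupoid): working form

`Conn1.{a, b} I`: `I` is nonempty, every function on objects (to a type in `Type b`) that is
constant along morphisms is constant, and every functor to a groupoid (objects in `Type a`,
morphisms in `Type b`) is isomorphic to a constant functor.  This follows from
`W4c2modmodulilect.HasContractibleNerve` for large enough test universes, and transfers along a
functor `L : A ⥤ B` equipped with a "weak right adjoint".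
-/

set_option autoImplicit false
open CategoryTheory

namespace Groth.Agent.Lib.Helper43.Conn1

universe a b w vI uI vA uA

/-- working form of "nonempty with trivial fundamental groupoid". -/
structure Conn1 (I : Type uI) [Category.{vI} I] : Prop where
  nonempty : Nonempty I
  const_of_hom : ∀ {α : Type b} (h : I → α), (∀ {i j : I} (_ : i ⟶ j), h i = h j) →
    ∀ i j, h i = h j
  exists_const : ∀ {𝒢 : Type a} [Category.{b} 𝒢] [IsGroupoid 𝒢] (P : I ⥤ 𝒢),
    ∃ c : 𝒢, Nonempty ((Functor.const I).obj c ≅ P)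

section FromNerve

variable {I : Type uI} [Category.{vI} I]

noncomputable instance asSmallGroupoid (𝒢 : Type a) [Category.{b} 𝒢] [IsGroupoid 𝒢] :
    Groupoid (AsSmall.{w} 𝒢) :=
  haveI : (AsSmall.down : AsSmall.{w} 𝒢 ⥤ 𝒢).IsEquivalence :=
    (AsSmall.equiv : 𝒢 ≌ AsSmall.{w} 𝒢).isEquivalence_inverse
  haveI : IsGroupoid (AsSmall.{w} 𝒢) :=
    isGroupoid_of_reflects_iso (AsSmall.down : AsSmall.{w} 𝒢 ⥤ 𝒢)
  Groupoid.ofIsGroupoid

lemma exists_const_of_nerve
    (hI : W4c2modmodulilect.HasContractibleNerve.{max w b a, max w b a} I)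
    {𝒢 : Type a} [Category.{b} 𝒢] [IsGroupoid 𝒢] (P : I ⥤ 𝒢) :
    ∃ c : 𝒢, Nonempty ((Functor.const I).obj c ≅ P) := by
  haveI := hI.2 (AsSmall.{w} 𝒢)
  let P' : I ⥤ AsSmall.{w} 𝒢 := P ⋙ AsSmall.up
  let c' := (Functor.const I : AsSmall.{w} 𝒢 ⥤ I ⥤ AsSmall.{w} 𝒢).objPreimage P'
  let e' : (Functor.const I).obj c' ≅ P' :=
    (Functor.const I : AsSmall.{w} 𝒢 ⥤ I ⥤ AsSmall.{w} 𝒢).objObjPreimageIso P'
  refine ⟨AsSmall.down.obj c', ⟨?_⟩⟩
  exact (Functor.constComp I c' AsSmall.down).symm ≪≫ Functor.isoWhiskerRight e' AsSmall.down ≪≫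
    Functor.associator _ _ _ ≪≫ Functor.isoWhiskerLeft P AsSmall.equiv.unitIso.symm ≪≫
    Functor.rightUnitor P

lemma const_of_hom_of_nerve
    (hI : W4c2modmodulilect.HasContractibleNerve.{max w b, max w b} I)
    {α : Type b} (h : I → α) (hh : ∀ {i j : I} (_ : i ⟶ j), h i = h j) (i j : I) :
    h i = h j := by
  let P : I ⥤ Discrete α :=
    { obj := fun i => ⟨h i⟩
      map := fun m => eqToHom (congrArg Discrete.mk (hh m))
      map_id := fun _ => Subsingleton.elim _ _
      map_comp := fun _ _ => Subsingleton.elim _ _ }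
  obtain ⟨c, ⟨e⟩⟩ := exists_const_of_nerve.{b, b, w} hI P
  have hi : c.as = h i := Discrete.eq_of_hom (e.hom.app i)
  have hj : c.as = h j := Discrete.eq_of_hom (e.hom.app j)
  exact hi.symm.trans hj

theorem conn1_of_nerve
    (hI : W4c2modmodulilect.HasContractibleNerve.{max w b a, max w b a} I) :
    Conn1.{a, b} I where
  nonempty := hI.1
  const_of_hom h hh i j := const_of_hom_of_nerve.{b, max w a} hI h hh i j
  exists_const P := exists_const_of_nerve.{a, b, w} hI P

end FromNerve

section Transfer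

variable {A : Type uA} [Category.{vA} A] {B : Type uI} [Category.{vI} B] (L : A ⥤ B)
  (r : B → A) (ε : ∀ b, L.obj (r b) ⟶ b)
  (hε : ∀ {b b' : B} (m : b ⟶ b'), ∃ m' : r b ⟶ r b', ε b ≫ m = L.map m' ≫ ε b')

include hε in
/-- transfer of 1-connectedness along a functor with a weak right adjoint. -/
theorem conn1_transfer (hA : Conn1.{a, b} A) : Conn1.{a, b} B where
  nonempty := ⟨L.obj hA.nonempty.some⟩
  const_of_hom := by
    intro α h hh i j
    have h1 : ∀ x : B, h x = h (L.obj (r x)) := fun x => (hh (ε x)).symm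
    have h2 := hA.const_of_hom (fun x => h (L.obj x)) (fun m => hh (L.map m)) (r i) (r j)
    rw [h1 i, h1 j]; exact h2
  exists_const := by
    intro 𝒢 _ _ P
    obtain ⟨c, ⟨θ⟩⟩ := hA.exists_const (L ⋙ P)
    refine ⟨c, ⟨NatIso.ofComponents (fun x => θ.app (r x) ≪≫ asIso (P.map (ε x))) ?_⟩⟩
    intro x y m
    obtain ⟨m', hm'⟩ := hε m
    have hn := θ.hom.naturality m'
    simp only [Functor.const_obj_obj, Functor.const_obj_map, Category.id_comp,
      Functor.comp_obj, Functor.comp_map] at hn
    simp only [Functor.const_obj_obj, Functor.const_obj_map, Category.id_comp, Iso.trans_hom,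
      Iso.app_hom, asIso_hom, Category.assoc]
    rw [← P.map_comp, hm', P.map_comp, ← Category.assoc, ← hn]

end Transfer

end Groth.Agent.Lib.Helper43.Conn1
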