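import Groth.Agent.Lib.Helper43.Conn1

/-!
# 1-connectedness of categories with an initial object, and of the comma categories of
fully faithful functors at objects of the essential image
-/

set_option autoImplicit false
open CategoryTheory Limits

namespace Groth.Agent.Lib.Helper43.Conn1Init

open Groth.Agent.Lib.Helper43.Conn1

universe a b vI uI vA uA

theorem conn1_of_initial {I : Type uI} [Category.{vI} I] (i₀ : I) (h : IsInitial i₀) :
    Conn1.{a, b} I where
  nonempty := ⟨i₀⟩
  const_of_hom := fun h' hh i j => (hh (h.to i)).symm.trans (hh (h.to j))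
  exists_const := by
    intro 𝒢 _ _ P
    refine ⟨P.obj i₀, ⟨NatIso.ofComponents (fun i => asIso (P.map (h.to i))) ?_⟩⟩
    intro i j m
    simp only [Functor.const_obj_obj, Functor.const_obj_map, Category.id_comp, asIso_hom]
    rw [← P.map_comp, h.hom_ext (h.to i ≫ m) (h.to j)]

variable {A : Type uA} [Category.{vA} A] {B : Type uI} [Category.{vI} B] (φ : A ⥤ B)

/-- for `φ` fully faithful and `e : b ≅ φ X`, the object `(X, e.hom)` of `(b/φ)` is initial. -/
noncomputable def isInitialMk [φ.Full] [φ.Faithful] {b : B} {X : A} (e : b ≅ φ.obj X) :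
    IsInitial (StructuredArrow.mk e.hom : StructuredArrow b φ) :=
  IsInitial.ofUniqueHom
    (fun j => StructuredArrow.homMk (φ.preimage (e.inv ≫ j.hom)) (by simp))
    (fun j m => by
      apply StructuredArrow.ext
      apply φ.map_injective
      have hw := StructuredArrow.w m
      simp only [StructuredArrow.mk_hom_eq_self] at hw
      simp only [StructuredArrow.homMk_right, Functor.map_preimage]
      rw [← hw, Iso.inv_hom_id_assoc])

theorem conn1_structuredArrow [φ.Full] [φ.Faithful] (b : B) (hb : φ.essImage b) :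
    Conn1.{a, b} (StructuredArrow b φ) := by
  obtain ⟨X, ⟨e⟩⟩ := hb
  exact conn1_of_initial _ (isInitialMk φ e.symm)

theorem conn1_structuredArrow_of_equiv [φ.Full] [φ.Faithful] [φ.EssSurj] (b : B) :
    Conn1.{a, b} (StructuredArrow b φ) :=
  conn1_structuredArrow φ b (Functor.EssSurj.mem_essImage (F := φ) b)

section WeakProd

variable {I : Type uI} [Category.{vI} I]

/-- a nonempty category with weak binary products is 1-connected. -/
theorem conn1_of_weakProd (hne : Nonempty I)
    (hw : ∀ i j : I, ∃ (w : I) (π₁ : w ⟶ i) (π₂ : w ⟶ j), ∀ (w' : I) (f : w' ⟶ i) (g : w' ⟶ j),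
      ∃ l : w' ⟶ w, l ≫ π₁ = f ∧ l ≫ π₂ = g) : Conn1.{a, b} I where
  nonempty := hne
  const_of_hom := by
    intro α h hh i j
    obtain ⟨w, π₁, π₂, -⟩ := hw i j
    exact (hh π₁).symm.trans (hh π₂)
  exists_const := by
    intro 𝒢 _ _ P
    obtain ⟨i₀⟩ := hne
    choose w π₁ π₂ hl using hw i₀
    refine ⟨P.obj i₀, ⟨NatIso.ofComponents
      (fun i => (asIso (P.map (π₁ i))).symm ≪≫ asIso (P.map (π₂ i))) ?_⟩⟩
    intro i j m
    obtain ⟨l, hl1, hl2⟩ := hl j (w i) (π₁ i) (π₂ i ≫ m)
    simp only [Functor.const_obj_obj, Functor.const_obj_map, Category.id_comp, Iso.trans_hom,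
      Iso.symm_hom, asIso_inv, asIso_hom, Category.assoc]
    rw [IsIso.eq_inv_comp]
    have e1 : P.map (π₁ i) = P.map l ≫ P.map (π₁ j) := by rw [← P.map_comp, hl1]
    have e2 : P.map l ≫ P.map (π₂ j) = P.map (π₂ i) ≫ P.map m := by
      rw [← P.map_comp, hl2, P.map_comp]
    rw [e1, Category.assoc, IsIso.hom_inv_id_assoc, e2]

end WeakProd

end Groth.Agent.Lib.Helper43.Conn1Init
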