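import Mathlib

/-!
Abstract Eilenberg–Watts-type lemma: an exact `Λ`-linear endofunctor `G` of `Λ`-modules
satisfies `G(M) ⊗ Q ≅ G(M ⊗ Q)` for finitely presented `Q`.
-/

universe u
open CategoryTheory TensorProduct

namespace Groth.Agent.Lib.Helper43.ConstShAbs

variable {Λ : Type u} [CommRing Λ] (G : ModuleCat.{u} Λ ⥤ ModuleCat.{u} Λ) [G.Additive] [G.Linear Λ]

section GMap
variable {X Y Z : Type u} [AddCommGroup X] [Module Λ X] [AddCommGroup Y] [Module Λ Y]
  [AddCommGroup Z] [Module Λ Z]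

/-- the action of `G` on linear maps, as a linear map. -/
noncomputable def gmap :
    (X →ₗ[Λ] Y) →ₗ[Λ] (G.obj (ModuleCat.of Λ X) →ₗ[Λ] G.obj (ModuleCat.of Λ Y)) where
  toFun f := (G.map (ModuleCat.ofHom f)).hom
  map_add' f g := by rw [ModuleCat.ofHom_add, G.map_add]; rfl
  map_smul' r f := by
    have : ModuleCat.ofHom (r • f) = r • ModuleCat.ofHom f := rfl
    rw [this, G.map_smul]; rfl

lemma gmap_apply (f : X →ₗ[Λ] Y) : gmap G f = (G.map (ModuleCat.ofHom f)).hom := rfl

lemma gmap_comp (g : Y →ₗ[Λ] Z) (f : X →ₗ[Λ] Y) : gmap G (g ∘ₗ f) = gmap G g ∘ₗ gmap G f := by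
  simp only [gmap_apply]
  rw [ModuleCat.ofHom_comp, G.map_comp]
  rfl

lemma gmap_id : gmap G (LinearMap.id : X →ₗ[Λ] X) = LinearMap.id := by
  simp only [gmap_apply]
  rw [ModuleCat.ofHom_id, G.map_id]
  rfl

end GMap

section Phi
variable (M N N' : Type u) [AddCommGroup M] [Module Λ M] [AddCommGroup N] [Module Λ N]
  [AddCommGroup N'] [Module Λ N']

/-- `v ↦ G(m ↦ m ⊗ v)`. -/
noncomputable def Gam : N →ₗ[Λ] (G.obj (ModuleCat.of Λ M) →ₗ[Λ] G.obj (ModuleCat.of Λ (M ⊗[Λ] N))) :=
  gmap G ∘ₗ (TensorProduct.mk Λ M N).flip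

/-- the comparison map `G(M) ⊗ N → G(M ⊗ N)`. -/
noncomputable def phi : (G.obj (ModuleCat.of Λ M)) ⊗[Λ] N →ₗ[Λ] G.obj (ModuleCat.of Λ (M ⊗[Λ] N)) :=
  TensorProduct.lift (Gam G M N).flip

lemma phi_tmul (s : G.obj (ModuleCat.of Λ M)) (v : N) :
    phi G M N (s ⊗ₜ v) = (G.map (ModuleCat.ofHom ((TensorProduct.mk Λ M N).flip v))).hom s := rfl

variable {N N'}
lemma phi_natural (h : N →ₗ[Λ] N') :
    gmap G (LinearMap.lTensor M h) ∘ₗ phi G M N = phi G M N' ∘ₗ LinearMap.lTensor _ h := by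
  apply TensorProduct.ext'
  intro s v
  simp only [LinearMap.comp_apply, LinearMap.lTensor_tmul]
  rw [phi_tmul, phi_tmul, ← gmap_apply, ← gmap_apply, ← LinearMap.comp_apply, ← gmap_comp]
  congr 2

end Phi

section Free
variable (M : Type u) [AddCommGroup M] [Module Λ M] (n : ℕ)

/-- coordinate projections `M ⊗ Λ^n → M`. -/
noncomputable def coord (i : Fin n) : M ⊗[Λ] (Fin n → Λ) →ₗ[Λ] M :=
  (TensorProduct.rid Λ M).toLinearMap ∘ₗ LinearMap.lTensor M (LinearMap.proj i)

lemma coord_tmul (i : Fin n) (m : M) (v : Fin n → Λ) : coord M n i (m ⊗ₜ v) = v i • m := by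
  simp [coord]

lemma sum_single (v : Fin n → Λ) : ∑ i, v i • (Pi.single i (1 : Λ) : Fin n → Λ) = v := by
  funext j
  simp [Finset.sum_apply, Pi.single_apply]

lemma sum_incl_coord :
    ∑ i, ((TensorProduct.mk Λ M (Fin n → Λ)).flip (Pi.single i 1)) ∘ₗ coord M n i = LinearMap.id := by
  apply TensorProduct.ext'
  intro m v
  simp only [LinearMap.sum_apply, LinearMap.comp_apply, coord_tmul, LinearMap.flip_apply,
    TensorProduct.mk_apply, LinearMap.id_apply]
  conv_rhs => rw [← sum_single n v]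
  rw [TensorProduct.tmul_sum]
  refine Finset.sum_congr rfl fun i _ => ?_
  rw [TensorProduct.smul_tmul]

lemma coord_comp_incl (i : Fin n) (v : Fin n → Λ) :
    coord M n i ∘ₗ (TensorProduct.mk Λ M (Fin n → Λ)).flip v = v i • LinearMap.id := by
  ext m
  simp [coord_tmul]

/-- candidate inverse of `phi` on free modules. -/
noncomputable def psi :
    G.obj (ModuleCat.of Λ (M ⊗[Λ] (Fin n → Λ))) →ₗ[Λ] (G.obj (ModuleCat.of Λ M)) ⊗[Λ] (Fin n → Λ) :=
  ∑ i, ((TensorProduct.mk Λ (G.obj (ModuleCat.of Λ M)) (Fin n → Λ)).flip (Pi.single i 1)) ∘ₗ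
    gmap G (coord M n i)

lemma phi_psi (t : G.obj (ModuleCat.of Λ (M ⊗[Λ] (Fin n → Λ)))) :
    phi G M (Fin n → Λ) (psi G M n t) = t := by
  simp only [psi, LinearMap.sum_apply, LinearMap.comp_apply, LinearMap.flip_apply,
    TensorProduct.mk_apply, map_sum]
  have h : ∀ i : Fin n, phi G M (Fin n → Λ) ((gmap G (coord M n i)) t ⊗ₜ[Λ] Pi.single i 1) =
      gmap G (((TensorProduct.mk Λ M (Fin n → Λ)).flip (Pi.single i 1)) ∘ₗ coord M n i) t := by
    intro i
    rw [phi_tmul, gmap_comp]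
    rfl
  simp only [h]
  rw [← LinearMap.sum_apply, ← map_sum, sum_incl_coord, gmap_id]
  rfl

lemma psi_phi (z : (G.obj (ModuleCat.of Λ M)) ⊗[Λ] (Fin n → Λ)) :
    psi G M n (phi G M (Fin n → Λ) z) = z := by
  have : psi G M n ∘ₗ phi G M (Fin n → Λ) = LinearMap.id := by
    apply TensorProduct.ext'
    intro s v
    simp only [LinearMap.comp_apply, LinearMap.id_apply, psi, LinearMap.sum_apply,
      LinearMap.flip_apply, TensorProduct.mk_apply]
    have h : ∀ i : Fin n, (gmap G (coord M n i)) (phi G M (Fin n → Λ) (s ⊗ₜ[Λ] v)) = v i • s := by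
      intro i
      rw [phi_tmul, ← gmap_apply, ← LinearMap.comp_apply, ← gmap_comp, coord_comp_incl, map_smul,
        gmap_id]
      rfl
    simp only [h]
    conv_rhs => rw [← sum_single n v]
    rw [TensorProduct.tmul_sum]
    refine Finset.sum_congr rfl fun i _ => ?_
    rw [TensorProduct.smul_tmul]
  exact LinearMap.congr_fun this z

lemma phi_free_bijective : Function.Bijective (phi G M (Fin n → Λ)) :=
  ⟨Function.LeftInverse.injective (psi_phi G M n), Function.RightInverse.surjective (phi_psi G M n)⟩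

end Free

section FP
variable (hepi : ∀ {X Y : Type u} [AddCommGroup X] [Module Λ X] [AddCommGroup Y] [Module Λ Y]
    (f : X →ₗ[Λ] Y), Function.Surjective f → Function.Surjective (gmap G f))
  (hex : ∀ {X Y Z : Type u} [AddCommGroup X] [Module Λ X] [AddCommGroup Y] [Module Λ Y]
    [AddCommGroup Z] [Module Λ Z] (f : X →ₗ[Λ] Y) (g : Y →ₗ[Λ] Z),
    Function.Exact f g → Function.Exact (gmap G f) (gmap G g))
  (M Q : Type u) [AddCommGroup M] [Module Λ M] [AddCommGroup Q] [Module Λ Q]
  [Module.FinitePresentation Λ Q]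

include hepi hex in
lemma phi_bijective : Function.Bijective (phi G M Q) := by
  obtain ⟨n, m, f, g, hf, hfg⟩ := Module.FinitePresentation.exists_fin' Λ Q
  have hn := phi_free_bijective G M n
  have hm := phi_free_bijective G M m
  have natf := phi_natural G M f
  have natg := phi_natural G M g
  have hfs : Function.Surjective (LinearMap.lTensor M f) := LinearMap.lTensor_surjective M hf
  have hfs' : Function.Surjective (LinearMap.lTensor (G.obj (ModuleCat.of Λ M)) f) :=
    LinearMap.lTensor_surjective _ hf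
  have hexM : Function.Exact (LinearMap.lTensor M g) (LinearMap.lTensor M f) :=
    lTensor_exact M hfg hf
  have hexG := hex _ _ hexM
  constructor
  · rw [← LinearMap.ker_eq_bot, LinearMap.ker_eq_bot']
    intro x hx
    obtain ⟨z, rfl⟩ := hfs' x
    have h1 : gmap G (LinearMap.lTensor M f) (phi G M _ z) = 0 := by
      have := LinearMap.congr_fun natf z
      simp only [LinearMap.comp_apply] at this
      rw [this, hx]
    obtain ⟨w, hw⟩ := (hexG _).mp h1
    obtain ⟨z', rfl⟩ := hm.2 w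
    have h2 : phi G M _ (LinearMap.lTensor _ g z') = phi G M _ z := by
      have := LinearMap.congr_fun natg z'
      simp only [LinearMap.comp_apply] at this
      rw [← this, hw]
    have h3 := hn.1 h2
    rw [← h3, ← LinearMap.comp_apply, ← LinearMap.lTensor_comp]
    have : f ∘ₗ g = 0 := LinearMap.ext fun v => by
      simpa using hfg.apply_apply_eq_zero v
    rw [this, LinearMap.lTensor_zero]
    rfl
  · intro y
    obtain ⟨t, rfl⟩ := hepi _ hfs y
    obtain ⟨z, rfl⟩ := hn.2 t
    refine ⟨LinearMap.lTensor _ f z, ?_⟩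
    have := LinearMap.congr_fun natf z
    simp only [LinearMap.comp_apply] at this
    exact this.symm

end FP

end Groth.Agent.Lib.Helper43.ConstShAbs
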