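import Mathlib
import Groth.Agent.Lib.Helper43.ConstShAbs

/-!
Sections of constant sheaves of modules: exactness (Stacks 093G trick: a set-theoretic section
of a surjection induces a section on constant sheaves of sets).
-/

universe u
open CategoryTheory CategoryTheory.Limits Opposite TensorProduct

namespace Groth.Agent.Lib.Helper43.ConstSh

variable {C : Type u} [SmallCategory C] (J : GrothendieckTopology C)
  (Λ : Type u) [CommRing Λ] (U : C)

/-- sections over `U` of the constant sheaf, as an endofunctor of modules. -/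
noncomputable def G : ModuleCat.{u} Λ ⥤ ModuleCat.{u} Λ :=
  constantSheaf J (ModuleCat.{u} Λ) ⋙ sheafToPresheaf J _ ⋙ (evaluation _ _).obj (op U)

instance : (G J Λ U).Additive := by
  unfold G
  infer_instance

instance : PreservesFiniteLimits (constantSheaf J (ModuleCat.{u} Λ)) := by
  unfold constantSheaf
  have : PreservesFiniteLimits (Functor.const Cᵒᵖ : ModuleCat.{u} Λ ⥤ _) := inferInstance
  have : PreservesFiniteLimits (presheafToSheaf J (ModuleCat.{u} Λ)) := inferInstance
  infer_instance

instance : PreservesFiniteLimits (G J Λ U) := by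
  unfold G
  have : PreservesFiniteLimits (sheafToPresheaf J (ModuleCat.{u} Λ)) := inferInstance
  have : PreservesFiniteLimits ((evaluation Cᵒᵖ (ModuleCat.{u} Λ)).obj (op U)) := inferInstance
  infer_instance

lemma G_map_smul_id (Y : ModuleCat.{u} Λ) (r : Λ) :
    (G J Λ U).map (r • 𝟙 Y) = r • 𝟙 ((G J Λ U).obj Y) := by
  let P : Cᵒᵖ ⥤ ModuleCat.{u} Λ := (Functor.const Cᵒᵖ).obj Y
  let β : sheafify J P ⟶ sheafify J P :=
    { app := fun V => r • 𝟙 _
      naturality := by
        intro V W g
        rw [Linear.smul_comp, Linear.comp_smul, Category.id_comp, Category.comp_id] }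
  have h : sheafifyMap J ((Functor.const Cᵒᵖ).map (r • 𝟙 Y)) = β := by
    apply sheafify_hom_ext _ _ _ ((presheafToSheaf J _).obj P).property
    rw [← toSheafify_naturality]
    ext V : 2
    simp only [NatTrans.comp_app, Functor.const_map_app, β]
    rw [Linear.smul_comp, Linear.comp_smul]
    erw [Category.id_comp]
    try erw [Category.comp_id]
  have h2 := congrArg (fun γ => γ.app (op U)) h
  exact h2

instance : (G J Λ U).Linear Λ where
  map_smul f r := by
    have : r • f = f ≫ (r • 𝟙 _) := by rw [Linear.comp_smul, Category.comp_id]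
    rw [this, Functor.map_comp, G_map_smul_id, Linear.comp_smul, Category.comp_id]

lemma G_map_surjective {X Y : ModuleCat.{u} Λ} (f : X ⟶ Y) (hf : Function.Surjective f.hom) :
    Function.Surjective ((G J Λ U).map f).hom := by
  classical
  let e := constantCommuteCompose J (forget (ModuleCat.{u} Λ))
  let T := constantSheaf J (Type u)
  let s : (forget _).obj Y ⟶ (forget _).obj X := TypeCat.ofHom fun y => (hf y).choose
  have hs : s ≫ (forget _).map f = 𝟙 _ := by
    ext y
    exact (hf y).choose_spec
  let aX := (e.hom.app X).hom.app (op U)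
  let aY := (e.hom.app Y).hom.app (op U)
  let bX := (e.inv.app X).hom.app (op U)
  let bY := (e.inv.app Y).hom.app (op U)
  have habY : aY ≫ bY = 𝟙 _ := by
    have := congrArg (fun k => k.hom.app (op U)) (e.hom_inv_id_app Y)
    exact this
  have hbaX : bX ≫ aX = 𝟙 _ := by
    have := congrArg (fun k => k.hom.app (op U)) (e.inv_hom_id_app X)
    exact this
  let gf := ((constantSheaf J (ModuleCat.{u} Λ) ⋙ sheafCompose J (forget (ModuleCat.{u} Λ))).map f).hom.app (op U)
  have nat : gf ≫ aY = aX ≫ (T.map ((forget _).map f)).hom.app (op U) := by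
    have := congrArg (fun k => k.hom.app (op U)) (e.hom.naturality f)
    exact this
  have key : (aY ≫ (T.map s).hom.app (op U) ≫ bX) ≫ gf = 𝟙 _ := by
    have h1 : gf = aX ≫ (T.map ((forget _).map f)).hom.app (op U) ≫ bY := by
      rw [← Category.assoc, ← nat, Category.assoc, habY, Category.comp_id]
    rw [h1]
    simp only [Category.assoc]
    rw [reassoc_of% hbaX]
    have h2 : (T.map s).hom.app (op U) ≫ (T.map ((forget _).map f)).hom.app (op U) = 𝟙 _ := by
      have := congrArg (fun k => k.hom.app (op U)) (congrArg T.map hs)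
      simpa using this
    rw [reassoc_of% h2, habY]
  intro y
  refine ⟨(aY ≫ (T.map s).hom.app (op U) ≫ bX) y, ?_⟩
  have := ConcreteCategory.congr_hom key y
  exact this

lemma G_map_shortExact (S : ShortComplex (ModuleCat.{u} Λ)) (hS : S.ShortExact) :
    (S.map (G J Λ U)).ShortExact := by
  have h := (Functor.preservesFiniteLimits_iff_forall_exact_map_and_mono (G J Λ U)).mp inferInstance S hS
  have h1 : Mono (S.map (G J Λ U)).f := h.2
  have h2 : Epi (S.map (G J Λ U)).g := by
    rw [ModuleCat.epi_iff_surjective]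
    apply G_map_surjective
    exact (ModuleCat.epi_iff_surjective _).mp hS.epi_g
  exact ⟨h.1⟩

lemma G_map_exact (S : ShortComplex (ModuleCat.{u} Λ)) (hS : S.Exact) :
    (S.map (G J Λ U)).Exact := by
  have := (Functor.exact_tfae (G J Λ U)).out 0 1
  exact this.mp (G_map_shortExact J Λ U) S hS

open Groth.Agent.Lib.Helper43.ConstShAbs in
lemma gmap_surjective {X Y : Type u} [AddCommGroup X] [Module Λ X] [AddCommGroup Y] [Module Λ Y]
    (f : X →ₗ[Λ] Y) (hf : Function.Surjective f) : Function.Surjective (gmap (G J Λ U) f) :=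
  G_map_surjective J Λ U (ModuleCat.ofHom f) hf

open Groth.Agent.Lib.Helper43.ConstShAbs in
lemma gmap_exact {X Y Z : Type u} [AddCommGroup X] [Module Λ X] [AddCommGroup Y] [Module Λ Y]
    [AddCommGroup Z] [Module Λ Z] (f : X →ₗ[Λ] Y) (g : Y →ₗ[Λ] Z) (h : Function.Exact f g) :
    Function.Exact (gmap (G J Λ U) f) (gmap (G J Λ U) g) := by
  let S : ShortComplex (ModuleCat.{u} Λ) :=
    ShortComplex.mk (ModuleCat.ofHom f) (ModuleCat.ofHom g)
      (by ext x; exact h.apply_apply_eq_zero x)
  have hS : S.Exact := (ShortComplex.ShortExact.moduleCat_exact_iff_function_exact S).mpr h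
  have := G_map_exact J Λ U S hS
  exact (ShortComplex.ShortExact.moduleCat_exact_iff_function_exact _).mp this

open Groth.Agent.Lib.Helper43.ConstShAbs in
/-- S9118. -/
theorem tensor_iso (M Q : Type u) [AddCommGroup M] [Module Λ M] [AddCommGroup Q] [Module Λ Q]
    [Module.FinitePresentation Λ Q] :
    ∃ e : ModuleCat.of Λ (TensorProduct Λ (((constantSheaf J (ModuleCat.{u} Λ)).obj (ModuleCat.of Λ M)).obj.obj (op U)) Q) ≅
        ((constantSheaf J (ModuleCat.{u} Λ)).obj (ModuleCat.of Λ (TensorProduct Λ M Q))).obj.obj (op U),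
      ∀ (s : ((constantSheaf J (ModuleCat.{u} Λ)).obj (ModuleCat.of Λ M)).obj.obj (op U)) (q : Q),
        e.hom.hom (TensorProduct.tmul Λ s q) =
          (((constantSheaf J (ModuleCat.{u} Λ)).map (ModuleCat.ofHom ((TensorProduct.mk Λ M Q).flip q))).hom.app (op U)).hom s := by
  have hb := phi_bijective (G J Λ U) (gmap_surjective J Λ U) (gmap_exact J Λ U) M Q
  refine ⟨(LinearEquiv.ofBijective (phi (G J Λ U) M Q) hb).toModuleIso, ?_⟩
  intro s q
  rfl

open Groth.Agent.Lib.Helper43.ConstShAbs in
lemma gmap_injective {X Y : Type u} [AddCommGroup X] [Module Λ X] [AddCommGroup Y] [Module Λ Y]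
    (f : X →ₗ[Λ] Y) (hf : Function.Injective f) : Function.Injective (gmap (G J Λ U) f) := by
  have : Mono (ModuleCat.ofHom f) := (ModuleCat.mono_iff_injective _).mpr hf
  have h2 : Mono ((G J Λ U).map (ModuleCat.ofHom f)) := inferInstance
  exact (ModuleCat.mono_iff_injective _).mp h2

open Groth.Agent.Lib.Helper43.ConstShAbs in
/-- S9119. -/
theorem flat_sections (hΛ : ∀ I : Ideal Λ, I.FG → Module.FinitePresentation Λ I)
    (M : Type u) [AddCommGroup M] [Module Λ M] [Module.Flat Λ M] :
    Module.Flat Λ (((constantSheaf J (ModuleCat.{u} Λ)).obj (ModuleCat.of Λ M)).obj.obj (op U)) := by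
  change Module.Flat Λ ((G J Λ U).obj (ModuleCat.of Λ M))
  rw [Module.Flat.iff_lTensor_injective]
  intro I hI
  haveI := hΛ I hI
  have hb := phi_bijective (G J Λ U) (gmap_surjective J Λ U) (gmap_exact J Λ U) M I
  have nat := phi_natural (G J Λ U) M (I.subtype)
  have hinj : Function.Injective (LinearMap.lTensor M I.subtype) :=
    Module.Flat.lTensor_preserves_injective_linearMap _ (Submodule.injective_subtype I)
  have h1 : Function.Injective (gmap (G J Λ U) (LinearMap.lTensor M I.subtype) ∘ₗ phi (G J Λ U) M I) := by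
    rw [LinearMap.coe_comp]
    exact (gmap_injective J Λ U _ hinj).comp hb.1
  rw [nat, LinearMap.coe_comp] at h1
  exact h1.of_comp

end Groth.Agent.Lib.Helper43.ConstSh
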