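import Mathlib

/-!
# A fully faithful right adjoint whose image is coreflective is also a left adjoint

Let `L ⊣ R` with `R : 𝒟 ⥤ 𝒞` fully faithful, `Γ : 𝒞 ⥤ 𝒞` with `ι : Γ ⟶ 𝟭` pointwise mono, such that
`Γ F` lies in the essential image of `R` and every map `R D ⟶ F` factors through `ι_F`.
Then `R ⊣ Γ ⋙ L`.
-/

set_option autoImplicit false
open CategoryTheory

namespace Groth.Agent.Lib.Helper43.Coreflect

universe v₁ v₂ u₁ u₂
variable {𝒞 : Type u₁} [Category.{v₁} 𝒞] {𝒟 : Type u₂} [Category.{v₂} 𝒟]
  {L : 𝒞 ⥤ 𝒟} {R : 𝒟 ⥤ 𝒞} (adj : L ⊣ R) [R.Full] [R.Faithful]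
  (Γ : 𝒞 ⥤ 𝒞) (ι : Γ ⟶ 𝟭 𝒞) [∀ F, Mono (ι.app F)]
  (h1 : ∀ F, R.essImage (Γ.obj F))
  (lift : ∀ {D : 𝒟} {F : 𝒞} (_ : R.obj D ⟶ F), R.obj D ⟶ Γ.obj F)
  (fac : ∀ {D : 𝒟} {F : 𝒞} (φ : R.obj D ⟶ F), lift φ ≫ ι.app F = φ)

include h1 fac in
/-- the adjunction `R ⊣ Γ ⋙ L` -/
noncomputable def adjunction : R ⊣ Γ ⋙ L :=
  haveI : ∀ F, IsIso (adj.unit.app (Γ.obj F)) := fun F =>
    (adj.isIso_unit_app_iff_mem_essImage).mpr (h1 F)
  haveI : IsIso adj.counit := inferInstance
  have hlift : ∀ {D : 𝒟} {F : 𝒞} (φ : R.obj D ⟶ F) (ψ : R.obj D ⟶ Γ.obj F),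
      ψ ≫ ι.app F = φ → lift φ = ψ := by
    intro D F φ ψ h
    rw [← cancel_mono (ι.app F), fac, h]
  Adjunction.mkOfHomEquiv
  { homEquiv := fun D F =>
      { toFun := fun φ => inv (adj.counit.app D) ≫ L.map (lift φ)
        invFun := fun ψ => R.map ψ ≫ inv (adj.unit.app (Γ.obj F)) ≫ ι.app F
        left_inv := by
          intro φ
          have e1 : R.map (inv (adj.counit.app D)) = adj.unit.app (R.obj D) := by
            rw [Functor.map_inv]
            apply IsIso.inv_eq_of_inv_hom_id
            exact adj.right_triangle_components D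
          dsimp only
          rw [Functor.map_comp, e1, Category.assoc]
          have e2 := adj.unit.naturality (lift φ)
          simp only [Functor.id_obj, Functor.id_map, Functor.comp_obj, Functor.comp_map] at e2
          rw [← Category.assoc, ← e2, Category.assoc, IsIso.hom_inv_id_assoc, fac]
        right_inv := by
          intro ψ
          have e1 : lift (R.map ψ ≫ inv (adj.unit.app (Γ.obj F)) ≫ ι.app F) =
              R.map ψ ≫ inv (adj.unit.app (Γ.obj F)) :=
            hlift _ _ (by simp)
          dsimp only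
          rw [e1, Functor.map_comp, Functor.map_inv]
          have e2 : inv (L.map (adj.unit.app (Γ.obj F))) = adj.counit.app (L.obj (Γ.obj F)) := by
            apply IsIso.inv_eq_of_hom_inv_id
            exact adj.left_triangle_components (Γ.obj F)
          rw [e2]
          have e3 := adj.counit.naturality ψ
          simp only [Functor.id_obj, Functor.id_map, Functor.comp_obj, Functor.comp_map] at e3
          rw [e3, IsIso.inv_hom_id_assoc] }
    homEquiv_naturality_left_symm := by
      intro D' D F f g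
      simp [Functor.map_comp, Category.assoc]
    homEquiv_naturality_right := by
      intro D F F' φ g
      have e1 : lift (φ ≫ g) = lift φ ≫ Γ.map g := by
        apply hlift
        have := ι.naturality g
        simp only [Functor.id_obj, Functor.id_map] at this
        rw [Category.assoc, this, ← Category.assoc, fac]
      simp [e1, Functor.map_comp, Category.assoc] }

end Groth.Agent.Lib.Helper43.Coreflect
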