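import Mathlib

/-!
# Simplicial homotopies induce equal maps on the cohomology of the associated cochain complexes

For a simplicial object `K` of a category `𝒞` and a contravariant functor `E : 𝒞ᵒᵖ ⥤ V` to a
preadditive category, `K.rightOp ⋙ E` is a cosimplicial object of `V`.  Homotopic simplicial maps
induce homotopic maps of alternating coface map complexes (by passing to `Vᵒᵖ`).
-/

set_option autoImplicit false
open CategoryTheory AlgebraicTopology Opposite Simplicial

namespace Groth.Agent.Lib.Helper43.CosimpHomotopy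

universe v u v' u'
variable {𝒞 : Type u} [Category.{v} 𝒞] {V : Type u'} [Category.{v'} V] [Preadditive V]

/-- the complex in `V` obtained from the simplicial object `K ⋙ E.rightOp` of `Vᵒᵖ` -/
noncomputable abbrev U (K : SimplicialObject 𝒞) (E : 𝒞ᵒᵖ ⥤ V) : CochainComplex V ℕ :=
  (HomologicalComplex.unopFunctor V (ComplexShape.down ℕ)).obj
    (op ((alternatingFaceMapComplex Vᵒᵖ).obj (K ⋙ E.rightOp)))

/-- the map induced by `a : L ⟶ K` -/
noncomputable abbrev Umap {K L : SimplicialObject 𝒞} (a : L ⟶ K) (E : 𝒞ᵒᵖ ⥤ V) : U K E ⟶ U L E :=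
  (HomologicalComplex.unopFunctor V (ComplexShape.down ℕ)).map
    (((alternatingFaceMapComplex Vᵒᵖ).map
      (((SimplicialObject.whiskering 𝒞 Vᵒᵖ).obj E.rightOp).map a)).op)

/-- comparison with the alternating coface map complex -/
noncomputable def compIso (K : SimplicialObject 𝒞) (E : 𝒞ᵒᵖ ⥤ V) :
    (alternatingCofaceMapComplex V).obj (K.rightOp ⋙ E) ≅ U K E :=
  HomologicalComplex.Hom.isoOfComponents (fun n => Iso.refl _) (by
    rintro i j (rfl : i + 1 = j)
    simp only [Iso.refl_hom]
    erw [Category.id_comp, Category.comp_id]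
    let Y : CosimplicialObject V := K.rightOp ⋙ E
    let S : SimplicialObject Vᵒᵖ := K ⋙ E.rightOp
    show ((AlternatingFaceMapComplex.obj S).d (i + 1) i).unop =
      (AlternatingCofaceMapComplex.obj Y).d i (i + 1)
    rw [AlternatingFaceMapComplex.obj_d_eq]
    have h := CochainComplex.of_d (fun n => Y.obj ⦋n⦌)
      (AlternatingCofaceMapComplex.objD Y) i
    refine Eq.trans ?_ h.symm
    simp only [AlternatingCofaceMapComplex.objD, unop_sum, unop_zsmul]
    rfl)

lemma map_eq {K L : SimplicialObject 𝒞} (a : L ⟶ K) (E : 𝒞ᵒᵖ ⥤ V) :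
    (alternatingCofaceMapComplex V).map (Functor.whiskerRight (NatTrans.rightOp a) E) =
      (compIso K E).hom ≫ Umap a E ≫ (compIso L E).inv := by
  ext n
  simp only [HomologicalComplex.comp_f]
  show _ = 𝟙 _ ≫ _ ≫ 𝟙 _
  rw [Category.id_comp, Category.comp_id]
  rfl

/-- the homotopy between the maps of unopposed complexes -/
noncomputable def homotopyU {K L : SimplicialObject 𝒞} {a b : L ⟶ K}
    (H : SimplicialObject.Homotopy a b) (E : 𝒞ᵒᵖ ⥤ V) : Homotopy (Umap a E) (Umap b E) :=
  ((H.whiskerRight E.rightOp).toChainHomotopy).unop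

theorem homologyMap_eq [CategoryWithHomology V] {K L : SimplicialObject 𝒞} {a b : L ⟶ K}
    (H : SimplicialObject.Homotopy a b) (E : 𝒞ᵒᵖ ⥤ V) (p : ℕ) :
    HomologicalComplex.homologyMap
      ((alternatingCofaceMapComplex V).map (Functor.whiskerRight (NatTrans.rightOp a) E)) p =
    HomologicalComplex.homologyMap
      ((alternatingCofaceMapComplex V).map (Functor.whiskerRight (NatTrans.rightOp b) E)) p := by
  rw [map_eq a E, map_eq b E, HomologicalComplex.homologyMap_comp,
    HomologicalComplex.homologyMap_comp, HomologicalComplex.homologyMap_comp,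
    HomologicalComplex.homologyMap_comp, (homotopyU H E).homologyMap_eq p]

end Groth.Agent.Lib.Helper43.CosimpHomotopy
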