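import Mathlib

/-!
# Algebras of an endofunctor with invertible structure map: the forgetful functor creates colimits
-/

set_option autoImplicit false
universe w w' v u

open CategoryTheory Limits

namespace Groth.Agent.Lib.Helper43.EndoAlgColim

noncomputable section

variable {C : Type u} [Category.{v} C] (T : C ⥤ C) {J : Type w} [Category.{w'} J]

abbrev P : ObjectProperty (Endofunctor.Algebra T) := fun A => IsIso A.str

abbrev Φ : (P T).FullSubcategory ⥤ C := (P T).ι ⋙ Endofunctor.Algebra.forget T

variable {T} (K : J ⥤ (P T).FullSubcategory) (c : Cocone (K ⋙ Φ T)) (t : IsColimit c)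
  [PreservesColimit (K ⋙ Φ T) T]

instance strIso (j : J) : IsIso (K.obj j).obj.str := (K.obj j).property

/-- inverse of the structure map, with clean types -/
def sinv (j : J) : (K.obj j).obj.a ⟶ T.obj (K.obj j).obj.a := inv (K.obj j).obj.str

@[reassoc]
lemma str_sinv (j : J) : (K.obj j).obj.str ≫ sinv K j = 𝟙 _ := IsIso.hom_inv_id _

@[reassoc]
lemma sinv_str (j : J) : sinv K j ≫ (K.obj j).obj.str = 𝟙 _ := IsIso.inv_hom_id _

lemma map_h {j j' : J} (f : j ⟶ j') :
    T.map (K.map f).hom.f ≫ (K.obj j').obj.str = (K.obj j).obj.str ≫ (K.map f).hom.f :=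
  (K.map f).hom.h

/-- the coprojections with clean types -/
def ιc (j : J) : (K.obj j).obj.a ⟶ c.pt := c.ι.app j

lemma c_w {j j' : J} (f : j ⟶ j') : (K.map f).hom.f ≫ ιc K c j' = ιc K c j :=
  c.w f

/-- cocone over `(K ⋙ Φ) ⋙ T` with point `c.pt` -/
def newCocone : Cocone ((K ⋙ Φ T) ⋙ T) where
  pt := c.pt
  ι :=
    { app := fun j => (K.obj j).obj.str ≫ ιc K c j
      naturality := by
        intro j j' f
        change T.map (K.map f).hom.f ≫ (K.obj j').obj.str ≫ ιc K c j' =
          ((K.obj j).obj.str ≫ ιc K c j) ≫ 𝟙 _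
        rw [Category.comp_id, ← Category.assoc, map_h, Category.assoc, c_w] }

def str : T.obj c.pt ⟶ c.pt := (isColimitOfPreserves T t).desc (newCocone K c)

lemma str_fac (j : J) :
    T.map (ιc K c j) ≫ str K c t = (K.obj j).obj.str ≫ ιc K c j :=
  (isColimitOfPreserves T t).fac (newCocone K c) j

def invCocone : Cocone (K ⋙ Φ T) where
  pt := T.obj c.pt
  ι :=
    { app := fun j => sinv K j ≫ T.map (ιc K c j)
      naturality := by
        intro j j' f
        change (K.map f).hom.f ≫ sinv K j' ≫ T.map (ιc K c j') =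
          (sinv K j ≫ T.map (ιc K c j)) ≫ 𝟙 _
        rw [Category.comp_id, ← c_w K c f, Functor.map_comp, ← Category.assoc, ← Category.assoc]
        congr 1
        have h := map_h K f
        calc (K.map f).hom.f ≫ sinv K j'
            = sinv K j ≫ ((K.obj j).obj.str ≫ (K.map f).hom.f) ≫ sinv K j' := by
              rw [Category.assoc, sinv_str_assoc]
          _ = sinv K j ≫ T.map (K.map f).hom.f := by
              rw [← h, Category.assoc, str_sinv, Category.comp_id] }

def dinv : c.pt ⟶ T.obj c.pt := t.desc (invCocone K c)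

lemma ιc_dinv (j : J) : ιc K c j ≫ dinv K c t = sinv K j ≫ T.map (ιc K c j) :=
  t.fac (invCocone K c) j

include t in
lemma hom_ext_T {Z : C} {f g : T.obj c.pt ⟶ Z}
    (h : ∀ j, T.map (ιc K c j) ≫ f = T.map (ιc K c j) ≫ g) : f = g :=
  (isColimitOfPreserves T t).hom_ext h

include t in
lemma hom_ext_c {Z : C} {f g : c.pt ⟶ Z}
    (h : ∀ j, ιc K c j ≫ f = ιc K c j ≫ g) : f = g :=
  t.hom_ext h

instance strIsIso : IsIso (str K c t) := by
  refine ⟨dinv K c t, ?_, ?_⟩
  · apply hom_ext_T K c t
    intro j
    rw [← Category.assoc, str_fac, Category.assoc, ιc_dinv, str_sinv_assoc,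
      Category.comp_id]
  · apply hom_ext_c K c t
    intro j
    rw [← Category.assoc, ιc_dinv, Category.assoc, str_fac, sinv_str_assoc,
      Category.comp_id]

def liftedPt : (P T).FullSubcategory := ⟨⟨c.pt, str K c t⟩, strIsIso K c t⟩

def liftedCocone : Cocone K where
  pt := liftedPt K c t
  ι :=
    { app := fun j => ObjectProperty.homMk ⟨ιc K c j, str_fac K c t j⟩
      naturality := by
        intro j j' f
        apply ObjectProperty.hom_ext
        apply Endofunctor.Algebra.Hom.ext
        change (K.map f).hom.f ≫ ιc K c j' = ιc K c j ≫ 𝟙 _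
        rw [Category.comp_id, c_w] }

def dsc (s : Cocone K) : c.pt ⟶ s.pt.obj.a := t.desc ((Φ T).mapCocone s)

lemma ιc_dsc (s : Cocone K) (j : J) : ιc K c j ≫ dsc K c t s = (s.ι.app j).hom.f :=
  t.fac ((Φ T).mapCocone s) j

lemma s_h (s : Cocone K) (j : J) :
    T.map (s.ι.app j).hom.f ≫ s.pt.obj.str = (K.obj j).obj.str ≫ (s.ι.app j).hom.f :=
  (s.ι.app j).hom.h

def liftedIsColimit : IsColimit (liftedCocone K c t) where
  desc s := ObjectProperty.homMk ⟨dsc K c t s, by
    apply hom_ext_T K c t
    intro j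
    change T.map (ιc K c j) ≫ T.map (dsc K c t s) ≫ s.pt.obj.str =
      T.map (ιc K c j) ≫ str K c t ≫ dsc K c t s
    rw [← Category.assoc, ← Functor.map_comp, ιc_dsc, ← Category.assoc, str_fac, Category.assoc,
      ιc_dsc, s_h]⟩
  fac s j := by
    apply ObjectProperty.hom_ext
    apply Endofunctor.Algebra.Hom.ext
    exact ιc_dsc K c t s j
  uniq s m hm := by
    apply ObjectProperty.hom_ext
    apply Endofunctor.Algebra.Hom.ext
    apply t.uniq ((Φ T).mapCocone s) m.hom.f
    intro j
    have := congrArg (fun x => x.hom.f) (hm j)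
    exact this

def createsColimit : CreatesColimit K (Φ T) :=
  createsColimitOfReflectsIso fun c t =>
    { liftedCocone := liftedCocone K c t
      validLift := Cocone.ext (Iso.refl _) (fun j => by
        change ιc K c j ≫ 𝟙 _ = ιc K c j
        rw [Category.comp_id])
      makesColimit := liftedIsColimit K c t }

end

end Groth.Agent.Lib.Helper43.EndoAlgColim
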