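import Mathlib.CategoryTheory.EquivalenceRelation
import Mathlib.CategoryTheory.Limits.FunctorCategory.Basic
import Mathlib.CategoryTheory.Functor.RegularEpi
import Mathlib.CategoryTheory.Limits.FunctorCategory.EpiMono
import Mathlib.CategoryTheory.Limits.Types.Pullbacks
import Mathlib.CategoryTheory.Limits.Types.Pushouts
import Groth.Agent.Lib.Helper8.UEE
import Groth.Agent.Lib.Helper8.SheafType

/-!
# Equivalence relations in presheaf and sheaf categories are universally effective (helper43)
-/

set_option autoImplicit false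
open CategoryTheory CategoryTheory.Limits Opposite
universe w v₁ u₁

namespace Groth.Agent.Lib.Helper43.EqRel

open Groth.Agent.Lib.Helper8

section TypeLevel

variable {R X : Type w} (p₁ p₂ : R ⟶ X)

/-- the quotient map of the relation generated by a pair of maps -/
def tq : X ⟶ Quot (TypeCat.Rel.ofPair p₁ p₂) := ↾(Quot.mk _)

lemma tq_apply (x : X) : tq p₁ p₂ x = Quot.mk _ x := rfl

lemma tq_w : p₁ ≫ tq p₁ p₂ = p₂ ≫ tq p₁ p₂ := by
  apply ConcreteCategory.hom_ext
  intro r
  exact Quot.sound ⟨r, rfl, rfl⟩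

lemma type_isPullback (hinj : ∀ a b : R, p₁ a = p₁ b → p₂ a = p₂ b → a = b)
    (heq : Equivalence (TypeCat.Rel.ofPair p₁ p₂)) :
    IsPullback p₁ p₂ (tq p₁ p₂) (tq p₁ p₂) := by
  rw [Types.isPullback_iff]
  refine ⟨tq_w p₁ p₂, fun a b h => hinj a b h.1 h.2, fun x y h => ?_⟩
  have h' : Quot.mk (TypeCat.Rel.ofPair p₁ p₂) x = Quot.mk _ y := h
  have := Quot.eqvGen_exact h'
  rw [heq.eqvGen_iff] at this
  exact this

lemma type_isPushout (r : X ⟶ R) (h₁ : r ≫ p₁ = 𝟙 X) (h₂ : r ≫ p₂ = 𝟙 X) :
    IsPushout p₁ p₂ (tq p₁ p₂) (tq p₁ p₂) := by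
  refine ⟨⟨tq_w p₁ p₂⟩, ⟨PushoutCocone.IsColimit.mk _ (fun s => ?_) ?_ ?_ ?_⟩⟩
  · have hs : s.inl = s.inr := by
      calc s.inl = r ≫ p₁ ≫ s.inl := by rw [reassoc_of% h₁]
        _ = r ≫ p₂ ≫ s.inr := by rw [s.condition]
        _ = s.inr := by rw [reassoc_of% h₂]
    exact ↾(Quot.lift (fun x => s.inl x) (by
      rintro x y ⟨t, rfl, rfl⟩
      have := ConcreteCategory.congr_hom s.condition t
      rw [hs] at this ⊢
      exact this))
  · intro s
    apply ConcreteCategory.hom_ext
    intro x
    rfl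
  · intro s
    have hs : s.inl = s.inr := by
      calc s.inl = r ≫ p₁ ≫ s.inl := by rw [reassoc_of% h₁]
        _ = r ≫ p₂ ≫ s.inr := by rw [s.condition]
        _ = s.inr := by rw [reassoc_of% h₂]
    apply ConcreteCategory.hom_ext
    intro x
    exact ConcreteCategory.congr_hom hs x
  · intro s m hm₁ hm₂
    apply ConcreteCategory.hom_ext
    intro q
    induction q using Quot.ind with
    | mk x => exact ConcreteCategory.congr_hom hm₁ x

end TypeLevel

section Presheaf

variable {C : Type u₁} [Category.{v₁} C] {R X : Cᵒᵖ ⥤ Type w} (p₁ p₂ : R ⟶ X)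

/-- the kernel pair of the joint map `(p₁, p₂)` -/
def K : Cᵒᵖ ⥤ Type w where
  obj U := {ab : R.obj U × R.obj U //
    p₁.app U ab.1 = p₁.app U ab.2 ∧ p₂.app U ab.1 = p₂.app U ab.2}
  map {U V} f := ↾(fun ab => ⟨(R.map f ab.1.1, R.map f ab.1.2), by
    refine ⟨?_, ?_⟩
    · show p₁.app V (R.map f ab.1.1) = p₁.app V (R.map f ab.1.2)
      rw [NatTrans.naturality_apply, NatTrans.naturality_apply, ab.2.1]
    · show p₂.app V (R.map f ab.1.1) = p₂.app V (R.map f ab.1.2)
      rw [NatTrans.naturality_apply, NatTrans.naturality_apply, ab.2.2]⟩)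
  map_id U := by
    apply ConcreteCategory.hom_ext
    intro ab
    apply Subtype.ext
    apply Prod.ext
    · show R.map (𝟙 U) ab.1.1 = ab.1.1
      rw [R.map_id]; rfl
    · show R.map (𝟙 U) ab.1.2 = ab.1.2
      rw [R.map_id]; rfl
  map_comp f g := by
    apply ConcreteCategory.hom_ext
    intro ab
    apply Subtype.ext
    apply Prod.ext
    · show R.map (f ≫ g) ab.1.1 = R.map g (R.map f ab.1.1)
      rw [R.map_comp]; rfl
    · show R.map (f ≫ g) ab.1.2 = R.map g (R.map f ab.1.2)
      rw [R.map_comp]; rfl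

def Kfst : K p₁ p₂ ⟶ R where
  app U := ↾(fun ab => ab.1.1)
  naturality U V f := by
    apply ConcreteCategory.hom_ext
    intro ab
    rfl

def Ksnd : K p₁ p₂ ⟶ R where
  app U := ↾(fun ab => ab.1.2)
  naturality U V f := by
    apply ConcreteCategory.hom_ext
    intro ab
    rfl

variable {p₁ p₂}

lemma app_injective [JointlyMono₂ p₁ p₂] (U : Cᵒᵖ) (a b : R.obj U)
    (h₁ : p₁.app U a = p₁.app U b) (h₂ : p₂.app U a = p₂.app U b) : a = b := by
  have h : Kfst p₁ p₂ = Ksnd p₁ p₂ := by
    apply JointlyMono₂.right_cancellation (p₁ := p₁) (p₂ := p₂)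
    · ext V ab
      exact ab.2.1
    · ext V ab
      exact ab.2.2
  exact ConcreteCategory.congr_hom (congrArg (fun t => t.app U) h) ⟨(a, b), h₁, h₂⟩

instance jm_app [JointlyMono₂ p₁ p₂] (U : Cᵒᵖ) :
    JointlyMono₂ (((evaluation Cᵒᵖ (Type w)).obj U).map p₁)
      (((evaluation Cᵒᵖ (Type w)).obj U).map p₂) where
  right_cancellation Y f g h₁ h₂ := by
    apply ConcreteCategory.hom_ext
    intro y
    exact app_injective U _ _ (ConcreteCategory.congr_hom h₁ y) (ConcreteCategory.congr_hom h₂ y)

/-- the sectionwise equivalence relation -/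
noncomputable def evalRel (e : EquivalenceRelation p₁ p₂) (U : Cᵒᵖ) :
    EquivalenceRelation (p₁.app U) (p₂.app U) :=
  haveI : JointlyMono₂ p₁ p₂ := e.toJointlyMono₂
  { __ := e.toReflexiveRelation.map ((evaluation Cᵒᵖ (Type w)).obj U)
    __ := e.toSymmetricRelation.map ((evaluation Cᵒᵖ (Type w)).obj U)
    __ := e.toTransitiveRelation.map ((evaluation Cᵒᵖ (Type w)).obj U) }

lemma rel_equivalence (e : EquivalenceRelation p₁ p₂) (U : Cᵒᵖ) :
    Equivalence (TypeCat.Rel.ofPair (p₁.app U) (p₂.app U)) :=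
  TypeCat.equivalence_of_equivalenceRelation (evalRel e U)

variable (p₁ p₂)

/-- the quotient presheaf -/
def Q : Cᵒᵖ ⥤ Type w where
  obj U := Quot (TypeCat.Rel.ofPair (p₁.app U) (p₂.app U))
  map {U V} f := ↾(Quot.map (fun x => X.map f x) (by
    rintro x y ⟨r, rfl, rfl⟩
    exact ⟨R.map f r, NatTrans.naturality_apply p₁ f r, NatTrans.naturality_apply p₂ f r⟩))
  map_id U := by
    apply ConcreteCategory.hom_ext
    intro q
    induction q using Quot.ind with
    | mk x =>
      show Quot.mk _ (X.map (𝟙 U) x) = Quot.mk _ x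
      rw [X.map_id]; rfl
  map_comp f g := by
    apply ConcreteCategory.hom_ext
    intro q
    induction q using Quot.ind with
    | mk x =>
      show Quot.mk _ (X.map (f ≫ g) x) = Quot.mk _ (X.map g (X.map f x))
      rw [X.map_comp]; rfl

/-- the quotient map -/
def π : X ⟶ Q p₁ p₂ where
  app U := tq (p₁.app U) (p₂.app U)
  naturality U V f := by
    apply ConcreteCategory.hom_ext
    intro x
    rfl

variable {p₁ p₂}

lemma isKernelPair_π (e : EquivalenceRelation p₁ p₂) : IsKernelPair (π p₁ p₂) p₁ p₂ := by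
  haveI : JointlyMono₂ p₁ p₂ := e.toJointlyMono₂
  apply IsPullback.of_forall_isPullback_app
  intro U
  exact type_isPullback _ _ (app_injective U) (rel_equivalence e U)

lemma isPushout_π (e : EquivalenceRelation p₁ p₂) : IsPushout p₁ p₂ (π p₁ p₂) (π p₁ p₂) := by
  apply IsPushout.of_forall_isPushout_app
  intro U
  exact type_isPushout _ _ (e.r.app U) (congrArg (fun t => t.app U) e.reflexivity₁)
    (congrArg (fun t => t.app U) e.reflexivity₂)

lemma epi_π : Epi (π p₁ p₂) := by
  rw [NatTrans.epi_iff_epi_app]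
  intro U
  rw [epi_iff_surjective]
  intro q
  induction q using Quot.ind with
  | mk x => exact ⟨x, rfl⟩

/-- in presheaves of types, epimorphisms are universally effective -/
lemma UEE_of_epi_presheaf {A B : Cᵒᵖ ⥤ Type w} (f : A ⟶ B) [Epi f] : UEE (Cᵒᵖ ⥤ Type w) f := by
  intro A' B' i₁ i₂ f' sq
  have hf : ∀ U, Function.Surjective (f.app U) := fun U => by
    rw [← epi_iff_surjective]
    infer_instance
  have : Epi f' := by
    rw [NatTrans.epi_iff_epi_app]
    intro U
    rw [epi_iff_surjective]
    intro y'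
    obtain ⟨x, hx⟩ := hf U (i₂.app U y')
    obtain ⟨x', hx'1, hx'2⟩ := Limits.Types.exists_of_isPullback (sq.app U) y' x hx.symm
    exact ⟨x', hx'1⟩
  have : IsRegularEpi f' := IsRegularEpiCategory.regularEpiOfEpi f'
  exact (isRegularEpi_iff_effectiveEpi f').1 this

/-- presheaf case -/
noncomputable def ueerPresheaf (e : EquivalenceRelation p₁ p₂) :
    UniversallyEffectiveEquivalenceRelation p₁ p₂ where
  __ := e
  B := Q p₁ p₂
  π := π p₁ p₂
  isKernelPair := isKernelPair_π e
  isPushout := isPushout_π e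
  universally_effectiveEpi_π := by
    have := epi_π (p₁ := p₁) (p₂ := p₂)
    exact UEE_of_epi_presheaf (π p₁ p₂)

end Presheaf

section Reflective

variable {D : Type*} [Category D] {E : Type*} [Category E] {L : D ⥤ E} {G : E ⥤ D}
  (adj : L ⊣ G)

include adj in
/-- right adjoints preserve jointly monic pairs -/
lemma jointlyMono₂_map {R X₁ X₂ : E} (p₁ : R ⟶ X₁) (p₂ : R ⟶ X₂) [JointlyMono₂ p₁ p₂] :
    JointlyMono₂ (G.map p₁) (G.map p₂) where
  right_cancellation Y f g h₁ h₂ := by
    apply (adj.homEquiv Y R).symm.injective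
    apply JointlyMono₂.right_cancellation (p₁ := p₁) (p₂ := p₂)
    · rw [← adj.homEquiv_naturality_right_symm, ← adj.homEquiv_naturality_right_symm, h₁]
    · rw [← adj.homEquiv_naturality_right_symm, ← adj.homEquiv_naturality_right_symm, h₂]

/-- the image of an equivalence relation under a right adjoint -/
noncomputable def mapRightAdjoint {R X : E} {p₁ p₂ : R ⟶ X} (e : EquivalenceRelation p₁ p₂) :
    EquivalenceRelation (G.map p₁) (G.map p₂) :=
  haveI : JointlyMono₂ p₁ p₂ := e.toJointlyMono₂
  haveI : JointlyMono₂ (G.map p₁) (G.map p₂) := jointlyMono₂_map adj p₁ p₂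
  haveI : PreservesLimitsOfShape WalkingCospan G := adj.rightAdjoint_preservesLimits.preservesLimitsOfShape
  { __ := e.toReflexiveRelation.map G
    __ := e.toSymmetricRelation.map G
    __ := e.toTransitiveRelation.map G }

variable [G.Full] [G.Faithful] [PreservesLimitsOfShape WalkingCospan L]

/-- effective equivalence relations descend along a left exact reflector -/
noncomputable def effectiveOfReflective {R X : E} {p₁ p₂ : R ⟶ X} (e : EquivalenceRelation p₁ p₂)
    {B₀ : D} (π₀ : G.obj X ⟶ B₀) (hk : IsKernelPair π₀ (G.map p₁) (G.map p₂))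
    (hp : IsPushout (G.map p₁) (G.map p₂) π₀ π₀) :
    EffectiveEquivalenceRelation p₁ p₂ where
  __ := e
  B := L.obj B₀
  π := inv (adj.counit.app X) ≫ L.map π₀
  isKernelPair := by
    have h := IsPullback.map L hk
    refine IsPullback.of_iso h (asIso (adj.counit.app R)) (asIso (adj.counit.app X))
      (asIso (adj.counit.app X)) (Iso.refl _) ?_ ?_ ?_ ?_
    · exact adj.counit.naturality p₁
    · exact adj.counit.naturality p₂
    · simp
    · simp
  isPushout := by
    haveI : PreservesColimitsOfShape WalkingSpan L :=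
      adj.leftAdjoint_preservesColimits.preservesColimitsOfShape
    have h := IsPushout.map L hp
    refine IsPushout.of_iso h (asIso (adj.counit.app R)) (asIso (adj.counit.app X))
      (asIso (adj.counit.app X)) (Iso.refl _) ?_ ?_ ?_ ?_
    · exact adj.counit.naturality p₁
    · exact adj.counit.naturality p₂
    · simp
    · simp

end Reflective

section SheafCase

variable {C : Type u₁} [Category.{v₁} C] (J : GrothendieckTopology C) [HasSheafify J (Type w)]
  {R X : Sheaf J (Type w)} {p₁ p₂ : R ⟶ X}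

/-- the effective structure in the sheaf case -/
noncomputable def effSheaf (e : EquivalenceRelation p₁ p₂) :
    EffectiveEquivalenceRelation p₁ p₂ :=
  effectiveOfReflective (sheafificationAdjunction J (Type w)) e
    (π ((sheafToPresheaf J (Type w)).map p₁) ((sheafToPresheaf J (Type w)).map p₂))
    (isKernelPair_π (mapRightAdjoint (sheafificationAdjunction J (Type w)) e))
    (isPushout_π (mapRightAdjoint (sheafificationAdjunction J (Type w)) e))

/-- sheaf case -/
noncomputable def ueerSheaf (e : EquivalenceRelation p₁ p₂) :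
    UniversallyEffectiveEquivalenceRelation p₁ p₂ where
  __ := effSheaf J e
  universally_effectiveEpi_π := by
    have : Epi (effSheaf J e).π := inferInstance
    exact UEE_of_epi J (effSheaf J e).π

end SheafCase

end Groth.Agent.Lib.Helper43.EqRel
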