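import Mathlib
import Groth.Statements.S3896

/-!
Subterminal sheaves of sets on the small étale site of a scheme are the Zariski opens.
-/

universe u
open CategoryTheory CategoryTheory.Limits AlgebraicGeometry Opposite

namespace Groth.Agent.Lib.Helper43.EtSubterm

variable {X : Scheme.{u}}

/-- pointwise criterion for covering sieves of the small étale topology. -/
theorem mem_et_iff {U : X.Etale} (R : Sieve U) :
    R ∈ X.smallEtaleTopology U ↔
      ∀ x : U.left, ∃ (Y : X.Etale) (f : Y ⟶ U) (y : Y.left), R f ∧ f.left.base y = x := by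
  change R ∈ X.smallGrothendieckTopology (P := @Etale) U ↔ _
  rw [Scheme.smallGrothendieckTopology_eq_toGrothendieck_smallPretopology _ le_rfl]
  refine (Scheme.mem_toGrothendieck_smallPretopology (P := @Etale) (Q := @Etale) U R).trans ?_
  constructor
  · intro h x
    obtain ⟨Y, f, y, h1, -, h3⟩ := h x
    exact ⟨Y, f, y, h1, h3⟩
  · intro h x
    obtain ⟨Y, f, y, h1, h3⟩ := h x
    exact ⟨Y, f, y, h1, inferInstance, h3⟩

/-- the (lifted) representable presheaf. -/
abbrev P (V : X.Etale) : X.Etaleᵒᵖ ⥤ Type (u + 1) := yoneda.obj V ⋙ uliftFunctor.{u + 1, u}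

lemma hom_ext' {A B : X.Etale} {f g : A ⟶ B} (h : f.left = g.left) : f = g :=
  MorphismProperty.Over.Hom.ext h

instance subsingleton_hom_ofOpen (U : X.Opens) (W : X.Etale) :
    Subsingleton (W ⟶ EtDesc.ofOpen U) := by
  constructor
  intro f g
  apply hom_ext'
  have hf : f.left ≫ U.ι = W.hom := CategoryTheory.Over.w f.hom
  have hg : g.left ≫ U.ι = W.hom := CategoryTheory.Over.w g.hom
  exact (cancel_mono U.ι).mp (hf.trans hg.symm)

lemma mono_from_sheafify (Q : X.Etaleᵒᵖ ⥤ Type (u + 1)) (hQ : ∀ W, Subsingleton (Q.obj W)) :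
    Mono (terminal.from ((presheafToSheaf X.smallEtaleTopology (Type (u + 1))).obj Q)) := by
  let L := presheafToSheaf X.smallEtaleTopology (Type (u + 1))
  have h1 : Mono (terminal.from Q) := ⟨fun f g _ => by
    ext W x
    exact Subsingleton.elim _ _⟩
  have h2 : Mono (L.map (terminal.from Q)) := inferInstance
  have hT : IsTerminal (L.obj (⊤_ _)) := IsTerminal.isTerminalObj L _ terminalIsTerminal
  have h3 : Mono (terminal.from (L.obj (⊤_ _))) := ⟨fun f g _ => hT.hom_ext _ _⟩
  have : terminal.from (L.obj Q) = L.map (terminal.from Q) ≫ terminal.from (L.obj (⊤_ _)) :=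
    Subsingleton.elim _ _
  rw [this]
  exact mono_comp _ _

abbrev J (X : Scheme.{u}) := X.smallEtaleTopology

/-- the canonical section of `repSh V` over `W` attached to a morphism `W ⟶ V`. -/
noncomputable def sec {V W : X.Etale} (f : W ⟶ V) : (EtDesc.repSh V).obj.obj (op W) :=
  (toSheafify (J X) (P V)).app (op W) ⟨f⟩

/-- part (a). -/
lemma mono_repSh_ofOpen (U : X.Opens) : Mono (terminal.from (EtDesc.repSh (EtDesc.ofOpen U))) := by
  apply mono_from_sheafify
  intro W
  constructor
  rintro ⟨f⟩ ⟨g⟩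
  exact congrArg _ ((subsingleton_hom_ofOpen U W.unop).elim f g)

/-- the presheaf map `P W ⟶ F` attached to a section. -/
def ofSec (F : X.Etaleᵒᵖ ⥤ Type (u + 1)) {W : X.Etale} (s : F.obj (op W)) : P W ⟶ F where
  app W' := TypeCat.ofHom fun g => F.map g.down.op s
  naturality A B h := by
    ext ⟨g⟩
    change F.map (h.unop ≫ g).op s = F.map h (F.map g.op s)
    rw [op_comp, Functor.map_comp]
    rfl

lemma subsingleton_of_mono (F : EtDesc.Sh X) (hF : Mono (terminal.from F)) (W : X.Etale) :
    Subsingleton (F.obj.obj (op W)) := by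
  constructor
  intro s t
  let e := (sheafificationAdjunction (J X) (Type (u + 1))).homEquiv (P W) F
  have h : e.symm (ofSec F.obj s) = e.symm (ofSec F.obj t) := by
    rw [← cancel_mono (terminal.from F)]
    exact Subsingleton.elim _ _
  have h' : ofSec F.obj s = ofSec F.obj t := e.symm.injective h
  have := congrArg (fun a => a.app (op W) ⟨𝟙 W⟩) h'
  simpa [ofSec] using this

/-- the morphism of étale objects attached to an inclusion of opens. -/
noncomputable def ofOpenMap {U V : X.Opens} (h : U ≤ V) : EtDesc.ofOpen U ⟶ EtDesc.ofOpen V :=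
  MorphismProperty.Over.homMk (X.homOfLE h) (X.homOfLE_ι h) trivial

/-- part (b). -/
lemma le_iff (U V : X.Opens) :
    U ≤ V ↔ Nonempty (EtDesc.repSh (EtDesc.ofOpen U) ⟶ EtDesc.repSh (EtDesc.ofOpen V)) := by
  constructor
  · intro h
    exact ⟨(presheafToSheaf (J X) (Type (u + 1))).map
      (Functor.whiskerRight (yoneda.map (ofOpenMap h)) uliftFunctor.{u + 1, u})⟩
  · rintro ⟨φ⟩
    intro x hx
    let s₀ : (EtDesc.repSh (EtDesc.ofOpen U)).obj.obj (op (EtDesc.ofOpen U)) := sec (𝟙 _)
    let t := φ.hom.app _ s₀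
    have hmem := Presheaf.imageSieve_mem (J X) (toSheafify (J X) (P (EtDesc.ofOpen V))) t
    rw [mem_et_iff] at hmem
    obtain ⟨Y, f, y, ⟨⟨g⟩, _⟩, hy⟩ := hmem ⟨x, hx⟩
    have h1 : f.left ≫ U.ι = Y.hom := CategoryTheory.Over.w f.hom
    have h2 : g.left ≫ V.ι = Y.hom := CategoryTheory.Over.w g.hom
    have h3 : x = (g.left ≫ V.ι).base y := by
      rw [h2, ← h1]
      simp only [Scheme.Hom.comp_base, TopCat.hom_comp, ContinuousMap.comp_apply]
      rw [hy]
      rfl
    rw [h3]
    exact (g.left.base y).2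

/-- the structure morphism with a clean type. -/
abbrev hm (W : X.Etale) : W.left ⟶ X := W.hom

instance (W : X.Etale) : Etale (hm W) := W.prop

/-- the underlying set of the open attached to a sheaf. -/
def suppSet (F : EtDesc.Sh X) : Set X :=
  ⋃ (W : X.Etale) (_ : Nonempty (F.obj.obj (op W))), Set.range (hm W)

/-- the open attached to a sheaf: union of the images of the étale `W` with `F(W)` nonempty. -/
def supp (F : EtDesc.Sh X) : X.Opens :=
  ⟨suppSet F, by
    apply isOpen_iUnion; intro W; apply isOpen_iUnion; intro _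
    exact (hm W).isOpenMap.isOpen_range⟩

lemma range_le_supp (F : EtDesc.Sh X) (W : X.Etale) (hW : Nonempty (F.obj.obj (op W))) :
    Set.range (hm W) ⊆ Set.range (supp F).ι := by
  rintro _ ⟨w, rfl⟩
  have : (hm W) w ∈ supp F := by
    change _ ∈ suppSet F
    exact Set.mem_iUnion.mpr ⟨W, Set.mem_iUnion.mpr ⟨hW, w, rfl⟩⟩
  exact ⟨⟨_, this⟩, rfl⟩

/-- the factorisation of `W.left` through the support. -/
noncomputable def liftSupp (F : EtDesc.Sh X) (W : X.Etale) (hW : Nonempty (F.obj.obj (op W))) :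
    W.left ⟶ (supp F).toScheme :=
  IsOpenImmersion.lift (supp F).ι (hm W) (range_le_supp F W hW)

lemma liftSupp_fac (F : EtDesc.Sh X) (W : X.Etale) (hW : Nonempty (F.obj.obj (op W))) :
    liftSupp F W hW ≫ (supp F).ι = hm W :=
  IsOpenImmersion.lift_fac _ _ _

/-- the factorisation of `W` through the support. -/
noncomputable def toSupp (F : EtDesc.Sh X) (W : X.Etale) (hW : Nonempty (F.obj.obj (op W))) :
    W ⟶ EtDesc.ofOpen (supp F) :=
  MorphismProperty.Over.homMk (liftSupp F W hW) (liftSupp_fac F W hW) trivial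

/-- the sieve of arrows whose source carries a section. -/
def nonemptySieve (F : EtDesc.Sh X) (V : X.Etale) : Sieve V where
  arrows Y _ := Nonempty (F.obj.obj (op Y))
  downward_closed := by
    rintro Y Z f ⟨s⟩ g
    exact ⟨F.obj.map g.op s⟩

lemma nonemptySieve_mem (F : EtDesc.Sh X) :
    nonemptySieve F (EtDesc.ofOpen (supp F)) ∈ (J X) (EtDesc.ofOpen (supp F)) := by
  rw [mem_et_iff]
  intro x
  have hx : (supp F).ι.base x ∈ suppSet F := x.2
  obtain ⟨W, hW'⟩ := Set.mem_iUnion.mp hx
  obtain ⟨hW, w, hw⟩ := Set.mem_iUnion.mp hW'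
  refine ⟨W, toSupp F W hW, w, hW, ?_⟩
  apply (supp F).ι.isOpenEmbedding.injective
  have h1 : (toSupp F W hW).left ≫ (supp F).ι = hm W := liftSupp_fac F W hW
  have : ((toSupp F W hW).left ≫ (supp F).ι) w = (hm W) w := by rw [h1]
  exact this.trans hw

lemma nonempty_supp (F : EtDesc.Sh X) (hF : Mono (terminal.from F)) :
    Nonempty (F.obj.obj (op (EtDesc.ofOpen (supp F)))) := by
  have hsh : Presieve.IsSheaf (J X) F.obj := (isSheaf_iff_isSheaf_of_type _ _).mp F.property
  have h := hsh _ (nonemptySieve_mem F)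
  let x : Presieve.FamilyOfElements F.obj (nonemptySieve F (EtDesc.ofOpen (supp F))).arrows :=
    fun Y f hf => Classical.choice hf
  have hx : x.Compatible := by
    intro Y₁ Y₂ Z g₁ g₂ f₁ f₂ h₁ h₂ _
    exact (subsingleton_of_mono F hF Z).elim _ _
  exact ⟨h.amalgamate x hx⟩

/-- subterminal objects with maps both ways are isomorphic. -/
def isoOfSubterminal {C : Type*} [Category C] [HasTerminal C] {A B : C}
    (hA : Mono (terminal.from A)) (hB : Mono (terminal.from B)) (f : A ⟶ B) (g : B ⟶ A) :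
    A ≅ B where
  hom := f
  inv := g
  hom_inv_id := by rw [← cancel_mono (terminal.from A)]; exact Subsingleton.elim _ _
  inv_hom_id := by rw [← cancel_mono (terminal.from B)]; exact Subsingleton.elim _ _

/-- the map from a subterminal sheaf to the sheaf of its support. -/
noncomputable def toRep (F : EtDesc.Sh X) : F ⟶ EtDesc.repSh (EtDesc.ofOpen (supp F)) :=
  ⟨{ app := fun W => TypeCat.ofHom fun s => sec (toSupp F W.unop ⟨s⟩)
     naturality := by
      intro A B h
      ext s
      exact (subsingleton_of_mono _ (mono_repSh_ofOpen (supp F)) B.unop).elim _ _ }⟩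

/-- part (c). -/
lemma exists_iso (F : EtDesc.Sh X) (hF : Mono (terminal.from F)) :
    ∃ U : X.Opens, Nonempty (F ≅ EtDesc.repSh (EtDesc.ofOpen U)) := by
  refine ⟨supp F, ?_⟩
  obtain ⟨s⟩ := nonempty_supp F hF
  let e := (sheafificationAdjunction (J X) (Type (u + 1))).homEquiv (P (EtDesc.ofOpen (supp F))) F
  exact ⟨isoOfSubterminal hF (mono_repSh_ofOpen (supp F)) (toRep F) (e.symm (ofSec F.obj s))⟩

theorem main (X : Scheme.{u}) :
    (∀ U : X.Opens, Mono (terminal.from (EtDesc.repSh (EtDesc.ofOpen U)))) ∧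
    (∀ U V : X.Opens, U ≤ V ↔
      Nonempty (EtDesc.repSh (EtDesc.ofOpen U) ⟶ EtDesc.repSh (EtDesc.ofOpen V))) ∧
    (∀ F : EtDesc.Sh X, Mono (terminal.from F) →
      ∃ U : X.Opens, Nonempty (F ≅ EtDesc.repSh (EtDesc.ofOpen U))) :=
  ⟨mono_repSh_ofOpen, le_iff, exists_iso⟩

end Groth.Agent.Lib.Helper43.EtSubterm
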