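import Mathlib
import Groth.Agent.Lib.Helper43.EtSubterm

/-!
# Abelian étale sheaves turn disjoint coverings into products

For an abelian sheaf `F` on the small étale site of `X`, and a family of monomorphisms
`k a : W a ⟶ W` in `X.Etale` generating a covering sieve and pairwise disjoint (no nonempty object
maps compatibly to two different members), restriction `F(W) → ∏ F(W a)` is bijective.
-/

universe u
open CategoryTheory CategoryTheory.Limits AlgebraicGeometry Opposite

namespace Groth.Agent.Lib.Helper43.EtCoprod

open Groth.Agent.Lib.Helper43.EtSubterm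

variable {X : Scheme.{u}} (F : Sheaf X.smallEtaleTopology AddCommGrpCat.{u + 1})

lemma isSheaf_forget :
    Presieve.IsSheaf X.smallEtaleTopology (F.obj ⋙ forget AddCommGrpCat.{u + 1}) :=
  (isSheaf_iff_isSheaf_of_type _ _).mp
    ((Presheaf.isSheaf_iff_isSheaf_forget _ F.obj (forget _)).mp F.property)

lemma subsingleton_of_isEmpty (W : X.Etale) (hW : IsEmpty W.left) :
    Subsingleton (F.obj.obj (op W)) := by
  have hcov : (⊥ : Sieve W) ∈ X.smallEtaleTopology W :=
    (mem_et_iff _).mpr (fun x => (hW.false x).elim)
  constructor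
  intro a b
  exact ((isSheaf_forget F) ⊥ hcov).isSeparatedFor.ext (fun Y f hf => by cases hf)

theorem bijective_restrict {α : Type*} (W : X.Etale) (Wa : α → X.Etale) (k : ∀ a, Wa a ⟶ W)
    (hcov : Sieve.generate (Presieve.ofArrows Wa k) ∈ X.smallEtaleTopology W)
    (hmono : ∀ a, Mono (k a))
    (hdisj : ∀ a b (Z : X.Etale) (ga : Z ⟶ Wa a) (gb : Z ⟶ Wa b), ga ≫ k a = gb ≫ k b →
      Nonempty Z.left → a = b) :
    Function.Bijective (fun (s : F.obj.obj (op W)) (a : α) => F.obj.map (k a).op s) := by
  have hsh := (Presieve.isSheafFor_arrows_iff (P := F.obj ⋙ forget AddCommGrpCat.{u + 1})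
    (π := k)).mp ((Presieve.isSheafFor_iff_generate _).mpr ((isSheaf_forget F) _ hcov))
  constructor
  · intro s s' hss
    obtain ⟨t, -, ht⟩ := hsh (fun a => F.obj.map (k a).op s) (by
      intro i j Z gi gj hij
      show F.obj.map gi.op (F.obj.map _ s) = F.obj.map gj.op (F.obj.map _ s)
      rw [← ConcreteCategory.comp_apply, ← ConcreteCategory.comp_apply, ← F.obj.map_comp,
        ← F.obj.map_comp, ← op_comp, ← op_comp, hij])
    have e1 : s = t := ht s (fun i => rfl)
    have e2 : s' = t := ht s' (fun i => (congrFun hss i).symm)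
    rw [e1, e2]
  · intro x
    obtain ⟨t, ht, -⟩ := hsh x (by
      intro i j Z gi gj hij
      by_cases hZ : Nonempty Z.left
      · obtain rfl := hdisj i j Z gi gj hij hZ
        have := hmono i
        rw [(cancel_mono (k i)).mp hij]
      · have := subsingleton_of_isEmpty F Z (not_nonempty_iff.mp hZ)
        exact Subsingleton.elim _ _)
    exact ⟨t, funext ht⟩

end Groth.Agent.Lib.Helper43.EtCoprod
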