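import Mathlib
import Groth.Agent.Lib.Helper43.EtCoprod

/-!
# The Čech nerve of a disjoint union in the small étale site

For a finite family `Uf i ⟶ V` in `Over U` (`U : X.Etale`) exhibiting the underlying scheme of `V`
as the coproduct of those of the `Uf i`, the maps `∏ (Uf ∘ x) ⟶ ∏ V` (`x : Fin (n+1) → ι`) form a
disjoint covering by monomorphisms.
-/

universe u
open CategoryTheory CategoryTheory.Limits AlgebraicGeometry Opposite

namespace Groth.Agent.Lib.Helper43.EtCechCoprod

open Groth.Agent.Lib.Helper43.EtSubterm Groth.Agent.Lib.Helper43.EtCoprod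

variable {X : Scheme.{u}} {U : X.Etale} {ι : Type (u + 1)} [Finite ι]
  {Uf : ι → Over U} {V : Over U} (incl : ∀ i, Uf i ⟶ V)
  (hV : IsColimit (Cofan.mk V.left.left fun i => (incl i).left.left))

section Scheme

/-- comparison with the chosen coproduct -/
noncomputable def eIso : (∐ fun i => (Uf i).left.left) ≅ V.left.left :=
  (coproductIsCoproduct fun i => (Uf i).left.left).coconePointUniqueUpToIso hV

lemma ι_eIso (i : ι) :
    Sigma.ι (fun i => (Uf i).left.left) i ≫ (eIso incl hV).hom = (incl i).left.left :=
  IsColimit.comp_coconePointUniqueUpToIso_hom (coproductIsCoproduct fun i => (Uf i).left.left)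
    hV ⟨i⟩

include hV in
lemma isOpenImmersion_incl (i : ι) : IsOpenImmersion (incl i).left.left := by
  rw [← ι_eIso incl hV i]
  infer_instance

include hV in
lemma eq_of_comm {Z : Scheme.{u}} {i j : ι} (p : Z ⟶ (Uf i).left.left) (q : Z ⟶ (Uf j).left.left)
    (h : p ≫ (incl i).left.left = q ≫ (incl j).left.left) (hZ : Nonempty Z) : i = j := by
  by_contra hij
  have hsq : CommSq p q (Sigma.ι (fun i => (Uf i).left.left) i)
      (Sigma.ι (fun i => (Uf i).left.left) j) := ⟨by
    rw [← cancel_mono (eIso incl hV).hom, Category.assoc, Category.assoc, ι_eIso, ι_eIso, h]⟩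
  have := isEmpty_of_commSq_sigmaι_of_ne (g := fun i => (Uf i).left.left) hsq hij
  exact (not_isEmpty_iff.mpr hZ) this

include hV in
lemma exists_incl_eq (v : V.left.left) : ∃ (i : ι) (y : (Uf i).left.left),
    (incl i).left.left.base y = v := by
  obtain ⟨i, y, hy⟩ := (sigmaOpenCover fun i => (Uf i).left.left).exists_eq
    ((eIso incl hV).inv.base v)
  refine ⟨i, y, ?_⟩
  rw [← ι_eIso incl hV i]
  change (eIso incl hV).hom.base ((Sigma.ι (fun i => (Uf i).left.left) i).base y) = v
  have hy' : (Sigma.ι (fun i => (Uf i).left.left) i).base y = (eIso incl hV).inv.base v := hy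
  rw [hy']
  change ((eIso incl hV).inv ≫ (eIso incl hV).hom).base v = v
  rw [Iso.inv_hom_id]
  rfl

end Scheme

section Site

include hV in
lemma mono_incl_left (i : ι) : Mono (incl i).left := by
  have := isOpenImmersion_incl incl hV i
  have h1 : Mono (incl i).left.left := inferInstance
  exact (MorphismProperty.Over.forget _ _ _ ⋙ CategoryTheory.Over.forget X).mono_of_mono_map h1

include hV in
lemma mono_incl (i : ι) : Mono (incl i) :=
  (CategoryTheory.Over.forget U).mono_of_mono_map (mono_incl_left incl hV i)

include hV in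
/-- the sieve on `V.left` generated by the members is covering -/
lemma generate_incl_mem :
    Sieve.generate (Presieve.ofArrows (fun i => (Uf i).left) (fun i => (incl i).left)) ∈
      X.smallEtaleTopology V.left := by
  rw [mem_et_iff]
  intro v
  obtain ⟨i, y, hy⟩ := exists_incl_eq incl hV v
  exact ⟨(Uf i).left, (incl i).left, y,
    ⟨_, 𝟙 _, (incl i).left, Presieve.ofArrows.mk i, Category.id_comp _⟩, hy⟩

end Site

end Groth.Agent.Lib.Helper43.EtCechCoprod
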