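import Mathlib
import Groth.Agent.Lib.Helper43.EtCechCoprod

/-!
# Powers of a disjoint union in `Over U`: the disjoint covering by products of members
-/

universe u
open CategoryTheory CategoryTheory.Limits AlgebraicGeometry Opposite

namespace Groth.Agent.Lib.Helper43.EtCechCoprod

open Groth.Agent.Lib.Helper43.EtSubterm Groth.Agent.Lib.Helper43.EtCoprod

lemma iInf_mem {C : Type*} [Category C] (J : GrothendieckTopology C) {W : C} {β : Type*}
    [Finite β] (S : β → Sieve W) (h : ∀ b, S b ∈ J W) : (⨅ b, S b) ∈ J W := by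
  classical
  haveI := Fintype.ofFinite β
  have h1 : ∀ s : Finset β, s.inf S ∈ J W := by
    intro s
    induction s using Finset.induction_on with
    | empty => rw [Finset.inf_empty]; exact J.top_mem W
    | insert a s _ ih => rw [Finset.inf_insert]; exact J.intersection_covering (h a) ih
  have h2 := h1 Finset.univ
  rwa [Finset.inf_univ_eq_iInf] at h2

lemma iInf_apply {C : Type*} [Category C] {W : C} {β : Type*} (S : β → Sieve W) {Y : C}
    (f : Y ⟶ W) : (⨅ b, S b) f ↔ ∀ b, S b f := by
  rw [iInf, Sieve.sInf_apply]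
  constructor
  · intro h b
    exact h _ ⟨b, rfl⟩
  · rintro h _ ⟨b, rfl⟩
    exact h b

variable {X : Scheme.{u}} {U : X.Etale} {ι : Type (u + 1)} [Finite ι]
  {Uf : ι → Over U} {V : Over U} (incl : ∀ i, Uf i ⟶ V)
  (hV : IsColimit (Cofan.mk V.left.left fun i => (incl i).left.left))
  [HasFiniteProducts (Over U)] (n : ℕ)

/-- the power of `V` -/
noncomputable abbrev Vn (V : Over U) (n : ℕ) : Over U := ∏ᶜ (fun _ : Fin (n + 1) => V)

/-- the product of members -/
noncomputable abbrev Ux (Uf : ι → Over U) {n : ℕ} (x : Fin (n + 1) → ι) : Over U := ∏ᶜ (Uf ∘ x)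

/-- the product of the inclusions -/
noncomputable abbrev jx {n : ℕ} (x : Fin (n + 1) → ι) : Ux Uf x ⟶ Vn V n :=
  Limits.Pi.map (fun a => incl (x a))

include hV in
lemma mono_jx_left (x : Fin (n + 1) → ι) : Mono (jx incl x).left := by
  have : ∀ a, Mono (incl (x a)) := fun a => mono_incl incl hV (x a)
  have : Mono (jx incl x) := inferInstance
  infer_instance

lemma jx_π_left (x : Fin (n + 1) → ι) (c : Fin (n + 1)) :
    (jx incl x).left ≫ (Pi.π (fun _ : Fin (n + 1) => V) c).left =
      (Pi.π (Uf ∘ x) c).left ≫ (incl (x c)).left := by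
  rw [← Over.comp_left, ← Over.comp_left, Limits.Pi.map_π]

include hV in
lemma disj (x y : Fin (n + 1) → ι) (Z : X.Etale) (ga : Z ⟶ (Ux Uf x).left)
    (gb : Z ⟶ (Ux Uf y).left) (h : ga ≫ (jx incl x).left = gb ≫ (jx incl y).left)
    (hZ : Nonempty Z.left) : x = y := by
  funext c
  have h1 : (ga ≫ (Pi.π (Uf ∘ x) c).left) ≫ (incl (x c)).left =
      (gb ≫ (Pi.π (Uf ∘ y) c).left) ≫ (incl (y c)).left := by
    rw [Category.assoc, Category.assoc, ← jx_π_left, ← jx_π_left, reassoc_of% h]
  have h2 := congrArg (fun f => f.left) h1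
  exact eq_of_comm incl hV _ _ h2 hZ

include hV in
lemma cover :
    Sieve.generate (Presieve.ofArrows (fun x : Fin (n + 1) → ι => (Ux Uf x).left)
      (fun x => (jx incl x).left)) ∈ X.smallEtaleTopology (Vn V n).left := by
  let SV := Sieve.generate (Presieve.ofArrows (fun i => (Uf i).left) (fun i => (incl i).left))
  have hSV : SV ∈ X.smallEtaleTopology V.left := generate_incl_mem incl hV
  let T : Sieve (Vn V n).left :=
    ⨅ c : Fin (n + 1), SV.pullback (Pi.π (fun _ : Fin (n + 1) => V) c).left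
  have hT : T ∈ X.smallEtaleTopology (Vn V n).left :=
    iInf_mem _ _ (fun c => (X.smallEtaleTopology).pullback_stable _ hSV)
  refine (X.smallEtaleTopology).superset_covering ?_ hT
  intro Y g hg
  rw [iInf_apply] at hg
  have hg' : ∀ c, ∃ (i : ι) (h : Y ⟶ (Uf i).left),
      h ≫ (incl i).left = g ≫ (Pi.π (fun _ : Fin (n + 1) => V) c).left := by
    intro c
    obtain ⟨Y', h, g', ⟨i⟩, hh⟩ := hg c
    exact ⟨i, h, hh⟩
  choose x h hh using hg'
  let Y' : Over U := Over.mk (g ≫ (Vn V n).hom)
  have hw : ∀ c, h c ≫ (Uf (x c)).hom = g ≫ (Vn V n).hom := by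
    intro c
    rw [← Over.w (incl (x c)), ← Over.w (Pi.π (fun _ : Fin (n + 1) => V) c),
      reassoc_of% (hh c)]
  let h' : ∀ c, Y' ⟶ Uf (x c) := fun c => Over.homMk (h c) (hw c)
  let L : Y' ⟶ Ux Uf x := Pi.lift h'
  let g' : Y' ⟶ Vn V n := Over.homMk g rfl
  have hL : L ≫ jx incl x = g' := by
    apply Limits.Pi.hom_ext
    intro c
    rw [Category.assoc, Limits.Pi.map_π, Limits.Pi.lift_π_assoc]
    apply Over.OverMorphism.ext
    rw [Over.comp_left, Over.comp_left]
    exact hh c
  refine ⟨(Ux Uf x).left, L.left, (jx incl x).left, Presieve.ofArrows.mk x, ?_⟩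
  rw [← Over.comp_left, hL]
  rfl

include hV in
theorem bijective_restrict_power (F : Sheaf X.smallEtaleTopology AddCommGrpCat.{u + 1}) :
    Function.Bijective (fun (s : F.obj.obj (op (Vn V n).left)) (x : Fin (n + 1) → ι) =>
      F.obj.map (jx incl x).left.op s) :=
  bijective_restrict F (Vn V n).left (fun x : Fin (n + 1) → ι => (Ux Uf x).left)
    (fun x => (jx incl x).left) (cover incl hV n) (fun x => mono_jx_left incl hV n x)
    (fun x y Z ga gb h hZ => disj incl hV n x y Z ga gb h hZ)

end Groth.Agent.Lib.Helper43.EtCechCoprod
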