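import Mathlib
import Groth.Statements.S6656
import Groth.Agent.Lib.Helper43.EtCechCoprod2

/-!
# The Čech complex of a finite family and of its disjoint union
-/

universe u
open CategoryTheory CategoryTheory.Limits AlgebraicGeometry Opposite Simplicial

namespace Groth.Agent.Lib.Helper43.EtCechCoprod

variable {X : Scheme.{u}} (F : EtCoh.Ab X) {U : X.Etale} {ι : Type (u + 1)} [Finite ι]
  {Uf : ι → Over U} {V : Over U} (incl : ∀ i, Uf i ⟶ V)
  (hV : IsColimit (Cofan.mk V.left.left fun i => (incl i).left.left))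
  [HasFiniteProducts (Over U)]

/-- the one-member family -/
abbrev V' (V : Over U) : PUnit.{u + 2} → Over U := fun _ => V

/-- the morphism of formal coproducts from the family to the one-member family -/
def φ : FormalCoproduct.mk ι Uf ⟶ FormalCoproduct.mk PUnit.{u + 2} (V' V) :=
  ⟨fun _ => PUnit.unit, incl⟩

/-- the restricted presheaf -/
abbrev Q : (Over U)ᵒᵖ ⥤ AddCommGrpCat.{u + 1} := (Over.forget U).op ⋙ F.obj

/-- the comparison morphism of Čech complexes -/
noncomputable def Φ :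
    EtCech.cechComplex (V' V) F.obj ⟶ EtCech.cechComplex Uf F.obj :=
  (AlgebraicTopology.alternatingCofaceMapComplex AddCommGrpCat.{u + 1}).map
    (Functor.whiskerRight (NatTrans.rightOp (FormalCoproduct.cechFunctor.map (φ incl)))
      ((FormalCoproduct.evalOp.{u + 1} (Over U) AddCommGrpCat.{u + 1}).obj (Q F)))

/-- the index of the one-member family -/
abbrev y₀ (n : ℕ) : Fin (n + 1) → PUnit.{u + 2} := fun _ => PUnit.unit

lemma Φ_f_π (n : ℕ) (x : Fin (n + 1) → ι) :
    (Φ F incl).f n ≫ Pi.π (fun x : Fin (n + 1) → ι => (Q F).obj (op (∏ᶜ (Uf ∘ x)))) x =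
      Pi.π (fun y : Fin (n + 1) → PUnit.{u + 2} => (Q F).obj (op (∏ᶜ (V' V ∘ y)))) (y₀ n) ≫
        F.obj.map (jx incl x).left.op := by
  change Pi.lift _ ≫ _ = _
  exact Limits.Pi.lift_π _ x

lemma Φ_f_π_apply (n : ℕ) (x : Fin (n + 1) → ι)
    (t : ↑((EtCech.cechComplex (V' V) F.obj).X n)) :
    Pi.π (fun x : Fin (n + 1) → ι => (Q F).obj (op (∏ᶜ (Uf ∘ x)))) x ((Φ F incl).f n t) =
      F.obj.map (jx incl x).left.op
        (Pi.π (fun y : Fin (n + 1) → PUnit.{u + 2} => (Q F).obj (op (∏ᶜ (V' V ∘ y)))) (y₀ n) t) :=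
  ConcreteCategory.congr_hom (Φ_f_π F incl n x) t

include hV in
lemma bijective_Φ_f (n : ℕ) : Function.Bijective ((Φ F incl).f n) := by
  have hb := bijective_restrict_power incl hV n F
  constructor
  · intro t t' htt
    have h1 : Pi.π (fun y : Fin (n + 1) → PUnit.{u + 2} => (Q F).obj (op (∏ᶜ (V' V ∘ y))))
        (y₀ n) t = Pi.π (fun y : Fin (n + 1) → PUnit.{u + 2} =>
          (Q F).obj (op (∏ᶜ (V' V ∘ y)))) (y₀ n) t' := by
      apply hb.1
      funext x
      change F.obj.map (jx incl x).left.op _ = F.obj.map (jx incl x).left.op _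
      rw [← Φ_f_π_apply, ← Φ_f_π_apply, htt]
    apply (Concrete.productEquiv (fun y : Fin (n + 1) → PUnit.{u + 2} =>
      (Q F).obj (op (∏ᶜ (V' V ∘ y))))).injective
    funext y
    obtain rfl : y = y₀ n := Subsingleton.elim _ _
    rw [Concrete.productEquiv_apply_apply, Concrete.productEquiv_apply_apply]
    exact h1
  · intro r
    obtain ⟨s, hs⟩ := hb.2 (fun x =>
      Pi.π (fun x : Fin (n + 1) → ι => (Q F).obj (op (∏ᶜ (Uf ∘ x)))) x r)
    let t : ↑((EtCech.cechComplex (V' V) F.obj).X n) :=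
      (Concrete.productEquiv (fun y : Fin (n + 1) → PUnit.{u + 2} =>
        (Q F).obj (op (∏ᶜ (V' V ∘ y))))).symm
        (fun y => (Subsingleton.elim (y₀ n) y) ▸ (s : ↑((Q F).obj (op (∏ᶜ (V' V ∘ y₀ n))))))
    have ht : Pi.π (fun y : Fin (n + 1) → PUnit.{u + 2} => (Q F).obj (op (∏ᶜ (V' V ∘ y))))
        (y₀ n) t = s := by
      rw [Concrete.productEquiv_symm_apply_π]
    refine ⟨t, ?_⟩
    apply (Concrete.productEquiv (fun x : Fin (n + 1) → ι =>
      (Q F).obj (op (∏ᶜ (Uf ∘ x))))).injective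
    funext x
    rw [Concrete.productEquiv_apply_apply, Concrete.productEquiv_apply_apply, Φ_f_π_apply, ht]
    exact congrFun hs x

include hV in
theorem main : Nonempty (EtCech.cechComplex Uf F.obj ≅ EtCech.cechComplex (V' V) F.obj) := by
  have h : ∀ n, IsIso ((Φ F incl).f n) := fun n =>
    (ConcreteCategory.isIso_iff_bijective _).mpr (bijective_Φ_f F incl hV n)
  have : IsIso (Φ F incl) := HomologicalComplex.Hom.isIso_of_components _
  exact ⟨(asIso (Φ F incl)).symm⟩

end Groth.Agent.Lib.Helper43.EtCechCoprod
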