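import Mathlib
import Groth.Statements.S3897
import Groth.Prelude.Def_EtShriek2
import Groth.Agent.Lib.Helper43.EtSubterm

/-!
For a Zariski open `U` of `X`: sheaves of sets on `X_et` over `U~` are sheaves of sets on `U_et`.
-/

universe u
open CategoryTheory CategoryTheory.Limits AlgebraicGeometry Opposite

namespace Groth.Agent.Lib.Helper43.EtOpenEquiv

open Groth.Agent.Lib.Helper43.EtSubterm

variable {X : Scheme.{u}} (U : X.Opens)

/-- composition with the open immersion. -/
noncomputable abbrev L : (U : Scheme.{u}).Etale ⥤ X.Etale := EtShriek.compEtale U.ι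

/-- restriction of sheaves of sets to the open. -/
noncomputable abbrev restrSh : EtDesc.Sh X ⥤ EtDesc.Sh (U : Scheme.{u}) :=
  (L U).sheafPushforwardContinuous (Type (u + 1)) (U : Scheme.{u}).smallEtaleTopology
    X.smallEtaleTopology

noncomputable def compBcAdj : L U ⊣ EtCoh.bc U.ι :=
  MorphismProperty.Over.mapPullbackAdj EtCoh.etaleMP ⊤ U.ι inferInstance trivial

noncomputable def restrPushAdj : restrSh U ⊣ EtDesc.pushSh U.ι :=
  (compBcAdj U).sheafPushforwardContinuous (E := Type (u + 1)) _ _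

noncomputable def pullIsoRestr : EtDesc.pullSh U.ι ≅ restrSh U :=
  Adjunction.leftAdjointUniq (EtDesc.adjSh U.ι) (restrPushAdj U)

/-- the subterminal sheaf attached to the open. -/
noncomputable abbrev Ut : EtDesc.Sh X := EtDesc.repSh (EtDesc.ofOpen U)

/-- the functor of the statement, with restriction in place of pullback. -/
noncomputable abbrev Φ : Over (Ut U) ⥤ EtDesc.Sh (U : Scheme.{u}) :=
  Over.forget (Ut U) ⋙ restrSh U

/-- the étale `U`-scheme attached to an étale `X`-scheme mapping to `U`. -/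
noncomputable def VW {W : X.Etale} (g : W ⟶ EtDesc.ofOpen U) : (U : Scheme.{u}).Etale :=
  MorphismProperty.Over.mk ⊤ (g.left : W.left ⟶ (U : Scheme.{u})) (by
    have e : (g.left : W.left ⟶ (U : Scheme.{u})) ≫ U.ι = W.hom := MorphismProperty.Over.w g
    have hW : EtCoh.etaleMP ((g.left : W.left ⟶ (U : Scheme.{u})) ≫ U.ι) := by
      rw [e]; exact W.prop
    exact EtCoh.etaleMP.of_postcomp (W' := EtCoh.etaleMP) _ U.ι inferInstance hW)

/-- `W` is the image of `VW g`. -/
noncomputable def eW {W : X.Etale} (g : W ⟶ EtDesc.ofOpen U) : (L U).obj (VW U g) ≅ W :=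
  MorphismProperty.Over.isoMk (Iso.refl _)
    ((Category.id_comp W.hom).trans (MorphismProperty.Over.w g).symm)

/-- the lift of the structure morphism. -/
noncomputable def liftOpen (W : X.Etale) (h : Set.range (hm W) ⊆ Set.range U.ι) :
    W.left ⟶ (U : Scheme.{u}) :=
  IsOpenImmersion.lift U.ι (hm W) h

lemma liftOpen_fac (W : X.Etale) (h : Set.range (hm W) ⊆ Set.range U.ι) :
    liftOpen U W h ≫ U.ι = hm W :=
  IsOpenImmersion.lift_fac _ _ _

/-- an étale `X`-scheme with image in `U` maps to `U`. -/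
noncomputable def toOpen (W : X.Etale) (h : Set.range (hm W) ⊆ Set.range U.ι) :
    W ⟶ EtDesc.ofOpen U :=
  MorphismProperty.Over.homMk (liftOpen U W h) (liftOpen_fac U W h) trivial

/-- a section of `U~` over `W` forces `W` to map to `U`. -/
lemma nonempty_hom_of_sec {W : X.Etale} (t : (Ut U).obj.obj (op W)) :
    Nonempty (W ⟶ EtDesc.ofOpen U) := by
  have hmem := Presheaf.imageSieve_mem (EtSubterm.J X)
    (toSheafify (EtSubterm.J X) (P (EtDesc.ofOpen U))) t
  rw [mem_et_iff] at hmem
  refine ⟨toOpen U W ?_⟩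
  rintro _ ⟨x, rfl⟩
  obtain ⟨Y, f, y, ⟨⟨g⟩, _⟩, hy⟩ := hmem x
  have h1 : f.left ≫ hm W = hm Y := MorphismProperty.Over.w f
  have h2 : (g.left : Y.left ⟶ (U : Scheme.{u})) ≫ U.ι = hm Y := MorphismProperty.Over.w g
  refine ⟨(g.left : Y.left ⟶ (U : Scheme.{u})) y, ?_⟩
  have e1 : ((g.left : Y.left ⟶ (U : Scheme.{u})) ≫ U.ι) y = (f.left ≫ hm W) y := by
    rw [h2, h1]
  have e2 : (f.left ≫ hm W) y = (hm W) x := by
    change (hm W) (f.left y) = _
    rw [hy]
  exact e1.trans e2

/-- sheaves over `U~` are supported on étale schemes mapping to `U`. -/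
lemma supp (A : Over (Ut U)) (W : X.Etale) (s : A.left.obj.obj (op W)) :
    Nonempty (W ⟶ EtDesc.ofOpen U) :=
  nonempty_hom_of_sec U (A.hom.hom.app (op W) s)

section Transport

lemma map_comp_apply' (F : X.Etaleᵒᵖ ⥤ Type (u + 1)) {A B C : X.Etale} (f : A ⟶ B) (g : B ⟶ C)
    (s : F.obj (op C)) : F.map (f ≫ g).op s = F.map f.op (F.map g.op s) := by
  rw [op_comp, Functor.map_comp]; rfl

lemma map_id_apply' (F : X.Etaleᵒᵖ ⥤ Type (u + 1)) {A : X.Etale} (s : F.obj (op A)) :
    F.map (𝟙 A).op s = s := by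
  rw [op_id, F.map_id]; rfl

variable {F F' : X.Etaleᵒᵖ ⥤ Type (u + 1)}

lemma transport (c : (L U).op ⋙ F ⟶ (L U).op ⋙ F') {W W₁ : X.Etale}
    {V V₁ : (U : Scheme.{u}).Etale}
    (e : (L U).obj V ≅ W) (e₁ : (L U).obj V₁ ≅ W₁) (h : W₁ ⟶ W) (s : F.obj (op W)) :
    F'.map e₁.inv.op (c.app (op V₁) (F.map e₁.hom.op (F.map h.op s))) =
      F'.map h.op (F'.map e.inv.op (c.app (op V) (F.map e.hom.op s))) := by
  let k : V₁ ⟶ V := (L U).preimage (e₁.hom ≫ h ≫ e.inv)
  have hk : (L U).map k = e₁.hom ≫ h ≫ e.inv := (L U).map_preimage _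
  have h1 : F.map e₁.hom.op (F.map h.op s) = F.map ((L U).map k).op (F.map e.hom.op s) := by
    rw [← map_comp_apply', ← map_comp_apply', hk]
    simp
  have h2 : ∀ y : F.obj (op ((L U).obj V)), c.app (op V₁) (F.map ((L U).map k).op y) =
      F'.map ((L U).map k).op (c.app (op V) y) := fun y => NatTrans.naturality_apply c k.op y
  rw [h1, h2, ← map_comp_apply', ← map_comp_apply', hk]
  simp

end Transport

section Full

variable {U} {A B : Over (Ut U)}

/-- the underlying natural transformation of a morphism between restrictions. -/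
def toNat (c : (Φ U).obj A ⟶ (Φ U).obj B) : (L U).op ⋙ A.left.obj ⟶ (L U).op ⋙ B.left.obj := c.hom

/-- the chosen morphism to `U`. -/
noncomputable def gOf (A : Over (Ut U)) (W : X.Etale) (s : A.left.obj.obj (op W)) :
    W ⟶ EtDesc.ofOpen U := (supp U A W s).some

/-- the extension of a morphism between restrictions, on sections. -/
noncomputable def extApp (c : (Φ U).obj A ⟶ (Φ U).obj B) (W : X.Etale)
    (s : A.left.obj.obj (op W)) : B.left.obj.obj (op W) :=
  B.left.obj.map (eW U (gOf A W s)).inv.op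
    ((toNat c).app (op (VW U (gOf A W s))) (A.left.obj.map (eW U (gOf A W s)).hom.op s))

lemma extApp_eq (c : (Φ U).obj A ⟶ (Φ U).obj B) (W : X.Etale) (s : A.left.obj.obj (op W))
    {V : (U : Scheme.{u}).Etale} (e : (L U).obj V ≅ W) :
    extApp c W s =
      B.left.obj.map e.inv.op ((toNat c).app (op V) (A.left.obj.map e.hom.op s)) := by
  have := transport U (toNat c) e (eW U (gOf A W s)) (𝟙 W) s
  rw [map_id_apply', map_id_apply'] at this
  exact this

lemma extApp_natural (c : (Φ U).obj A ⟶ (Φ U).obj B) {W W₁ : X.Etale} (h : W₁ ⟶ W)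
    (s : A.left.obj.obj (op W)) :
    extApp c W₁ (A.left.obj.map h.op s) = B.left.obj.map h.op (extApp c W s) := by
  rw [extApp_eq c W s (eW U (gOf A W s)),
    extApp_eq c W₁ _ (eW U (gOf A W₁ (A.left.obj.map h.op s)))]
  exact transport U (toNat c) _ _ h s

/-- the extension as a morphism of sheaves. -/
noncomputable def ext (c : (Φ U).obj A ⟶ (Φ U).obj B) : A.left ⟶ B.left :=
  ⟨{ app := fun W => TypeCat.ofHom (extApp c W.unop)
     naturality := by
      intro W W₁ h
      ext s
      exact extApp_natural c h.unop s }⟩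

lemma hom_Ut_ext {F : EtDesc.Sh X} (a b : F ⟶ Ut U) : a = b := by
  have := mono_repSh_ofOpen U
  rw [← cancel_mono (terminal.from (Ut U))]
  exact Subsingleton.elim _ _

/-- the extension as a morphism over `U~`. -/
noncomputable def extOver (c : (Φ U).obj A ⟶ (Φ U).obj B) : A ⟶ B :=
  Over.homMk (ext c) (hom_Ut_ext _ _)

lemma map_extOver (c : (Φ U).obj A ⟶ (Φ U).obj B) : (Φ U).map (extOver c) = c := by
  apply Sheaf.hom_ext
  ext V s
  change extApp c ((L U).obj V.unop) s = c.hom.app V s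
  rw [extApp_eq c _ s (Iso.refl ((L U).obj V.unop))]
  simp only [Iso.refl_inv, Iso.refl_hom]
  rw [map_id_apply', map_id_apply']
  rfl

instance : (Φ U).Full where
  map_surjective c := ⟨extOver c, map_extOver c⟩

instance : (Φ U).Faithful where
  map_injective {A B} a b h := by
    apply Over.OverMorphism.ext
    apply Sheaf.hom_ext
    ext W s
    obtain ⟨g⟩ := supp U A W.unop s
    have hn : ∀ (m : A ⟶ B), m.left.hom.app W s =
        B.left.obj.map (eW U g).inv.op (((Φ U).map m).hom.app (op (VW U g))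
          (A.left.obj.map (eW U g).hom.op s)) := by
      intro m
      change _ = B.left.obj.map (eW U g).inv.op (m.left.hom.app (op ((L U).obj (VW U g)))
          (A.left.obj.map (eW U g).hom.op s))
      rw [NatTrans.naturality_apply, ← map_comp_apply']
      simp only [Iso.inv_hom_id]
      exact (map_id_apply' _ _).symm
    exact (hn a).trans ((by rw [h] : _ = _).trans (hn b).symm)

end Full

section EssSurj

/-- `j_! ⊣ j^*` for sheaves of sets. -/
noncomputable def shriekAdj :
    (L U).sheafPullback (Type (u + 1)) (U : Scheme.{u}).smallEtaleTopology X.smallEtaleTopology ⊣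
      restrSh U :=
  (L U).sheafAdjunctionContinuous (Type (u + 1)) (U : Scheme.{u}).smallEtaleTopology
    X.smallEtaleTopology

instance : (restrSh U).IsRightAdjoint := (shriekAdj U).isRightAdjoint

/-- `L ⋙ bc ≅ 𝟭`. -/
noncomputable def unitIso : L U ⋙ EtCoh.bc U.ι ≅ 𝟭 _ :=
  (asIso (compBcAdj U).unit).symm

/-- `j^* j_* ≅ 𝟭`. -/
noncomputable def restrPushIso : EtDesc.pushSh U.ι ⋙ restrSh U ≅ 𝟭 _ :=
  Functor.sheafPushforwardContinuousComp' (F := L U) (G := EtCoh.bc U.ι) (FG := 𝟭 _) (unitIso U)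
    (Type (u + 1)) (U : Scheme.{u}).smallEtaleTopology X.smallEtaleTopology
    (U : Scheme.{u}).smallEtaleTopology ≪≫ Functor.sheafPushforwardContinuousId _ _

end EssSurj

section EssSurj2

/-- the canonical map from `L V` to `U`. -/
noncomputable def gV (V : (U : Scheme.{u}).Etale) : (L U).obj V ⟶ EtDesc.ofOpen U :=
  MorphismProperty.Over.homMk (V.hom : V.left ⟶ (U : Scheme.{u})) rfl trivial

/-- the map to the restriction of `U~`. -/
noncomputable def toRestrUt (G : EtDesc.Sh (U : Scheme.{u})) : G ⟶ (restrSh U).obj (Ut U) :=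
  ⟨{ app := fun V => TypeCat.ofHom fun _ => sec (gV U V.unop)
     naturality := by
      intro V V' h
      ext s
      exact (subsingleton_of_mono _ (mono_repSh_ofOpen U) _).elim _ _ }⟩

/-- the restriction of `U~` is terminal. -/
noncomputable def isTerminalRestrUt : IsTerminal ((restrSh U).obj (Ut U)) :=
  IsTerminal.ofUniqueHom (fun G => toRestrUt U G) (fun G m => by
    apply Sheaf.hom_ext
    ext V s
    exact (subsingleton_of_mono _ (mono_repSh_ofOpen U) _).elim _ _)

lemma isIso_fst_of_isTerminal {C : Type*} [Category C] {Y T : C} [HasBinaryProduct Y T]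
    (hT : IsTerminal T) : IsIso (prod.fst : Y ⨯ T ⟶ Y) :=
  ⟨⟨prod.lift (𝟙 Y) (hT.from Y), by
    apply Limits.prod.hom_ext
    · rw [Category.assoc, prod.lift_fst, Category.comp_id, Category.id_comp]
    · exact hT.hom_ext _ _, prod.lift_fst _ _⟩⟩

instance : (Φ U).EssSurj where
  mem_essImage G := by
    let P := (EtDesc.pushSh U.ι).obj G
    let A : Over (Ut U) := Over.mk (prod.snd : P ⨯ Ut U ⟶ Ut U)
    refine ⟨A, ⟨?_⟩⟩
    let i1 : (restrSh U).obj (P ⨯ Ut U) ≅ (restrSh U).obj P ⨯ (restrSh U).obj (Ut U) :=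
      PreservesLimitPair.iso (restrSh U) P (Ut U)
    have h2 : IsIso (prod.fst : (restrSh U).obj P ⨯ (restrSh U).obj (Ut U) ⟶ (restrSh U).obj P) :=
      isIso_fst_of_isTerminal (isTerminalRestrUt U)
    let i2 := @asIso _ _ _ _ (prod.fst :
      (restrSh U).obj P ⨯ (restrSh U).obj (Ut U) ⟶ (restrSh U).obj P) h2
    let i3 : (restrSh U).obj P ≅ G := (restrPushIso U).app G
    exact i1 ≪≫ i2 ≪≫ i3

instance : (Φ U).IsEquivalence where

theorem main (X : Scheme.{u}) (U : X.Opens) :
    (Over.forget (EtDesc.repSh (EtDesc.ofOpen U)) ⋙ EtDesc.pullSh U.ι).IsEquivalence :=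
  Functor.isEquivalence_of_iso
    (Functor.isoWhiskerLeft (Over.forget (EtDesc.repSh (EtDesc.ofOpen U))) (pullIsoRestr U)).symm

end EssSurj2

end Groth.Agent.Lib.Helper43.EtOpenEquiv
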