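import Groth.Agent.Lib.Helper43.GerbComp
import Groth.Prelude.Def_AlgSt4

/-!
# The relation on field valued points of a category fibred in groupoids is an equivalence relation
-/

set_option autoImplicit false
universe w v u

open CategoryTheory AlgebraicGeometry TensorProduct

namespace Groth.Agent.Lib.Helper43.FPtRel

open Groth.Agent.Lib.Helper43.GerbComp

/-- a common extension of two field extensions -/
lemma exists_compositum {k K L : Type u} [Field k] [Field K] [Field L] (φ : k →+* K)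
    (ψ : k →+* L) :
    ∃ (M : Type u) (_ : Field M) (ι₁ : K →+* M) (ι₂ : L →+* M), ι₁.comp φ = ι₂.comp ψ := by
  letI := φ.toAlgebra
  letI := ψ.toAlgebra
  haveI : Nontrivial (K ⊗[k] L) :=
    (Algebra.TensorProduct.includeLeft_injective (R := k) (S := k) (A := K) (B := L)
      (algebraMap k L).injective).nontrivial
  obtain ⟨m, hm⟩ := Ideal.exists_maximal (K ⊗[k] L)
  letI := Ideal.Quotient.field m
  refine ⟨(K ⊗[k] L) ⧸ m, inferInstance,
    (Ideal.Quotient.mk m).comp (Algebra.TensorProduct.includeLeft : K →ₐ[k] K ⊗[k] L).toRingHom,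
    (Ideal.Quotient.mk m).comp (Algebra.TensorProduct.includeRight : L →ₐ[k] K ⊗[k] L).toRingHom,
    ?_⟩
  ext a
  simp only [RingHom.comp_apply]
  congr 1
  have h1 : (Algebra.TensorProduct.includeLeft : K →ₐ[k] K ⊗[k] L) (algebraMap k K a) =
      algebraMap k _ a := AlgHom.commutes _ a
  have h2 : (Algebra.TensorProduct.includeRight : L →ₐ[k] K ⊗[k] L) (algebraMap k L a) =
      algebraMap k _ a := AlgHom.commutes _ a
  exact h1.trans h2.symm

variable {S : Scheme.{u}} {𝒳 : BasedCategory.{v, w} (Over S)}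

/-- the morphism of the base under a morphism between field valued points -/
noncomputable def baseHom {r q : AlgSt.FPt 𝒳} (b : r.obj ⟶ q.obj) : Over.mk r.str ⟶ Over.mk q.str :=
  eqToHom r.lies.symm ≫ 𝒳.p.map b ≫ eqToHom q.lies

lemma isHomLift_baseHom {r q : AlgSt.FPt 𝒳} (b : r.obj ⟶ q.obj) :
    𝒳.p.IsHomLift (baseHom b) b :=
  IsHomLift.of_fac 𝒳.p (baseHom b) b r.lies q.lies rfl

theorem rel_trans (h𝒳 : FibCat.IsFibGrpd 𝒳.p) {p q q' : AlgSt.FPt 𝒳} (h1 : AlgSt.FPt.Rel p q)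
    (h2 : AlgSt.FPt.Rel q q') : AlgSt.FPt.Rel p q' := by
  obtain ⟨r, a, b, -⟩ := h1
  obtain ⟨r', a', b', -⟩ := h2
  obtain ⟨φ, hφ⟩ : ∃ φ : CommRingCat.of q.K ⟶ CommRingCat.of r.K,
      Spec.map φ = (baseHom b).left := ⟨Spec.preimage (baseHom b).left, Spec.map_preimage _⟩
  obtain ⟨φ', hφ'⟩ : ∃ φ' : CommRingCat.of q.K ⟶ CommRingCat.of r'.K,
      Spec.map φ' = (baseHom a').left := ⟨Spec.preimage (baseHom a').left, Spec.map_preimage _⟩
  obtain ⟨M, _, ι₁, ι₂, hι⟩ := exists_compositum φ.hom φ'.hom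
  let j₁ : Spec (CommRingCat.of M) ⟶ Spec (CommRingCat.of r.K) := Spec.map (CommRingCat.ofHom ι₁)
  let j₂ : Spec (CommRingCat.of M) ⟶ Spec (CommRingCat.of r'.K) :=
    Spec.map (CommRingCat.ofHom ι₂)
  have hj : j₁ ≫ (baseHom b).left = j₂ ≫ (baseHom a').left := by
    rw [← hφ, ← hφ', ← Spec.map_comp, ← Spec.map_comp]
    congr 1
    ext x
    exact RingHom.congr_fun hι x
  let strM : Spec (CommRingCat.of M) ⟶ S := j₁ ≫ r.str
  have hstr : j₂ ≫ r'.str = strM := by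
    have e1 : (baseHom b).left ≫ q.str = r.str := Over.w (baseHom b)
    have e2 : (baseHom a').left ≫ q.str = r'.str := Over.w (baseHom a')
    show j₂ ≫ r'.str = j₁ ≫ r.str
    rw [← e2, ← e1, ← Category.assoc, ← Category.assoc, hj]
  let g₁ : Over.mk strM ⟶ Over.mk r.str := Over.homMk j₁ rfl
  let g₂ : Over.mk strM ⟶ Over.mk r'.str := Over.homMk j₂ hstr
  obtain ⟨x₁, ψ₁, hψ₁⟩ := exists_lift' 𝒳.p h𝒳 r.lies g₁
  obtain ⟨x₂, ψ₂, hψ₂⟩ := exists_lift' 𝒳.p h𝒳 r'.lies g₂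
  have hg : g₁ ≫ baseHom b = g₂ ≫ baseHom a' := Over.OverMorphism.ext hj
  haveI := isHomLift_baseHom b
  haveI := isHomLift_baseHom a'
  haveI h3 : 𝒳.p.IsHomLift (g₂ ≫ baseHom a') (ψ₂ ≫ a') := inferInstance
  haveI h4 : 𝒳.p.IsHomLift (g₂ ≫ baseHom a') (ψ₁ ≫ b) := by rw [← hg]; infer_instance
  obtain ⟨χ, -, -⟩ := exists_factor_id 𝒳.p h𝒳 (g₂ ≫ baseHom a') (ψ₂ ≫ a') (ψ₁ ≫ b)
  exact ⟨⟨M, strM, x₁, IsHomLift.domain_eq 𝒳.p g₁ ψ₁⟩, ψ₁ ≫ a, χ ≫ ψ₂ ≫ b', trivial⟩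

theorem rel_equivalence (h𝒳 : FibCat.IsFibGrpd 𝒳.p) :
    _root_.Equivalence (@AlgSt.FPt.Rel S 𝒳) where
  refl p := ⟨p, 𝟙 _, 𝟙 _, trivial⟩
  symm := by
    rintro p q ⟨r, a, b, -⟩
    exact ⟨r, b, a, trivial⟩
  trans h1 h2 := rel_trans h𝒳 h1 h2

end Groth.Agent.Lib.Helper43.FPtRel
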