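import Mathlib.RingTheory.PowerSeries.Basic
import Mathlib.RingTheory.PowerSeries.NoZeroDivisors
import Mathlib.RingTheory.Polynomial.Content
import Mathlib.RingTheory.Localization.Integral
import Mathlib.RingTheory.Coprime.Basic
import Mathlib.Algebra.Polynomial.Lifts
import Mathlib.Data.ZMod.Basic
import Mathlib.Algebra.Field.ZMod
import Mathlib.RingTheory.Int.Basic
import Mathlib.RingTheory.UniqueFactorizationDomain.Basic

/-! Fatou's lemma on rational power series with integer coefficients. -/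

set_option autoImplicit false

namespace Groth.Agent.Lib.Helper43.Fatou

open Polynomial

/-- clearing denominators of a rational polynomial -/
lemma exists_int_multiple (p : ℚ[X]) :
    ∃ (d : ℤ) (p₀ : ℤ[X]), d ≠ 0 ∧ p₀.map (Int.castRingHom ℚ) = (d : ℚ) • p := by
  obtain ⟨b, hbM, hb⟩ := IsLocalization.integerNormalization_spec (nonZeroDivisors ℤ) p
  refine ⟨(b : ℤ), IsLocalization.integerNormalization (nonZeroDivisors ℤ) p,
    nonZeroDivisors.ne_zero hbM, ?_⟩
  have : algebraMap ℤ ℚ = Int.castRingHom ℚ := rfl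
  rw [← this, hb]
  ext n
  simp [Polynomial.coeff_smul]

/-- a primitive integral multiple of a rational polynomial with constant term one -/
lemma exists_primitive_multiple (Q : ℚ[X]) (hQ : Q.coeff 0 = 1) :
    ∃ q : ℤ[X], q.IsPrimitive ∧ q.coeff 0 ≠ 0 ∧
      q.map (Int.castRingHom ℚ) = ((q.coeff 0 : ℤ) : ℚ) • Q := by
  obtain ⟨d, p₀, hd, hp₀⟩ := exists_int_multiple Q
  have h1 := p₀.eq_C_content_mul_primPart
  have h0 : ((p₀.coeff 0 : ℤ) : ℚ) = d := by
    have := congrArg (fun r => Polynomial.coeff r 0) hp₀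
    simpa [Polynomial.coeff_smul, hQ] using this
  have hc0 : (p₀.content : ℤ) * p₀.primPart.coeff 0 = d := by
    have h2 := congrArg (fun r => Polynomial.coeff r 0) h1
    simp only [Polynomial.coeff_C_mul] at h2
    have : ((p₀.coeff 0 : ℤ) : ℚ) = (((p₀.content : ℤ) * p₀.primPart.coeff 0 : ℤ) : ℚ) := by
      rw [← h2]
    rw [h0] at this
    exact_mod_cast this.symm
  have hcne : (p₀.content : ℤ) ≠ 0 := by
    intro h; rw [h, zero_mul] at hc0; exact hd hc0.symm
  have hqne : p₀.primPart.coeff 0 ≠ 0 := by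
    intro h; rw [h, mul_zero] at hc0; exact hd hc0.symm
  refine ⟨p₀.primPart, p₀.isPrimitive_primPart, hqne, ?_⟩
  have h3 : (p₀.map (Int.castRingHom ℚ)) =
      Polynomial.C ((p₀.content : ℤ) : ℚ) * p₀.primPart.map (Int.castRingHom ℚ) := by
    conv_lhs => rw [h1]
    simp
  rw [hp₀] at h3
  have hcne' : ((p₀.content : ℤ) : ℚ) ≠ 0 := by exact_mod_cast hcne
  have hd' : (d : ℚ) = ((p₀.content : ℤ) : ℚ) * ((p₀.primPart.coeff 0 : ℤ) : ℚ) := by
    rw [← hc0]; push_cast; ring
  ext n
  have h4 := congrArg (fun r => Polynomial.coeff r n) h3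
  simp only [Polynomial.coeff_smul, Polynomial.coeff_C_mul, smul_eq_mul] at h4 ⊢
  rw [hd'] at h4
  have : ((p₀.content : ℤ) : ℚ) * (((p₀.primPart.coeff 0 : ℤ) : ℚ) * Q.coeff n) =
      ((p₀.content : ℤ) : ℚ) * (p₀.primPart.map (Int.castRingHom ℚ)).coeff n := by
    rw [← h4]; ring
  exact (mul_left_cancel₀ hcne' this).symm

/-- Gauss' lemma for a primitive polynomial times an integral power series. -/
lemma prime_step {p : ℤ} (hp : Prime p) (q : ℤ[X]) (hq : q.IsPrimitive) (g : PowerSeries ℤ) (m : ℤ)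
    (h : (q : PowerSeries ℤ) * g = PowerSeries.C (p * m)) :
    ∃ g' : PowerSeries ℤ, (q : PowerSeries ℤ) * g' = PowerSeries.C m := by
  have hn : (p.natAbs).Prime := Int.prime_iff_natAbs_prime.1 hp
  have : Fact (p.natAbs).Prime := ⟨hn⟩
  let φ : ℤ →+* ZMod p.natAbs := Int.castRingHom _
  have hφp : φ p = 0 := by
    change ((p : ℤ) : ZMod p.natAbs) = 0
    rw [ZMod.intCast_zmod_eq_zero_iff_dvd]
    exact Int.natAbs_dvd.2 dvd_rfl
  have hdvd : ∀ a : ℤ, φ a = 0 → p ∣ a := by
    intro a ha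
    change ((a : ℤ) : ZMod p.natAbs) = 0 at ha
    rw [ZMod.intCast_zmod_eq_zero_iff_dvd] at ha
    exact Int.natAbs_dvd.1 ha
  have h2 : PowerSeries.map φ (q : PowerSeries ℤ) * PowerSeries.map φ g = 0 := by
    rw [← map_mul, h, PowerSeries.map_C, map_mul, hφp, zero_mul, map_zero]
  rcases mul_eq_zero.1 h2 with h3 | h3
  · exfalso
    have : Polynomial.C p ∣ q := by
      rw [Polynomial.C_dvd_iff_dvd_coeff]
      intro i
      apply hdvd
      have := congrArg (PowerSeries.coeff i) h3
      simpa [PowerSeries.coeff_map, Polynomial.coeff_coe] using this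
    exact hp.not_isUnit (hq p this)
  · have hg : ∀ i, p ∣ PowerSeries.coeff i g := by
      intro i
      apply hdvd
      have := congrArg (PowerSeries.coeff i) h3
      simpa [PowerSeries.coeff_map] using this
    refine ⟨PowerSeries.mk (fun i => PowerSeries.coeff i g / p), ?_⟩
    have hg' : g = PowerSeries.C p * PowerSeries.mk (fun i => PowerSeries.coeff i g / p) := by
      ext i
      rw [PowerSeries.coeff_C_mul, PowerSeries.coeff_mk, Int.mul_ediv_cancel' (hg i)]
    have hCp : (PowerSeries.C p : PowerSeries ℤ) ≠ 0 := by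
      intro h0
      have := congrArg (PowerSeries.coeff 0) h0
      simp at this
      exact hp.ne_zero this
    apply mul_left_cancel₀ hCp
    rw [← map_mul, ← h]
    conv_rhs => rw [hg']
    ring

lemma isUnit_coeff_zero (q : ℤ[X]) (hq : q.IsPrimitive) :
    ∀ m : ℤ, m ≠ 0 → (∃ g : PowerSeries ℤ, (q : PowerSeries ℤ) * g = PowerSeries.C m) →
      IsUnit (q.coeff 0) := by
  intro m
  induction m using UniqueFactorizationMonoid.induction_on_prime with
  | h₁ => intro h; exact absurd rfl h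
  | h₂ x hx =>
    rintro - ⟨g, hg⟩
    have := congrArg (PowerSeries.coeff 0) hg
    simp only [PowerSeries.coeff_zero_C] at this
    rw [PowerSeries.coeff_zero_eq_constantCoeff_apply, map_mul,
      ← PowerSeries.coeff_zero_eq_constantCoeff_apply, Polynomial.coeff_coe] at this
    exact isUnit_of_mul_isUnit_left (this ▸ hx)
  | h₃ a p ha hp ih =>
    rintro - ⟨g, hg⟩
    exact ih ha (prime_step hp q hq g a hg)

theorem fatou (P Q : Polynomial ℚ)
    (hPQ : IsCoprime P Q) (hP : P.coeff 0 = 1) (hQ : Q.coeff 0 = 1) (Z : PowerSeries ℤ)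
    (hZ : (P : PowerSeries ℚ) = (Q : PowerSeries ℚ) * PowerSeries.map (Int.castRingHom ℚ) Z) :
    (∃ P₀ : Polynomial ℤ, P₀.map (Int.castRingHom ℚ) = P) ∧
      ∃ Q₀ : Polynomial ℤ, Q₀.map (Int.castRingHom ℚ) = Q := by
  obtain ⟨q, hqprim, hq0, hqmap⟩ := exists_primitive_multiple Q hQ
  set N : ℤ := q.coeff 0 with hN
  have hNQ : (N : ℚ) ≠ 0 := by exact_mod_cast hq0
  have hinj : Function.Injective (PowerSeries.map (Int.castRingHom ℚ)) :=
    PowerSeries.map_injective _ (RingHom.injective_int _)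
  have hpinj : Function.Injective (Polynomial.map (Int.castRingHom ℚ)) :=
    Polynomial.map_injective _ (RingHom.injective_int _)
  -- N • P is the image of the integral power series q * Z
  have hNP : ((N : ℚ) • P : ℚ[X]) = ((N : ℚ) • P : ℚ[X]) := rfl
  have hcoe : ∀ n, ((N : ℚ) • P).coeff n = ((PowerSeries.coeff n ((q : PowerSeries ℤ) * Z) : ℤ) : ℚ) := by
    intro n
    have h1 : (((N : ℚ) • P : ℚ[X]) : PowerSeries ℚ) =
        PowerSeries.map (Int.castRingHom ℚ) ((q : PowerSeries ℤ) * Z) := by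
      rw [map_mul]
      have h2 : PowerSeries.map (Int.castRingHom ℚ) (q : PowerSeries ℤ) =
          ((q.map (Int.castRingHom ℚ) : ℚ[X]) : PowerSeries ℚ) := by
        ext i; simp [PowerSeries.coeff_map, Polynomial.coeff_coe]
      rw [h2, hqmap]
      have h3 : ∀ R : ℚ[X], (((N : ℚ) • R : ℚ[X]) : PowerSeries ℚ) = PowerSeries.C (N : ℚ) * (R : PowerSeries ℚ) := by
        intro R; rw [Polynomial.smul_eq_C_mul, Polynomial.coe_mul, Polynomial.coe_C]
      rw [h3, h3, hZ, mul_assoc]
    have := congrArg (PowerSeries.coeff n) h1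
    rw [Polynomial.coeff_coe, PowerSeries.coeff_map] at this
    simpa using this
  have hlift : ((N : ℚ) • P) ∈ Polynomial.lifts (Int.castRingHom ℚ) := by
    rw [Polynomial.lifts_iff_coeff_lifts]
    intro n
    exact ⟨_, (hcoe n).symm⟩
  obtain ⟨p₁, hp₁⟩ := hlift
  have hp₁' : p₁.map (Int.castRingHom ℚ) = (N : ℚ) • P := hp₁
  have hp₁Z : (p₁ : PowerSeries ℤ) = (q : PowerSeries ℤ) * Z := by
    ext n
    have h1 := congrArg (fun r => Polynomial.coeff r n) hp₁'
    simp only [Polynomial.coeff_map] at h1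
    rw [hcoe n] at h1
    have e : ∀ z : ℤ, (Int.castRingHom ℚ) z = (z : ℚ) := fun z => rfl
    rw [e] at h1
    rw [Polynomial.coeff_coe]
    exact_mod_cast h1
  -- Bezout
  obtain ⟨a, b, hab⟩ := hPQ
  obtain ⟨da, ua, hda, hua⟩ := exists_int_multiple a
  obtain ⟨db, ub, hdb, hub⟩ := exists_int_multiple b
  have hbez : (Polynomial.C db * ua) * p₁ + (Polynomial.C da * ub) * q =
      Polynomial.C (da * db * N) := by
    apply hpinj
    have e : ∀ z : ℤ, (Int.castRingHom ℚ) z = (z : ℚ) := fun z => rfl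
    simp only [Polynomial.map_add, Polynomial.map_mul, Polynomial.map_C]
    simp only [hua, hub, hp₁', hqmap, e, Int.cast_mul]
    have : ((da : ℚ) • a) * ((N : ℚ) • P) * Polynomial.C (db : ℚ) +
        ((db : ℚ) • b) * ((N : ℚ) • Q) * Polynomial.C (da : ℚ) =
        Polynomial.C ((da : ℚ) * db * N) * (a * P + b * Q) := by
      simp only [Polynomial.smul_eq_C_mul, map_mul]; ring
    rw [hab, mul_one] at this
    rw [← this]; ring
  have hunit : IsUnit N := by
    refine isUnit_coeff_zero q hqprim (da * db * N) (mul_ne_zero (mul_ne_zero hda hdb) hq0)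
      ⟨((Polynomial.C db * ua : ℤ[X]) : PowerSeries ℤ) * Z + ((Polynomial.C da * ub : ℤ[X]) : PowerSeries ℤ), ?_⟩
    have := congrArg (fun r : ℤ[X] => (r : PowerSeries ℤ)) hbez
    simp only [Polynomial.coe_add, Polynomial.coe_mul, Polynomial.coe_C] at this ⊢
    rw [← this, hp₁Z]; ring
  have hNN : (N : ℚ) * (N : ℚ) = 1 := by
    rcases Int.isUnit_iff.1 hunit with h | h <;> rw [h] <;> norm_num
  have hQ' : (Polynomial.C N * q).map (Int.castRingHom ℚ) = Q := by
    rw [Polynomial.map_mul, hqmap, Polynomial.map_C, Polynomial.smul_eq_C_mul, ← mul_assoc, ← map_mul]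
    simp only [eq_intCast]
    rw [hNN, map_one, one_mul]
  have hP' : (Polynomial.C N * p₁).map (Int.castRingHom ℚ) = P := by
    rw [Polynomial.map_mul, hp₁', Polynomial.map_C, Polynomial.smul_eq_C_mul, ← mul_assoc, ← map_mul]
    simp only [eq_intCast]
    rw [hNN, map_one, one_mul]
  exact ⟨⟨_, hP'⟩, ⟨_, hQ'⟩⟩

end Groth.Agent.Lib.Helper43.Fatou
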