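import Groth.Agent.Lib.Helper43.Conn1

/-!
# Comma categories of a fibration are 1-connected when its fibres are

For a fibred category `f : C ⥤ D`, the inclusion of the fibre `f⁻¹(Y)` into the comma category
`(Y/f)` has a (weak) right adjoint given by pullback; hence `Conn1` transfers from the fibres to
the comma categories.
-/

set_option autoImplicit false
open CategoryTheory Functor

namespace Groth.Agent.Lib.Helper43.FibConn

open Groth.Agent.Lib.Helper43.Conn1

universe a b v₁ v₂ u₁ u₂

variable {C : Type u₁} [Category.{v₁} C] {D : Type u₂} [Category.{v₂} D]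
  (f : C ⥤ D) (Y : D)

lemma fib_over (X : f.Fiber Y) : f.obj (Fiber.fiberInclusion.obj X) = Y := X.2

lemma fib_w {X X' : f.Fiber Y} (g : X ⟶ X') :
    eqToHom (fib_over f Y X).symm ≫ f.map (Fiber.fiberInclusion.map g) =
      eqToHom (fib_over f Y X').symm := by
  have h : f.IsHomLift (𝟙 Y) (Fiber.fiberInclusion.map g) := inferInstance
  have h' := @IsHomLift.fac' _ _ _ _ f _ _ _ _ _ _ h
  rw [h']
  simp

/-- inclusion of the fibre into the comma category -/
def L : f.Fiber Y ⥤ StructuredArrow Y f where
  obj X := StructuredArrow.mk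
    (eqToHom (fib_over f Y X).symm : Y ⟶ f.obj (Fiber.fiberInclusion.obj X))
  map {X X'} g := StructuredArrow.homMk (Fiber.fiberInclusion.map g) (fib_w f Y g)
  map_id X := by ext; rfl
  map_comp g g' := by ext; rfl

variable [f.IsFibered]

/-- pullback to the fibre -/
noncomputable def r (i : StructuredArrow Y f) : f.Fiber Y :=
  ⟨IsPreFibered.pullbackObj (p := f) (rfl : f.obj i.right = f.obj i.right) i.hom,
    IsPreFibered.pullbackObj_proj (p := f) rfl i.hom⟩

/-- the cartesian arrow, clean type -/
noncomputable def cart (i : StructuredArrow Y f) :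
    Fiber.fiberInclusion.obj (r f Y i) ⟶ i.right :=
  IsPreFibered.pullbackMap (p := f) (rfl : f.obj i.right = f.obj i.right) i.hom

instance cart_isCartesian (i : StructuredArrow Y f) : f.IsCartesian i.hom (cart f Y i) :=
  IsPreFibered.pullbackMap.IsCartesian (p := f) rfl i.hom

lemma cart_w (i : StructuredArrow Y f) :
    eqToHom (fib_over f Y (r f Y i)).symm ≫ f.map (cart f Y i) = i.hom := by
  have h : f.IsHomLift i.hom (cart f Y i) := inferInstance
  have h' := @IsHomLift.fac' _ _ _ _ f _ _ _ _ _ _ h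
  rw [h']
  simp

/-- the counit -/
noncomputable def ε (i : StructuredArrow Y f) : (L f Y).obj (r f Y i) ⟶ i :=
  StructuredArrow.homMk (cart f Y i) (cart_w f Y i)

lemma lift_cart_comp {i j : StructuredArrow Y f} (m : i ⟶ j) :
    f.IsHomLift j.hom (cart f Y i ≫ m.right) := by
  haveI : f.IsHomLift i.hom (cart f Y i) := inferInstance
  haveI : f.IsHomLift (f.map m.right) m.right := inferInstance
  have h : f.IsHomLift (i.hom ≫ f.map m.right) (cart f Y i ≫ m.right) := inferInstance
  rwa [StructuredArrow.w m] at h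

lemma hε {i j : StructuredArrow Y f} (m : i ⟶ j) :
    ∃ m' : r f Y i ⟶ r f Y j, ε f Y i ≫ m = (L f Y).map m' ≫ ε f Y j := by
  have h1 := lift_cart_comp f Y m
  obtain ⟨χ, ⟨hχ, hfac⟩, -⟩ :=
    @IsCartesian.universal_property _ _ _ _ f _ _ _ _ j.hom (cart f Y j)
      (cart_isCartesian f Y j) _ (cart f Y i ≫ m.right) h1
  refine ⟨⟨χ, hχ⟩, ?_⟩
  ext
  show cart f Y i ≫ m.right = χ ≫ cart f Y j
  exact hfac.symm

theorem conn1_structuredArrow (h : Conn1.{a, b} (f.Fiber Y)) :
    Conn1.{a, b} (StructuredArrow Y f) :=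
  conn1_transfer (L f Y) (r f Y) (ε f Y) (fun m => hε f Y m) h

end Groth.Agent.Lib.Helper43.FibConn
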