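import Groth.Agent.Lib.Helper43.FibGrpdTop
import Mathlib.CategoryTheory.Sites.CoverPreserving
import Mathlib.CategoryTheory.Sites.CoverLifting

/-!
# Functors over the base between categories fibred in groupoids, and the inherited topologies
-/

set_option autoImplicit false
universe w v₃ u₃ v₂ u₂ v u

open CategoryTheory Functor

namespace Groth.Agent.Lib.Helper43.FibGrpdFun

open Groth.Agent.Lib.Helper43.FibGrpdTop

variable {C : Type u} [Category.{v} C] {𝒳 : Type u₂} [Category.{v₂} 𝒳] {𝒴 : Type u₃}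
  [Category.{v₃} 𝒴] (F : 𝒳 ⥤ 𝒴) (P : 𝒴 ⥤ C)

lemma comp_lift {R S : C} {a b : 𝒳} {f : R ⟶ S} {ψ : a ⟶ b} (h : (F ⋙ P).IsHomLift f ψ) :
    P.IsHomLift f (F.map ψ) := by
  obtain ⟨⟩ := h
  exact CategoryTheory.IsHomLift.map P (F.map ψ)

lemma sc_of_lift (hP : FibCat.IsFibGrpd P) {R S : C} {a b : 𝒴} (f : R ⟶ S) (χ : a ⟶ b)
    [h : P.IsHomLift f χ] : P.IsStronglyCartesian f χ := by
  obtain ⟨⟩ := h
  exact hP.isStronglyCartesian χ

variable (J : GrothendieckTopology C) (hq : FibCat.IsFibGrpd (F ⋙ P)) (hP : FibCat.IsFibGrpd P)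

include hq hP in
theorem coverPreserving :
    CoverPreserving ((F ⋙ P).restrictedTopology J) (P.restrictedTopology J) F where
  cover_preserve {U S} hS := by
    rw [mem_restrictedTopology_iff _ hq] at hS
    rw [mem_restrictedTopology_iff _ hP, ← Sieve.functorPushforward_comp]
    exact hS

include hq hP in
theorem isCocontinuous :
    F.IsCocontinuous ((F ⋙ P).restrictedTopology J) (P.restrictedTopology J) where
  cover_lift {U S} hS := by
    rw [mem_restrictedTopology_iff _ hP] at hS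
    rw [mem_restrictedTopology_iff _ hq]
    refine J.superset_covering ?_ hS
    rintro V g ⟨z, r, h, hr, rfl⟩
    obtain ⟨w, t, ht⟩ := hq.exists_lift (h ≫ P.map r)
    have hw : (F ⋙ P).obj w = V := IsHomLift.domain_eq (F ⋙ P) (h ≫ P.map r) t
    subst hw
    have hg : h ≫ P.map r = (F ⋙ P).map t := IsHomLift.eq_of_isHomLift (F ⋙ P) _ t
    haveI := hP.isStronglyCartesian r
    haveI : P.IsHomLift (h ≫ P.map r) (F.map t) := by
      rw [hg]; exact CategoryTheory.IsHomLift.map P (F.map t)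
    obtain ⟨χ, ⟨hχ1, hχ2⟩, -⟩ :=
      IsStronglyCartesian.universal_property' (p := P) (f := P.map r) (φ := r) h (F.map t)
    refine ⟨w, t, 𝟙 _, ?_, ?_⟩
    · change S (F.map t)
      rw [← hχ2]
      exact S.downward_closed hr χ
    · rw [Category.id_comp, hg]

include hq hP in
theorem compatiblePreserving : CompatiblePreserving.{w} (P.restrictedTopology J) F where
  compatible ℱ {Z T x} hx {Y₁ Y₂ X} f₁ f₂ {g₁ g₂} hg₁ hg₂ eq := by
    -- φ : X ⟶ F Z
    let φ : X ⟶ F.obj Z := f₁ ≫ F.map g₁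
    obtain ⟨W, ψ, hψ⟩ := hq.exists_lift (P.map φ)
    haveI : (F ⋙ P).IsHomLift (P.map φ) ψ := hψ
    haveI : P.IsHomLift (P.map φ) (F.map ψ) := comp_lift F P hψ
    haveI : P.IsStronglyCartesian (P.map φ) (F.map ψ) := sc_of_lift P hP _ _
    let θ : X ⟶ F.obj W :=
      IsStronglyCartesian.map P (P.map φ) (F.map ψ) (Category.id_comp _).symm φ
    have hθ : θ ≫ F.map ψ = φ := IsStronglyCartesian.fac P _ _ _ φ
    haveI : (F ⋙ P).IsStronglyCartesian ((F ⋙ P).map g₁) g₁ := hq.isStronglyCartesian g₁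
    haveI : (F ⋙ P).IsStronglyCartesian ((F ⋙ P).map g₂) g₂ := hq.isStronglyCartesian g₂
    have e1 : P.map φ = P.map f₁ ≫ (F ⋙ P).map g₁ := P.map_comp _ _
    have e2 : P.map φ = P.map f₂ ≫ (F ⋙ P).map g₂ := by
      change P.map (f₁ ≫ F.map g₁) = _
      rw [eq]; exact P.map_comp _ _
    let u₁ : W ⟶ Y₁ := IsStronglyCartesian.map (F ⋙ P) ((F ⋙ P).map g₁) g₁ e1 ψ
    let u₂ : W ⟶ Y₂ := IsStronglyCartesian.map (F ⋙ P) ((F ⋙ P).map g₂) g₂ e2 ψ
    have hu₁ : u₁ ≫ g₁ = ψ := IsStronglyCartesian.fac (F ⋙ P) _ _ e1 ψ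
    have hu₂ : u₂ ≫ g₂ = ψ := IsStronglyCartesian.fac (F ⋙ P) _ _ e2 ψ
    haveI : P.IsHomLift (P.map f₁) (F.map u₁) :=
      comp_lift F P (IsStronglyCartesian.map_isHomLift (F ⋙ P) _ _ e1 ψ)
    haveI : P.IsHomLift (P.map f₂) (F.map u₂) :=
      comp_lift F P (IsStronglyCartesian.map_isHomLift (F ⋙ P) _ _ e2 ψ)
    haveI hθl : P.IsHomLift (𝟙 (P.obj X)) θ :=
      IsStronglyCartesian.map_isHomLift P _ _ (Category.id_comp _).symm φ
    haveI : P.IsStronglyCartesian (P.map (F.map g₁)) (F.map g₁) := hP.isStronglyCartesian _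
    haveI : P.IsStronglyCartesian (P.map (F.map g₂)) (F.map g₂) := hP.isStronglyCartesian _
    have k1 : f₁ = θ ≫ F.map u₁ := by
      haveI : P.IsHomLift (P.map f₁) (θ ≫ F.map u₁) := by
        have : P.IsHomLift (𝟙 (P.obj X) ≫ P.map f₁) (θ ≫ F.map u₁) := inferInstance
        rwa [Category.id_comp] at this
      apply IsStronglyCartesian.ext P (P.map (F.map g₁)) (F.map g₁) (P.map f₁)
      rw [Category.assoc, ← F.map_comp, hu₁, hθ]
    have k2 : f₂ = θ ≫ F.map u₂ := by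
      haveI : P.IsHomLift (P.map f₂) (θ ≫ F.map u₂) := by
        have : P.IsHomLift (𝟙 (P.obj X) ≫ P.map f₂) (θ ≫ F.map u₂) := inferInstance
        rwa [Category.id_comp] at this
      apply IsStronglyCartesian.ext P (P.map (F.map g₂)) (F.map g₂) (P.map f₂)
      rw [Category.assoc, ← F.map_comp, hu₂, hθ, ← eq]
    have hc := hx u₁ u₂ hg₁ hg₂ (hu₁.trans hu₂.symm)
    rw [k1, k2, op_comp, op_comp, ℱ.obj.map_comp, ℱ.obj.map_comp]
    exact congrArg (ℱ.obj.map θ.op) hc

include hq hP in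
theorem isContinuous :
    Functor.IsContinuous F ((F ⋙ P).restrictedTopology J) (P.restrictedTopology J) :=
  Functor.isContinuous_of_coverPreserving (compatiblePreserving F P J hq hP)
    (coverPreserving F P J hq hP)

end Groth.Agent.Lib.Helper43.FibGrpdFun
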