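import Groth.Prelude.Def_FibCat2
import Mathlib.CategoryTheory.Sites.InducedTopology

/-!
# The inherited topology on a category fibred in groupoids
-/

set_option autoImplicit false
universe v₂ u₂ v u

open CategoryTheory Functor

namespace Groth.Agent.Lib.Helper43.FibGrpdTop

variable {C : Type u} [Category.{v} C] {𝒳 : Type u₂} [Category.{v₂} 𝒳] (p : 𝒳 ⥤ C)
  (hp : FibCat.IsFibGrpd p) (J : GrothendieckTopology C)

include hp in
lemma pullback_le {x y : 𝒳} (S : Sieve x) (f : y ⟶ x) :
    (S.functorPushforward p).pullback (p.map f) ≤ (S.pullback f).functorPushforward p := by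
  intro V g hg
  obtain ⟨z, s, h, hs, e⟩ := hg
  obtain ⟨w, t, ht⟩ := hp.exists_lift g
  have hw : p.obj w = V := IsHomLift.domain_eq p g t
  subst hw
  have hg : g = p.map t := IsHomLift.eq_of_isHomLift p g t
  subst hg
  haveI := hp.isStronglyCartesian s
  haveI : p.IsHomLift (h ≫ p.map s) (t ≫ f) := by
    rw [← e, ← p.map_comp]; infer_instance
  obtain ⟨χ, ⟨hχ1, hχ2⟩, -⟩ :=
    IsStronglyCartesian.universal_property' (p := p) (f := p.map s) (φ := s) h (t ≫ f)
  refine ⟨w, t, 𝟙 _, ?_, by simp⟩
  change S (t ≫ f)
  rw [← hχ2]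
  exact S.downward_closed hs χ

/-- the sieves whose image covers form a topology -/
def pushTopology : GrothendieckTopology 𝒳 where
  sieves x := {S | S.functorPushforward p ∈ J (p.obj x)}
  top_mem' x := by
    change (⊤ : Sieve x).functorPushforward p ∈ J (p.obj x)
    rw [Sieve.functorPushforward_top]
    exact J.top_mem _
  pullback_stable' x y S f hS := by
    exact J.superset_covering (pullback_le p hp S f) (J.pullback_stable (p.map f) hS)
  transitive' x S hS R hR := by
    refine J.transitive hS _ ?_
    rintro V g ⟨z, s, h, hs, rfl⟩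
    have h1 : (R.pullback s).functorPushforward p ∈ J (p.obj z) := hR hs
    refine J.superset_covering ?_ (J.pullback_stable h h1)
    rintro W k ⟨w, t, m, ht, e⟩
    refine ⟨w, t ≫ s, m, ht, ?_⟩
    rw [p.map_comp, ← Category.assoc m, ← e, Category.assoc]

lemma mem_pushTopology_iff {x : 𝒳} (S : Sieve x) :
    S ∈ pushTopology p hp J x ↔ S.functorPushforward p ∈ J (p.obj x) := Iff.rfl

lemma restrictedTopology_eq : p.restrictedTopology J = pushTopology p hp J := by
  apply le_antisymm
  · rw [Functor.restrictedTopology, Precoverage.toGrothendieck_le_iff_le_toPrecoverage]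
    intro x R hR
    rw [GrothendieckTopology.mem_toPrecoverage_iff, mem_pushTopology_iff,
      ← Sieve.generate_map_eq_functorPushforward]
    exact hR
  · intro x S hS
    exact Functor.mem_restrictedTopology_of_functorPushforward_mem hS

include hp in
theorem mem_restrictedTopology_iff {x : 𝒳} (S : Sieve x) :
    S ∈ p.restrictedTopology J x ↔ S.functorPushforward p ∈ J (p.obj x) := by
  rw [restrictedTopology_eq p hp J]
  rfl

end Groth.Agent.Lib.Helper43.FibGrpdTop
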