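import Mathlib.CategoryTheory.FiberedCategory.Fibered
import Mathlib.CategoryTheory.FiberedCategory.Cocartesian

/-!
# Cartesian arrows of `p.op` are cocartesian arrows of `p`; fibred + co-prefibred ⇒ cofibred
-/

set_option autoImplicit false
universe v v₂ u u₂

open CategoryTheory Functor Category Opposite

namespace Groth.Agent.Lib.Helper43.FibOp

variable {C : Type u} [Category.{v} C] {𝒳 : Type u₂} [Category.{v₂} 𝒳] (p : 𝒳 ⥤ C)

lemma homLift_op {R S : C} {a b : 𝒳} {f : R ⟶ S} {φ : a ⟶ b} (h : p.IsHomLift f φ) :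
    p.op.IsHomLift f.op φ.op := by
  obtain ⟨⟩ := h
  exact CategoryTheory.IsHomLift.map p.op φ.op

lemma homLift_unop {R S : Cᵒᵖ} {a b : 𝒳ᵒᵖ} {f : R ⟶ S} {φ : a ⟶ b} (h : p.op.IsHomLift f φ) :
    p.IsHomLift f.unop φ.unop := by
  obtain ⟨⟩ := h
  exact CategoryTheory.IsHomLift.map p φ.unop

lemma isCartesian_op_iff {R S : C} {a b : 𝒳} (f : R ⟶ S) (φ : a ⟶ b) :
    p.op.IsCartesian f.op φ.op ↔ p.IsCocartesian f φ := by
  constructor
  · intro h
    haveI : p.IsHomLift f φ := homLift_unop p (f := f.op) (φ := φ.op) inferInstance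
    refine ⟨?_⟩
    intro b' φ' hφ'
    haveI : p.op.IsHomLift f.op φ'.op := homLift_op p hφ'
    obtain ⟨χ, ⟨hχ1, hχ2⟩, hχu⟩ := h.universal_property φ'.op
    refine ⟨χ.unop, ⟨homLift_unop p hχ1, ?_⟩, ?_⟩
    · exact congrArg Quiver.Hom.unop hχ2
    · rintro χ₂ ⟨h1, h2⟩
      have := hχu χ₂.op ⟨homLift_op p h1, congrArg Quiver.Hom.op h2⟩
      exact congrArg Quiver.Hom.unop this
  · intro h
    haveI : p.op.IsHomLift f.op φ.op := homLift_op p inferInstance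
    refine ⟨?_⟩
    intro a' φ' hφ'
    haveI : p.IsHomLift f φ'.unop := homLift_unop p hφ'
    obtain ⟨χ, ⟨hχ1, hχ2⟩, hχu⟩ := h.universal_property φ'.unop
    refine ⟨χ.op, ⟨homLift_op p hχ1, ?_⟩, ?_⟩
    · exact congrArg Quiver.Hom.op hχ2
    · rintro χ₂ ⟨h1, h2⟩
      have := hχu χ₂.unop ⟨homLift_unop p h1, congrArg Quiver.Hom.unop h2⟩
      exact congrArg Quiver.Hom.op this

lemma isCocartesian_op_iff {R S : C} {a b : 𝒳} (f : R ⟶ S) (φ : a ⟶ b) :
    p.op.IsCocartesian f.op φ.op ↔ p.IsCartesian f φ := by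
  constructor
  · intro h
    haveI : p.IsHomLift f φ := homLift_unop p (f := f.op) (φ := φ.op) inferInstance
    refine ⟨?_⟩
    intro a' φ' hφ'
    haveI : p.op.IsHomLift f.op φ'.op := homLift_op p hφ'
    obtain ⟨χ, ⟨hχ1, hχ2⟩, hχu⟩ := h.universal_property φ'.op
    refine ⟨χ.unop, ⟨homLift_unop p hχ1, ?_⟩, ?_⟩
    · exact congrArg Quiver.Hom.unop hχ2
    · rintro χ₂ ⟨h1, h2⟩
      have := hχu χ₂.op ⟨homLift_op p h1, congrArg Quiver.Hom.op h2⟩
      exact congrArg Quiver.Hom.unop this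
  · intro h
    haveI : p.op.IsHomLift f.op φ.op := homLift_op p inferInstance
    refine ⟨?_⟩
    intro b' φ' hφ'
    haveI : p.IsHomLift f φ'.unop := homLift_unop p hφ'
    obtain ⟨χ, ⟨hχ1, hχ2⟩, hχu⟩ := h.universal_property φ'.unop
    refine ⟨χ.op, ⟨homLift_op p hχ1, ?_⟩, ?_⟩
    · exact congrArg Quiver.Hom.op hχ2
    · rintro χ₂ ⟨h1, h2⟩
      have := hχu χ₂.unop ⟨homLift_unop p h1, congrArg Quiver.Hom.unop h2⟩
      exact congrArg Quiver.Hom.op this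

/-- In a fibred category, cocartesian arrows compose. -/
lemma isCocartesian_comp [p.IsFibered] {R S T : C} {a b c : 𝒳} (f : R ⟶ S) (g : S ⟶ T)
    (φ : a ⟶ b) (ψ : b ⟶ c) [p.IsCocartesian f φ] [p.IsCocartesian g ψ] :
    p.IsCocartesian (f ≫ g) (φ ≫ ψ) := by
  refine ⟨?_⟩
  intro c' χ hχ
  have hc' : p.obj c' = T := IsHomLift.codomain_eq p (f ≫ g) χ
  let γ := IsPreFibered.pullbackMap (p := p) hc' g
  let χ' := IsStronglyCartesian.map p g γ (rfl : f ≫ g = f ≫ g) χ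
  have hχ' : χ' ≫ γ = χ := IsStronglyCartesian.fac p g γ rfl χ
  let θ' := IsCocartesian.map p f φ χ'
  have hθ' : φ ≫ θ' = χ' := IsCocartesian.fac p f φ χ'
  let θ := IsCocartesian.map p g ψ (θ' ≫ γ)
  have hθ : ψ ≫ θ = θ' ≫ γ := IsCocartesian.fac p g ψ (θ' ≫ γ)
  refine ⟨θ, ⟨inferInstance, ?_⟩, ?_⟩
  · rw [assoc, hθ, ← assoc, hθ', hχ']
  · rintro θ₂ ⟨h1, h2⟩
    -- ψ ≫ θ₂ factors through γ
    let η := IsStronglyCartesian.map p g γ (show (𝟙 S) ≫ g = 𝟙 S ≫ g from rfl) (ψ ≫ θ₂)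
    have hη : η ≫ γ = ψ ≫ θ₂ := IsStronglyCartesian.fac p g γ rfl (ψ ≫ θ₂)
    have e1 : φ ≫ η = χ' := by
      apply IsStronglyCartesian.map_uniq p g γ rfl χ
      rw [assoc, hη, ← assoc, h2]
    have e2 : η = θ' := IsCocartesian.map_uniq p f φ χ' η e1
    apply IsCocartesian.map_uniq p g ψ (θ' ≫ γ)
    rw [← hη, e2]

theorem op_isFibered_of_isFibered [p.IsFibered] [p.op.IsPreFibered] : p.op.IsFibered where
  comp {R S T} f g {a b c} φ ψ hφ hψ := by
    haveI h1 : p.IsCocartesian f.unop φ.unop := (isCartesian_op_iff p f.unop φ.unop).mp hφ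
    haveI h2 : p.IsCocartesian g.unop ψ.unop := (isCartesian_op_iff p g.unop ψ.unop).mp hψ
    have := isCocartesian_comp p g.unop f.unop ψ.unop φ.unop
    exact (isCartesian_op_iff p (g.unop ≫ f.unop) (ψ.unop ≫ φ.unop)).mpr this

theorem isFibered_of_op_isFibered [p.op.IsFibered] [p.IsPreFibered] : p.IsFibered where
  comp {R S T} f g {a b c} φ ψ hφ hψ := by
    haveI h1 : p.op.IsCocartesian f.op φ.op := (isCocartesian_op_iff p f φ).mpr hφ
    haveI h2 : p.op.IsCocartesian g.op ψ.op := (isCocartesian_op_iff p g ψ).mpr hψ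
    have := isCocartesian_comp p.op g.op f.op ψ.op φ.op
    exact (isCocartesian_op_iff p (f ≫ g) (φ ≫ ψ)).mp this

end Groth.Agent.Lib.Helper43.FibOp
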