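import Groth.Agent.Lib.Helper43.SecRestr2
import Groth.Agent.Lib.Helper43.FibGrpdComp

/-!
# Sections of a tower `E ⥤ B ⥤ C` of categories fibred in groupoids

For `q : E ⥤ B`, `p : B ⥤ C` fibred in groupoids, `k : A ⥤ C` and `ι : A' ⥤ A`, we compare the
restriction functors along `ι` on
* `Tot`: sections of `E` over `C` along `k`,
* `Bas`: sections of `B` over `C` along `k`,
* `Fib K`: sections of `E` over `B` along `K : A ⥤ B` (with `K ⋙ p = k`).
If restriction is an equivalence on `Tot` and fully faithful on `Bas` it is an equivalence on every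
`Fib K`; if it is an equivalence on `Bas` and on every `Fib K`, it is an equivalence on `Tot`.
-/

set_option autoImplicit false
open CategoryTheory Functor

namespace Groth.Agent.Lib.Helper43.FibSec

open Groth.Agent.Lib.Helper43.FibGrpdFun Groth.Agent.Lib.Helper43.GerbComp
  Groth.Agent.Lib.Helper43.GerbBC Groth.Agent.Lib.Helper43.SecRestr

universe v₀ v₁ v₂ v₃ v₄ u₀ u₁ u₂ u₃ u₄

section Generic

variable {D : Type u₂} [Category.{v₂} D] {F : Type u₃} [Category.{v₃} F] (P : F ⥤ D)
  (hP : FibCat.IsFibGrpd P) {𝒜 : BasedCategory.{v₁, u₁} D}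

lemma eqToHom_app {s s' : 𝒜 ⥤ᵇ ℱ P} (h : s = s') (a : 𝒜.obj) :
    (eqToHom h : s ⟶ s').toNatTrans.app a = eqToHom (by rw [h]) := by
  subst h; rfl

include hP in
lemma isIso_app {s s' : 𝒜 ⥤ᵇ ℱ P} (α : s ⟶ s') (a : 𝒜.obj) : IsIso (α.toNatTrans.app a) := by
  haveI : P.IsHomLift (𝟙 (𝒜.p.obj a)) (α.toNatTrans.app a) := α.isHomLift' a
  exact isIso_of_lift_id P hP (𝒜.p.obj a) (α.toNatTrans.app a)

include hP in
/-- every 2-morphism between sections of a category fibred in groupoids is invertible. -/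
theorem isIso_hom {s s' : 𝒜 ⥤ᵇ ℱ P} (α : s ⟶ s') : IsIso α := by
  haveI := fun a => isIso_app P hP α a
  let β : s' ⟶ s :=
    { toNatTrans :=
        { app := fun a => CategoryTheory.inv (α.toNatTrans.app a)
          naturality := by
            intro a b m
            rw [IsIso.comp_inv_eq, Category.assoc, IsIso.eq_inv_comp]
            exact (α.toNatTrans.naturality m).symm }
      isHomLift' := by
        intro a
        have h1 : P.IsHomLift (𝟙 (𝒜.p.obj a)) (α.toNatTrans.app a) := α.isHomLift' a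
        have h2 : IsIso (α.toNatTrans.app a) := isIso_app P hP α a
        exact @IsHomLift.lift_id_inv_isIso _ _ _ _ P (𝒜.p.obj a) _ _ (α.toNatTrans.app a) h2 h1 }
  refine ⟨β, ?_, ?_⟩
  · apply BasedNatTrans.homCategory.ext
    ext a
    exact IsIso.hom_inv_id (α.toNatTrans.app a)
  · apply BasedNatTrans.homCategory.ext
    ext a
    exact IsIso.inv_hom_id (α.toNatTrans.app a)

end Generic

section LiftComp

variable {C : Type u₂} [Category.{v₂} C] {B : Type u₃} [Category.{v₃} B]
  {E : Type u₄} [Category.{v₄} E] (p : B ⥤ C) (q : E ⥤ B)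

lemma lift_comp {R S : C} {X Y : B} {a b : E} (f : R ⟶ S) (g : X ⟶ Y) (φ : a ⟶ b)
    (h1 : q.IsHomLift g φ) (h2 : p.IsHomLift f g) : (q ⋙ p).IsHomLift f φ := by
  obtain ⟨⟩ := h1
  obtain ⟨⟩ := h2
  exact (inferInstance : (q ⋙ p).IsHomLift ((q ⋙ p).map φ) φ)

lemma eq_of_lift_id {X : B} {x y : E} (φ : x ⟶ y) (h : q.IsHomLift (𝟙 X) φ) (hx : q.obj x = X)
    (hy : q.obj y = X) : eqToHom hx.symm ≫ q.map φ = eqToHom hy.symm := by
  rw [IsHomLift.fac' q (𝟙 X) φ]; simp

lemma lift_id_of_eq {X : B} {x y : E} (φ : x ⟶ y) (hx : q.obj x = X) (hy : q.obj y = X)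
    (h : eqToHom hx.symm ≫ q.map φ = eqToHom hy.symm) : q.IsHomLift (𝟙 X) φ := by
  refine IsHomLift.of_fac' q _ _ hx hy ?_
  rw [Category.id_comp]
  have := congrArg (fun t => eqToHom hx ≫ t) h
  simpa using this

lemma lift_id_comp_of {X : B} {x y z : E} (χ : x ⟶ y) (ψ : y ⟶ z) (g : X ⟶ q.obj y)
    (h : q.IsHomLift g χ) (hz : q.obj z = X) (hg : g ≫ q.map ψ = eqToHom hz.symm) :
    q.IsHomLift (𝟙 X) (χ ≫ ψ) := by
  have hx : q.obj x = X := IsHomLift.domain_eq q g χ
  refine lift_id_of_eq q _ hx hz ?_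
  have hf := IsHomLift.fac' q g χ
  rw [q.map_comp, hf]
  simp only [Category.assoc, eqToHom_trans_assoc, eqToHom_refl, Category.id_comp]
  exact hg

lemma eqToHom_map_inv_hom {X : B} {y z : E} (hz : q.obj z = X) (i : z ⟶ y) (h : y ⟶ z)
    (hih : i ≫ h = 𝟙 z) : (eqToHom hz.symm ≫ q.map i) ≫ q.map h = eqToHom hz.symm := by
  rw [Category.assoc, ← q.map_comp, hih, q.map_id, Category.comp_id]

end LiftComp

section Defs

variable {A : Type u₁} [Category.{v₁} A]
  {C : Type u₂} [Category.{v₂} C] {B : Type u₃} [Category.{v₃} B] {E : Type u₄} [Category.{v₄} E]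
  (k : A ⥤ C) (p : B ⥤ C) (q : E ⥤ B)

/-- sections of `E` over `C` along `k`. -/
abbrev Tot := SecRestr2.ℬ k ⥤ᵇ ℱ (q ⋙ p)
/-- sections of `B` over `C` along `k`. -/
abbrev Bas := SecRestr2.ℬ k ⥤ᵇ ℱ p
/-- sections of `E` over `B` along `K`. -/
abbrev Fib (K : A ⥤ B) := SecRestr2.ℬ K ⥤ᵇ ℱ q

variable (K : A ⥤ B) (hK : K ⋙ p = k)

/-- a section of `E` over `B` along `K` as a section of `E` over `C`. -/
def incl : Fib q K ⥤ Tot k p q where
  obj G :=
    { toFunctor := G.toFunctor
      w := by
        have h : (G.toFunctor ⋙ q : A ⥤ B) = K := G.w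
        exact (congrArg (fun X : A ⥤ B => X ⋙ p) h).trans hK }
  map {G G'} α :=
    { toNatTrans := α.toNatTrans
      isHomLift' := by
        intro a
        have h1 : q.IsHomLift (𝟙 (K.obj a)) (α.toNatTrans.app a) := α.isHomLift' a
        have h2 : p.IsHomLift (𝟙 (k.obj a)) (𝟙 (K.obj a)) :=
          IsHomLift.id (by rw [← hK]; rfl)
        exact lift_comp p q _ _ _ h1 h2 }
  map_id G := by apply BasedNatTrans.homCategory.ext; rfl
  map_comp α β := by apply BasedNatTrans.homCategory.ext; rfl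

/-- the image in `B` of a section of `E` over `C`. -/
def push : Tot k p q ⥤ Bas k p where
  obj G :=
    { toFunctor := G.toFunctor ⋙ q
      w := G.w }
  map {G G'} α :=
    { toNatTrans := Functor.whiskerRight α.toNatTrans q
      isHomLift' := by
        intro a
        have h1 : (q ⋙ p).IsHomLift (𝟙 (k.obj a)) (α.toNatTrans.app a) := α.isHomLift' a
        exact comp_lift q p h1 }
  map_id G := by
    apply BasedNatTrans.homCategory.ext
    ext a
    exact q.map_id _
  map_comp α β := by
    apply BasedNatTrans.homCategory.ext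
    ext a
    exact q.map_comp _ _

/-- `K` itself as a section of `B` over `C`. -/
def Ksec : Bas k p where
  toFunctor := K
  w := hK

lemma push_incl (G : Fib q K) : Ksec k p K hK = (push k p q).obj ((incl k p q K hK).obj G) := by
  have h : G.toFunctor ⋙ q = K := G.w
  unfold Ksec push incl
  congr 1
  exact h.symm

/-- the identity of `K` seen as a morphism to the image of a section over `K`. -/
def v (G : Fib q K) : Ksec k p K hK ⟶ (push k p q).obj ((incl k p q K hK).obj G) :=
  eqToHom (push_incl k p q K hK G)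

lemma v_app (G : Fib q K) (a : A) :
    (v k p q K hK G).toNatTrans.app a = eqToHom (G.w_obj a).symm :=
  eqToHom_app p (push_incl k p q K hK G) a

end Defs

section Transport

variable {A : Type u₁} [Category.{v₁} A]
  {C : Type u₂} [Category.{v₂} C] {B : Type u₃} [Category.{v₃} B] {E : Type u₄} [Category.{v₄} E]
  (k : A ⥤ C) (p : B ⥤ C) (q : E ⥤ B) (hq : FibCat.IsFibGrpd q)
  (T : Tot k p q) (H : Bas k p) (β : H ⟶ (push k p q).obj T)

/-- value of the total section (clean type) -/
abbrev tObj (a : A) : E := T.toFunctor.obj a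
/-- value of the total section on a morphism (clean type) -/
abbrev tMap {a a₁ : A} (m : a ⟶ a₁) : tObj k p q T a ⟶ tObj k p q T a₁ := T.toFunctor.map m
/-- value of the base section (clean type) -/
abbrev hObj (a : A) : B := H.toFunctor.obj a
/-- value of the base section on a morphism (clean type) -/
abbrev hMap {a a₁ : A} (m : a ⟶ a₁) : hObj k p H a ⟶ hObj k p H a₁ := H.toFunctor.map m

/-- component of `β` (clean type) -/
def bApp (a : A) : hObj k p H a ⟶ q.obj (tObj k p q T a) := β.toNatTrans.app a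

lemma bApp_lift (a : A) : p.IsHomLift (𝟙 (k.obj a)) (bApp k p q T H β a) := β.isHomLift' a

lemma bApp_naturality {a a₁ : A} (m : a ⟶ a₁) :
    hMap k p H m ≫ bApp k p q T H β a₁ = bApp k p q T H β a ≫ q.map (tMap k p q T m) :=
  β.toNatTrans.naturality m

include hq in
lemma nEx (a : A) : ∃ (y : E) (χ : y ⟶ tObj k p q T a), q.IsHomLift (bApp k p q T H β a) χ :=
  exists_lift' q hq rfl (bApp k p q T H β a)

/-- chosen pullback of `T a` along `β a`. -/
noncomputable def nObj (a : A) : E := (nEx k p q hq T H β a).choose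

/-- the chosen cartesian arrow. -/
noncomputable def nLeg (a : A) : nObj k p q hq T H β a ⟶ tObj k p q T a :=
  (nEx k p q hq T H β a).choose_spec.choose

instance nLeg_lift (a : A) : q.IsHomLift (bApp k p q T H β a) (nLeg k p q hq T H β a) :=
  (nEx k p q hq T H β a).choose_spec.choose_spec

lemma exists_nMap {a a₁ : A} (m : a ⟶ a₁) :
    ∃ χ : nObj k p q hq T H β a ⟶ nObj k p q hq T H β a₁, q.IsHomLift (hMap k p H m) χ ∧
      χ ≫ nLeg k p q hq T H β a₁ = nLeg k p q hq T H β a ≫ tMap k p q T m := by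
  haveI : q.IsHomLift (hMap k p H m ≫ bApp k p q T H β a₁)
      (nLeg k p q hq T H β a ≫ tMap k p q T m) := by
    rw [bApp_naturality]; infer_instance
  exact exists_factor q hq (bApp k p q T H β a₁) (nLeg k p q hq T H β a₁) (hMap k p H m)
    (nLeg k p q hq T H β a ≫ tMap k p q T m)

/-- the transported section on morphisms. -/
noncomputable def nMap {a a₁ : A} (m : a ⟶ a₁) :
    nObj k p q hq T H β a ⟶ nObj k p q hq T H β a₁ := (exists_nMap k p q hq T H β m).choose

instance nMap_lift {a a₁ : A} (m : a ⟶ a₁) :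
    q.IsHomLift (hMap k p H m) (nMap k p q hq T H β m) :=
  (exists_nMap k p q hq T H β m).choose_spec.1

lemma nMap_spec {a a₁ : A} (m : a ⟶ a₁) :
    nMap k p q hq T H β m ≫ nLeg k p q hq T H β a₁ = nLeg k p q hq T H β a ≫ tMap k p q T m :=
  (exists_nMap k p q hq T H β m).choose_spec.2

lemma nMap_id (a : A) : nMap k p q hq T H β (𝟙 a) = 𝟙 _ := by
  haveI : q.IsHomLift (𝟙 (hObj k p H a)) (𝟙 (nObj k p q hq T H β a)) :=
    IsHomLift.id (IsHomLift.domain_eq q (bApp k p q T H β a) (nLeg k p q hq T H β a))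
  haveI : q.IsHomLift (𝟙 (hObj k p H a)) (nMap k p q hq T H β (𝟙 a)) := by
    have h := nMap_lift k p q hq T H β (𝟙 a)
    have e : hMap k p H (𝟙 a) = 𝟙 _ := H.toFunctor.map_id a
    rwa [e] at h
  refine cancel q hq (𝟙 (hObj k p H a)) (bApp k p q T H β a) (nLeg k p q hq T H β a) _ _ ?_
  rw [nMap_spec, Category.id_comp]
  have e : tMap k p q T (𝟙 a) = 𝟙 _ := T.toFunctor.map_id a
  rw [e, Category.comp_id]

lemma nMap_comp {a a₁ a₂ : A} (m : a ⟶ a₁) (n : a₁ ⟶ a₂) :
    nMap k p q hq T H β (m ≫ n) = nMap k p q hq T H β m ≫ nMap k p q hq T H β n := by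
  haveI : q.IsHomLift (hMap k p H m ≫ hMap k p H n) (nMap k p q hq T H β (m ≫ n)) := by
    have h := nMap_lift k p q hq T H β (m ≫ n)
    have e : hMap k p H (m ≫ n) = hMap k p H m ≫ hMap k p H n := H.toFunctor.map_comp m n
    rwa [e] at h
  refine cancel q hq (hMap k p H m ≫ hMap k p H n) (bApp k p q T H β a₂)
    (nLeg k p q hq T H β a₂) _ _ ?_
  have e : tMap k p q T (m ≫ n) = tMap k p q T m ≫ tMap k p q T n := T.toFunctor.map_comp m n
  rw [nMap_spec, Category.assoc, nMap_spec, ← Category.assoc, nMap_spec, Category.assoc, e]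

/-- the transported section, over `H`. -/
noncomputable def transp : Fib q H.toFunctor where
  toFunctor :=
    { obj := fun a => nObj k p q hq T H β a
      map := fun m => nMap k p q hq T H β m
      map_id := fun a => nMap_id k p q hq T H β a
      map_comp := fun m n => nMap_comp k p q hq T H β m n }
  w := by
    refine CategoryTheory.Functor.ext ?_ ?_
    · intro a
      have h := nLeg_lift k p q hq T H β a
      exact @IsHomLift.domain_eq _ _ _ _ q _ _ _ _ _ _ h
    · intro a a₁ m
      have h := nMap_lift k p q hq T H β m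
      exact @IsHomLift.fac' _ _ _ _ q _ _ _ _ _ _ h

/-- the comparison from the transported section. -/
noncomputable def transpHom :
    (incl k p q H.toFunctor H.w).obj (transp k p q hq T H β) ⟶ T where
  toNatTrans :=
    { app := fun a => nLeg k p q hq T H β a
      naturality := fun a a₁ m => nMap_spec k p q hq T H β m }
  isHomLift' := by
    intro a
    exact lift_comp p q _ _ _ (nLeg_lift k p q hq T H β a) (bApp_lift k p q T H β a)

lemma transpHom_app (a : A) :
    (transpHom k p q hq T H β).toNatTrans.app a = nLeg k p q hq T H β a := rfl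

end Transport

section One

variable {A' : Type u₀} [Category.{v₀} A'] {A : Type u₁} [Category.{v₁} A]
  {C : Type u₂} [Category.{v₂} C] {B : Type u₃} [Category.{v₃} B] {E : Type u₄} [Category.{v₄} E]
  (ι : A' ⥤ A) (k : A ⥤ C) (p : B ⥤ C) (q : E ⥤ B)

/-- restriction on total sections -/
abbrev resTot : Tot k p q ⥤ Tot (ι ⋙ k) p q := SecRestr2.res ι k (q ⋙ p)
/-- restriction on base sections -/
abbrev resBas : Bas k p ⥤ Bas (ι ⋙ k) p := SecRestr2.res ι k p
/-- restriction on fibre sections -/
abbrev resFib (K : A ⥤ B) : Fib q K ⥤ Fib q (ι ⋙ K) := SecRestr2.res ι K q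

variable (K : A ⥤ B) (hK : K ⋙ p = k)

include hK in
lemma hK' : (ι ⋙ K) ⋙ p = ι ⋙ k := by rw [Functor.assoc, hK]

/-- a 2-morphism of restricted fibre sections as a 2-morphism of restricted total sections. -/
def inclRes {G G' : Fib q K} (γ : (resFib ι q K).obj G ⟶ (resFib ι q K).obj G') :
    (resTot ι k p q).obj ((incl k p q K hK).obj G) ⟶
      (resTot ι k p q).obj ((incl k p q K hK).obj G') :=
  (incl (ι ⋙ k) p q (ι ⋙ K) (hK' ι k p K hK)).map γ

lemma inclRes_app {G G' : Fib q K} (γ : (resFib ι q K).obj G ⟶ (resFib ι q K).obj G') (a' : A') :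
    (inclRes ι k p q K hK γ).toNatTrans.app a' = γ.toNatTrans.app a' := rfl

include hK in
theorem faithful_resFib [(resTot ι k p q).Faithful] : (resFib ι q K).Faithful where
  map_injective {G G'} α α' h := by
    have h1 : (resTot ι k p q).map ((incl k p q K hK).map α) =
        (resTot ι k p q).map ((incl k p q K hK).map α') := by
      apply BasedNatTrans.homCategory.ext
      ext a'
      exact congrArg (fun γ : (resFib ι q K).obj G ⟶ (resFib ι q K).obj G' =>
        γ.toNatTrans.app a') h
    have h2 := (resTot ι k p q).map_injective h1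
    apply BasedNatTrans.homCategory.ext
    ext a
    exact congrArg (fun γ : (incl k p q K hK).obj G ⟶ (incl k p q K hK).obj G' =>
      γ.toNatTrans.app a) h2

include hK in
theorem full_resFib [(resTot ι k p q).Full] [(resBas ι k p).Faithful] :
    (resFib ι q K).Full where
  map_surjective {G G'} γ := by
    obtain ⟨α, hα⟩ := (resTot ι k p q).map_surjective (inclRes ι k p q K hK γ)
    have hαa : ∀ a' : A', α.toNatTrans.app (ι.obj a') = γ.toNatTrans.app a' := fun a' =>
      congrArg (fun δ : (resTot ι k p q).obj ((incl k p q K hK).obj G) ⟶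
        (resTot ι k p q).obj ((incl k p q K hK).obj G') => δ.toNatTrans.app a') hα
    have key : v k p q K hK G ≫ (push k p q).map α = v k p q K hK G' := by
      apply (resBas ι k p).map_injective
      apply BasedNatTrans.homCategory.ext
      apply NatTrans.ext
      funext (a' : A')
      show (v k p q K hK G).toNatTrans.app (ι.obj a') ≫ q.map (α.toNatTrans.app (ι.obj a')) =
        (v k p q K hK G').toNatTrans.app (ι.obj a')
      rw [v_app, v_app, hαa]
      have h1 : q.IsHomLift (𝟙 (K.obj (ι.obj a'))) (γ.toNatTrans.app a') := γ.isHomLift' a'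
      exact eq_of_lift_id q _ h1 (G.w_obj (ι.obj a')) (G'.w_obj (ι.obj a'))
    refine ⟨{ toNatTrans := α.toNatTrans, isHomLift' := ?_ }, ?_⟩
    · intro a
      have h2 : (v k p q K hK G).toNatTrans.app a ≫ q.map (α.toNatTrans.app a) =
          (v k p q K hK G').toNatTrans.app a :=
        congrArg (fun δ : Ksec k p K hK ⟶ (push k p q).obj ((incl k p q K hK).obj G') =>
          δ.toNatTrans.app a) key
      rw [v_app, v_app] at h2
      exact lift_id_of_eq q _ (G.w_obj a) (G'.w_obj a) h2
    · apply BasedNatTrans.homCategory.ext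
      ext a'
      exact hαa a'

include hK in
theorem essSurj_resFib (hq : FibCat.IsFibGrpd q) [(resTot ι k p q).EssSurj]
    [(resBas ι k p).Full] : (resFib ι q K).EssSurj where
  mem_essImage T := by
    let T' : Tot (ι ⋙ k) p q := (incl (ι ⋙ k) p q (ι ⋙ K) (hK' ι k p K hK)).obj T
    let G₀ : Tot k p q := (resTot ι k p q).objPreimage T'
    let ε : (resTot ι k p q).obj G₀ ≅ T' := (resTot ι k p q).objObjPreimageIso T'
    let β₀ : (resBas ι k p).obj (Ksec k p K hK) ⟶ (resBas ι k p).obj ((push k p q).obj G₀) :=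
      v (ι ⋙ k) p q (ι ⋙ K) (hK' ι k p K hK) T ≫ (push (ι ⋙ k) p q).map ε.inv
    obtain ⟨β, hβ⟩ := (resBas ι k p).map_surjective β₀
    let eh : ∀ a' : A', tObj k p q G₀ (ι.obj a') ⟶ (T.toFunctor.obj a' : E) :=
      fun a' => ε.hom.toNatTrans.app a'
    let ei : ∀ a' : A', (T.toFunctor.obj a' : E) ⟶ tObj k p q G₀ (ι.obj a') :=
      fun a' => ε.inv.toNatTrans.app a'
    have hβa : ∀ a' : A', bApp k p q G₀ (Ksec k p K hK) β (ι.obj a') =
        eqToHom (T.w_obj a').symm ≫ q.map (ei a') := by
      intro a'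
      have h1 := congrArg (fun δ : (resBas ι k p).obj (Ksec k p K hK) ⟶
        (resBas ι k p).obj ((push k p q).obj G₀) => δ.toNatTrans.app a') hβ
      refine h1.trans ?_
      show (v (ι ⋙ k) p q (ι ⋙ K) (hK' ι k p K hK) T).toNatTrans.app a' ≫
        q.map (ε.inv.toNatTrans.app a') = _
      rw [v_app]
      rfl
    have hε : ∀ a' : A', ei a' ≫ eh a' = 𝟙 (T.toFunctor.obj a' : E) := by
      intro a'
      exact congrArg (fun δ : T' ⟶ T' => δ.toNatTrans.app a') ε.inv_hom_id
    let θ : (resFib ι q K).obj (transp k p q hq G₀ (Ksec k p K hK) β) ⟶ T :=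
      { toNatTrans :=
          { app := fun a' => nLeg k p q hq G₀ (Ksec k p K hK) β (ι.obj a') ≫
              ε.hom.toNatTrans.app a'
            naturality := by
              intro a' a₁' m
              have h1 := nMap_spec k p q hq G₀ (Ksec k p K hK) β (ι.map m)
              have h2 := ε.hom.toNatTrans.naturality m
              calc nMap k p q hq G₀ (Ksec k p K hK) β (ι.map m) ≫
                    nLeg k p q hq G₀ (Ksec k p K hK) β (ι.obj a₁') ≫ ε.hom.toNatTrans.app a₁'
                  = (nLeg k p q hq G₀ (Ksec k p K hK) β (ι.obj a') ≫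
                      tMap k p q G₀ (ι.map m)) ≫ ε.hom.toNatTrans.app a₁' := by
                    rw [← Category.assoc, h1]
                _ = nLeg k p q hq G₀ (Ksec k p K hK) β (ι.obj a') ≫
                      ε.hom.toNatTrans.app a' ≫ T.toFunctor.map m := by
                    rw [Category.assoc]; exact congrArg _ h2
                _ = _ := (Category.assoc _ _ _).symm }
        isHomLift' := by
          intro (a' : A')
          have hl := nLeg_lift k p q hq G₀ (Ksec k p K hK) β (ι.obj a')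
          have hx : q.obj (nObj k p q hq G₀ (Ksec k p K hK) β (ι.obj a')) = K.obj (ι.obj a') :=
            @IsHomLift.domain_eq _ _ _ _ q _ _ _ _ _ _ hl
          refine lift_id_comp_of q (nLeg k p q hq G₀ (Ksec k p K hK) β (ι.obj a'))
            (ε.hom.toNatTrans.app a') (bApp k p q G₀ (Ksec k p K hK) β (ι.obj a')) hl
            (T.w_obj a') ?_
          exact (congrArg (fun t => t ≫ q.map (eh a')) (hβa a')).trans
            (eqToHom_map_inv_hom q (T.w_obj a') (ei a') (eh a') (hε a')) }
    exact ⟨transp k p q hq G₀ (Ksec k p K hK) β, ⟨@asIso _ _ _ _ θ (isIso_hom q hq θ)⟩⟩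

include hK in
/-- (i): restriction is an equivalence on the sections over `K`. -/
theorem isEquivalence_resFib (hq : FibCat.IsFibGrpd q) [(resTot ι k p q).IsEquivalence]
    [(resBas ι k p).Full] [(resBas ι k p).Faithful] : (resFib ι q K).IsEquivalence := by
  haveI := faithful_resFib ι k p q K hK
  haveI := full_resFib ι k p q K hK
  haveI := essSurj_resFib ι k p q K hK hq
  exact {}

end One

section Two

variable {A' : Type u₀} [Category.{v₀} A'] {A : Type u₁} [Category.{v₁} A]
  {C : Type u₂} [Category.{v₂} C] {B : Type u₃} [Category.{v₃} B] {E : Type u₄} [Category.{v₄} E]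
  (ι : A' ⥤ A) (k : A ⥤ C) (p : B ⥤ C) (q : E ⥤ B)
  (hp : FibCat.IsFibGrpd p) (hq : FibCat.IsFibGrpd q)

lemma conj_nat {D : Type*} [Category D] {x x₁ y y₁ : D} (g : x ⟶ x₁) (g' : y ⟶ y₁)
    (f f' : x ⟶ y) (f₁ f₁' : x₁ ⟶ y₁) (i : y ⟶ x) (i₁ : y₁ ⟶ x₁) (hi : i ≫ f' = 𝟙 y)
    (hi₁ : f₁' ≫ i₁ = 𝟙 x₁) (h : g ≫ f₁ = f ≫ g') (h' : g ≫ f₁' = f' ≫ g') :
    g ≫ f₁ ≫ i₁ = (f ≫ i) ≫ g := by
  have e : i ≫ g = g' ≫ i₁ := by
    calc i ≫ g = i ≫ g ≫ (f₁' ≫ i₁) := by rw [hi₁, Category.comp_id]
      _ = i ≫ (g ≫ f₁') ≫ i₁ := by simp only [Category.assoc]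
      _ = i ≫ (f' ≫ g') ≫ i₁ := by rw [h']
      _ = (i ≫ f') ≫ g' ≫ i₁ := by simp only [Category.assoc]
      _ = g' ≫ i₁ := by rw [hi, Category.id_comp]
  calc g ≫ f₁ ≫ i₁ = (g ≫ f₁) ≫ i₁ := (Category.assoc _ _ _).symm
    _ = (f ≫ g') ≫ i₁ := by rw [h]
    _ = f ≫ (g' ≫ i₁) := Category.assoc _ _ _
    _ = f ≫ (i ≫ g) := by rw [e]
    _ = (f ≫ i) ≫ g := (Category.assoc _ _ _).symm

/-- a total section as a fibre section over its own image. -/
def selfFib (G : Tot k p q) : Fib q (G.toFunctor ⋙ q) where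
  toFunctor := G.toFunctor
  w := rfl

include hp hq in
theorem faithful_resTot [(resBas ι k p).Faithful]
    (hF : ∀ K : A ⥤ B, K ⋙ p = k → (resFib ι q K).Faithful) : (resTot ι k p q).Faithful where
  map_injective {G G'} α α' h := by
    have hqp : FibCat.IsFibGrpd (q ⋙ p) := FibGrpdComp.isFibGrpd_comp q p hq hp
    have h1 : (push k p q).map α = (push k p q).map α' := by
      apply (resBas ι k p).map_injective
      apply BasedNatTrans.homCategory.ext
      apply NatTrans.ext
      funext (a' : A')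
      show q.map (α.toNatTrans.app (ι.obj a')) = q.map (α'.toNatTrans.app (ι.obj a'))
      exact congrArg (fun t => q.map t) (congrArg (fun δ : (resTot ι k p q).obj G ⟶
        (resTot ι k p q).obj G' => δ.toNatTrans.app a') h)
    let f : ∀ a : A, tObj k p q G a ⟶ tObj k p q G' a := fun a => α.toNatTrans.app a
    let f' : ∀ a : A, tObj k p q G a ⟶ tObj k p q G' a := fun a => α'.toNatTrans.app a
    have hff' : ∀ a : A, q.map (f a) = q.map (f' a) := fun a =>
      congrArg (fun δ : (push k p q).obj G ⟶ (push k p q).obj G' => δ.toNatTrans.app a) h1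
    have hI : ∀ a : A, IsIso (f' a) := fun a => isIso_app (q ⋙ p) hqp α' a
    let g' : ∀ a : A, tObj k p q G' a ⟶ tObj k p q G a := fun a =>
      @CategoryTheory.inv _ _ _ _ (f' a) (hI a)
    have hfg : ∀ a : A, f' a ≫ g' a = 𝟙 _ := fun a => @IsIso.hom_inv_id _ _ _ _ (f' a) (hI a)
    have hgf : ∀ a : A, g' a ≫ f' a = 𝟙 _ := fun a => @IsIso.inv_hom_id _ _ _ _ (f' a) (hI a)
    have hres : ∀ a' : A', f (ι.obj a') = f' (ι.obj a') := fun a' =>
      congrArg (fun δ : (resTot ι k p q).obj G ⟶ (resTot ι k p q).obj G' =>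
        δ.toNatTrans.app a') h
    let δ : selfFib k p q G ⟶ selfFib k p q G :=
      { toNatTrans :=
          { app := fun a => f a ≫ g' a
            naturality := by
              intro a a₁ m
              exact conj_nat (tMap k p q G m) (tMap k p q G' m) (f a) (f' a) (f a₁) (f' a₁)
                (g' a) (g' a₁) (hgf a) (hfg a₁)
                (α.toNatTrans.naturality m) (α'.toNatTrans.naturality m) }
        isHomLift' := by
          intro (a : A)
          refine IsHomLift.of_fac' q _ _ rfl rfl ?_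
          show q.map (f a ≫ g' a) = _
          rw [q.map_comp, hff' a, ← q.map_comp, hfg a, q.map_id]
          simp
          rfl }
    haveI := hF (G.toFunctor ⋙ q) G.w
    have hδ : δ = 𝟙 _ := by
      apply (resFib ι q (G.toFunctor ⋙ q)).map_injective
      apply BasedNatTrans.homCategory.ext
      apply NatTrans.ext
      funext (a' : A')
      show f (ι.obj a') ≫ g' (ι.obj a') = 𝟙 _
      rw [hres a', hfg]
    apply BasedNatTrans.homCategory.ext
    apply NatTrans.ext
    funext (a : A)
    have h2 : f a ≫ g' a = 𝟙 _ :=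
      congrArg (fun δ : selfFib k p q G ⟶ selfFib k p q G => δ.toNatTrans.app a) hδ
    show f a = f' a
    rw [← Category.id_comp (f' a), ← h2, Category.assoc, hgf, Category.comp_id]

include hq in
theorem full_resTot [(resBas ι k p).Full]
    (hF : ∀ K : A ⥤ B, K ⋙ p = k → (resFib ι q K).Full) : (resTot ι k p q).Full where
  map_surjective {G G'} γ := by
    let β₀ : (resBas ι k p).obj ((push k p q).obj G) ⟶ (resBas ι k p).obj ((push k p q).obj G') :=
      (push (ι ⋙ k) p q).map γ
    obtain ⟨β, hβ⟩ := (resBas ι k p).map_surjective β₀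
    let H : Bas k p := (push k p q).obj G
    let c : ∀ a' : A', tObj k p q G (ι.obj a') ⟶ tObj k p q G' (ι.obj a') :=
      fun a' => γ.toNatTrans.app a'
    have hc : ∀ {a' a₁' : A'} (m : a' ⟶ a₁'),
        tMap k p q G (ι.map m) ≫ c a₁' = c a' ≫ tMap k p q G' (ι.map m) :=
      fun m => γ.toNatTrans.naturality m
    have hβa : ∀ a' : A', bApp k p q G' H β (ι.obj a') = q.map (c a') := fun a' =>
      congrArg (fun δ : (resBas ι k p).obj ((push k p q).obj G) ⟶
        (resBas ι k p).obj ((push k p q).obj G') => δ.toNatTrans.app a') hβ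
    have hex : ∀ a' : A', ∃ χ : tObj k p q G (ι.obj a') ⟶ nObj k p q hq G' H β (ι.obj a'),
        q.IsHomLift (𝟙 (hObj k p H (ι.obj a'))) χ ∧
          χ ≫ nLeg k p q hq G' H β (ι.obj a') = c a' := by
      intro a'
      haveI : q.IsHomLift (bApp k p q G' H β (ι.obj a')) (c a') := by
        rw [hβa a']; exact CategoryTheory.IsHomLift.map q (c a')
      exact exists_factor_id q hq (bApp k p q G' H β (ι.obj a'))
        (nLeg k p q hq G' H β (ι.obj a')) (c a')
    choose c₁ hc₁l hc₁ using hex
    let γ₁ : (resFib ι q (G.toFunctor ⋙ q)).obj (selfFib k p q G) ⟶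
        (resFib ι q (G.toFunctor ⋙ q)).obj (transp k p q hq G' H β) :=
      { toNatTrans :=
          { app := fun a' => c₁ a'
            naturality := by
              intro a' a₁' m
              show tMap k p q G (ι.map m) ≫ c₁ a₁' = c₁ a' ≫ nMap k p q hq G' H β (ι.map m)
              haveI := hc₁l a'
              haveI := hc₁l a₁'
              haveI : q.IsHomLift (hMap k p H (ι.map m)) (tMap k p q G (ι.map m)) :=
                CategoryTheory.IsHomLift.map q (tMap k p q G (ι.map m))
              refine cancel q hq (hMap k p H (ι.map m)) (bApp k p q G' H β (ι.obj a₁'))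
                (nLeg k p q hq G' H β (ι.obj a₁')) _ _ ?_
              rw [Category.assoc, hc₁, Category.assoc, nMap_spec, ← Category.assoc, hc₁]
              exact hc m }
        isHomLift' := fun a' => hc₁l a' }
    haveI := hF (G.toFunctor ⋙ q) G.w
    obtain ⟨α₁, hα₁⟩ := (resFib ι q (G.toFunctor ⋙ q)).map_surjective γ₁
    have hα₁a : ∀ a' : A', α₁.toNatTrans.app (ι.obj a') = c₁ a' := fun a' =>
      congrArg (fun δ : (resFib ι q (G.toFunctor ⋙ q)).obj (selfFib k p q G) ⟶
        (resFib ι q (G.toFunctor ⋙ q)).obj (transp k p q hq G' H β) => δ.toNatTrans.app a') hα₁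
    let α : G ⟶ G' := (incl k p q (G.toFunctor ⋙ q) G.w).map α₁ ≫ transpHom k p q hq G' H β
    refine ⟨α, ?_⟩
    apply BasedNatTrans.homCategory.ext
    apply NatTrans.ext
    funext (a' : A')
    show α₁.toNatTrans.app (ι.obj a') ≫ nLeg k p q hq G' H β (ι.obj a') = c a'
    exact (congrArg (fun t => t ≫ nLeg k p q hq G' H β (ι.obj a')) (hα₁a a')).trans (hc₁ a')

include hp hq in
theorem essSurj_resTot [(resBas ι k p).EssSurj]
    (hF : ∀ K : A ⥤ B, K ⋙ p = k → (resFib ι q K).EssSurj) : (resTot ι k p q).EssSurj where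
  mem_essImage T := by
    have hqp : FibCat.IsFibGrpd (q ⋙ p) := FibGrpdComp.isFibGrpd_comp q p hq hp
    let Hb : Bas k p := (resBas ι k p).objPreimage ((push (ι ⋙ k) p q).obj T)
    let ε : (resBas ι k p).obj Hb ≅ (push (ι ⋙ k) p q).obj T :=
      (resBas ι k p).objObjPreimageIso ((push (ι ⋙ k) p q).obj T)
    let T₁ : Fib q (ι ⋙ Hb.toFunctor) :=
      transp (ι ⋙ k) p q hq T ((resBas ι k p).obj Hb) ε.hom
    let χ : (incl (ι ⋙ k) p q (ι ⋙ Hb.toFunctor) (hK' ι k p Hb.toFunctor Hb.w)).obj T₁ ⟶ T :=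
      transpHom (ι ⋙ k) p q hq T ((resBas ι k p).obj Hb) ε.hom
    haveI := hF Hb.toFunctor Hb.w
    let G : Fib q Hb.toFunctor := (resFib ι q Hb.toFunctor).objPreimage T₁
    let θ : (resFib ι q Hb.toFunctor).obj G ≅ T₁ :=
      (resFib ι q Hb.toFunctor).objObjPreimageIso T₁
    let θ' : (resTot ι k p q).obj ((incl k p q Hb.toFunctor Hb.w).obj G) ≅
        (incl (ι ⋙ k) p q (ι ⋙ Hb.toFunctor) (hK' ι k p Hb.toFunctor Hb.w)).obj T₁ :=
      (incl (ι ⋙ k) p q (ι ⋙ Hb.toFunctor) (hK' ι k p Hb.toFunctor Hb.w)).mapIso θ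
    exact ⟨(incl k p q Hb.toFunctor Hb.w).obj G,
      ⟨θ' ≪≫ @asIso _ _ _ _ χ (isIso_hom (q ⋙ p) hqp χ)⟩⟩

include hp hq in
/-- (ii): restriction is an equivalence on total sections. -/
theorem isEquivalence_resTot [(resBas ι k p).IsEquivalence]
    (hF : ∀ K : A ⥤ B, K ⋙ p = k → (resFib ι q K).IsEquivalence) :
    (resTot ι k p q).IsEquivalence := by
  haveI := faithful_resTot ι k p q hp hq (fun K hK => by haveI := hF K hK; infer_instance)
  haveI := full_resTot ι k p q hq (fun K hK => by haveI := hF K hK; infer_instance)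
  haveI := essSurj_resTot ι k p q hp hq (fun K hK => by haveI := hF K hK; infer_instance)
  exact {}

end Two

end Groth.Agent.Lib.Helper43.FibSec
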