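import Groth.Prelude.Def_CohTop

/-!
# Limits of flasque towers of abelian sheaves
-/

set_option autoImplicit false
universe u

open CategoryTheory CategoryTheory.Limits TopologicalSpace Opposite TopCat

namespace Groth.Agent.Lib.Helper43.FlasqueTower

variable {X : TopCat.{u}}

/-- the short exact sequence `0 → ker f → M → N → 0` of an epimorphism -/
lemma shortExact_kernel {M N : CohTop.Ab X} (f : M ⟶ N) [Epi f] :
    (ShortComplex.mk (kernel.ι f) f (kernel.condition f)).ShortExact where
  exact := ShortComplex.exact_kernel f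

/-- surjectivity on sections of an epimorphism with flasque kernel -/
lemma surjective_app {M N : CohTop.Ab X} (f : M ⟶ N) [Epi f]
    (hK : TopCat.Sheaf.IsFlasque (kernel f : CohTop.Ab X)) (V : Opens X) :
    Function.Surjective (f.hom.app (op V)) := by
  haveI : TopCat.Sheaf.IsFlasque (ShortComplex.mk (kernel.ι f) f (kernel.condition f)).X₁ := hK
  exact (AddCommGrpCat.epi_iff_surjective _).1
    (TopCat.Sheaf.IsFlasque.epi_of_shortExact (shortExact_kernel f) (U := V))

/-- the lifting step -/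
lemma step {M N : CohTop.Ab X} (f : M ⟶ N) [Epi f]
    (hK : TopCat.Sheaf.IsFlasque (kernel f : CohTop.Ab X)) {U V : Opens X} (i : U ≤ V)
    (tn : N.obj.obj (op V)) (s : M.obj.obj (op U))
    (hs : f.hom.app (op U) s = N.obj.map (homOfLE i).op tn) :
    ∃ t : M.obj.obj (op V), f.hom.app (op V) t = tn ∧ M.obj.map (homOfLE i).op t = s := by
  obtain ⟨t', ht'⟩ := surjective_app f hK V tn
  have hS := shortExact_kernel f
  have hd : f.hom.app (op U) (M.obj.map (homOfLE i).op t' - s) = 0 := by
    rw [map_sub, NatTrans.naturality_apply, ht', hs, sub_self]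
  obtain ⟨k, hk⟩ := TopCat.Sheaf.sections_exact_of_left_exact hS.exact hS.mono_f
    (M.obj.map (homOfLE i).op t' - s) hd
  obtain ⟨κ, hκ⟩ := (AddCommGrpCat.epi_iff_surjective _).1 (hK.epi (homOfLE i).op) k
  refine ⟨t' - (kernel.ι f).hom.app (op V) κ, ?_, ?_⟩
  · have h0 : f.hom.app (op V) ((kernel.ι f).hom.app (op V) κ) = 0 := by
      have := ConcreteCategory.congr_hom
        (NatTrans.congr_app (congrArg (fun t => t.hom) (kernel.condition f)) (op V)) κ
      exact this
    rw [map_sub, ht', h0, sub_zero]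
  · have h1 : M.obj.map (homOfLE i).op ((kernel.ι f).hom.app (op V) κ) =
        M.obj.map (homOfLE i).op t' - s := by
      rw [← NatTrans.naturality_apply, hκ]
      exact hk
    rw [map_sub, h1, sub_sub_cancel]

section Tower

variable (M : ℕᵒᵖ ⥤ CohTop.Ab X)

/-- the transition maps -/
abbrev tr (n : ℕ) : M.obj (op (n + 1)) ⟶ M.obj (op n) := M.map (homOfLE (Nat.le_succ n)).op

/-- sections over `V` -/
abbrev Γ (V : Opens X) : CohTop.Ab X ⥤ AddCommGrpCat.{u} :=
  sheafToPresheaf _ _ ⋙ (evaluation _ _).obj (op V)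

lemma compat_of_step (V : Opens X) (t : ∀ n, (M.obj (op n)).obj.obj (op V))
    (ht : ∀ n, (tr M n).hom.app (op V) (t (n + 1)) = t n) (n m : ℕ) (h : n ≤ m) :
    (M.map (homOfLE h).op).hom.app (op V) (t m) = t n := by
  induction m, h using Nat.le_induction with
  | base =>
    have : (homOfLE (le_refl n)).op = 𝟙 (op n) := rfl
    rw [this, M.map_id]
    rfl
  | succ m h ih =>
    have e : (homOfLE (h.trans (Nat.le_succ m))).op =
        (homOfLE (Nat.le_succ m)).op ≫ (homOfLE h).op := rfl
    rw [e, M.map_comp]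
    show (M.map (homOfLE h).op).hom.app (op V) ((tr M m).hom.app (op V) (t (m + 1))) = t n
    rw [ht, ih]

lemma exists_section_of_compatible (V : Opens X) (t : ∀ n, (M.obj (op n)).obj.obj (op V))
    (ht : ∀ n, (tr M n).hom.app (op V) (t (n + 1)) = t n) :
    ∃ x : (limit M).obj.obj (op V), ∀ n, (limit.π M (op n)).hom.app (op V) x = t n := by
  have hl := isLimitOfPreserves (Γ V ⋙ forget AddCommGrpCat) (limit.isLimit M)
  let sec : (M ⋙ Γ V ⋙ forget AddCommGrpCat).sections :=
    ⟨fun j => t j.unop, by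
      intro j j' f
      have hle : j'.unop ≤ j.unop := leOfHom f.unop
      have hf : f = (homOfLE hle).op := Subsingleton.elim _ _
      rw [hf]
      exact compat_of_step M V t ht _ _ hle⟩
  refine ⟨(Types.isLimitEquivSections hl).symm sec, fun n => ?_⟩
  exact Types.isLimitEquivSections_symm_apply hl sec (op n)

lemma section_ext (V : Opens X) (x y : (limit M).obj.obj (op V))
    (h : ∀ n, (limit.π M (op n)).hom.app (op V) x = (limit.π M (op n)).hom.app (op V) y) :
    x = y := by
  have hl := isLimitOfPreserves (Γ V ⋙ forget AddCommGrpCat) (limit.isLimit M)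
  apply (Types.isLimitEquivSections hl).injective
  apply Subtype.ext
  funext j
  exact h j.unop

lemma tr_π (n : ℕ) {V : Opens X} (s : (limit M).obj.obj (op V)) :
    (tr M n).hom.app (op V) ((limit.π M (op (n + 1))).hom.app (op V) s) =
      (limit.π M (op n)).hom.app (op V) s := by
  have := limit.w M (homOfLE (Nat.le_succ n)).op
  exact ConcreteCategory.congr_hom (NatTrans.congr_app (congrArg (fun t => t.hom) this) (op V)) s

theorem isFlasque_limit (hM : ∀ n : ℕ, TopCat.Sheaf.IsFlasque (M.obj (op n)))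
    (hepi : ∀ n : ℕ, Epi (tr M n))
    (hK : ∀ n : ℕ, TopCat.Sheaf.IsFlasque (kernel (tr M n) : CohTop.Ab X)) :
    TopCat.Sheaf.IsFlasque (limit M : CohTop.Ab X) where
  epi {U V} i := by
    obtain ⟨big⟩ := U
    obtain ⟨small⟩ := V
    have le : small ≤ big := leOfHom i.unop
    have hi : i = (homOfLE le).op := Subsingleton.elim _ _
    subst hi
    rw [AddCommGrpCat.epi_iff_surjective]
    intro s
    -- build the compatible family
    have h0 : ∃ x : (M.obj (op 0)).obj.obj (op big),
        (M.obj (op 0)).obj.map (homOfLE le).op x = (limit.π M (op 0)).hom.app (op small) s :=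
      (AddCommGrpCat.epi_iff_surjective _).1 ((hM 0).epi (homOfLE le).op) _
    let T : ∀ n : ℕ, {x : (M.obj (op n)).obj.obj (op big) //
        (M.obj (op n)).obj.map (homOfLE le).op x = (limit.π M (op n)).hom.app (op small) s} :=
      fun n => Nat.rec ⟨h0.choose, h0.choose_spec⟩ (fun n Tn =>
        haveI := hepi n
        have hs : (tr M n).hom.app (op small) ((limit.π M (op (n + 1))).hom.app (op small) s) =
            (M.obj (op n)).obj.map (homOfLE le).op Tn.1 := by
          rw [tr_π, Tn.2]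
        ⟨(step (tr M n) (hK n) le Tn.1 _ hs).choose,
          (step (tr M n) (hK n) le Tn.1 _ hs).choose_spec.2⟩) n
    have hT : ∀ n, (tr M n).hom.app (op big) (T (n + 1)).1 = (T n).1 := by
      intro n
      haveI := hepi n
      have hs : (tr M n).hom.app (op small) ((limit.π M (op (n + 1))).hom.app (op small) s) =
          (M.obj (op n)).obj.map (homOfLE le).op (T n).1 := by
        rw [tr_π, (T n).2]
      exact (step (tr M n) (hK n) le (T n).1 _ hs).choose_spec.1
    obtain ⟨x, hx⟩ := exists_section_of_compatible M big (fun n => (T n).1) hT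
    refine ⟨x, ?_⟩
    apply section_ext M small
    intro n
    have hnat : (limit.π M (op n)).hom.app (op small) ((limit M).obj.map (homOfLE le).op x) =
        (M.obj (op n)).obj.map (homOfLE le).op ((limit.π M (op n)).hom.app (op big) x) :=
      NatTrans.naturality_apply (limit.π M (op n)).hom (homOfLE le).op x
    rw [hnat, hx, (T n).2]

end Tower

section SES

variable (S : ShortComplex (ℕᵒᵖ ⥤ CohTop.Ab X)) (hS : S.ShortExact)

/-- the levelwise short complex -/
abbrev lvl (n : ℕ) : ShortComplex (CohTop.Ab X) := S.map ((evaluation _ _).obj (op n))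

include hS in
lemma lvl_shortExact (n : ℕ) : (lvl S n).ShortExact := hS.map_of_exact _

lemma g_tr (n : ℕ) {V : Opens X} (a : (S.X₂.obj (op (n + 1))).obj.obj (op V)) :
    (S.g.app (op n)).hom.app (op V) ((tr S.X₂ n).hom.app (op V) a) =
      (tr S.X₃ n).hom.app (op V) ((S.g.app (op (n + 1))).hom.app (op V) a) := by
  have := S.g.naturality (homOfLE (Nat.le_succ n)).op
  exact ConcreteCategory.congr_hom (NatTrans.congr_app (congrArg (fun t => t.hom) this) (op V)) a

lemma f_tr (n : ℕ) {V : Opens X} (b : (S.X₁.obj (op (n + 1))).obj.obj (op V)) :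
    (S.f.app (op n)).hom.app (op V) ((tr S.X₁ n).hom.app (op V) b) =
      (tr S.X₂ n).hom.app (op V) ((S.f.app (op (n + 1))).hom.app (op V) b) := by
  have := S.f.naturality (homOfLE (Nat.le_succ n)).op
  exact ConcreteCategory.congr_hom (NatTrans.congr_app (congrArg (fun t => t.hom) this) (op V)) b

lemma g_f (n : ℕ) {V : Opens X} (b : (S.X₁.obj (op n)).obj.obj (op V)) :
    (S.g.app (op n)).hom.app (op V) ((S.f.app (op n)).hom.app (op V) b) = 0 := by
  have := (lvl S n).zero
  exact ConcreteCategory.congr_hom (NatTrans.congr_app (congrArg (fun t => t.hom) this) (op V)) b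

include hS in
lemma ses_step (hM : ∀ n : ℕ, TopCat.Sheaf.IsFlasque (S.X₁.obj (op n)))
    (hepi : ∀ n : ℕ, Epi (tr S.X₁ n))
    (hK : ∀ n : ℕ, TopCat.Sheaf.IsFlasque (kernel (tr S.X₁ n) : CohTop.Ab X))
    (n : ℕ) (V : Opens X) (tn : (S.X₂.obj (op n)).obj.obj (op V))
    (t'' : (S.X₃.obj (op (n + 1))).obj.obj (op V))
    (h : (S.g.app (op n)).hom.app (op V) tn = (tr S.X₃ n).hom.app (op V) t'') :
    ∃ t : (S.X₂.obj (op (n + 1))).obj.obj (op V),
      (tr S.X₂ n).hom.app (op V) t = tn ∧ (S.g.app (op (n + 1))).hom.app (op V) t = t'' := by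
  have hS1 := lvl_shortExact S hS (n + 1)
  have hS0 := lvl_shortExact S hS n
  haveI : TopCat.Sheaf.IsFlasque (lvl S (n + 1)).X₁ := hM (n + 1)
  obtain ⟨a, ha'⟩ : ∃ a : (S.X₂.obj (op (n + 1))).obj.obj (op V),
      (S.g.app (op (n + 1))).hom.app (op V) a = t'' :=
    (AddCommGrpCat.epi_iff_surjective _).1
      (TopCat.Sheaf.IsFlasque.epi_of_shortExact hS1 (U := V)) t''
  have hd : (S.g.app (op n)).hom.app (op V) ((tr S.X₂ n).hom.app (op V) a - tn) = 0 := by
    rw [map_sub, g_tr, ha', h, sub_self]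
  obtain ⟨b, hb'⟩ : ∃ b : (S.X₁.obj (op n)).obj.obj (op V),
      (S.f.app (op n)).hom.app (op V) b = (tr S.X₂ n).hom.app (op V) a - tn :=
    TopCat.Sheaf.sections_exact_of_left_exact hS0.exact hS0.mono_f
      ((tr S.X₂ n).hom.app (op V) a - tn) hd
  haveI := hepi n
  obtain ⟨b', hb''⟩ := surjective_app (tr S.X₁ n) (hK n) V b
  refine ⟨a - (S.f.app (op (n + 1))).hom.app (op V) b', ?_, ?_⟩
  · rw [map_sub, ← f_tr, hb'', hb', sub_sub_cancel]
  · rw [map_sub, ha', g_f, sub_zero]

include hS in
theorem surjective_limMap_app (hM : ∀ n : ℕ, TopCat.Sheaf.IsFlasque (S.X₁.obj (op n)))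
    (hepi : ∀ n : ℕ, Epi (tr S.X₁ n))
    (hK : ∀ n : ℕ, TopCat.Sheaf.IsFlasque (kernel (tr S.X₁ n) : CohTop.Ab X))
    (V : Opens X) (t'' : (limit S.X₃).obj.obj (op V)) :
    ∃ x : (limit S.X₂).obj.obj (op V), (limMap S.g).hom.app (op V) x = t'' := by
  haveI : TopCat.Sheaf.IsFlasque (lvl S 0).X₁ := hM 0
  have h0 : ∃ x : (S.X₂.obj (op 0)).obj.obj (op V),
      (S.g.app (op 0)).hom.app (op V) x = (limit.π S.X₃ (op 0)).hom.app (op V) t'' :=
    (AddCommGrpCat.epi_iff_surjective _).1
      (TopCat.Sheaf.IsFlasque.epi_of_shortExact (lvl_shortExact S hS 0) (U := V)) _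
  let T : ∀ n : ℕ, {x : (S.X₂.obj (op n)).obj.obj (op V) //
      (S.g.app (op n)).hom.app (op V) x = (limit.π S.X₃ (op n)).hom.app (op V) t''} :=
    fun n => Nat.rec ⟨h0.choose, h0.choose_spec⟩ (fun n Tn =>
      have h : (S.g.app (op n)).hom.app (op V) Tn.1 =
          (tr S.X₃ n).hom.app (op V) ((limit.π S.X₃ (op (n + 1))).hom.app (op V) t'') := by
        rw [Tn.2, tr_π]
      ⟨(ses_step S hS hM hepi hK n V Tn.1 _ h).choose,
        (ses_step S hS hM hepi hK n V Tn.1 _ h).choose_spec.2⟩) n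
  have hT : ∀ n, (tr S.X₂ n).hom.app (op V) (T (n + 1)).1 = (T n).1 := by
    intro n
    have h : (S.g.app (op n)).hom.app (op V) (T n).1 =
        (tr S.X₃ n).hom.app (op V) ((limit.π S.X₃ (op (n + 1))).hom.app (op V) t'') := by
      rw [(T n).2, tr_π]
    exact (ses_step S hS hM hepi hK n V (T n).1 _ h).choose_spec.1
  obtain ⟨x, hx⟩ := exists_section_of_compatible S.X₂ V (fun n => (T n).1) hT
  refine ⟨x, ?_⟩
  apply section_ext S.X₃ V
  intro n
  have h1 : (limit.π S.X₃ (op n)).hom.app (op V) ((limMap S.g).hom.app (op V) x) =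
      (S.g.app (op n)).hom.app (op V) ((limit.π S.X₂ (op n)).hom.app (op V) x) := by
    have := limMap_π S.g (op n)
    exact ConcreteCategory.congr_hom
      (NatTrans.congr_app (congrArg (fun t => t.hom) this) (op V)) x
  rw [h1, hx, (T n).2]

include hS in
theorem epi_limMap (hM : ∀ n : ℕ, TopCat.Sheaf.IsFlasque (S.X₁.obj (op n)))
    (hepi : ∀ n : ℕ, Epi (tr S.X₁ n))
    (hK : ∀ n : ℕ, TopCat.Sheaf.IsFlasque (kernel (tr S.X₁ n) : CohTop.Ab X)) :
    Epi (limMap S.g) := by
  have key := TopCat.Sheaf.isLocallySurjective_iff_epi (X := X) (limMap S.g)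
  refine key.1 ?_
  rw [TopCat.Presheaf.isLocallySurjective_iff]
  intro U t x hx
  obtain ⟨s, hs⟩ := surjective_limMap_app S hS hM hepi hK U t
  refine ⟨U, le_rfl, ⟨s, ?_⟩, hx⟩
  exact hs.trans (TopCat.Presheaf.restrict_self t).symm

end SES

end Groth.Agent.Lib.Helper43.FlasqueTower
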