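import Mathlib
import Groth.Prelude.Def_W4c5qcohlocdualityLoc

/-!
# Localizing closure vs transfinite filtrations: the easy direction (helper43)
-/

universe w v u
open CategoryTheory CategoryTheory.Limits ZeroObject

namespace H43GL

variable {C : Type u} [Category.{v} C] [Abelian C] [IsGrothendieckAbelian.{w} C]

lemma prop_sigma {Q : ObjectProperty C} (hQ : GabLoc.IsLocalizing.{w} Q) {J : Type w} (X : J → C)
    (hX : ∀ j, Q (X j)) : Q (∐ X) := by
  haveI := hQ.isClosedUnderCoproducts J
  exact Q.prop_colimit (Discrete.functor X) (fun ⟨j⟩ => hX j)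

lemma subquot_le {P Q : ObjectProperty C} (hQ : GabLoc.IsLocalizing.{w} Q) (hPQ : P ≤ Q) :
    GabLoc.subquotCoprod.{w} P ≤ Q := by
  rintro A ⟨J, X, hX, B, i, p, hi, hp⟩
  haveI := hQ.isSerreClass
  have h1 : Q (∐ X) := prop_sigma hQ X (fun j => hPQ _ (hX j))
  have h2 : Q B := Q.prop_of_mono i h1
  exact Q.prop_of_epi p h2

lemma step {P Q : ObjectProperty C} (hQ : GabLoc.IsLocalizing.{w} Q) (hPQ : P ≤ Q) {A B : C}
    (f : A ⟶ B) (hf : GabLoc.monoModSubquot.{w} P f) (hA : Q A) : Q B := by
  obtain ⟨hm, hc⟩ := hf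
  haveI := hQ.isSerreClass
  have hS : (ShortComplex.mk f (cokernel.π f) (cokernel.condition f)).ShortExact :=
    { exact := ShortComplex.exact_cokernel f
      mono_f := hm
      epi_g := inferInstanceAs (Epi (cokernel.π f)) }
  exact Q.prop_X₂_of_shortExact hS hA (subquot_le hQ hPQ _ hc)

lemma prop_colimit_small {Q : ObjectProperty C} (hQ : GabLoc.IsLocalizing.{w} Q) {J : Type w}
    [SmallCategory J] (F : J ⥤ C) (c : Cocone F) (hc : IsColimit c) (hF : ∀ j, Q (F.obj j)) :
    Q c.pt := by
  haveI := hQ.isSerreClass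
  let π : ∐ (fun j => F.obj j) ⟶ c.pt := Sigma.desc (fun j => c.ι.app j)
  haveI : Epi π := ⟨fun g h hgh => hc.hom_ext (fun j => by
    have := Sigma.ι (fun j => F.obj j) j ≫= hgh
    simpa [π] using this)⟩
  exact Q.prop_of_epi π (prop_sigma hQ _ hF)

theorem backward {P : ObjectProperty C} {X : C}
    (h : MorphismProperty.transfiniteCompositions.{w} (GabLoc.monoModSubquot.{w} P)
      (0 : (0 : C) ⟶ X)) : GabLoc.locClosure.{w} P X := by
  intro Q hQ hPQ
  rw [MorphismProperty.transfiniteCompositions_iff] at h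
  obtain ⟨J, _, _, _, _, ⟨t⟩⟩ := h
  haveI := hQ.isSerreClass
  have key : ∀ j : J, Q (t.F.obj j) := by
    intro j
    induction j using SuccOrder.limitRecOn with
    | isMin j hj =>
      have : j = ⊥ := hj.eq_bot
      subst this
      exact Q.prop_of_iso t.isoBot.symm Q.prop_zero
    | succ j hj ih =>
      exact step hQ hPQ _ (t.map_mem j hj) ih
    | isSuccLimit j hj ih =>
      exact prop_colimit_small hQ _ _ (t.F.isColimitOfIsWellOrderContinuous j hj)
        (fun ⟨k, hk⟩ => ih k hk)
  exact prop_colimit_small hQ t.F _ t.isColimit key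

end H43GL
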