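import Groth.Agent.Lib.Helper43.GabLocA

/-!
# Localizing closure vs transfinite filtrations: basic lemmas (helper43)
-/

universe w v u
open CategoryTheory CategoryTheory.Limits ZeroObject

namespace H43GL

section Abelian

variable {C : Type u} [Category.{v} C] [Abelian C]

/-- a morphism killed by the cokernel of a mono factors through the mono -/
lemma exists_factor {A X T : C} (m : A ⟶ X) [Mono m] (x : T ⟶ X) (h : x ≫ cokernel.π m = 0) :
    ∃ y : T ⟶ A, y ≫ m = x := by
  have hl := Abelian.monoIsKernelOfCokernel (f := m) _ (colimit.isColimit (parallelPair m 0))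
  obtain ⟨l, hl'⟩ := KernelFork.IsLimit.lift' hl x h
  exact ⟨l, hl'⟩

/-- a criterion for a map out of a quotient to be mono -/
lemma mono_of_epi_comp {M N L : C} (e : M ⟶ N) [Epi e] (c : N ⟶ L)
    (h : ∀ {T : C} (g : T ⟶ M), g ≫ e ≫ c = 0 → g ≫ e = 0) : Mono c := by
  apply Preadditive.mono_of_cancel_zero
  intro T g hg
  have h1 : pullback.snd g e ≫ e ≫ c = 0 := by
    rw [← pullback.condition_assoc, hg, comp_zero]
  have h2 := h _ h1
  rw [← pullback.condition] at h2
  exact (cancel_epi (pullback.fst g e)).mp (by rw [h2, comp_zero])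

lemma inf_eq_bot_of_mono {X : C} (A T : Subobject X)
    (h : Mono (A.arrow ≫ cokernel.π T.arrow)) : A ⊓ T = ⊥ := by
  have h1 : (A ⊓ T).arrow ≫ cokernel.π T.arrow = 0 := by
    rw [← Subobject.ofLE_arrow (inf_le_right : A ⊓ T ≤ T), Category.assoc, cokernel.condition,
      comp_zero]
  have h2 : Subobject.ofLE (A ⊓ T) A inf_le_left ≫ (A.arrow ≫ cokernel.π T.arrow) = 0 := by
    rw [← Category.assoc, Subobject.ofLE_arrow, h1]
  have h3 : Subobject.ofLE (A ⊓ T) A inf_le_left = 0 := by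
    rw [← cancel_mono (A.arrow ≫ cokernel.π T.arrow), h2, zero_comp]
  have h4 : (A ⊓ T).arrow = 0 := by
    rw [← Subobject.ofLE_arrow (inf_le_left : A ⊓ T ≤ A), h3, zero_comp]
  rw [← Subobject.mk_arrow (A ⊓ T)]
  exact Subobject.mk_eq_bot_iff_zero.mpr h4

lemma zero_of_factors_of_inf_eq_bot {X T' : C} (A T : Subobject X) (h : A ⊓ T = ⊥)
    (a : T' ⟶ (A : C)) (t : T' ⟶ (T : C)) (hat : a ≫ A.arrow = t ≫ T.arrow) : a = 0 := by
  have hf : (A ⊓ T).Factors (a ≫ A.arrow) := by
    rw [Subobject.inf_factors]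
    exact ⟨(Subobject.factors_iff _ _).mpr ⟨a, rfl⟩,
      (Subobject.factors_iff _ _).mpr ⟨t, hat.symm⟩⟩
  rw [h, Subobject.bot_factors_iff_zero] at hf
  rw [← cancel_mono A.arrow, hf, zero_comp]

lemma mono_of_inf_eq_bot {X : C} (A T : Subobject X) (h : A ⊓ T = ⊥) :
    Mono (A.arrow ≫ cokernel.π T.arrow) := by
  apply Preadditive.mono_of_cancel_zero
  intro T' g hg
  obtain ⟨y, hy⟩ := exists_factor T.arrow (g ≫ A.arrow) (by rw [Category.assoc, hg])
  exact zero_of_factors_of_inf_eq_bot A T h g y hy.symm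

/-- for `D, A ≤ A'` with `D ⊓ A = ⊥`, `D` embeds into `A'/A` -/
lemma mono_to_quot {X : C} (D A A' : Subobject X) (hD : D ≤ A') (hA : A ≤ A') (h : D ⊓ A = ⊥) :
    Mono (Subobject.ofLE D A' hD ≫ cokernel.π (Subobject.ofLE A A' hA)) := by
  apply Preadditive.mono_of_cancel_zero
  intro T' g hg
  obtain ⟨y, hy⟩ := exists_factor (Subobject.ofLE A A' hA) (g ≫ Subobject.ofLE D A' hD)
    (by rw [Category.assoc, hg])
  refine zero_of_factors_of_inf_eq_bot D A h g y ?_
  rw [← Subobject.ofLE_arrow hD, ← Subobject.ofLE_arrow hA, ← Category.assoc, ← Category.assoc, hy]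

end Abelian

end H43GL
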