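import Groth.Agent.Lib.Helper43.GabLocB

/-!
# The torsion-like class attached to `P` (helper43)
-/

universe w v u
open CategoryTheory CategoryTheory.Limits ZeroObject

namespace H43GL

variable {C : Type u} [Category.{v} C] [Abelian C] [IsGrothendieckAbelian.{w} C]

/-- abbreviation -/
abbrev SQ (P : ObjectProperty C) : ObjectProperty C := GabLoc.subquotCoprod.{w} P

lemma SQ_of_mono (P : ObjectProperty C) {A A' : C} (f : A' ⟶ A) [Mono f] (hA : SQ.{w} P A) :
    SQ.{w} P A' := by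
  obtain ⟨J, X, hX, B, i, p, hi, hp⟩ := hA
  refine ⟨J, X, hX, pullback f p, pullback.snd f p ≫ i, pullback.fst f p, ?_, ?_⟩
  · exact mono_comp _ _
  · infer_instance

lemma SQ_of_epi (P : ObjectProperty C) {A A' : C} (f : A ⟶ A') [Epi f] (hA : SQ.{w} P A) :
    SQ.{w} P A' := by
  obtain ⟨J, X, hX, B, i, p, hi, hp⟩ := hA
  exact ⟨J, X, hX, B, i, p ≫ f, hi, epi_comp _ _⟩

lemma SQ_of_P (P : ObjectProperty C) {A : C} (hA : P A) : SQ.{w} P A := by
  refine ⟨PUnit.{w + 1}, fun _ => A, fun _ => hA, ∐ (fun _ : PUnit.{w + 1} => A), 𝟙 _,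
    Sigma.desc (fun _ => 𝟙 A), inferInstance, ?_⟩
  exact ⟨fun g h hgh => by
    have := Sigma.ι (fun _ : PUnit.{w + 1} => A) PUnit.unit ≫= hgh
    simpa using this⟩

/-- every nonzero quotient has a nonzero subobject which is a subquotient of a coproduct of
objects of `P` -/
def Tor (P : ObjectProperty C) : ObjectProperty C := fun X =>
  ∀ ⦃S : C⦄ (p : X ⟶ S), Epi p → ¬ IsZero S →
    ∃ (A : C) (i : A ⟶ S), Mono i ∧ ¬ IsZero A ∧ SQ.{w} P A

lemma Tor_of_epi (P : ObjectProperty C) {X Y : C} (f : X ⟶ Y) [Epi f] (hX : Tor.{w} P X) :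
    Tor.{w} P Y := by
  intro S p hp hS
  exact hX (f ≫ p) (epi_comp _ _) hS

lemma Tor_of_isZero (P : ObjectProperty C) {X : C} (hX : IsZero X) : Tor.{w} P X := by
  intro S p hp hS
  exfalso
  apply hS
  rw [IsZero.iff_id_eq_zero]
  rw [← cancel_epi p]
  rw [hX.eq_of_src (p ≫ 𝟙 S) (p ≫ 0)]

lemma Tor_of_P (P : ObjectProperty C) {X : C} (hX : P X) : Tor.{w} P X := by
  intro S p hp hS
  exact ⟨S, 𝟙 S, inferInstance, hS, SQ_of_epi P p (SQ_of_P P hX)⟩

/-- a nonzero map from a `Tor` object has a nonzero `SQ`-subobject in its target -/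
lemma Tor_exists_of_ne_zero (P : ObjectProperty C) {X S : C} (hX : Tor.{w} P X) (g : X ⟶ S)
    (hg : g ≠ 0) : ∃ (A : C) (i : A ⟶ S), Mono i ∧ ¬ IsZero A ∧ SQ.{w} P A := by
  have hI : ¬ IsZero (Abelian.image g) := by
    intro h
    apply hg
    rw [← Abelian.image.fac g, h.eq_of_tgt (Abelian.factorThruImage g) 0, zero_comp]
  obtain ⟨A, i, hi, hA, hQ⟩ := hX (Abelian.factorThruImage g) inferInstance hI
  exact ⟨A, i ≫ Abelian.image.ι g, mono_comp _ _, hA, hQ⟩

lemma Tor_sigma (P : ObjectProperty C) {J : Type w} (X : J → C) (hX : ∀ j, Tor.{w} P (X j)) :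
    Tor.{w} P (∐ X) := by
  intro S p hp hS
  have : ∃ j, Sigma.ι X j ≫ p ≠ 0 := by
    by_contra hcon
    push_neg at hcon
    apply hS
    have hp0 : p = 0 := Sigma.hom_ext _ _ (fun j => by rw [hcon j, comp_zero])
    rw [IsZero.iff_id_eq_zero, ← cancel_epi p, hp0, zero_comp, zero_comp]
  obtain ⟨j, hj⟩ := this
  exact Tor_exists_of_ne_zero P (hX j) _ hj

lemma Tor_ext (P : ObjectProperty C) {S : ShortComplex C} (hS : S.ShortExact)
    (h₁ : Tor.{w} P S.X₁) (h₃ : Tor.{w} P S.X₃) : Tor.{w} P S.X₂ := by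
  intro T p hp hT
  by_cases hg : S.f ≫ p = 0
  · -- p factors through X₃
    haveI := hS.epi_g
    let p'' : S.X₃ ⟶ T := hS.exact.desc p hg
    have hp'' : S.g ≫ p'' = p := hS.exact.g_desc p hg
    haveI : Epi p'' := by
      haveI : Epi (S.g ≫ p'') := by rw [hp'']; exact hp
      exact epi_of_epi S.g p''
    exact h₃ p'' inferInstance hT
  · exact Tor_exists_of_ne_zero P h₁ _ hg

end H43GL
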