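import Groth.Agent.Lib.Helper43.GabLocC

/-!
# Enlarging subobjects of a `Tor` object (helper43)
-/

universe w v u
open CategoryTheory CategoryTheory.Limits ZeroObject

namespace H43GL

variable {C : Type u} [Category.{v} C] [Abelian C] [IsGrothendieckAbelian.{w} C]

lemma SQ_of_isZero (P : ObjectProperty C) {A : C} (hA : IsZero A) : SQ.{w} P A := by
  refine ⟨PEmpty.{w + 1}, PEmpty.elim, fun j => j.elim, ∐ (PEmpty.elim : PEmpty.{w + 1} → C), 𝟙 _,
    0, inferInstance, ?_⟩
  exact ⟨fun g h _ => hA.eq_of_src _ _⟩

lemma not_isZero_cokernel_arrow {X : C} (A : Subobject X) (hA : A ≠ ⊤) :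
    ¬ IsZero (cokernel A.arrow) := by
  intro h
  apply hA
  haveI : Epi A.arrow := by
    apply Preadditive.epi_of_cancel_zero
    intro R g hg
    have h1 : g = cokernel.π A.arrow ≫ cokernel.desc A.arrow g hg :=
      (cokernel.π_desc _ _ _).symm
    rw [h1, h.eq_of_tgt (cokernel.π A.arrow) 0, zero_comp]
  haveI : IsIso A.arrow := isIso_of_mono_of_epi _
  exact Subobject.eq_top_of_isIso_arrow A

lemma exists_larger (P : ObjectProperty C) {X : C} (hX : Tor.{w} P X) (A : Subobject X)
    (hA : A ≠ ⊤) :
    ∃ A' : Subobject X, A < A' ∧ ∃ h : A ≤ A', SQ.{w} P (cokernel (Subobject.ofLE A A' h)) := by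
  obtain ⟨D, i, hi, hD, hQ⟩ := hX (cokernel.π A.arrow) inferInstance
    (not_isZero_cokernel_arrow A hA)
  let π := cokernel.π A.arrow
  let A' : Subobject X := Subobject.mk (pullback.snd i π)
  have hle : A ≤ A' :=
    Subobject.le_mk_of_comm (pullback.lift 0 A.arrow (by simp [π])) (pullback.lift_snd _ _ _)
  have hne : ¬ A' ≤ A := by
    intro hc
    apply hD
    have h1 : pullback.snd i π ≫ π = 0 := by
      rw [← Subobject.ofMkLE_arrow hc, Category.assoc]
      simp [π]
    have h2 : pullback.fst i π ≫ i = 0 := by rw [pullback.condition, h1]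
    have h3 : pullback.fst i π = 0 := by rw [← cancel_mono i, h2, zero_comp]
    rw [IsZero.iff_id_eq_zero, ← cancel_epi (pullback.fst i π), h3, zero_comp, zero_comp]
  refine ⟨A', lt_of_le_not_ge hle hne, hle, ?_⟩
  let e := cokernel.π (Subobject.ofLE A A' hle)
  let φ : (A' : C) ⟶ D := (Subobject.underlyingIso (pullback.snd i π)).hom ≫ pullback.fst i π
  have hφ : φ ≫ i = A'.arrow ≫ π := by
    dsimp [φ]
    rw [Category.assoc, pullback.condition, ← Category.assoc,
      Subobject.underlyingIso_hom_comp_eq_mk]
  have hkill : Subobject.ofLE A A' hle ≫ φ = 0 := by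
    rw [← cancel_mono i, Category.assoc, hφ, ← Category.assoc, Subobject.ofLE_arrow, zero_comp]
    simp [π]
  let c : cokernel (Subobject.ofLE A A' hle) ⟶ D := cokernel.desc _ φ hkill
  have hc : e ≫ c = φ := cokernel.π_desc _ _ _
  haveI : Mono c := by
    apply mono_of_epi_comp e c
    intro T g hg
    rw [hc] at hg
    have h1 : (g ≫ A'.arrow) ≫ cokernel.π A.arrow = 0 := by
      rw [Category.assoc]
      change g ≫ A'.arrow ≫ π = 0
      rw [← hφ, ← Category.assoc, hg, zero_comp]
    obtain ⟨y, hy⟩ := exists_factor A.arrow (g ≫ A'.arrow) h1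
    have h2 : g = y ≫ Subobject.ofLE A A' hle := by
      rw [← cancel_mono A'.arrow, Category.assoc, Subobject.ofLE_arrow, hy]
    rw [h2, Category.assoc]
    simp [e]
  exact SQ_of_mono P c hQ

open scoped Classical in
/-- the enlarging operation on subobjects of a `Tor` object -/
noncomputable def larger (P : ObjectProperty C) {X : C} (hX : Tor.{w} P X) (A : Subobject X) :
    Subobject X :=
  if hA : A = ⊤ then ⊤ else (exists_larger P hX A hA).choose

lemma larger_top (P : ObjectProperty C) {X : C} (hX : Tor.{w} P X) :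
    larger P hX (⊤ : Subobject X) = ⊤ := dif_pos rfl

lemma lt_larger (P : ObjectProperty C) {X : C} (hX : Tor.{w} P X) (A : Subobject X)
    (hA : A ≠ ⊤) : A < larger P hX A := by
  dsimp only [larger]
  rw [dif_neg hA]
  exact (exists_larger P hX A hA).choose_spec.1

lemma le_larger (P : ObjectProperty C) {X : C} (hX : Tor.{w} P X) (A : Subobject X) :
    A ≤ larger P hX A := by
  by_cases hA : A = ⊤
  · subst hA
    rw [larger_top]
  · exact (lt_larger P hX A hA).le

lemma SQ_larger (P : ObjectProperty C) {X : C} (hX : Tor.{w} P X) (A : Subobject X) :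
    SQ.{w} P (cokernel (Subobject.ofLE A (larger P hX A) (le_larger P hX A))) := by
  by_cases hA : A = ⊤
  · apply SQ_of_isZero
    subst hA
    have h : larger P hX (⊤ : Subobject X) = ⊤ := larger_top P hX
    have : IsIso (Subobject.ofLE ⊤ (larger P hX (⊤ : Subobject X)) (le_larger P hX ⊤)) := by
      have h1 : Subobject.ofLE ⊤ (larger P hX (⊤ : Subobject X)) (le_larger P hX ⊤) =
          (Subobject.isoOfEq _ _ h.symm).hom := by
        rw [← cancel_mono (larger P hX (⊤ : Subobject X)).arrow]
        simp
      rw [h1]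
      infer_instance
    exact isZero_cokernel_of_epi _
  · have h := (exists_larger P hX A hA).choose_spec.2
    obtain ⟨hle, hQ⟩ := h
    have heq : larger P hX A = (exists_larger P hX A hA).choose := by
      dsimp only [larger]
      rw [dif_neg hA]
    revert hQ hle
    rw [← heq]
    intro hle hQ
    exact hQ

end H43GL
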