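import Groth.Agent.Lib.Helper43.GabLocD
import Mathlib.CategoryTheory.Abelian.GrothendieckCategory.Subobject
import Mathlib.CategoryTheory.Abelian.GrothendieckCategory.EnoughInjectives

/-!
# AB5 for subobjects and the key sublemma (helper43)
-/

universe w v u
open CategoryTheory CategoryTheory.Limits ZeroObject

namespace H43GL

variable {C : Type u} [Category.{v} C] [Abelian C] [IsGrothendieckAbelian.{w} C]

lemma mono_mk_comp_of_inf_eq_bot {X M : C} (m : M ⟶ X) [Mono m] (T : Subobject X)
    (h : Subobject.mk m ⊓ T = ⊥) : Mono (m ≫ cokernel.π T.arrow) := by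
  have := mono_of_inf_eq_bot _ _ h
  have h1 : m ≫ cokernel.π T.arrow =
      (Subobject.underlyingIso m).inv ≫ (Subobject.mk m).arrow ≫ cokernel.π T.arrow := by
    rw [← Category.assoc, ← Subobject.underlyingIso_hom_comp_eq_mk, Iso.inv_hom_id_assoc]
  rw [h1]
  infer_instance

lemma inf_eq_bot_of_mono_mk_comp {X M : C} (m : M ⟶ X) [Mono m] (T : Subobject X)
    (h : Mono (m ≫ cokernel.π T.arrow)) : Subobject.mk m ⊓ T = ⊥ := by
  apply inf_eq_bot_of_mono
  rw [← Subobject.underlyingIso_hom_comp_eq_mk, Category.assoc]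
  infer_instance

lemma inf_iSup_eq_bot {X : C} (T : Subobject X) {K : Type w} [SmallCategory K] [IsFiltered K]
    (F : K ⥤ MonoOver X) (h : ∀ k, Subobject.mk (F.obj k).obj.hom ⊓ T = ⊥) :
    (⨆ k, Subobject.mk (F.obj k).obj.hom) ⊓ T = ⊥ := by
  let π := cokernel.π T.arrow
  have hm : ∀ k, Mono ((F.obj k).obj.hom ≫ π) := fun k => mono_mk_comp_of_inf_eq_bot _ T (h k)
  let F' : K ⥤ MonoOver (cokernel T.arrow) :=
    { obj := fun k => @MonoOver.mk _ _ _ _ ((F.obj k).obj.hom ≫ π) (hm k)
      map := fun {k k'} g => MonoOver.homMk ((F.map g).hom.left) (by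
        change (F.map g).hom.left ≫ (F.obj k').obj.hom ≫ π = (F.obj k).obj.hom ≫ π
        rw [← Category.assoc]
        congr 1
        exact MonoOver.w (F.map g))
      map_id := fun _ => Subsingleton.elim _ _
      map_comp := fun _ _ => Subsingleton.elim _ _ }
  let G := F' ⋙ MonoOver.forget _ ⋙ Over.forget _
  let f' : colimit G ⟶ cokernel T.arrow := colimit.desc G (Cocone.mk _
    { app := fun k => (F'.obj k).obj.hom
      naturality := fun k k' g => by
        dsimp
        rw [Category.comp_id]
        exact MonoOver.w (F'.map g) })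
  have hf' : Mono f' :=
    IsGrothendieckAbelian.mono_of_isColimit_monoOver F' (colimit.isColimit G) f'
      (fun k => colimit.ι_desc _ _)
  let f : colimit G ⟶ X := colimit.desc G (Cocone.mk _
    { app := fun k => (F.obj k).obj.hom
      naturality := fun k k' g => by
        dsimp
        rw [Category.comp_id]
        exact MonoOver.w (F.map g) })
  have hff : f ≫ π = f' := by
    apply colimit.hom_ext
    intro k
    rw [colimit.ι_desc_assoc, colimit.ι_desc]
    rfl
  have hf : Mono f := by
    haveI : Mono (f ≫ π) := by rw [hff]; exact hf'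
    exact mono_of_mono f π
  have h1 : Subobject.mk f ⊓ T = ⊥ := inf_eq_bot_of_mono_mk_comp f T (by rw [hff]; exact hf')
  have h2 : (⨆ k, Subobject.mk (F.obj k).obj.hom) ≤ Subobject.mk f := by
    rw [iSup_le_iff]
    intro k
    exact Subobject.mk_le_mk_of_comm (colimit.ι G k) (colimit.ι_desc _ _)
  exact eq_bot_iff.mpr (le_trans (inf_le_inf_right T h2) h1.le)

section

variable (P : ObjectProperty C) {X : C} (hX : Tor.{w} P X)

/-- the transfinite iteration of `larger` as a functor to `MonoOver X` -/
noncomputable def functorToMonoOver (J : Type w) [LinearOrder J] [OrderBot J] [SuccOrder J]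
    [WellFoundedLT J] : J ⥤ MonoOver X where
  obj j := MonoOver.mk (transfiniteIterate (larger P hX) j ⊥).arrow
  map {j j'} f := MonoOver.homMk (Subobject.ofLE _ _
      (monotone_transfiniteIterate _ _ (le_larger P hX) (leOfHom f)))
  map_id := fun _ => Subsingleton.elim _ _
  map_comp := fun _ _ => Subsingleton.elim _ _

lemma top_mem_range {J : Type w} [LinearOrder J] [OrderBot J] [SuccOrder J]
    [WellFoundedLT J] (hJ : HasCardinalLT (Subobject X) (Cardinal.mk J)) :
    ∃ (j : J), transfiniteIterate (larger P hX) j ⊥ = ⊤ :=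
  top_mem_range_transfiniteIterate (larger P hX) ⊥ (lt_larger P hX) (larger_top P hX)
    (fun h ↦ by simpa [hasCardinalLT_iff_cardinal_mk_lt] using hJ.of_injective _ h)

lemma exists_ordinal :
    ∃ (o : Ordinal.{w}) (j : o.ToType), transfiniteIterate (larger P hX) j ⊥ = ⊤ := by
  let κ := Order.succ (Cardinal.mk (Shrink.{w} (Subobject X)))
  have : Nonempty κ.ord.ToType := by simp [κ]
  have := WellFoundedLT.toOrderBot κ.ord.ToType
  exact ⟨κ.ord, top_mem_range P hX (lt_of_lt_of_le (Order.lt_succ _) (by simp [κ]))⟩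

lemma iterate_inf_eq_bot (T : Subobject X)
    (hT : ∀ D : Subobject X, D ≤ T → SQ.{w} P (D : C) → D = ⊥)
    {J : Type w} [LinearOrder J] [OrderBot J] [SuccOrder J] [WellFoundedLT J] (j : J) :
    transfiniteIterate (larger P hX) j ⊥ ⊓ T = ⊥ := by
  induction j using SuccOrder.limitRecOn with
  | isMin k hk =>
    obtain rfl := hk.eq_bot
    rw [transfiniteIterate_bot]
    exact bot_inf_eq _
  | succ k hk IH =>
    rw [transfiniteIterate_succ _ _ _ hk]
    set A := transfiniteIterate (larger P hX) k ⊥ with hA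
    apply hT _ inf_le_right
    have h1 : (larger P hX A ⊓ T) ⊓ A = ⊥ := by
      apply eq_bot_iff.mpr
      calc (larger P hX A ⊓ T) ⊓ A ≤ T ⊓ A := inf_le_inf_right A inf_le_right
        _ = A ⊓ T := inf_comm _ _
        _ = ⊥ := IH
    have := mono_to_quot (larger P hX A ⊓ T) A (larger P hX A) inf_le_left (le_larger P hX A) h1
    exact SQ_of_mono P (Subobject.ofLE (larger P hX A ⊓ T) (larger P hX A) inf_le_left ≫
      cokernel.π (Subobject.ofLE A (larger P hX A) (le_larger P hX A))) (SQ_larger P hX A)
  | isSuccLimit k hk IH =>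
    rw [transfiniteIterate_limit _ _ _ hk]
    have := hk.nonempty_Iio.to_subtype
    have key := inf_iSup_eq_bot T
      ((Set.principalSegIio k).monotone.functor ⋙ functorToMonoOver P hX J) (fun l => by
        dsimp [functorToMonoOver]
        rw [Subobject.mk_arrow]
        exact IH l.1 l.2)
    dsimp [functorToMonoOver] at key
    simp only [Subobject.mk_arrow] at key
    exact key

include hX in
lemma exists_sub_SQ (T : Subobject X) (hT : T ≠ ⊥) :
    ∃ D : Subobject X, D ≤ T ∧ D ≠ ⊥ ∧ SQ.{w} P (D : C) := by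
  by_contra hcon
  push Not at hcon
  obtain ⟨o, j, hj⟩ := exists_ordinal P hX
  have : Nonempty o.ToType := ⟨j⟩
  have : OrderBot o.ToType := WellFoundedLT.toOrderBot _
  have h1 := iterate_inf_eq_bot P hX T (fun D hD hQ => by
    by_contra hne
    exact hcon D hD hne hQ) j
  rw [hj, top_inf_eq] at h1
  exact hT h1

end

end H43GL
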