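import Groth.Agent.Lib.Helper43.GabLocE

/-!
# `Tor P` is a localizing class (helper43)
-/

universe w v u
open CategoryTheory CategoryTheory.Limits ZeroObject

namespace H43GL

variable {C : Type u} [Category.{v} C] [Abelian C] [IsGrothendieckAbelian.{w} C]

lemma Tor_of_mono (P : ObjectProperty C) {Y X : C} (f : Y ⟶ X) [Mono f] (hX : Tor.{w} P X) :
    Tor.{w} P Y := by
  intro S p hp hS
  let k := kernel.ι p
  let π' := cokernel.π (k ≫ f)
  have hk : kernel.ι p ≫ f ≫ π' = 0 := by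
    rw [← Category.assoc]
    exact cokernel.condition (k ≫ f)
  let m : S ⟶ cokernel (k ≫ f) := Abelian.epiDesc p (f ≫ π') hk
  have hpm : p ≫ m = f ≫ π' := Abelian.comp_epiDesc p (f ≫ π') hk
  haveI : Mono m := by
    apply mono_of_epi_comp p m
    intro T g hg
    rw [hpm] at hg
    obtain ⟨y, hy⟩ := exists_factor (k ≫ f) (g ≫ f) (by rw [Category.assoc]; exact hg)
    have h2 : g = y ≫ k := by
      rw [← cancel_mono f, Category.assoc, hy]
    rw [h2, Category.assoc]
    simp [k]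
  have hX' : Tor.{w} P (cokernel (k ≫ f)) := Tor_of_epi P π' hX
  have hT : Subobject.mk m ≠ ⊥ := by
    intro h0
    rw [Subobject.mk_eq_bot_iff_zero] at h0
    apply hS
    rw [IsZero.iff_id_eq_zero, ← cancel_mono m, h0, comp_zero, comp_zero]
  obtain ⟨D, hD, hD0, hQ⟩ := exists_sub_SQ P hX' (Subobject.mk m) hT
  refine ⟨(D : C), Subobject.ofLE D _ hD ≫ (Subobject.underlyingIso m).hom, mono_comp _ _, ?_, hQ⟩
  intro hz
  apply hD0
  rw [← Subobject.mk_arrow D, Subobject.mk_eq_bot_iff_zero]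
  exact hz.eq_of_src _ _

instance Tor_containsZero (P : ObjectProperty C) : (Tor.{w} P).ContainsZero :=
  ⟨⟨0, isZero_zero C, Tor_of_isZero P (isZero_zero C)⟩⟩

instance Tor_subobjects (P : ObjectProperty C) : (Tor.{w} P).IsClosedUnderSubobjects :=
  ⟨fun f _ hY => Tor_of_mono P f hY⟩

instance Tor_quotients (P : ObjectProperty C) : (Tor.{w} P).IsClosedUnderQuotients :=
  ⟨fun f _ hX => Tor_of_epi P f hX⟩

instance Tor_extensions (P : ObjectProperty C) : (Tor.{w} P).IsClosedUnderExtensions :=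
  ⟨fun hS h₁ h₃ => Tor_ext P hS h₁ h₃⟩

instance Tor_serre (P : ObjectProperty C) : (Tor.{w} P).IsSerreClass where

lemma Tor_isLocalizing (P : ObjectProperty C) : GabLoc.IsLocalizing.{w} (Tor.{w} P) where
  isSerreClass := inferInstance
  isClosedUnderCoproducts := fun J => ⟨by
    rintro X ⟨h⟩
    let Xf : J → C := fun j => h.diag.obj ⟨j⟩
    let π : ∐ Xf ⟶ X := Sigma.desc (fun j => h.ι.app ⟨j⟩)
    haveI : Epi π := ⟨fun g g' hgg => h.isColimit.hom_ext (fun ⟨j⟩ => by
      have := Sigma.ι Xf j ≫= hgg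
      simpa [π] using this)⟩
    exact Tor_of_epi P π (Tor_sigma P Xf (fun j => h.prop_diag_obj ⟨j⟩))⟩

lemma Tor_of_locClosure (P : ObjectProperty C) {X : C} (h : GabLoc.locClosure.{w} P X) :
    Tor.{w} P X :=
  h (Tor.{w} P) (Tor_isLocalizing P) (fun _ hY => Tor_of_P P hY)

end H43GL
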