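import Groth.Agent.Lib.Helper43.GabLocF

/-!
# The forward direction: a transfinite filtration of a `Tor` object (helper43)
-/

universe w v u
open CategoryTheory CategoryTheory.Limits ZeroObject

namespace H43GL

variable {C : Type u} [Category.{v} C] [Abelian C] [IsGrothendieckAbelian.{w} C]

section

variable (P : ObjectProperty C) {X : C} (hX : Tor.{w} P X)

lemma step_mem (A : Subobject X) :
    GabLoc.monoModSubquot.{w} P (Subobject.ofLE A (larger P hX A) (le_larger P hX A)) :=
  ⟨inferInstance, SQ_larger P hX A⟩

lemma step_mem_of_eq (A B : Subobject X) (hAB : A ≤ B) (hB : B = larger P hX A) :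
    GabLoc.monoModSubquot.{w} P (Subobject.ofLE A B hAB) := by
  subst hB
  exact step_mem P hX A

variable (J : Type w) [LinearOrder J] [OrderBot J] [SuccOrder J] [WellFoundedLT J]

/-- the underlying functor `J ⥤ C` -/
noncomputable abbrev functor : J ⥤ C :=
  functorToMonoOver P hX J ⋙ MonoOver.forget _ ⋙ Over.forget _

set_option backward.defeqAttrib.useBackward true in
instance : (functor P hX J).IsWellOrderContinuous where
  nonempty_isColimit m hm := ⟨by
    have := hm.nonempty_Iio.to_subtype
    let c := (Set.principalSegIio m).cocone (functorToMonoOver P hX J ⋙ MonoOver.forget _)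
    have : Mono c.pt.hom := by dsimp [c, functorToMonoOver]; infer_instance
    apply IsGrothendieckAbelian.isColimitMapCoconeOfSubobjectMkEqISup
      ((Set.principalSegIio m).monotone.functor ⋙ functorToMonoOver P hX J) c
    dsimp [c, functorToMonoOver]
    simp only [Subobject.mk_arrow]
    exact transfiniteIterate_limit (larger P hX) ⊥ m hm⟩

set_option backward.isDefEq.respectTransparency.types false in
set_option backward.defeqAttrib.useBackward true in
variable {J} in
/-- the map from the bottom stage to stage `j` is a transfinite composition -/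
noncomputable def transfiniteCompositionOfShapeMapFromBot (j : J) :
    (GabLoc.monoModSubquot.{w} P).TransfiniteCompositionOfShape (Set.Iic j)
    ((functor P hX J).map (homOfLE bot_le : ⊥ ⟶ j)) where
  F := (Set.initialSegIic j).monotone.functor ⋙ functor P hX J
  isoBot := Iso.refl _
  incl :=
    { app k := (functor P hX J).map (homOfLE k.2)
      naturality k k' h := by
        dsimp only [Functor.const_obj_obj, Functor.const_obj_map]
        rw [Category.comp_id, Functor.comp_map, ← Functor.map_comp]
        exact congr_arg (functor P hX J).map (Subsingleton.elim _ _) }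
  isColimit := colimitOfDiagramTerminal isTerminalTop _
  map_mem k hk := by
    dsimp [MonoOver.forget, functorToMonoOver]
    apply step_mem_of_eq
    rw [Set.Iic.succ_eq_of_not_isMax hk,
      transfiniteIterate_succ _ _ _ (Set.not_isMax_coe _ hk)]

set_option backward.defeqAttrib.useBackward true in
set_option backward.isDefEq.respectTransparency false in
variable {J} in
/-- if the iteration reaches `⊤`, `0 ⟶ X` is a transfinite composition -/
noncomputable def transfiniteCompositionOfShapeOfEqTop {j : J}
    (hj : transfiniteIterate (larger P hX) j ⊥ = ⊤) :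
    (GabLoc.monoModSubquot.{w} P).TransfiniteCompositionOfShape (Set.Iic j)
      (0 : (0 : C) ⟶ X) := by
  let t := transfiniteIterate (larger P hX) j ⊥
  have := (Subobject.isIso_arrow_iff_eq_top t).2 hj
  apply (transfiniteCompositionOfShapeMapFromBot P hX j).ofArrowIso
  refine Arrow.isoMk ((Subobject.isoOfEq _ _ (transfiniteIterate_bot _ _) ≪≫
    Subobject.botCoeIsoZero)) (asIso t.arrow) ?_
  apply IsZero.eq_of_src
  exact IsZero.of_iso (isZero_zero C) (Subobject.isoOfEq _ _ (transfiniteIterate_bot _ _) ≪≫
    Subobject.botCoeIsoZero)

end

theorem forward {P : ObjectProperty C} {X : C} (h : GabLoc.locClosure.{w} P X) :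
    MorphismProperty.transfiniteCompositions.{w} (GabLoc.monoModSubquot.{w} P)
      (0 : (0 : C) ⟶ X) := by
  have hX := Tor_of_locClosure P h
  obtain ⟨o, j, hj⟩ := exists_ordinal P hX
  have : Nonempty o.ToType := ⟨j⟩
  have : OrderBot o.ToType := WellFoundedLT.toOrderBot _
  exact MorphismProperty.transfiniteCompositionsOfShape_le_transfiniteCompositions _ (Set.Iic j) _
    ⟨transfiniteCompositionOfShapeOfEqTop P hX hj⟩

end H43GL
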