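import Mathlib.CategoryTheory.Sites.PrecoverageToGrothendieck
import Mathlib.CategoryTheory.Sites.Precoverage
import Mathlib.CategoryTheory.Sites.SheafOfTypes
import Mathlib.CategoryTheory.Sites.IsSheafFor

/-!
# The topology generated by two precoverages `P`, `P'` (SGA 3 IV 6.2) (helper43)
-/

set_option autoImplicit false
set_option linter.deprecated false
open CategoryTheory CategoryTheory.Limits
universe w v₁ u₁

namespace Groth.Agent.Lib.Helper43.GenTop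

variable {C : Type u₁} [Category.{v₁} C]

lemma bind_mem (P : Precoverage C) [P.IsStableUnderComposition] {X : C} {R : Presieve X}
    (hR : R ∈ P X) (Q : ∀ ⦃Y : C⦄ ⦃f : Y ⟶ X⦄, R f → Presieve Y)
    (hQ : ∀ ⦃Y : C⦄ ⦃f : Y ⟶ X⦄ (hf : R f), Q hf ∈ P Y) : Presieve.bind R Q ∈ P X := by
  let ι := {x : Σ Z, (Z ⟶ X) // R x.2}
  let σ : ι → Type (max u₁ v₁) := fun i => {y : Σ W, (W ⟶ i.1.1) // Q i.2 y.2}
  have h₁ : Presieve.ofArrows (fun i : ι => i.1.1) (fun i => i.1.2) = R :=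
    le_antisymm (fun Z g ⟨x⟩ => x.2) (fun Z g hg => .mk (⟨⟨_, _⟩, hg⟩ : ι))
  have h₂ : ∀ i : ι, Presieve.ofArrows (fun j : σ i => j.1.1) (fun j => j.1.2) = Q i.2 :=
    fun i => le_antisymm (fun Z g ⟨x⟩ => x.2) (fun Z g hg => .mk (⟨⟨_, _⟩, hg⟩ : σ i))
  have := P.comp_mem_coverings (ι := ι) (σ := σ) (fun i => i.1.2) (by rw [h₁]; exact hR)
    (fun i j => j.1.2) (fun i => by rw [h₂]; exact hQ i.2)
  convert this using 1
  refine le_antisymm ?_ ?_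
  · rintro Z h ⟨Y, g, f, H, hg, rfl⟩
    exact Presieve.ofArrows.mk (ι := Σ i : ι, σ i) ⟨⟨⟨Y, f⟩, H⟩, ⟨⟨_, g⟩, hg⟩⟩
  · rintro Z h ⟨p⟩
    exact Presieve.bind_comp _ p.1.2 p.2.2

/-- the standing hypotheses of SGA 3 IV 6.2.1 -/
structure Hyp (C' : C → Prop) (P P' : Precoverage C) : Prop where
  hP'C : ∀ ⦃X : C⦄ ⦃R : Presieve X⦄, R ∈ P' X → C' X ∧ ∀ ⦃Y : C⦄ ⦃f : Y ⟶ X⦄, R f → C' Y
  hP'id : ∀ ⦃X : C⦄, C' X → Presieve.singleton (𝟙 X) ∈ P' X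
  ha : ∀ ⦃X : C⦄ ⦃R : Presieve X⦄, R ∈ P' X → ∀ ⦃T : C⦄ (g : T ⟶ X), C' T →
      ∃ _ : R.HasPullbacks g, Presieve.pullbackArrows g R ∈ P' T
  hb : ∀ X : C, ∃ R ∈ P X, ∀ ⦃Y : C⦄ ⦃f : Y ⟶ X⦄, R f → C' Y
  hc : ∀ ⦃S : C⦄ ⦃R₁ : Presieve S⦄, R₁ ∈ P' S →
      ∀ (R₂ : ∀ ⦃Y : C⦄ ⦃f : Y ⟶ S⦄, R₁ f → Presieve Y),
        (∀ ⦃Y : C⦄ ⦃f : Y ⟶ S⦄ (hf : R₁ f), R₂ hf ∈ P Y ∧ ∀ ⦃Z : C⦄ ⦃g : Z ⟶ Y⦄, R₂ hf g → C' Z) →
      ∀ (R₃ : ∀ ⦃Y : C⦄ ⦃f : Y ⟶ S⦄ (hf : R₁ f) ⦃Z : C⦄ ⦃g : Z ⟶ Y⦄, R₂ hf g → Presieve Z),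
        (∀ ⦃Y : C⦄ ⦃f : Y ⟶ S⦄ (hf : R₁ f) ⦃Z : C⦄ ⦃g : Z ⟶ Y⦄ (hg : R₂ hf g), R₃ hf hg ∈ P' Z) →
      ∃ T ∈ P' S, ∀ ⦃W : C⦄ ⦃q : W ⟶ S⦄, T q →
        ∃ (Y Z V : C) (f : Y ⟶ S) (hf : R₁ f) (g : Z ⟶ Y) (hg : R₂ hf g) (h : V ⟶ Z) (_ : R₃ hf hg h)
          (r : W ⟶ V), r ≫ h ≫ g ≫ f = q

/-- `S'` contains a composite family `P' ∘ P` with middle objects in `C'` -/
def Comp (C' : C → Prop) (P P' : Precoverage C) {X : C} (S' : Sieve X) : Prop :=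
  ∃ R ∈ P X, (∀ ⦃Y : C⦄ ⦃f : Y ⟶ X⦄, R f → C' Y) ∧
    ∀ ⦃Y : C⦄ ⦃f : Y ⟶ X⦄, R f → ∃ R' ∈ P' Y, ∀ ⦃Z : C⦄ ⦃g : Z ⟶ Y⦄, R' g → S' (g ≫ f)

variable {C' : C → Prop} {P P' : Precoverage C}

lemma comp_iff {X : C} (S' : Sieve X) :
    Comp C' P P' S' ↔
      ∃ (R : Presieve X) (_ : R ∈ P X) (_ : ∀ ⦃Y : C⦄ ⦃f : Y ⟶ X⦄, R f → C' Y)
        (R' : ∀ ⦃Y : C⦄ ⦃f : Y ⟶ X⦄, R f → Presieve Y),
        (∀ ⦃Y : C⦄ ⦃f : Y ⟶ X⦄ (hf : R f), R' hf ∈ P' Y) ∧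
        ∀ ⦃Y : C⦄ ⦃f : Y ⟶ X⦄ (hf : R f) ⦃Z : C⦄ ⦃g : Z ⟶ Y⦄, R' hf g → S' (g ≫ f) := by
  constructor
  · rintro ⟨R, hR, hC, h⟩
    have h' : ∀ (Y : C) (f : Y ⟶ X) (hf : R f),
        ∃ R' ∈ P' Y, ∀ ⦃Z : C⦄ ⦃g : Z ⟶ Y⦄, R' g → S' (g ≫ f) := fun Y f hf => h hf
    choose R' h₁ h₂ using h'
    exact ⟨R, hR, hC, fun Y f hf => R' Y f hf, fun Y f hf => h₁ Y f hf,
      fun Y f hf Z g hg => h₂ Y f hf hg⟩
  · rintro ⟨R, hR, hC, R', h₁, h₂⟩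
    exact ⟨R, hR, hC, fun Y f hf => ⟨R' hf, h₁ hf, fun Z g hg => h₂ hf hg⟩⟩

lemma mem_of_comp {X : C} {S' : Sieve X} (h : Comp C' P P' S') :
    S' ∈ (P ⊔ P').toGrothendieck X := by
  obtain ⟨R, hR, -, h⟩ := h
  have hR' : Sieve.generate R ∈ (P ⊔ P').toGrothendieck X :=
    Precoverage.generate_mem_toGrothendieck (Or.inl hR)
  refine (P ⊔ P').toGrothendieck.transitive hR' S' ?_
  rintro Y f ⟨Z, g, f', hf', rfl⟩
  obtain ⟨R', hR'', h'⟩ := h hf'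
  rw [Sieve.pullback_comp]
  apply (P ⊔ P').toGrothendieck.pullback_stable
  have : Sieve.generate R' ∈ (P ⊔ P').toGrothendieck Z :=
    Precoverage.generate_mem_toGrothendieck (Or.inr hR'')
  refine (P ⊔ P').toGrothendieck.superset_covering ?_ this
  rintro W k ⟨V, k₁, k₂, hk₂, rfl⟩
  show S' ((k₁ ≫ k₂) ≫ f')
  rw [Category.assoc]
  exact S'.downward_closed (h' hk₂) k₁

section Hard

variable (H : Hyp C' P P')
include H

lemma comp_top (X : C) : Comp C' P P' (⊤ : Sieve X) := by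
  obtain ⟨R, hR, hC⟩ := H.hb X
  exact ⟨R, hR, hC, fun Y f hf => ⟨_, H.hP'id (hC hf), fun Z g _ => trivial⟩⟩

lemma comp_of_P' {X : C} {R₀ : Presieve X} (hR₀ : R₀ ∈ P' X) :
    Comp C' P P' (Sieve.generate R₀) := by
  obtain ⟨R, hR, hC⟩ := H.hb X
  refine ⟨R, hR, hC, fun Y f hf => ?_⟩
  obtain ⟨hpb, hmem⟩ := H.ha hR₀ f (hC hf)
  refine ⟨_, hmem, ?_⟩
  rintro Z g ⟨W, h, hh⟩
  have := R₀.hasPullback f hh
  exact ⟨W, pullback.fst h f, h, hh, pullback.condition⟩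

variable [P.IsStableUnderComposition]

lemma comp_of_P {X : C} {R₀ : Presieve X} (hR₀ : R₀ ∈ P X) :
    Comp C' P P' (Sieve.generate R₀) := by
  refine ⟨Presieve.bind R₀ (fun Y f _ => (H.hb Y).choose),
    bind_mem P hR₀ _ (fun Y f _ => (H.hb Y).choose_spec.1), ?_, ?_⟩
  · rintro Z h ⟨Y, g, f, hf, hg, rfl⟩
    exact (H.hb Y).choose_spec.2 hg
  · rintro Z h ⟨Y, g, f, hf, hg, rfl⟩
    refine ⟨_, H.hP'id ((H.hb Y).choose_spec.2 hg), ?_⟩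
    intro W k _
    exact ⟨Y, k ≫ g, f, hf, by simp⟩

variable [P.HasPullbacks] [P.IsStableUnderBaseChange]

lemma comp_pullback {X : C} {S' : Sieve X} (h : Comp C' P P' S') {Y : C} (f : Y ⟶ X) :
    Comp C' P P' (S'.pullback f) := by
  obtain ⟨R, hR, hC, hR'⟩ := h
  have : R.HasPullbacks f := P.hasPullbacks_of_mem f hR
  have hRY : Presieve.pullbackArrows f R ∈ P Y := P.pullbackArrows_mem f hR
  refine ⟨Presieve.bind (Presieve.pullbackArrows f R) (fun W k _ => (H.hb W).choose),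
    bind_mem P hRY _ (fun W k _ => (H.hb W).choose_spec.1), ?_, ?_⟩
  · rintro Z m ⟨W, g, k, hk, hg, rfl⟩
    exact (H.hb W).choose_spec.2 hg
  · rintro Z m ⟨W, g, k, hk, hg, rfl⟩
    have hCZ : C' Z := (H.hb W).choose_spec.2 hg
    obtain ⟨V, h, hh⟩ := hk
    have := R.hasPullback f hh
    obtain ⟨R', hR'P, hR'S⟩ := hR' hh
    obtain ⟨hpb, hmem⟩ := H.ha hR'P (g ≫ pullback.fst h f) hCZ
    refine ⟨_, hmem, ?_⟩
    rintro Z' g' ⟨V', r, hr⟩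
    have := R'.hasPullback (g ≫ pullback.fst h f) hr
    show S' ((pullback.snd r (g ≫ pullback.fst h f) ≫ g ≫ pullback.snd h f) ≫ f)
    have e : (pullback.snd r (g ≫ pullback.fst h f) ≫ g ≫ pullback.snd h f) ≫ f =
        pullback.fst r (g ≫ pullback.fst h f) ≫ r ≫ h := by
      rw [Category.assoc, Category.assoc, ← pullback.condition, ← Category.assoc g,
        ← pullback.condition_assoc]
    rw [e]
    exact S'.downward_closed (hR'S hr) _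

omit [P.IsStableUnderComposition] [P.HasPullbacks] [P.IsStableUnderBaseChange] in
lemma comp_trans {X : C} {S T : Sieve X} (hS : Comp C' P P' S)
    (hT : ∀ ⦃Y : C⦄ ⦃f : Y ⟶ X⦄, S f → Comp C' P P' (T.pullback f)) : Comp C' P P' T := by
  obtain ⟨R, hR, hC, hR'⟩ := hS
  refine ⟨R, hR, hC, fun Y f hf => ?_⟩
  obtain ⟨R₁, hR₁P, hR₁S⟩ := hR' hf
  have h₂ : ∀ (Y' : C) (g : Y' ⟶ Y) (hg : R₁ g), ∃ R₂ ∈ P Y',
      (∀ ⦃Z : C⦄ ⦃k : Z ⟶ Y'⦄, R₂ k → C' Z) ∧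
      ∀ (Z : C) (k : Z ⟶ Y'), R₂ k → ∃ R₃ ∈ P' Z,
        ∀ ⦃V : C⦄ ⦃l : V ⟶ Z⦄, R₃ l → T (l ≫ k ≫ g ≫ f) := by
    intro Y' g hg
    obtain ⟨R₂, hR₂P, hR₂C, hR₂⟩ := hT (hR₁S hg)
    refine ⟨R₂, hR₂P, hR₂C, fun Z k hk => ?_⟩
    obtain ⟨R₃, hR₃P, hR₃⟩ := hR₂ hk
    refine ⟨R₃, hR₃P, fun V l hl => ?_⟩
    have := hR₃ hl
    simpa using this
  choose R₂ hR₂P hR₂C h₃ using h₂
  choose R₃ hR₃P hR₃T using h₃
  obtain ⟨T', hT'P, hT'⟩ := H.hc hR₁P (fun Y' g hg => R₂ Y' g hg)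
    (fun Y' g hg => ⟨hR₂P Y' g hg, fun Z k hk => hR₂C Y' g hg hk⟩)
    (fun Y' g hg Z k hk => R₃ Y' g hg Z k hk)
    (fun Y' g hg Z k hk => hR₃P Y' g hg Z k hk)
  refine ⟨T', hT'P, fun W q hq => ?_⟩
  obtain ⟨Y', Z, V, g, hg, k, hk, l, hl, r, rfl⟩ := hT' hq
  have := T.downward_closed (hR₃T Y' g hg Z k hk hl) r
  simpa using this

lemma comp_of_mem {X : C} {S' : Sieve X} (h : S' ∈ (P ⊔ P').toGrothendieck X) :
    Comp C' P P' S' := by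
  rw [Precoverage.mem_toGrothendieck_iff] at h
  induction h with
  | of X R hR =>
    rcases hR with hR | hR
    · exact comp_of_P H hR
    · exact comp_of_P' H hR
  | top X => exact comp_top H X
  | pullback X S _ Y f ih => exact comp_pullback H ih f
  | transitive X S R _ _ ih₁ ih₂ => exact comp_trans H ih₁ ih₂

lemma mem_iff_comp {X : C} {S' : Sieve X} :
    S' ∈ (P ⊔ P').toGrothendieck X ↔ Comp C' P P' S' :=
  ⟨comp_of_mem H, mem_of_comp⟩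

section SheafCrit

open Opposite

variable (F : Cᵒᵖ ⥤ Type w)
  (hP : ∀ ⦃X : C⦄ ⦃R : Presieve X⦄, R ∈ P X → Presieve.IsSheafFor F R)
  (hP' : ∀ ⦃X : C⦄ ⦃R : Presieve X⦄, R ∈ P' X → Presieve.IsSheafFor F R)

omit H [P.IsStableUnderComposition] [P.HasPullbacks] [P.IsStableUnderBaseChange] in
lemma fam_congr {X : C} {R : Presieve X} (x : Presieve.FamilyOfElements F R) {Y : C}
    {f f' : Y ⟶ X} (e : f = f') (hf : R f) (hf' : R f') : x f hf = x f' hf' := by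
  subst e; rfl

include hP hP' in
lemma isSeparatedFor_of_mem {X : C} {S' : Sieve X} (h : S' ∈ (P ⊔ P').toGrothendieck X) :
    Presieve.IsSeparatedFor F S'.arrows := by
  obtain ⟨R, hR, hC, hR'⟩ := comp_of_mem H h
  intro x t₁ t₂ h₁ h₂
  apply (hP hR).isSeparatedFor.ext
  intro Y f hf
  obtain ⟨R', hR'P, hR'S⟩ := hR' hf
  apply (hP' hR'P).isSeparatedFor.ext
  intro Z g hg
  have e₁ := h₁ (g ≫ f) (hR'S hg)
  have e₂ := h₂ (g ≫ f) (hR'S hg)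
  rw [op_comp, FunctorToTypes.map_comp_apply] at e₁ e₂
  exact e₁.trans e₂.symm

include hP hP' in
lemma isSheafFor_of_mem {X : C} {S' : Sieve X} (h : S' ∈ (P ⊔ P').toGrothendieck X) :
    Presieve.IsSheafFor F S'.arrows := by
  rw [← Presieve.isSeparatedFor_and_exists_isAmalgamation_iff_isSheafFor]
  refine ⟨isSeparatedFor_of_mem H F hP hP' h, fun x hx => ?_⟩
  obtain ⟨R, hR, hC, R', hR'P, hR'S⟩ := (comp_iff S').1 (comp_of_mem H h)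
  have hx' := (Presieve.compatible_iff_sieveCompatible x).1 hx
  -- glue along the `P'`-families
  have key₁ : ∀ (Y : C) (f : Y ⟶ X) (hf : R f), ∃ y : F.obj (op Y),
      ∀ ⦃Z : C⦄ ⦃g : Z ⟶ Y⦄ (hg : R' hf g), F.map g.op y = x (g ≫ f) (hR'S hf hg) := by
    intro Y f hf
    have hxf : Presieve.FamilyOfElements.Compatible (P := F) (R := R' hf)
        (fun Z g hg => x (g ≫ f) (hR'S hf hg)) := by
      intro Z₁ Z₂ W k₁ k₂ g₁ g₂ hg₁ hg₂ e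
      show F.map k₁.op (x (g₁ ≫ f) _) = F.map k₂.op (x (g₂ ≫ f) _)
      rw [← hx', ← hx']
      exact fam_congr F x (by rw [reassoc_of% e]) _ _
    exact ⟨(hP' (hR'P hf)).amalgamate _ hxf, fun Z g hg => (hP' (hR'P hf)).valid_glue hxf g hg⟩
  choose y hy using key₁
  -- the glued family on `R` is compatible
  have key₂ : Presieve.FamilyOfElements.Compatible (P := F) (R := R)
      (fun Y f hf => y Y f hf) := by
    intro Y₁ Y₂ W h₁ h₂ f₁ f₂ hf₁ hf₂ e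
    have hcov : (Sieve.generate (R' hf₁)).pullback h₁ ⊓ (Sieve.generate (R' hf₂)).pullback h₂ ∈
        (P ⊔ P').toGrothendieck W := by
      apply GrothendieckTopology.intersection_covering
      · exact GrothendieckTopology.pullback_stable _ _
          (Precoverage.generate_mem_toGrothendieck (Or.inr (hR'P hf₁)))
      · exact GrothendieckTopology.pullback_stable _ _
          (Precoverage.generate_mem_toGrothendieck (Or.inr (hR'P hf₂)))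
    apply (isSeparatedFor_of_mem H F hP hP' hcov).ext
    rintro V k ⟨⟨Z₁, a₁, g₁, hg₁, e₁⟩, ⟨Z₂, a₂, g₂, hg₂, e₂⟩⟩
    show F.map k.op (F.map h₁.op (y Y₁ f₁ hf₁)) = F.map k.op (F.map h₂.op (y Y₂ f₂ hf₂))
    rw [← FunctorToTypes.map_comp_apply, ← FunctorToTypes.map_comp_apply, ← op_comp, ← op_comp,
      ← e₁, ← e₂, op_comp, op_comp, FunctorToTypes.map_comp_apply, FunctorToTypes.map_comp_apply,
      hy Y₁ f₁ hf₁ hg₁, hy Y₂ f₂ hf₂ hg₂, ← hx', ← hx']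
    apply fam_congr
    rw [← Category.assoc, e₁, ← Category.assoc, e₂, Category.assoc, Category.assoc, e]
  refine ⟨(hP hR).amalgamate _ key₂, ?_⟩
  intro Z s hs
  have ht : ∀ ⦃Y : C⦄ ⦃f : Y ⟶ X⦄ (hf : R f),
      F.map f.op ((hP hR).amalgamate _ key₂) = y Y f hf :=
    fun Y f hf => (hP hR).valid_glue key₂ f hf
  -- the composite sieve is covering
  have hcomp : Sieve.generate (Presieve.bind R R') ∈ (P ⊔ P').toGrothendieck X := by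
    apply mem_of_comp (C' := C')
    refine ⟨R, hR, hC, fun Y f hf => ⟨R' hf, hR'P hf, fun Z g hg => ?_⟩⟩
    exact Sieve.le_generate (Presieve.bind R R') _ _ (Presieve.bind_comp f hf hg)
  have hcov : (Sieve.generate (Presieve.bind R R')).pullback s ∈ (P ⊔ P').toGrothendieck Z :=
    GrothendieckTopology.pullback_stable _ _ hcomp
  apply (isSeparatedFor_of_mem H F hP hP' hcov).ext
  rintro V k ⟨W, a, m, ⟨Y, g, f, hf, hg, rfl⟩, e⟩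
  calc F.map k.op (F.map s.op ((hP hR).amalgamate _ key₂))
      = F.map (k ≫ s).op ((hP hR).amalgamate _ key₂) := by
        rw [op_comp, FunctorToTypes.map_comp_apply]
    _ = F.map (a ≫ g ≫ f).op ((hP hR).amalgamate _ key₂) := by rw [e]
    _ = F.map a.op (F.map g.op (F.map f.op ((hP hR).amalgamate _ key₂))) := by
        rw [op_comp, op_comp, FunctorToTypes.map_comp_apply, FunctorToTypes.map_comp_apply]
    _ = F.map a.op (x (g ≫ f) (hR'S hf hg)) := by rw [ht hf, hy Y f hf hg]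
    _ = x (a ≫ g ≫ f) (S'.downward_closed (hR'S hf hg) a) := (hx' _ _ _).symm
    _ = x (k ≫ s) (S'.downward_closed hs k) := fam_congr F x e _ _
    _ = F.map k.op (x s hs) := hx' s k hs

include hP hP' in
lemma isSheaf_of_isSheafFor : Presieve.IsSheaf (P ⊔ P').toGrothendieck F :=
  fun _ _ hS => isSheafFor_of_mem H F hP hP' hS

omit H [P.IsStableUnderComposition] [P.HasPullbacks] [P.IsStableUnderBaseChange] in
lemma isSheafFor_of_isSheaf (hF : Presieve.IsSheaf (P ⊔ P').toGrothendieck F) :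
    (∀ ⦃X : C⦄ ⦃R : Presieve X⦄, R ∈ P X → Presieve.IsSheafFor F R) ∧
    (∀ ⦃X : C⦄ ⦃R : Presieve X⦄, R ∈ P' X → Presieve.IsSheafFor F R) :=
  ⟨fun _ _ hR => hF.isSheafFor_of_mem_precoverage (Or.inl hR),
    fun _ _ hR => hF.isSheafFor_of_mem_precoverage (Or.inr hR)⟩

end SheafCrit

end Hard

end Groth.Agent.Lib.Helper43.GenTop
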