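import Groth.Agent.Lib.Helper43.GerbComp
import Groth.Prelude.Def_FibCat2

/-!
# Gerbes: base change along the first projection of a 2-fibre product over `C`
-/

set_option autoImplicit false
universe v₄ u₄ v₃ u₃ v₂ u₂ v u

open CategoryTheory Functor

namespace Groth.Agent.Lib.Helper43.GerbBC

open Groth.Agent.Lib.Helper43.FibGrpdFun Groth.Agent.Lib.Helper43.GerbComp

section Kit

variable {C : Type u} [Category.{v} C] {𝒳 : Type u₂} [Category.{v₂} 𝒳] (p : 𝒳 ⥤ C)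
  (hp : FibCat.IsFibGrpd p)

include hp in
lemma isIso_of_lift_id (R : C) {a b : 𝒳} (φ : a ⟶ b) [p.IsHomLift (𝟙 R) φ] : IsIso φ := by
  haveI := sc_of_lift p hp (𝟙 R) φ
  exact IsStronglyCartesian.isIso_of_base_isIso p (𝟙 R) φ

end Kit

variable {C : Type u} [Category.{v} C] (J : GrothendieckTopology C)
  {𝒳 : BasedCategory.{v₂, u₂} C} {𝒴 : BasedCategory.{v₃, u₃} C} {𝒮 : BasedCategory.{v₄, u₄} C}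

lemma locSurjObj_at {G : 𝒴 ⥤ᵇ 𝒮} (hG : Gerb.LocSurjObj J G) (s : 𝒮.obj) {U : C}
    (e : 𝒮.p.obj s = U) :
    ∃ R ∈ J U, ∀ ⦃V : C⦄ (f : V ⟶ U), R f →
      ∃ (y : 𝒴.obj) (g : G.obj y ⟶ s), 𝒮.p.IsHomLift f g := by
  subst e; exact hG s

lemma locSurjHom_at {G : 𝒴 ⥤ᵇ 𝒮} (hG : Gerb.LocSurjHom J G) (y y' : 𝒴.obj) {U : C}
    (e : 𝒴.p.obj y = U) (b : G.obj y ⟶ G.obj y') (hb : 𝒮.p.IsHomLift (𝟙 U) b) :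
    ∃ R ∈ J U, ∀ ⦃V : C⦄ (f : V ⟶ U), R f →
      ∃ (y₀ : 𝒴.obj) (φ : y₀ ⟶ y) (ψ : y₀ ⟶ y'),
        𝒴.p.IsHomLift f φ ∧ 𝒴.p.IsHomLift f ψ ∧ G.map φ ≫ b = G.map ψ := by
  subst e; exact hG y y' b hb

variable (F : 𝒳 ⥤ᵇ 𝒮) (G : 𝒴 ⥤ᵇ 𝒮)

theorem locSurjObj_fpFst (h𝒳 : FibCat.IsFibGrpd 𝒳.p) (h𝒮 : FibCat.IsFibGrpd 𝒮.p)
    (hG : Gerb.LocSurjObj J G) : Gerb.LocSurjObj J (FibCat.fpFst F G) := by
  intro x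
  obtain ⟨R, hR, hR'⟩ := locSurjObj_at J hG (F.obj x) (F.w_obj x)
  refine ⟨R, hR, fun V f hf => ?_⟩
  obtain ⟨y, g, hg⟩ := hR' f hf
  obtain ⟨xV, l, hl⟩ := h𝒳.exists_lift f
  have eV : 𝒳.p.obj xV = V := IsHomLift.domain_eq 𝒳.p f l
  subst eV
  haveI : 𝒮.p.IsHomLift f (F.map l) := inferInstance
  obtain ⟨χ, hχ, hχe⟩ := exists_factor_id 𝒮.p h𝒮 f (F.map l) g
  haveI := isIso_of_lift_id 𝒮.p h𝒮 (𝒳.p.obj xV) χ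
  have hz : 𝒮.p.IsHomLift (𝟙 (𝒳.p.obj xV)) (inv χ) := inferInstance
  exact ⟨⟨⟨xV, y, (asIso χ).symm⟩, hz⟩, l, hl⟩

theorem locSurjHom_fpFst (h𝒳 : FibCat.IsFibGrpd 𝒳.p) (h𝒮 : FibCat.IsFibGrpd 𝒮.p)
    (hG : Gerb.LocSurjHom J G) : Gerb.LocSurjHom J (FibCat.fpFst F G) := by
  intro z z' b hb
  obtain ⟨b, rfl⟩ : ∃ b' : z.obj.fst ⟶ z'.obj.fst, b' = b := ⟨b, rfl⟩
  have hb1 : 𝒳.p.IsHomLift (𝟙 (𝒳.p.obj z.obj.fst)) b := hb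
  haveI hz : 𝒮.p.IsHomLift (𝟙 (𝒳.p.obj z.obj.fst)) z.obj.iso.hom := z.property
  have e' : 𝒳.p.obj z'.obj.fst = 𝒳.p.obj z.obj.fst :=
    IsHomLift.codomain_eq 𝒳.p (𝟙 (𝒳.p.obj z.obj.fst)) b
  haveI hz' : 𝒮.p.IsHomLift (𝟙 (𝒳.p.obj z.obj.fst)) z'.obj.iso.hom := by
    rw [← e']; exact z'.property
  let c : G.obj z.obj.snd ⟶ G.obj z'.obj.snd := z.obj.iso.inv ≫ F.map b ≫ z'.obj.iso.hom
  have hc : 𝒮.p.IsHomLift (𝟙 (𝒳.p.obj z.obj.fst)) c := by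
    have h1 : 𝒮.p.IsHomLift (𝟙 (𝒳.p.obj z.obj.fst)) z.obj.iso.inv := inferInstance
    have h2 : 𝒮.p.IsHomLift (𝟙 (𝒳.p.obj z.obj.fst)) (F.map b) := inferInstance
    have h3 : 𝒮.p.IsHomLift (𝟙 (𝒳.p.obj z.obj.fst)) (F.map b ≫ z'.obj.iso.hom) := inferInstance
    infer_instance
  obtain ⟨R, hR, hR'⟩ := locSurjHom_at J hG z.obj.snd z'.obj.snd (U := 𝒳.p.obj z.obj.fst)
    ((FibCat.fpSnd F G).w_obj z) c hc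
  refine ⟨R, hR, fun V (f : V ⟶ 𝒳.p.obj z.obj.fst) hf => ?_⟩
  obtain ⟨y₀, φ, ψ, hφ, hψ, hcφ⟩ := hR' f hf
  obtain ⟨x₀, l, hl⟩ := h𝒳.exists_lift (x := z.obj.fst) f
  have eV : 𝒳.p.obj x₀ = V := IsHomLift.domain_eq 𝒳.p f l
  subst eV
  haveI : 𝒮.p.IsHomLift f (F.map l) := inferInstance
  haveI : 𝒮.p.IsHomLift f (G.map φ) := inferInstance
  haveI : 𝒮.p.IsHomLift f (F.map l ≫ z.obj.iso.hom) := inferInstance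
  obtain ⟨i₀, hi₀, hi₀e⟩ := exists_factor_id 𝒮.p h𝒮 f (G.map φ) (F.map l ≫ z.obj.iso.hom)
  haveI := isIso_of_lift_id 𝒮.p h𝒮 (𝒳.p.obj x₀) i₀
  let z₀ : (FibCat.fp F G).obj := ⟨⟨x₀, y₀, asIso i₀⟩, hi₀⟩
  let Φ : z₀ ⟶ z := ObjectProperty.homMk ⟨l, φ, hi₀e.symm⟩
  have w' : F.map (l ≫ b) ≫ z'.obj.iso.hom = i₀ ≫ G.map ψ := by
    rw [← hcφ, ← Category.assoc, hi₀e]
    simp only [c, Functor.map_comp, Category.assoc, Iso.hom_inv_id_assoc]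
  let Ψ : z₀ ⟶ z' := ObjectProperty.homMk ⟨l ≫ b, ψ, w'⟩
  refine ⟨z₀, Φ, Ψ, ?_, ?_, rfl⟩
  · rw [← (FibCat.fpFst F G).isHomLift_iff]; exact hl
  · rw [← (FibCat.fpFst F G).isHomLift_iff]
    change 𝒳.p.IsHomLift f (l ≫ b)
    infer_instance

theorem isGerbeOver_fpFst (h𝒳 : FibCat.IsFibGrpd 𝒳.p) (h𝒮 : FibCat.IsFibGrpd 𝒮.p)
    (hG : Gerb.IsGerbeOver J G) : Gerb.IsGerbeOver J (FibCat.fpFst F G) :=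
  ⟨locSurjObj_fpFst J F G h𝒳 h𝒮 hG.1, locSurjHom_fpFst J F G h𝒳 h𝒮 hG.2⟩

end Groth.Agent.Lib.Helper43.GerbBC
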