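import Groth.Agent.Lib.Helper43.StkGlue

/-!
# The band of an abelian gerbe (helper43)

For a based category `𝒮` over `C`, `Gpsh 𝒮 : Cᵒᵖ ⥤ GrpCat` is the presheaf of natural families
of automorphisms over identities: `G(U)` = families `a y f ∈ Aut_{p y}(y)` for all `y` and
`f : p y ⟶ U`, natural along all morphisms of `𝒮`.  For an abelian gerbe it is a sheaf and evaluation
`G(p x) → Aut(x)` is an isomorphism (a banding).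
-/

set_option autoImplicit false

universe v u

open CategoryTheory CategoryTheory.Functor Opposite

namespace Groth.Agent.Lib.Helper43.GerbBand

open Groth.Agent.Lib.Helper80 Groth.Agent.Lib.Helper43.StkGlue

variable {C : Type u} [Category.{v} C]

section Basic

variable {𝒮 : BasedCategory.{v, max u v} C}

/-- The underlying morphism of an automorphism over the identity. -/
def ah {x : 𝒮.obj} (α : Gerb.AutO x) : x ⟶ x := V.hom α.hom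

instance ah_isHomLift {x : 𝒮.obj} (α : Gerb.AutO x) : 𝒮.p.IsHomLift (𝟙 (𝒮.p.obj x)) (ah α) :=
  V.hom_isHomLift _

lemma ah_mul {x : 𝒮.obj} (α β : Gerb.AutO x) : ah (α * β) = ah β ≫ ah α := rfl

lemma ah_one {x : 𝒮.obj} : ah (1 : Gerb.AutO x) = 𝟙 x := rfl

lemma ah_inv_comp {x : 𝒮.obj} (α : Gerb.AutO x) : ah α⁻¹ ≫ ah α = 𝟙 x :=
  congrArg V.hom α.inv_hom_id

lemma ah_comp_inv {x : 𝒮.obj} (α : Gerb.AutO x) : ah α ≫ ah α⁻¹ = 𝟙 x :=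
  congrArg V.hom α.hom_inv_id

lemma ah_ext {x : 𝒮.obj} {α β : Gerb.AutO x} (h : ah α = ah β) : α = β :=
  Iso.ext (V.ext' h)

end Basic

variable (𝒮 : BasedCategory.{v, max u v} C)

/-- Families of automorphisms indexed by the objects over `U`. -/
abbrev Fam (U : C) := ∀ y : 𝒮.obj, (𝒮.p.obj y ⟶ U) → Gerb.AutO y

/-- The subgroup of natural families. -/
def Gsub (U : C) : Subgroup (Fam 𝒮 U) where
  carrier := {a | ∀ {y' y : 𝒮.obj} (χ : y' ⟶ y) (f : 𝒮.p.obj y ⟶ U),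
    ah (a y' (𝒮.p.map χ ≫ f)) ≫ χ = χ ≫ ah (a y f)}
  mul_mem' := by
    intro a b ha hb y' y χ f
    change ah (a y' _ * b y' _) ≫ χ = χ ≫ ah (a y f * b y f)
    rw [ah_mul, ah_mul, Category.assoc, ha χ f, ← Category.assoc, hb χ f, Category.assoc]
  one_mem' := by
    intro y' y χ f
    change ah (1 : Gerb.AutO y') ≫ χ = χ ≫ ah (1 : Gerb.AutO y)
    rw [ah_one, ah_one, Category.id_comp, Category.comp_id]
  inv_mem' := by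
    intro a ha y' y χ f
    change ah (a y' _)⁻¹ ≫ χ = χ ≫ ah (a y f)⁻¹
    have h := ha χ f
    calc ah (a y' _)⁻¹ ≫ χ = ah (a y' _)⁻¹ ≫ χ ≫ ah (a y f) ≫ ah (a y f)⁻¹ := by
          rw [ah_comp_inv, Category.comp_id]
      _ = ah (a y' _)⁻¹ ≫ (ah (a y' _) ≫ χ) ≫ ah (a y f)⁻¹ := by
          rw [h, Category.assoc]
      _ = χ ≫ ah (a y f)⁻¹ := by
          rw [Category.assoc, ← Category.assoc, ah_inv_comp, Category.id_comp]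

variable {𝒮}

lemma Gsub_nat {U : C} (a : Gsub 𝒮 U) {y' y : 𝒮.obj} (χ : y' ⟶ y) (f : 𝒮.p.obj y ⟶ U) :
    ah (a.1 y' (𝒮.p.map χ ≫ f)) ≫ χ = χ ≫ ah (a.1 y f) := a.2 χ f

lemma Gsub_nat' {U : C} (a : Gsub 𝒮 U) {y' y : 𝒮.obj} (χ : y' ⟶ y) (f : 𝒮.p.obj y ⟶ U)
    (f' : 𝒮.p.obj y' ⟶ U) (hf' : f' = 𝒮.p.map χ ≫ f) :
    ah (a.1 y' f') ≫ χ = χ ≫ ah (a.1 y f) := by
  subst hf'; exact a.2 χ f

lemma Gsub_ext {U : C} {a b : Gsub 𝒮 U} (h : ∀ y f, ah (a.1 y f) = ah (b.1 y f)) : a = b :=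
  Subtype.ext (funext fun y => funext fun f => ah_ext (h y f))

variable (𝒮)

/-- Restriction of natural families. -/
def resHom {U U' : C} (g : U' ⟶ U) : Gsub 𝒮 U →* Gsub 𝒮 U' where
  toFun a := ⟨fun y f => a.1 y (f ≫ g), by
    intro y' y χ f
    exact Gsub_nat' a χ (f ≫ g) _ (Category.assoc _ _ _)⟩
  map_one' := rfl
  map_mul' _ _ := rfl

@[simp] lemma resHom_apply {U U' : C} (g : U' ⟶ U) (a : Gsub 𝒮 U) (y : 𝒮.obj)
    (f : 𝒮.p.obj y ⟶ U') : (resHom 𝒮 g a).1 y f = a.1 y (f ≫ g) := rfl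

/-- The presheaf of groups of natural families of automorphisms. -/
def Gpsh : Cᵒᵖ ⥤ GrpCat.{max u v} where
  obj U := GrpCat.of (Gsub 𝒮 U.unop)
  map g := GrpCat.ofHom (resHom 𝒮 g.unop)
  map_id U := by
    refine GrpCat.hom_ext (MonoidHom.ext fun a => ?_)
    apply Gsub_ext
    intro y f
    change ah (a.1 y (f ≫ 𝟙 _)) = ah (a.1 y f)
    rw [Category.comp_id]
  map_comp g h := by
    refine GrpCat.hom_ext (MonoidHom.ext fun a => ?_)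
    apply Gsub_ext
    intro y f
    change ah (a.1 y (f ≫ h.unop ≫ g.unop)) = ah (a.1 y ((f ≫ h.unop) ≫ g.unop))
    rw [Category.assoc]

/-- Evaluation at `(x, 𝟙)`. -/
def evHom (x : 𝒮.obj) : Gsub 𝒮 (𝒮.p.obj x) →* Gerb.AutO x where
  toFun a := a.1 x (𝟙 _)
  map_one' := rfl
  map_mul' _ _ := rfl


section Gerbe

variable {𝒮}
variable (J : GrothendieckTopology C) (hp : FibCat.IsFibGrpd 𝒮.p)

/-- A vertical endomorphism in a groupoid fibration, as an automorphism. -/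
noncomputable def toAut {x : 𝒮.obj} (a : V x) : Gerb.AutO x :=
  haveI := IsFibGrpd.isGroupoid_fiber 𝒮.p hp (𝒮.p.obj x)
  asIso a

lemma ah_toAut {x : 𝒮.obj} (a : V x) : ah (toAut hp a) = a.hom := rfl

lemma toAut_hom {x : 𝒮.obj} (α : Gerb.AutO x) : toAut hp α.hom = α := Iso.ext rfl

include hp in
lemma vcomm (hcomm : ∀ (x : 𝒮.obj) (α β : Gerb.AutO x), α * β = β * α) (z : 𝒮.obj)
    (a b : V z) : a ≫ b = b ≫ a := by
  have h := congrArg (fun t : Gerb.AutO z => t.hom) (hcomm z (toAut hp b) (toAut hp a))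
  exact h

include hp in
/-- Local connectedness: objects over `p y` are locally connected to `x` over `f`. -/
lemma exists_conn (hg : Gerb.LocSurjHom J (FibCat.toSelf 𝒮)) (x y : 𝒮.obj)
    (f : 𝒮.p.obj y ⟶ 𝒮.p.obj x) :
    ∃ T ∈ J (𝒮.p.obj y), ∀ {z : 𝒮.obj} (φ : z ⟶ y), T (𝒮.p.map φ) →
      ∃ ψ : z ⟶ x, 𝒮.p.map ψ = 𝒮.p.map φ ≫ f := by
  obtain ⟨x', χ, hχ⟩ := hp.exists_lift f
  have e : 𝒮.p.obj x' = 𝒮.p.obj y := IsHomLift.domain_eq 𝒮.p f χ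
  have hb : (FibCat.selfOver C).p.IsHomLift (𝟙 (𝒮.p.obj y))
      (eqToHom e.symm : (FibCat.toSelf 𝒮).obj y ⟶ (FibCat.toSelf 𝒮).obj x') :=
    IsHomLift.eqToHom_domain_lift_id e.symm rfl
  obtain ⟨R, hR, H⟩ := hg y x' (eqToHom e.symm) hb
  refine ⟨R, hR, fun {z} φ hφ => ?_⟩
  obtain ⟨x₀, φ₀, ψ₀, hφ₀, hψ₀, -⟩ := H (𝒮.p.map φ) hφ
  have := IsFibGrpd.isStronglyCartesian' 𝒮.p hp (𝒮.p.map φ) φ₀
  let θ : z ⟶ x₀ := IsCartesian.map 𝒮.p (𝒮.p.map φ) φ₀ φ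
  have hl : 𝒮.p.IsHomLift (𝟙 (𝒮.p.obj z) ≫ 𝒮.p.map φ ≫ f) (θ ≫ ψ₀ ≫ χ) := inferInstance
  refine ⟨θ ≫ ψ₀ ≫ χ, ?_⟩
  have := IsHomLift.eq_of_isHomLift 𝒮.p (𝟙 (𝒮.p.obj z) ≫ 𝒮.p.map φ ≫ f) (θ ≫ ψ₀ ≫ χ)
  rw [← this, Category.id_comp]

variable (h𝒮 : Stk.IsStack J 𝒮)
  (hcomm : ∀ (x : 𝒮.obj) (α β : Gerb.AutO x), α * β = β * α)
  (hg : Gerb.LocSurjHom J (FibCat.toSelf 𝒮))

include h𝒮 in
lemma sep' {y : 𝒮.obj} (T : Sieve (𝒮.p.obj y)) (hT : T ∈ J (𝒮.p.obj y)) (α α' : V y)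
    (h : ∀ {z : 𝒮.obj} (φ : z ⟶ y), T (𝒮.p.map φ) → φ ≫ α.hom = φ ≫ α'.hom) : α = α' := by
  have : (Stk.resSieve T 𝒮).IsEquivalence := h𝒮.2 T hT
  exact sep h𝒮.1 y T α α' h

include h𝒮 in
lemma glue' {y : 𝒮.obj} (T : Sieve (𝒮.p.obj y)) (hT : T ∈ J (𝒮.p.obj y))
    (β : ∀ {z : 𝒮.obj} (φ : z ⟶ y), T (𝒮.p.map φ) → V z)
    (hβ : ∀ {z' z : 𝒮.obj} (ψ : z' ⟶ z) (φ : z ⟶ y) (h : T (𝒮.p.map φ))
      (h' : T (𝒮.p.map (ψ ≫ φ))), (β (ψ ≫ φ) h').hom ≫ ψ = ψ ≫ (β φ h).hom) :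
    ∃ α : V y, ∀ {z : 𝒮.obj} (φ : z ⟶ y) (h : T (𝒮.p.map φ)), (β φ h).hom ≫ φ = φ ≫ α.hom := by
  have : (Stk.resSieve T 𝒮).IsEquivalence := h𝒮.2 T hT
  exact glue h𝒮.1 y T β hβ

/-- `α' ∈ V y` is the local transport of `α ∈ V x` along `f : p y ⟶ p x`. -/
def IsLoc {x : 𝒮.obj} (α : V x) (y : 𝒮.obj) (f : 𝒮.p.obj y ⟶ 𝒮.p.obj x) (α' : V y) : Prop :=
  ∃ T ∈ J (𝒮.p.obj y),
    (∀ {z : 𝒮.obj} (φ : z ⟶ y), T (𝒮.p.map φ) → ∃ ψ : z ⟶ x, 𝒮.p.map ψ = 𝒮.p.map φ ≫ f) ∧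
    ∀ {z : 𝒮.obj} (φ : z ⟶ y) (ψ : z ⟶ x), T (𝒮.p.map φ) → 𝒮.p.map ψ = 𝒮.p.map φ ≫ f →
      (tr hp ψ α).hom ≫ φ = φ ≫ α'.hom

include h𝒮 hcomm hg in
lemma exists_isLoc {x : 𝒮.obj} (α : V x) (y : 𝒮.obj) (f : 𝒮.p.obj y ⟶ 𝒮.p.obj x) :
    ∃ α' : V y, IsLoc J hp α y f α' := by
  obtain ⟨T, hT, hconn⟩ := exists_conn J hp hg x y f
  have hc := vcomm hp hcomm
  obtain ⟨α', hα'⟩ := glue' J h𝒮 T hT (fun {z} φ h => tr hp (hconn φ h).choose α) (by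
    intro z' z ψ φ h h'
    have e1 := (hconn φ h).choose_spec
    have e2 := (hconn (ψ ≫ φ) h').choose_spec
    have : tr hp (hconn (ψ ≫ φ) h').choose α = tr hp (ψ ≫ (hconn φ h).choose) α := by
      apply tr_eq_of_map_eq hp hc
      rw [e2, Functor.map_comp, Functor.map_comp, e1, Category.assoc]
    rw [this]
    exact tr_comp hp ψ _ α)
  refine ⟨α', T, hT, hconn, fun {z} φ ψ h hψ => ?_⟩
  have : tr hp ψ α = tr hp (hconn φ h).choose α := by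
    apply tr_eq_of_map_eq hp hc
    rw [hψ, (hconn φ h).choose_spec]
  rw [this]
  exact hα' φ h

include h𝒮 in
lemma isLoc_unique {x : 𝒮.obj} (α : V x) (y : 𝒮.obj) (f : 𝒮.p.obj y ⟶ 𝒮.p.obj x)
    (α₁ α₂ : V y) (h₁ : IsLoc J hp α y f α₁) (h₂ : IsLoc J hp α y f α₂) : α₁ = α₂ := by
  obtain ⟨T₁, hT₁, c₁, l₁⟩ := h₁
  obtain ⟨T₂, hT₂, -, l₂⟩ := h₂
  apply sep' J h𝒮 (T₁ ⊓ T₂) (J.intersection_covering hT₁ hT₂)
  intro z φ hφ
  obtain ⟨ψ, hψ⟩ := c₁ φ hφ.1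
  rw [← l₁ φ ψ hφ.1 hψ, ← l₂ φ ψ hφ.2 hψ]

include h𝒮 in
lemma isLoc_nat {x : 𝒮.obj} (α : V x) {y' y : 𝒮.obj} (χ : y' ⟶ y) (f : 𝒮.p.obj y ⟶ 𝒮.p.obj x)
    (α₁ : V y') (α₂ : V y) (h₁ : IsLoc J hp α y' (𝒮.p.map χ ≫ f) α₁)
    (h₂ : IsLoc J hp α y f α₂) : α₁.hom ≫ χ = χ ≫ α₂.hom := by
  obtain ⟨T₁, hT₁, c₁, l₁⟩ := h₁
  obtain ⟨T₂, hT₂, -, l₂⟩ := h₂
  have key : α₁ = tr hp χ α₂ := by
    apply sep' J h𝒮 (T₁ ⊓ T₂.pullback (𝒮.p.map χ))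
      (J.intersection_covering hT₁ (J.pullback_stable _ hT₂))
    intro z φ hφ
    obtain ⟨ψ, hψ⟩ := c₁ φ hφ.1
    have hφ2 : T₂ (𝒮.p.map (φ ≫ χ)) := by
      rw [Functor.map_comp]; exact hφ.2
    have hψ2 : 𝒮.p.map ψ = 𝒮.p.map (φ ≫ χ) ≫ f := by
      rw [hψ, Functor.map_comp, Category.assoc]
    have e : tr hp ψ α = tr hp (φ ≫ χ) α₂ := tr_unique hp _ _ _ (l₂ (φ ≫ χ) ψ hφ2 hψ2)
    rw [← l₁ φ ψ hφ.1 hψ, e, tr_comp]
  rw [key, tr_spec]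

include h𝒮 in
lemma isLoc_self {x : 𝒮.obj} (α : V x) (α' : V x) (h : IsLoc J hp α x (𝟙 _) α') : α' = α := by
  obtain ⟨T, hT, -, l⟩ := h
  apply sep' J h𝒮 T hT
  intro z φ hφ
  rw [← l φ φ hφ (Category.comp_id _).symm, tr_spec]

/-- The extension of `α ∈ V x` to a natural family. -/
noncomputable def extFam {x : 𝒮.obj} (α : V x) : Gsub 𝒮 (𝒮.p.obj x) :=
  ⟨fun y f => toAut hp (exists_isLoc J hp h𝒮 hcomm hg α y f).choose, by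
    intro y' y χ f
    exact isLoc_nat J hp h𝒮 α χ f _ _ (exists_isLoc J hp h𝒮 hcomm hg α y' _).choose_spec
      (exists_isLoc J hp h𝒮 hcomm hg α y f).choose_spec⟩

lemma evHom_extFam {x : 𝒮.obj} (α : Gerb.AutO x) :
    evHom 𝒮 x (extFam J hp h𝒮 hcomm hg α.hom) = α := by
  change toAut hp (exists_isLoc J hp h𝒮 hcomm hg α.hom x (𝟙 _)).choose = α
  rw [isLoc_self J hp h𝒮 α.hom _ (exists_isLoc J hp h𝒮 hcomm hg α.hom x (𝟙 _)).choose_spec]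
  exact toAut_hom hp α

include hp h𝒮 hg in
lemma evHom_injective (x : 𝒮.obj) : Function.Injective (evHom 𝒮 x) := by
  refine (injective_iff_map_eq_one (evHom 𝒮 x)).2 fun a ha => ?_
  apply Gsub_ext
  intro y f
  obtain ⟨T, hT, hconn⟩ := exists_conn J hp hg x y f
  have : (a.1 y f).hom = (1 : Gerb.AutO y).hom := by
    apply sep' J h𝒮 T hT
    intro z φ hφ
    obtain ⟨ψ, hψ⟩ := hconn φ hφ
    have e1 := Gsub_nat' a ψ (𝟙 _) (𝒮.p.map φ ≫ f) (by rw [hψ, Category.comp_id])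
    have ha' : ah (a.1 x (𝟙 _)) = 𝟙 x := by
      have : a.1 x (𝟙 _) = 1 := ha
      rw [this]; rfl
    rw [ha', Category.comp_id] at e1
    have e2 : ah (a.1 z (𝒮.p.map φ ≫ f)) = 𝟙 z := by
      have := cancel_V hp ψ (a.1 z (𝒮.p.map φ ≫ f)).hom (𝟙 _)
        (by rw [V.id_hom, Category.id_comp]; exact e1)
      exact congrArg V.hom this
    have e3 := Gsub_nat a φ f
    rw [e2, Category.id_comp] at e3
    change φ ≫ ah (a.1 y f) = φ ≫ 𝟙 y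
    rw [← e3, Category.comp_id]
  exact congrArg V.hom this

include hp h𝒮 hcomm hg in
lemma evHom_bijective (x : 𝒮.obj) : Function.Bijective (evHom 𝒮 x) :=
  ⟨evHom_injective J hp h𝒮 hg x, fun α => ⟨_, evHom_extFam J hp h𝒮 hcomm hg α⟩⟩

end Gerbe


section Sheaf

variable {𝒮}
variable (J : GrothendieckTopology C) (h𝒮 : Stk.IsStack J 𝒮)

include h𝒮 in
/-- The presheaf of natural families of automorphisms of a stack in groupoids is a sheaf. -/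
theorem isSheaf_Gpsh : Presheaf.IsSheaf J (Gpsh 𝒮) := by
  have hp := h𝒮.1
  rw [Presheaf.isSheaf_iff_isSheaf_forget J (Gpsh 𝒮) (forget GrpCat.{max u v}),
    isSheaf_iff_isSheaf_of_type]
  intro U R hR s₀ hs₀
  have hs' := (Presieve.compatible_iff_sieveCompatible _).1 hs₀
  let s : ∀ {W : C} (g : W ⟶ U), R g → Gsub 𝒮 W := fun g hg => s₀ g hg
  have comp : ∀ {Y Z : C} (f : Y ⟶ U) (g : Z ⟶ Y) (hf : R f) (y : 𝒮.obj)
      (k : 𝒮.p.obj y ⟶ Z),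
      (s (g ≫ f) (R.downward_closed hf g)).1 y k = (s f hf).1 y (k ≫ g) := by
    intro Y Z f g hf y k
    exact congrArg (fun t : Gsub 𝒮 Z => t.1 y k) (hs' f g hf)
  have s_congr : ∀ {W : C} {g g' : W ⟶ U} (e : g = g') (hg : R g) (hg' : R g') (y : 𝒮.obj)
      (k : 𝒮.p.obj y ⟶ W), (s g hg).1 y k = (s g' hg').1 y k := by
    intro W g g' e hg hg' y k
    subst e
    rfl
  -- local-to-global description of the restriction of `s` along `φ`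
  have key : ∀ {W : C} (g : W ⟶ U) (hg : R g) {z y : 𝒮.obj} (φ : z ⟶ y) (k : 𝒮.p.obj y ⟶ W)
      (h : R (𝒮.p.map φ ≫ k ≫ g)),
      ah ((s (𝒮.p.map φ ≫ k ≫ g) h).1 z (𝟙 _)) ≫ φ = φ ≫ ah ((s g hg).1 y k) := by
    intro W g hg z y φ k h
    have e : (s (𝒮.p.map φ ≫ k ≫ g) h).1 z (𝟙 _) =
        (s g hg).1 z (𝟙 _ ≫ 𝒮.p.map φ ≫ k) :=
      (s_congr (Category.assoc _ _ _).symm h (R.downward_closed hg _) z (𝟙 _)).trans
        (comp g (𝒮.p.map φ ≫ k) hg z (𝟙 _))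
    rw [e]
    exact Gsub_nat' (s g hg) φ k _ (Category.id_comp _)
  have ex : ∀ (y : 𝒮.obj) (f : 𝒮.p.obj y ⟶ U), ∃ α : V y, ∀ {z : 𝒮.obj} (φ : z ⟶ y)
      (h : R (𝒮.p.map φ ≫ f)), ah ((s (𝒮.p.map φ ≫ f) h).1 z (𝟙 _)) ≫ φ = φ ≫ α.hom := by
    intro y f
    refine glue' J h𝒮 (R.pullback f) (J.pullback_stable f hR)
      (fun {z} φ h => ((s (𝒮.p.map φ ≫ f) h).1 z (𝟙 _)).hom) ?_
    intro z' z ψ φ h h'
    have e : (s (𝒮.p.map (ψ ≫ φ) ≫ f) h').1 z' (𝟙 _) =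
        (s (𝒮.p.map ψ ≫ 𝟙 _ ≫ 𝒮.p.map φ ≫ f) (by simpa using h')).1 z' (𝟙 _) :=
      s_congr (by simp) _ _ _ _
    change ah ((s (𝒮.p.map (ψ ≫ φ) ≫ f) h').1 z' (𝟙 _)) ≫ ψ =
      ψ ≫ ah ((s (𝒮.p.map φ ≫ f) h).1 z (𝟙 _))
    rw [e]
    exact key (𝒮.p.map φ ≫ f) h ψ (𝟙 _) _
  choose am ham using ex
  have am_nat : ∀ {y' y : 𝒮.obj} (χ : y' ⟶ y) (f : 𝒮.p.obj y ⟶ U),
      (am y' (𝒮.p.map χ ≫ f)).hom ≫ χ = χ ≫ (am y f).hom := by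
    intro y' y χ f
    have k : am y' (𝒮.p.map χ ≫ f) = tr hp χ (am y f) := by
      apply sep' J h𝒮 (R.pullback (𝒮.p.map χ ≫ f)) (J.pullback_stable _ hR)
      intro z φ h
      have h₂ : R (𝒮.p.map (φ ≫ χ) ≫ f) := by
        rw [Functor.map_comp, Category.assoc]; exact h
      have e1 : ((s (𝒮.p.map (φ ≫ χ) ≫ f) h₂).1 z (𝟙 _)).hom = tr hp (φ ≫ χ) (am y f) :=
        tr_unique hp _ _ _ (ham y f (φ ≫ χ) h₂)
      have e2 : (s (𝒮.p.map (φ ≫ χ) ≫ f) h₂).1 z (𝟙 _) =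
          (s (𝒮.p.map φ ≫ 𝒮.p.map χ ≫ f) h).1 z (𝟙 _) :=
        s_congr (by simp) _ _ _ _
      rw [← ham y' _ φ h, ← tr_comp, ← e1, e2]
      rfl
    rw [k, tr_spec]
  let a : Gsub 𝒮 U := ⟨fun y f => toAut hp (am y f), fun {y' y} χ f => am_nat χ f⟩
  have ha : ∀ y f, ah (a.1 y f) = (am y f).hom := fun y f => rfl
  refine ⟨a, ?_, ?_⟩
  · intro W g hg
    change resHom 𝒮 g a = s g hg
    apply Gsub_ext
    intro y k
    rw [resHom_apply, ha]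
    have : am y (k ≫ g) = ((s g hg).1 y k).hom := by
      apply sep' J h𝒮 (R.pullback (k ≫ g)) (J.pullback_stable _ hR)
      intro z φ h
      rw [← ham y _ φ h]
      exact key g hg φ k h
    rw [this]
    rfl
  · intro a' ha'
    apply Gsub_ext
    intro y f
    rw [ha]
    have : (a'.1 y f).hom = am y f := by
      apply sep' J h𝒮 (R.pullback f) (J.pullback_stable _ hR)
      intro z φ h
      rw [← ham y f φ h]
      have e1 : resHom 𝒮 (𝒮.p.map φ ≫ f) a' = s (𝒮.p.map φ ≫ f) h := ha' _ h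
      have e2 : (s (𝒮.p.map φ ≫ f) h).1 z (𝟙 _) = a'.1 z (𝟙 _ ≫ 𝒮.p.map φ ≫ f) := by
        rw [← e1]; rfl
      rw [e2]
      exact (Gsub_nat' a' φ f _ (Category.id_comp _)).symm
    rw [← this]
    rfl

end Sheaf

end Groth.Agent.Lib.Helper43.GerbBand
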