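import Groth.Agent.Lib.Helper43.FibGrpdFun
import Groth.Prelude.Def_StGerb

/-!
# Gerbes over stacks: composition
-/

set_option autoImplicit false
universe v₄ u₄ v₃ u₃ v₂ u₂ v u

open CategoryTheory Functor

namespace Groth.Agent.Lib.Helper43.GerbComp

open Groth.Agent.Lib.Helper43.FibGrpdFun

section Kit

variable {C : Type u} [Category.{v} C] {𝒳 : Type u₂} [Category.{v₂} 𝒳] (p : 𝒳 ⥤ C)
  (hp : FibCat.IsFibGrpd p)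

include hp in
lemma exists_lift' {x : 𝒳} {A V : C} (e : p.obj x = A) (f : V ⟶ A) :
    ∃ (y : 𝒳) (φ : y ⟶ x), p.IsHomLift f φ := by
  subst e; exact hp.exists_lift f

include hp in
lemma exists_factor {R' R S : C} {a a' b : 𝒳} (f : R ⟶ S) (φ : a ⟶ b) [p.IsHomLift f φ]
    (g : R' ⟶ R) (ψ : a' ⟶ b) [p.IsHomLift (g ≫ f) ψ] :
    ∃ χ : a' ⟶ a, p.IsHomLift g χ ∧ χ ≫ φ = ψ := by
  haveI := sc_of_lift p hp f φ
  obtain ⟨χ, h, -⟩ := IsStronglyCartesian.universal_property p f φ g (g ≫ f) rfl ψ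
  exact ⟨χ, h⟩

include hp in
lemma exists_factor_id {R S : C} {a a' b : 𝒳} (f : R ⟶ S) (φ : a ⟶ b) [p.IsHomLift f φ]
    (ψ : a' ⟶ b) [p.IsHomLift f ψ] :
    ∃ χ : a' ⟶ a, p.IsHomLift (𝟙 R) χ ∧ χ ≫ φ = ψ := by
  haveI : p.IsHomLift (𝟙 R ≫ f) ψ := by rw [Category.id_comp]; infer_instance
  exact exists_factor p hp f φ (𝟙 R) ψ

end Kit

variable {C : Type u} [Category.{v} C] (J : GrothendieckTopology C)
  {𝒳 : BasedCategory.{v₂, u₂} C} {𝒴 : BasedCategory.{v₃, u₃} C} {𝒵 : BasedCategory.{v₄, u₄} C}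
  (F : 𝒳 ⥤ᵇ 𝒴) (G : 𝒴 ⥤ᵇ 𝒵)

theorem locSurjObj_comp (h𝒳 : FibCat.IsFibGrpd 𝒳.p) (hF : Gerb.LocSurjObj J F)
    (hG : Gerb.LocSurjObj J G) : Gerb.LocSurjObj J (BasedFunctor.comp F G) := by
  intro z
  obtain ⟨R, hR, hR'⟩ := hG z
  let S : Sieve (𝒵.p.obj z) :=
    { arrows := fun W h => ∃ (x : 𝒳.obj) (g : G.obj (F.obj x) ⟶ z), 𝒵.p.IsHomLift h g
      downward_closed := by
        rintro W W' h ⟨x, g, hg⟩ k
        have e : 𝒳.p.obj x = W := by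
          rw [← F.w_obj, ← G.w_obj]; exact IsHomLift.domain_eq 𝒵.p h g
        obtain ⟨x', l, hl⟩ := exists_lift' 𝒳.p h𝒳 e k
        exact ⟨x', G.map (F.map l) ≫ g, inferInstance⟩ }
  refine ⟨S, ?_, fun V f hf => hf⟩
  refine J.transitive hR S ?_
  intro V f hf
  obtain ⟨y, g, hg⟩ := hR' f hf
  have e : 𝒴.p.obj y = V := by
    rw [← G.w_obj]; exact IsHomLift.domain_eq 𝒵.p f g
  subst e
  obtain ⟨R₁, hR₁, hR₁'⟩ := hF y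
  refine J.superset_covering ?_ hR₁
  intro W f' hf'
  obtain ⟨x, g', hg'⟩ := hR₁' f' hf'
  exact ⟨x, G.map g' ≫ g, inferInstance⟩

theorem locSurjHom_comp (h𝒳 : FibCat.IsFibGrpd 𝒳.p) (h𝒴 : FibCat.IsFibGrpd 𝒴.p)
    (hF : Gerb.IsGerbeOver J F) (hG : Gerb.LocSurjHom J G) :
    Gerb.LocSurjHom J (BasedFunctor.comp F G) := by
  intro x x' b0 hb0
  obtain ⟨b, rfl⟩ : ∃ b : G.obj (F.obj x) ⟶ G.obj (F.obj x'), b = b0 := ⟨b0, rfl⟩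
  have hb : 𝒵.p.IsHomLift (𝟙 (𝒳.p.obj x)) b := hb0
  have hb' : 𝒵.p.IsHomLift (𝟙 (𝒴.p.obj (F.obj x))) b := by rw [F.w_obj x]; exact hb
  obtain ⟨R, hR, hR'⟩ := hG (F.obj x) (F.obj x') b hb'
  have ex' : 𝒳.p.obj x' = 𝒳.p.obj x := by
    have := IsHomLift.codomain_eq 𝒵.p (𝟙 (𝒳.p.obj x)) b
    rw [← this]
    change _ = 𝒵.p.obj (G.obj (F.obj x'))
    rw [G.w_obj, F.w_obj]
  rw [← F.w_obj x] at ex' ⊢
  let S : Sieve (𝒴.p.obj (F.obj x)) :=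
    { arrows := fun W h => ∃ (x₀ : 𝒳.obj) (φ : x₀ ⟶ x) (ψ : x₀ ⟶ x'),
        𝒳.p.IsHomLift h φ ∧ 𝒳.p.IsHomLift h ψ ∧ G.map (F.map φ) ≫ b = G.map (F.map ψ)
      downward_closed := by
        rintro W W' h ⟨x₀, φ, ψ, hφ, hψ, hb⟩ k
        have e : 𝒳.p.obj x₀ = W := IsHomLift.domain_eq 𝒳.p h φ
        obtain ⟨x₁, l, hl⟩ := exists_lift' 𝒳.p h𝒳 e k
        refine ⟨x₁, l ≫ φ, l ≫ ψ, inferInstance, inferInstance, ?_⟩
        simp only [Functor.map_comp, Category.assoc]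
        rw [hb] }
  refine ⟨S, ?_, fun V f hf => hf⟩
  refine J.transitive hR S ?_
  intro V f hf
  obtain ⟨y₀, φ, ψ, hφ, hψ, hbφ⟩ := hR' f hf
  obtain ⟨xV, l, hl⟩ := exists_lift' 𝒳.p h𝒳 (F.w_obj x).symm f
  obtain ⟨xV', l', hl'⟩ := exists_lift' 𝒳.p h𝒳 ex' f
  -- κ : F xV ⟶ y₀ over 𝟙 V
  obtain ⟨κ, hκ, hκe⟩ := exists_factor_id 𝒴.p h𝒴 f φ (F.map l)
  -- ψ' = κ ≫ ψ over f, factor through F l'
  haveI : 𝒴.p.IsHomLift f (κ ≫ ψ) := inferInstance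
  obtain ⟨c, hc, hce⟩ := exists_factor_id 𝒴.p h𝒴 f (F.map l') (κ ≫ ψ)
  have e : 𝒳.p.obj xV = V := IsHomLift.domain_eq 𝒳.p f l
  subst e
  obtain ⟨R', hR'', h''⟩ := hF.2 xV xV' c hc
  refine J.superset_covering ?_ hR''
  intro W f' hf'
  obtain ⟨x₀, φ₀, ψ₀, hφ₀, hψ₀, h₀⟩ := h'' f' hf'
  refine ⟨x₀, φ₀ ≫ l, ψ₀ ≫ l', inferInstance, inferInstance, ?_⟩
  have e1 : G.map (F.map l) ≫ b = G.map (κ ≫ ψ) := by
    rw [← hκe, Functor.map_comp, Category.assoc, hbφ, ← Functor.map_comp]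
  have e2 : G.map (F.map φ₀) ≫ G.map c = G.map (F.map ψ₀) := by
    rw [← Functor.map_comp, h₀]
  calc G.map (F.map (φ₀ ≫ l)) ≫ b = G.map (F.map φ₀) ≫ (G.map (F.map l) ≫ b) := by
        rw [Functor.map_comp, Functor.map_comp, Category.assoc]
    _ = G.map (F.map φ₀) ≫ G.map (c ≫ F.map l') := by rw [e1, hce]
    _ = (G.map (F.map φ₀) ≫ G.map c) ≫ G.map (F.map l') := by
        rw [Functor.map_comp, Category.assoc]
    _ = G.map (F.map (ψ₀ ≫ l')) := by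
        rw [e2, ← Functor.map_comp, ← Functor.map_comp]

theorem isGerbeOver_comp (h𝒳 : FibCat.IsFibGrpd 𝒳.p) (h𝒴 : FibCat.IsFibGrpd 𝒴.p)
    (hF : Gerb.IsGerbeOver J F) (hG : Gerb.IsGerbeOver J G) :
    Gerb.IsGerbeOver J (BasedFunctor.comp F G) :=
  ⟨locSurjObj_comp J F G h𝒳 hF.1 hG.1, locSurjHom_comp J F G h𝒳 h𝒴 hF hG.2⟩

end Groth.Agent.Lib.Helper43.GerbComp
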