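import Groth.Agent.Lib.Helper43.GerbEquiv

/-!
# Gerbes: descent along a locally essentially surjective base change
-/

set_option autoImplicit false
universe v₅ u₅ v₄ u₄ v₃ u₃ v₂ u₂ v u

open CategoryTheory Functor

namespace Groth.Agent.Lib.Helper43.GerbDesc

open Groth.Agent.Lib.Helper43.FibGrpdFun Groth.Agent.Lib.Helper43.GerbComp
  Groth.Agent.Lib.Helper43.GerbBC Groth.Agent.Lib.Helper43.GerbEquiv

variable {C : Type u} [Category.{v} C] (J : GrothendieckTopology C)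
  {𝒳 : BasedCategory.{v₂, u₂} C} {𝒴 : BasedCategory.{v₃, u₃} C}

section Sieves

variable (F : 𝒳 ⥤ᵇ 𝒴) (h𝒳 : FibCat.IsFibGrpd 𝒳.p)

include h𝒳 in
/-- The sieve of arrows over which `y` is in the image of `F`. -/
def objSieve (y : 𝒴.obj) : Sieve (𝒴.p.obj y) where
  arrows := fun W h => ∃ (x : 𝒳.obj) (g : F.obj x ⟶ y), 𝒴.p.IsHomLift h g
  downward_closed := by
    rintro W W' h ⟨x, g, hg⟩ k
    have e : 𝒳.p.obj x = W := by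
      rw [← F.w_obj]; exact IsHomLift.domain_eq 𝒴.p h g
    obtain ⟨x', l, hl⟩ := exists_lift' 𝒳.p h𝒳 e k
    exact ⟨x', F.map l ≫ g, inferInstance⟩

include h𝒳 in
/-- The sieve of arrows over which `b` lifts. -/
def homSieve (x x' : 𝒳.obj) (b : F.obj x ⟶ F.obj x') : Sieve (𝒳.p.obj x) where
  arrows := fun W h => ∃ (x₀ : 𝒳.obj) (φ : x₀ ⟶ x) (ψ : x₀ ⟶ x'),
    𝒳.p.IsHomLift h φ ∧ 𝒳.p.IsHomLift h ψ ∧ F.map φ ≫ b = F.map ψ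
  downward_closed := by
    rintro W W' h ⟨x₀, φ, ψ, hφ, hψ, hb⟩ k
    have e : 𝒳.p.obj x₀ = W := IsHomLift.domain_eq 𝒳.p h φ
    obtain ⟨x₁, l, hl⟩ := exists_lift' 𝒳.p h𝒳 e k
    refine ⟨x₁, l ≫ φ, l ≫ ψ, inferInstance, inferInstance, ?_⟩
    simp only [Functor.map_comp, Category.assoc]
    rw [hb]

lemma locSurjObj_of_objSieve (h : ∀ y : 𝒴.obj, objSieve F h𝒳 y ∈ J (𝒴.p.obj y)) :
    Gerb.LocSurjObj J F :=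
  fun y => ⟨objSieve F h𝒳 y, h y, fun _ _ hf => hf⟩

lemma locSurjHom_of_homSieve
    (h : ∀ (x x' : 𝒳.obj) (b : F.obj x ⟶ F.obj x'), 𝒴.p.IsHomLift (𝟙 (𝒳.p.obj x)) b →
      homSieve F h𝒳 x x' b ∈ J (𝒳.p.obj x)) :
    Gerb.LocSurjHom J F :=
  fun x x' b hb => ⟨homSieve F h𝒳 x x' b, h x x' b hb, fun _ _ hf => hf⟩

end Sieves

section CancelEquiv

variable {𝒵 : BasedCategory.{v₄, u₄} C} (E : 𝒳 ⥤ᵇ 𝒵) (P : 𝒵 ⥤ᵇ 𝒴)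

/-- If `E ⋙ P` is a gerbe and `E` is an equivalence over `C`, then `P` is a gerbe. -/
theorem isGerbeOver_of_comp_isEquivOver (hE : FibCat.IsEquivOver E)
    (h : Gerb.IsGerbeOver J (BasedFunctor.comp E P)) : Gerb.IsGerbeOver J P := by
  obtain ⟨hfull, hfaith, hess⟩ := Groth.Agent.Lib.Helper80.IsEquivOver.isFFEssSurjOver hE
  constructor
  · intro y
    obtain ⟨R, hR, hR'⟩ := h.1 y
    refine ⟨R, hR, fun V f hf => ?_⟩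
    obtain ⟨x, g, hg⟩ := hR' f hf
    exact ⟨E.obj x, g, hg⟩
  · intro z z' b hb
    obtain ⟨x, θ, hθ⟩ := hess z
    obtain ⟨x', θ', hθ'⟩ := hess z'
    have ez : 𝒳.p.obj x = 𝒵.p.obj z := by
      rw [← E.w_obj]; exact IsHomLift.domain_eq 𝒵.p (𝟙 (𝒵.p.obj z)) θ.hom
    have ez' : 𝒵.p.obj z' = 𝒵.p.obj z := by
      have := IsHomLift.codomain_eq 𝒴.p (𝟙 (𝒵.p.obj z)) b
      rw [← this, P.w_obj]
    rw [ez'] at hθ'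
    haveI := hθ
    haveI := hθ'
    have h1 : 𝒴.p.IsHomLift (𝟙 (𝒵.p.obj z)) (P.map θ.hom) := inferInstance
    have h2 : 𝒴.p.IsHomLift (𝟙 (𝒵.p.obj z)) (P.map θ'.inv) := inferInstance
    have h3 : 𝒴.p.IsHomLift (𝟙 (𝒵.p.obj z)) (b ≫ P.map θ'.inv) := inferInstance
    have h4 : 𝒴.p.IsHomLift (𝟙 (𝒵.p.obj z)) (P.map θ.hom ≫ b ≫ P.map θ'.inv) := inferInstance
    obtain ⟨R, hR, hR'⟩ := locSurjHom_at J h.2 x x' ez (P.map θ.hom ≫ b ≫ P.map θ'.inv) h4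
    refine ⟨R, hR, fun V f hf => ?_⟩
    obtain ⟨x₀, φ, ψ, hφ, hψ, hb'⟩ := hR' f hf
    haveI : 𝒵.p.IsHomLift f (E.map φ) := inferInstance
    haveI : 𝒵.p.IsHomLift f (E.map ψ) := inferInstance
    refine ⟨E.obj x₀, E.map φ ≫ θ.hom, E.map ψ ≫ θ'.hom, inferInstance, inferInstance, ?_⟩
    have hb'' : P.map (E.map φ) ≫ P.map θ.hom ≫ b ≫ P.map θ'.inv = P.map (E.map ψ) := hb'
    rw [Functor.map_comp, Functor.map_comp, ← hb'']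
    simp only [Category.assoc]
    rw [← Functor.map_comp, Iso.inv_hom_id, CategoryTheory.Functor.map_id, Category.comp_id]

end CancelEquiv

section Descent

variable {𝒴' : BasedCategory.{v₄, u₄} C} (G : 𝒴' ⥤ᵇ 𝒴) (F : 𝒳 ⥤ᵇ 𝒴)

theorem locSurjObj_of_fpFst (h𝒳 : FibCat.IsFibGrpd 𝒳.p) (hG : Gerb.LocSurjObj J G)
    (hP : Gerb.LocSurjObj J (FibCat.fpFst G F)) : Gerb.LocSurjObj J F := by
  apply locSurjObj_of_objSieve J F h𝒳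
  intro y
  obtain ⟨R, hR, hR'⟩ := hG y
  refine J.transitive hR _ ?_
  intro V f hf
  obtain ⟨y', g, hg⟩ := hR' f hf
  have e : 𝒴'.p.obj y' = V := by
    rw [← G.w_obj]; exact IsHomLift.domain_eq 𝒴.p f g
  subst e
  obtain ⟨R₁, hR₁, hR₁'⟩ := hP y'
  refine J.superset_covering ?_ hR₁
  intro W f' hf'
  obtain ⟨z, g', hg'⟩ := hR₁' f' hf'
  obtain ⟨g', rfl⟩ : ∃ g'' : z.obj.fst ⟶ y', g'' = g' := ⟨g', rfl⟩
  have hg'' : 𝒴'.p.IsHomLift f' g' := hg'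
  have hW : 𝒴'.p.obj z.obj.fst = W := IsHomLift.domain_eq 𝒴'.p f' g'
  subst hW
  haveI hz : 𝒴.p.IsHomLift (𝟙 (𝒴'.p.obj z.obj.fst)) z.obj.iso.hom := z.property
  haveI : 𝒴'.p.IsHomLift f' g' := hg'
  haveI : 𝒴.p.IsHomLift f' (G.map g') := inferInstance
  have h1 : 𝒴.p.IsHomLift (f' ≫ f) (G.map g' ≫ g) := inferInstance
  have h2 : 𝒴.p.IsHomLift (𝟙 (𝒴'.p.obj z.obj.fst)) z.obj.iso.inv := inferInstance
  exact ⟨z.obj.snd, z.obj.iso.inv ≫ G.map g' ≫ g, inferInstance⟩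

theorem locSurjHom_of_fpFst (h𝒳 : FibCat.IsFibGrpd 𝒳.p) (h𝒴 : FibCat.IsFibGrpd 𝒴.p)
    (hG : Gerb.LocSurjObj J G)
    (hP : Gerb.LocSurjHom J (FibCat.fpFst G F)) : Gerb.LocSurjHom J F := by
  apply locSurjHom_of_homSieve J F h𝒳
  intro x₁ x₂ b hb
  have e₂ : 𝒳.p.obj x₂ = 𝒳.p.obj x₁ := by
    have := IsHomLift.codomain_eq 𝒴.p (𝟙 (𝒳.p.obj x₁)) b
    rw [← this, F.w_obj]
  obtain ⟨R, hR, hR'⟩ := locSurjObj_at J hG (F.obj x₁) (F.w_obj x₁)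
  refine J.transitive hR _ ?_
  intro V f hf
  obtain ⟨y', g, hg⟩ := hR' f hf
  obtain ⟨x₁V, l₁, hl₁⟩ := h𝒳.exists_lift f
  obtain ⟨x₂V, l₂, hl₂⟩ := exists_lift' 𝒳.p h𝒳 e₂ f
  have eV : 𝒳.p.obj x₁V = V := IsHomLift.domain_eq 𝒳.p f l₁
  subst eV
  haveI : 𝒴.p.IsHomLift f (F.map l₁) := inferInstance
  haveI : 𝒴.p.IsHomLift f (F.map l₂) := inferInstance
  haveI : 𝒴.p.IsHomLift f (g ≫ b) := inferInstance
  obtain ⟨j₁, hj₁, hj₁e⟩ := exists_factor_id 𝒴.p h𝒴 f (F.map l₁) g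
  obtain ⟨j₂, hj₂, hj₂e⟩ := exists_factor_id 𝒴.p h𝒴 f (F.map l₂) (g ≫ b)
  haveI := isIso_of_lift_id 𝒴.p h𝒴 (𝒳.p.obj x₁V) j₁
  haveI := isIso_of_lift_id 𝒴.p h𝒴 (𝒳.p.obj x₁V) j₂
  have ey' : 𝒴'.p.obj y' = 𝒳.p.obj x₁V := by
    rw [← G.w_obj]; exact IsHomLift.domain_eq 𝒴.p f g
  have hj₁' : 𝒴.p.IsHomLift (𝟙 (𝒴'.p.obj y')) j₁ := by rw [ey']; exact hj₁
  have hj₂' : 𝒴.p.IsHomLift (𝟙 (𝒴'.p.obj y')) j₂ := by rw [ey']; exact hj₂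
  let z₁ : (FibCat.fp G F).obj := ⟨⟨y', x₁V, asIso j₁⟩, hj₁'⟩
  let z₂ : (FibCat.fp G F).obj := ⟨⟨y', x₂V, asIso j₂⟩, hj₂'⟩
  have hid : 𝒴'.p.IsHomLift (𝟙 (𝒴'.p.obj y')) (𝟙 y') := inferInstance
  obtain ⟨R', hR'', h''⟩ := locSurjHom_at J hP z₁ z₂ ey' (𝟙 y') (by rw [← ey']; exact hid)
  refine J.superset_covering ?_ hR''
  intro W f' hf'
  obtain ⟨z₀, Φ, Ψ, hΦ, hΨ, hΦΨ⟩ := h'' f' hf'
  have hΦs : 𝒳.p.IsHomLift f' ((FibCat.fpSnd G F).map Φ) := inferInstance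
  have hΨs : 𝒳.p.IsHomLift f' ((FibCat.fpSnd G F).map Ψ) := inferInstance
  have hΦs' : 𝒳.p.IsHomLift f' Φ.hom.snd := hΦs
  have hΨs' : 𝒳.p.IsHomLift f' Ψ.hom.snd := hΨs
  have hfst : Φ.hom.fst = Ψ.hom.fst := by
    have : Φ.hom.fst ≫ 𝟙 y' = Ψ.hom.fst := hΦΨ
    rwa [Category.comp_id] at this
  have wΦ : G.map Φ.hom.fst ≫ j₁ = z₀.obj.iso.hom ≫ F.map Φ.hom.snd := Φ.hom.w
  have wΨ : G.map Ψ.hom.fst ≫ j₂ = z₀.obj.iso.hom ≫ F.map Ψ.hom.snd := Ψ.hom.w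
  refine ⟨z₀.obj.snd, Φ.hom.snd ≫ l₁, Ψ.hom.snd ≫ l₂, inferInstance, inferInstance, ?_⟩
  have e1 : F.map Φ.hom.snd = z₀.obj.iso.inv ≫ G.map Φ.hom.fst ≫ j₁ := by
    rw [wΦ, Iso.inv_hom_id_assoc]
  have e2 : F.map Ψ.hom.snd = z₀.obj.iso.inv ≫ G.map Ψ.hom.fst ≫ j₂ := by
    rw [wΨ, Iso.inv_hom_id_assoc]
  rw [Functor.map_comp, Functor.map_comp, e1, e2, hfst]
  simp only [Category.assoc]
  rw [hj₂e, ← hj₁e]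
  simp only [Category.assoc]

theorem isGerbeOver_of_fpFst (h𝒳 : FibCat.IsFibGrpd 𝒳.p) (h𝒴 : FibCat.IsFibGrpd 𝒴.p)
    (hG : Gerb.LocSurjObj J G)
    (hP : Gerb.IsGerbeOver J (FibCat.fpFst G F)) : Gerb.IsGerbeOver J F :=
  ⟨locSurjObj_of_fpFst J G F h𝒳 hG hP.1, locSurjHom_of_fpFst J G F h𝒳 h𝒴 hG hP.2⟩

variable {𝒳' : BasedCategory.{v₅, u₅} C}

theorem isGerbeOver_of_isTwoCartOver_of_locSurjObj
    (h𝒳 : FibCat.IsFibGrpd 𝒳.p) (h𝒴 : FibCat.IsFibGrpd 𝒴.p)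
    (F' : 𝒳' ⥤ᵇ 𝒴') (G' : 𝒳' ⥤ᵇ 𝒳)
    (e : BasedFunctor.comp F' G ≅ BasedFunctor.comp G' F) (hc : FibCat.IsTwoCartOver F' G' e)
    (hG : Gerb.LocSurjObj J G) (hF' : Gerb.IsGerbeOver J F') : Gerb.IsGerbeOver J F := by
  have h1 : Gerb.IsGerbeOver J (FibCat.fpFst G F) :=
    isGerbeOver_of_comp_isEquivOver J (FibCat.fpLift F' G' e) (FibCat.fpFst G F) hc hF'
  exact isGerbeOver_of_fpFst J G F h𝒳 h𝒴 hG h1

end Descent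

end Groth.Agent.Lib.Helper43.GerbDesc
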