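import Groth.Agent.Lib.Helper43.GerbBC
import Groth.Agent.Lib.Helper80.FibCat21

/-!
# Gerbes: an equivalence over `C` is a gerbe; base change along 2-cartesian squares
-/

set_option autoImplicit false
universe v₅ u₅ v₄ u₄ v₃ u₃ v₂ u₂ v u

open CategoryTheory Functor

namespace Groth.Agent.Lib.Helper43.GerbEquiv

open Groth.Agent.Lib.Helper43.FibGrpdFun Groth.Agent.Lib.Helper43.GerbComp
  Groth.Agent.Lib.Helper43.GerbBC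

variable {C : Type u} [Category.{v} C] (J : GrothendieckTopology C)
  {𝒳 : BasedCategory.{v₂, u₂} C} {𝒴 : BasedCategory.{v₃, u₃} C}

theorem isGerbeOver_of_isEquivOver (h𝒳 : FibCat.IsFibGrpd 𝒳.p) (E : 𝒳 ⥤ᵇ 𝒴)
    (hE : FibCat.IsEquivOver E) : Gerb.IsGerbeOver J E := by
  obtain ⟨hfull, hfaith, hess⟩ := Groth.Agent.Lib.Helper80.IsEquivOver.isFFEssSurjOver hE
  constructor
  · intro y
    refine ⟨⊤, J.top_mem _, fun V f _ => ?_⟩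
    obtain ⟨x, θ, hθ⟩ := hess y
    have e : 𝒳.p.obj x = 𝒴.p.obj y := by
      rw [← E.w_obj]; exact IsHomLift.domain_eq 𝒴.p (𝟙 (𝒴.p.obj y)) θ.hom
    obtain ⟨xV, l, hl⟩ := exists_lift' 𝒳.p h𝒳 e f
    haveI : 𝒴.p.IsHomLift f (E.map l) := inferInstance
    exact ⟨xV, E.map l ≫ θ.hom, inferInstance⟩
  · intro x x' b hb
    refine ⟨⊤, J.top_mem _, fun V f _ => ?_⟩
    obtain ⟨β, rfl⟩ := E.toFunctor.map_surjective b
    have hβ : 𝒳.p.IsHomLift (𝟙 (𝒳.p.obj x)) β := (E.isHomLift_iff _ _).1 hb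
    obtain ⟨x₀, l, hl⟩ := h𝒳.exists_lift f
    exact ⟨x₀, l, l ≫ β, hl, inferInstance, (E.toFunctor.map_comp l β).symm⟩

variable {𝒳' : BasedCategory.{v₄, u₄} C} {𝒴' : BasedCategory.{v₅, u₅} C}

theorem isGerbeOver_of_isTwoCartOver (h𝒴 : FibCat.IsFibGrpd 𝒴.p)
    (h𝒳' : FibCat.IsFibGrpd 𝒳'.p) (h𝒴' : FibCat.IsFibGrpd 𝒴'.p)
    (F : 𝒳 ⥤ᵇ 𝒴) (G : 𝒴' ⥤ᵇ 𝒴) (F' : 𝒳' ⥤ᵇ 𝒴') (G' : 𝒳' ⥤ᵇ 𝒳)
    (e : BasedFunctor.comp F' G ≅ BasedFunctor.comp G' F) (hc : FibCat.IsTwoCartOver F' G' e)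
    (hF : Gerb.IsGerbeOver J F) : Gerb.IsGerbeOver J F' := by
  have h1 := isGerbeOver_of_isEquivOver J h𝒳' (FibCat.fpLift F' G' e) hc
  have hfp : FibCat.IsFibGrpd (FibCat.fp G F).p :=
    (Groth.Agent.Lib.Helper80.IsEquivOver.isFibGrpd_iff hc).1 h𝒳'
  have h2 := isGerbeOver_fpFst J G F h𝒴' h𝒴 hF
  exact isGerbeOver_comp J (FibCat.fpLift F' G' e) (FibCat.fpFst G F) h𝒳' hfp h1 h2

end Groth.Agent.Lib.Helper43.GerbEquiv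

namespace Groth.Agent.Lib.Helper43.GerbEquiv

open Groth.Agent.Lib.Helper43.GerbComp

variable {C : Type u} [Category.{v} C] (J : GrothendieckTopology C)
  {𝒳 : BasedCategory.{v₂, u₂} C} {𝒴 : BasedCategory.{v₃, u₃} C}

lemma comp_toSelf (E : 𝒳 ⥤ᵇ 𝒴) : BasedFunctor.comp E (FibCat.toSelf 𝒴) = FibCat.toSelf 𝒳 := by
  have h : (BasedFunctor.comp E (FibCat.toSelf 𝒴)).toFunctor = (FibCat.toSelf 𝒳).toFunctor := E.w
  generalize BasedFunctor.comp E (FibCat.toSelf 𝒴) = A at h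
  generalize FibCat.toSelf 𝒳 = B at h
  cases A; cases B
  cases h
  rfl

theorem isGerbeOver_toSelf_of_isEquivOver (h𝒳 : FibCat.IsFibGrpd 𝒳.p) (h𝒴 : FibCat.IsFibGrpd 𝒴.p)
    (E : 𝒳 ⥤ᵇ 𝒴) (hE : FibCat.IsEquivOver E) (h : Gerb.IsGerbeOver J (FibCat.toSelf 𝒴)) :
    Gerb.IsGerbeOver J (FibCat.toSelf 𝒳) := by
  rw [← comp_toSelf E]
  exact isGerbeOver_comp J E (FibCat.toSelf 𝒴) h𝒳 h𝒴 (isGerbeOver_of_isEquivOver J h𝒳 E hE) h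

theorem isGerbe_iff_of_isEquivOver (F : 𝒳 ⥤ᵇ 𝒴) (hF : FibCat.IsEquivOver F) :
    Gerb.IsGerbe J 𝒳 ↔ Gerb.IsGerbe J 𝒴 := by
  obtain ⟨H, hH, -, -⟩ := Groth.Agent.Lib.Helper80.IsEquivOver.symm hF
  have hs := Groth.Agent.Lib.Helper80.isStack_iff_of_isEquivOver J F hF
  constructor
  · rintro ⟨h1, h2⟩
    have h1' := hs.1 h1
    exact ⟨h1', isGerbeOver_toSelf_of_isEquivOver J h1'.1 h1.1 H hH h2⟩
  · rintro ⟨h1, h2⟩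
    have h1' := hs.2 h1
    exact ⟨h1', isGerbeOver_toSelf_of_isEquivOver J h1'.1 h1.1 F hF h2⟩

end Groth.Agent.Lib.Helper43.GerbEquiv
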