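import Groth.Prelude.Def_StGerb2
import Groth.Agent.Lib.Helper43.GerbBand
import Groth.Agent.Lib.Helper80.FibCat24
import Groth.Agent.Lib.Helper80.FibCat7
import Groth.Agent.Lib.Helper80.FibCat2

/-!
# A morphism of gerbes inducing isomorphisms of automorphism groups is an equivalence
(helper43, for S17911)
-/

set_option autoImplicit false

universe v u

open CategoryTheory CategoryTheory.Functor Opposite

namespace Groth.Agent.Lib.Helper43.GerbFF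

open Groth.Agent.Lib.Helper80 Groth.Agent.Lib.Helper43.StkGlue Groth.Agent.Lib.Helper43.GerbBand

variable {C : Type u} [Category.{v} C]
variable {𝒳 𝒴 : BasedCategory.{v, max u v} C} (F : 𝒳 ⥤ᵇ 𝒴)

/-- the image of a vertical endomorphism -/
def mapV {x : 𝒳.obj} (α : V x) : V (F.obj x) :=
  ⟨F.map α.hom, by
    have h : 𝒴.p.IsHomLift (𝟙 (𝒳.p.obj x)) (F.map α.hom) := inferInstance
    exact isHomLift_id_of_eq (F.w_obj x).symm _⟩

@[simp] lemma mapV_hom {x : 𝒳.obj} (α : V x) : (mapV F α).hom = F.map α.hom := rfl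

lemma mapV_id {x : 𝒳.obj} : mapV F (𝟙 (Gerb.fib x)) = 𝟙 _ := by
  apply V.ext'
  change F.map (𝟙 x) = 𝟙 (F.obj x)
  exact F.toFunctor.map_id x

lemma mapV_comp {x : 𝒳.obj} (α β : V x) : mapV F (α ≫ β) = mapV F α ≫ mapV F β := by
  apply V.ext'
  change F.map (α.hom ≫ β.hom) = F.map α.hom ≫ F.map β.hom
  exact F.toFunctor.map_comp _ _

variable (hX : FibCat.IsFibGrpd 𝒳.p) (hY : FibCat.IsFibGrpd 𝒴.p)

include hX hY in
lemma mapV_tr {z x : 𝒳.obj} (ψ : z ⟶ x) (α : V x) :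
    mapV F (tr hX ψ α) = tr hY (F.map ψ) (mapV F α) := by
  apply tr_unique
  change F.map (tr hX ψ α).hom ≫ F.map ψ = F.map ψ ≫ F.map α.hom
  rw [← Functor.map_comp, ← Functor.map_comp, tr_spec]

include hX hY in
/-- bijectivity of `autMap` gives bijectivity on vertical endomorphisms -/
lemma mapV_bijective_of_autMap {x : 𝒳.obj} (h : Function.Bijective (Gerb.autMap F x)) :
    Function.Bijective (mapV F (x := x)) := by
  constructor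
  · intro α β hαβ
    have h1 : Gerb.autMap F x (toAut hX α) = Gerb.autMap F x (toAut hX β) := by
      apply Iso.ext
      exact hαβ
    have h2 := h.1 h1
    have h3 := congrArg (fun t : Gerb.AutO x => t.hom) h2
    exact h3
  · intro β
    obtain ⟨α, hα⟩ := h.2 (toAut hY β)
    refine ⟨α.hom, ?_⟩
    have := congrArg (fun t : Gerb.AutO (F.obj x) => t.hom) hα
    exact this

section Extend

variable (J : GrothendieckTopology C) (h𝒳 : Stk.IsStack J 𝒳) (h𝒴 : Stk.IsStack J 𝒴)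
  (hg : Gerb.LocSurjHom J (FibCat.toSelf 𝒳))
  (s : 𝒳.obj) (ht : Limits.IsTerminal (𝒳.p.obj s))
  (hF : ∀ (x : 𝒳.obj) (_ : x ⟶ s), Function.Bijective (mapV F (x := x)))

include h𝒳 h𝒴 hg ht hF in
lemma mapV_injective (x' : 𝒳.obj) : Function.Injective (mapV F (x := x')) := by
  intro α β hαβ
  obtain ⟨T, hT, hconn⟩ := exists_conn J h𝒳.1 hg s x' (ht.from _)
  apply sep' J h𝒳 T hT
  intro z φ₀ hφ₀
  obtain ⟨ψ, -⟩ := hconn φ₀ hφ₀
  have hz := (hF z ψ).1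
  have e : tr h𝒳.1 φ₀ α = tr h𝒳.1 φ₀ β := by
    apply hz
    rw [mapV_tr F h𝒳.1 h𝒴.1, mapV_tr F h𝒳.1 h𝒴.1, hαβ]
  rw [← tr_spec h𝒳.1 φ₀ α, ← tr_spec h𝒳.1 φ₀ β, e]

include h𝒳 h𝒴 hg ht hF in
lemma mapV_surjective (x' : 𝒳.obj) : Function.Surjective (mapV F (x := x')) := by
  intro β
  obtain ⟨T, hT, hconn⟩ := exists_conn J h𝒳.1 hg s x' (ht.from _)
  -- local preimages
  have hloc : ∀ {z : 𝒳.obj} (φ₀ : z ⟶ x'), T (𝒳.p.map φ₀) →
      ∃ α : V z, mapV F α = tr h𝒴.1 (F.map φ₀) β := by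
    intro z φ₀ hφ₀
    obtain ⟨ψ, -⟩ := hconn φ₀ hφ₀
    exact (hF z ψ).2 _
  have hinj : ∀ {z : 𝒳.obj} (φ₀ : z ⟶ x'), T (𝒳.p.map φ₀) →
      Function.Injective (mapV F (x := z)) := by
    intro z φ₀ hφ₀
    obtain ⟨ψ, -⟩ := hconn φ₀ hφ₀
    exact (hF z ψ).1
  obtain ⟨α, hα⟩ := glue' J h𝒳 T hT (fun {z} φ₀ h => (hloc φ₀ h).choose) (by
    intro z' z ψ φ₀ h h'
    have e1 := (hloc φ₀ h).choose_spec
    have e2 := (hloc (ψ ≫ φ₀) h').choose_spec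
    have key : (hloc (ψ ≫ φ₀) h').choose = tr h𝒳.1 ψ (hloc φ₀ h).choose := by
      apply hinj (ψ ≫ φ₀) h'
      rw [e2, mapV_tr F h𝒳.1 h𝒴.1, e1]
      apply tr_unique
      have := tr_comp h𝒴.1 (F.map ψ) (F.map φ₀) β
      have e : F.map (ψ ≫ φ₀) = F.map ψ ≫ F.map φ₀ := F.toFunctor.map_comp _ _
      rw [e]
      exact this
    rw [key, tr_spec])
  refine ⟨α, ?_⟩
  -- `F α = β` by separation in `𝒴`
  let T' : Sieve (𝒴.p.obj (F.obj x')) := T.pullback (eqToHom (F.w_obj x'))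
  have hT' : T' ∈ J (𝒴.p.obj (F.obj x')) := J.pullback_stable _ hT
  apply sep' J h𝒴 T' hT'
  intro w χ hχ
  -- lift the base morphism of `χ` to `𝒳`
  have hf : T (𝒴.p.map χ ≫ eqToHom (F.w_obj x')) := hχ
  obtain ⟨z, φ₀, hφ₀⟩ := h𝒳.1.exists_lift (x := x') (𝒴.p.map χ ≫ eqToHom (F.w_obj x'))
  have hTφ₀ : T (𝒳.p.map φ₀) := T_of_lift T φ₀ _ hf
  have hc : 𝒴.p.IsHomLift (𝒴.p.map χ ≫ eqToHom (F.w_obj x')) (F.map φ₀) := inferInstance
  have hχl : 𝒴.p.IsHomLift (𝒴.p.map χ ≫ eqToHom (F.w_obj x')) χ := by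
    apply IsHomLift.of_fac' 𝒴.p _ χ rfl (F.w_obj x')
    simp
  have := IsFibGrpd.isStronglyCartesian' 𝒴.p h𝒴.1 (𝒴.p.map χ ≫ eqToHom (F.w_obj x')) (F.map φ₀)
  let θ : w ⟶ F.obj z :=
    IsCartesian.map 𝒴.p (𝒴.p.map χ ≫ eqToHom (F.w_obj x')) (F.map φ₀) χ
  have hθ : θ ≫ F.map φ₀ = χ :=
    IsCartesian.fac 𝒴.p (𝒴.p.map χ ≫ eqToHom (F.w_obj x')) (F.map φ₀) χ
  have e1 := (hloc φ₀ hTφ₀).choose_spec
  have e2 := hα φ₀ hTφ₀
  have e3 : F.map (hloc φ₀ hTφ₀).choose.hom ≫ F.map φ₀ = F.map φ₀ ≫ F.map α.hom := by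
    rw [← Functor.map_comp, e2, Functor.map_comp]
  have e4 : F.map (hloc φ₀ hTφ₀).choose.hom ≫ F.map φ₀ = F.map φ₀ ≫ β.hom := by
    have := tr_spec h𝒴.1 (F.map φ₀) β
    rw [← e1] at this
    exact this
  change χ ≫ F.map α.hom = χ ≫ β.hom
  rw [← hθ, Category.assoc, Category.assoc, ← e3, e4]

include h𝒳 h𝒴 hg ht hF in
lemma mapV_bijective (x' : 𝒳.obj) : Function.Bijective (mapV F (x := x')) :=
  ⟨mapV_injective F J h𝒳 h𝒴 hg s ht hF x', mapV_surjective F J h𝒳 h𝒴 hg s ht hF x'⟩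

end Extend

section Equiv

variable (J : GrothendieckTopology C) (h𝒳 : Stk.IsStack J 𝒳) (h𝒴 : Stk.IsStack J 𝒴)
  (hg : Gerb.LocSurjHom J (FibCat.toSelf 𝒳))
  (hbij : ∀ x' : 𝒳.obj, Function.Bijective (mapV F (x := x')))

include h𝒳 h𝒴 hbij in
lemma fiberFunctor_faithful (U : C) : (FibCat.fiberFunctor F U).Faithful where
  map_injective {x y} a b hab := by
    have hab' : F.map a.1 = F.map b.1 := congrArg Subtype.val hab
    have ha : 𝒳.p.IsHomLift (𝟙 U) a.1 := a.2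
    have hb : 𝒳.p.IsHomLift (𝟙 U) b.1 := b.2
    have hcb := IsFibGrpd.isStronglyCartesian' 𝒳.p h𝒳.1 (𝟙 U) b.1
    let ε : x.1 ⟶ x.1 := IsCartesian.map 𝒳.p (𝟙 U) b.1 a.1
    have hε : ε ≫ b.1 = a.1 := IsCartesian.fac 𝒳.p (𝟙 U) b.1 a.1
    have hεl : 𝒳.p.IsHomLift (𝟙 U) ε := inferInstance
    have hεl' : 𝒳.p.IsHomLift (𝟙 (𝒳.p.obj x.1)) ε := isHomLift_id_of_eq x.2.symm ε
    let εV : V x.1 := V.mk ε
    have hFb : 𝒴.p.IsHomLift (𝟙 U) (F.map b.1) := inferInstance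
    have hcFb := IsFibGrpd.isStronglyCartesian' 𝒴.p h𝒴.1 (𝟙 U) (F.map b.1)
    have hFε : 𝒴.p.IsHomLift (𝟙 U) (F.map ε) := inferInstance
    have hid : 𝒴.p.IsHomLift (𝟙 U) (𝟙 (F.obj x.1)) := IsHomLift.id ((F.w_obj x.1).trans x.2)
    have h1 : F.map ε = 𝟙 (F.obj x.1) := by
      apply IsCartesian.ext 𝒴.p (𝟙 U) (F.map b.1)
      rw [← Functor.map_comp, hε, hab', Category.id_comp]
    have h2 : εV = 𝟙 _ := by
      apply (hbij x.1).1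
      rw [mapV_id]
      apply V.ext'
      exact h1
    have h3 : ε = 𝟙 x.1 := congrArg V.hom h2
    apply Subtype.ext
    rw [← hε, h3, Category.id_comp]

include h𝒳 h𝒴 hg hbij in
/-- morphisms between images lift locally -/
lemma locSurjHom : Gerb.LocSurjHom J F := by
  intro x x' b hb
  have e : 𝒳.p.obj x = 𝒳.p.obj x' := by
    have h1 := IsHomLift.codomain_eq 𝒴.p (𝟙 (𝒳.p.obj x)) b
    rw [F.w_obj] at h1
    exact h1.symm
  obtain ⟨T, hT, hconn⟩ := exists_conn J h𝒳.1 hg x' x (eqToHom e)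
  refine ⟨T, hT, fun {W} f hf => ?_⟩
  obtain ⟨z, φ₀, hφ₀⟩ := h𝒳.1.exists_lift (x := x) f
  have hTφ₀ : T (𝒳.p.map φ₀) := T_of_lift T φ₀ f hf
  obtain ⟨ψ, hψ⟩ := hconn φ₀ hTφ₀
  have hz : 𝒳.p.obj z = W := IsHomLift.domain_eq 𝒳.p f φ₀
  have hfac : 𝒳.p.map φ₀ = eqToHom hz ≫ f := by
    have := IsHomLift.fac' 𝒳.p f φ₀
    simpa using this
  have hψl : 𝒳.p.IsHomLift f ψ := by
    apply IsHomLift.of_fac' 𝒳.p f ψ hz e.symm
    rw [hψ, hfac]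
    simp
  -- compare `F φ₀ ≫ b` with `F ψ`
  have hFψ : 𝒴.p.IsHomLift f (F.map ψ) := inferInstance
  have hFφ₀ : 𝒴.p.IsHomLift f (F.map φ₀) := inferInstance
  have hcomp : 𝒴.p.IsHomLift (f ≫ 𝟙 (𝒳.p.obj x)) (F.map φ₀ ≫ b) := inferInstance
  rw [Category.comp_id] at hcomp
  have hc := IsFibGrpd.isStronglyCartesian' 𝒴.p h𝒴.1 f (F.map ψ)
  let γ : F.obj z ⟶ F.obj z := IsCartesian.map 𝒴.p f (F.map ψ) (F.map φ₀ ≫ b)
  have hγ : γ ≫ F.map ψ = F.map φ₀ ≫ b := IsCartesian.fac 𝒴.p f (F.map ψ) (F.map φ₀ ≫ b)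
  have hγl : 𝒴.p.IsHomLift (𝟙 W) γ := inferInstance
  have hγl' : 𝒴.p.IsHomLift (𝟙 (𝒴.p.obj (F.obj z))) γ :=
    isHomLift_id_of_eq ((F.w_obj z).trans hz).symm γ
  obtain ⟨α, hα⟩ := (hbij z).2 (V.mk γ)
  have hα' : F.map α.hom = γ := congrArg V.hom hα
  have hαl : 𝒳.p.IsHomLift (𝟙 W) α.hom := isHomLift_id_of_eq hz α.hom
  have hαψ : 𝒳.p.IsHomLift (𝟙 W ≫ f) (α.hom ≫ ψ) := inferInstance
  rw [Category.id_comp] at hαψ
  refine ⟨z, φ₀, α.hom ≫ ψ, hφ₀, hαψ, ?_⟩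
  rw [Functor.map_comp, hα', hγ]

include h𝒳 h𝒴 hg hbij in
lemma isEquivOver_diag : FibCat.IsEquivOver (FibCat.diag F) := by
  haveI : F.toFunctor.Faithful := faithful_of_fiberFunctor_faithful F h𝒳.1 h𝒴.1
    (fiberFunctor_faithful F J h𝒳 h𝒴 hbij)
  haveI : (FibCat.diag F).toFunctor.Full := ⟨fun {x x'} φ => by
    have w : F.map φ.hom.fst ≫ 𝟙 _ = 𝟙 _ ≫ F.map φ.hom.snd := φ.hom.w
    rw [Category.comp_id, Category.id_comp] at w
    have h : φ.hom.fst = φ.hom.snd := F.toFunctor.map_injective w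
    refine ⟨φ.hom.fst, ?_⟩
    apply ObjectProperty.hom_ext
    apply Limits.CategoricalPullback.hom_ext
    · rfl
    · exact h⟩
  haveI : (FibCat.diag F).toFunctor.Faithful := ⟨fun {x y} g₁ g₂ h => by
    have := congrArg (fun m => m.hom.fst) h
    simpa using this⟩
  have hst : Stk.IsStack J (FibCat.fp F F) :=
    isStack_fp J F F h𝒳 h𝒳 (IsStack.isPrestack h𝒴)
  refine isEquivOver_of_locally_essSurj J h𝒳 hst (FibCat.diag F) ?_
  intro P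
  have hP : 𝒴.p.IsHomLift (𝟙 (𝒳.p.obj P.obj.fst)) P.obj.iso.hom := P.property
  obtain ⟨R, hR, H⟩ := locSurjHom F J h𝒳 h𝒴 hg hbij P.obj.fst P.obj.snd P.obj.iso.hom hP
  refine ⟨R, hR, fun {W} f hf => ?_⟩
  obtain ⟨x₀, χ, ψ, hχ, hψ, hw⟩ := H f hf
  refine ⟨x₀, ObjectProperty.homMk ⟨χ, ψ, ?_⟩, ?_⟩
  · change F.map χ ≫ P.obj.iso.hom = 𝟙 _ ≫ F.map ψ
    rw [hw, Category.id_comp]
  · rw [fp_isHomLift_iff]
    exact hχ

include h𝒳 h𝒴 hg hbij in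
lemma full_faithful : F.toFunctor.Full ∧ F.toFunctor.Faithful :=
  (full_faithful_iff_isEquivOver_diag F h𝒳.1 h𝒴.1).2 (isEquivOver_diag F J h𝒳 h𝒴 hg hbij)

end Equiv

/-- A functor between gerbes which induces bijections on automorphism groups of the pullbacks of
a global object is an equivalence. -/
theorem isEquivOver_of_autMap_bijective (J : GrothendieckTopology C)
    (h𝒳 : Gerb.IsGerbe J 𝒳) (h𝒴 : Gerb.IsGerbe J 𝒴) (s : 𝒳.obj)
    (ht : Limits.IsTerminal (𝒳.p.obj s))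
    (hF : ∀ (x : 𝒳.obj) (_ : x ⟶ s), Function.Bijective (Gerb.autMap F x)) :
    FibCat.IsEquivOver F := by
  have hX := h𝒳.1
  have hY := h𝒴.1
  have hgX := h𝒳.2.2
  have hgY := h𝒴.2.2
  have hbij : ∀ x' : 𝒳.obj, Function.Bijective (mapV F (x := x')) :=
    mapV_bijective F J hX hY hgX s ht
      (fun x c => mapV_bijective_of_autMap F hX.1 hY.1 (hF x c))
  obtain ⟨hfull, hfaith⟩ := full_faithful F J hX hY hgX hbij
  refine isEquivOver_of_locally_essSurj J hX hY F ?_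
  intro y
  obtain ⟨T, hT, hconn⟩ := exists_conn J hY.1 hgY (F.obj s) y
    (ht.from _ ≫ eqToHom (F.w_obj s).symm)
  refine ⟨T, hT, fun {W} f hf => ?_⟩
  obtain ⟨z, φ₀, hφ₀⟩ := hY.1.exists_lift (x := y) f
  have hTφ₀ : T (𝒴.p.map φ₀) := T_of_lift T φ₀ f hf
  obtain ⟨ψ, hψ⟩ := hconn φ₀ hTφ₀
  have hz : 𝒴.p.obj z = W := IsHomLift.domain_eq 𝒴.p f φ₀
  -- pull back `s`
  let g₀ : W ⟶ 𝒳.p.obj s := ht.from W
  obtain ⟨x, c, hc⟩ := hX.1.exists_lift (x := s) g₀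
  have hFc : 𝒴.p.IsHomLift g₀ (F.map c) := inferInstance
  have hψl : 𝒴.p.IsHomLift g₀ ψ := by
    apply IsHomLift.of_fac' 𝒴.p g₀ ψ hz (F.w_obj s)
    rw [← cancel_mono (eqToHom (F.w_obj s))]
    apply ht.hom_ext
  have hcart := IsFibGrpd.isStronglyCartesian' 𝒴.p hY.1 g₀ ψ
  let θ : F.obj x ⟶ z := IsCartesian.map 𝒴.p g₀ ψ (F.map c)
  have hθl : 𝒴.p.IsHomLift (𝟙 W) θ := inferInstance
  have hcomp : 𝒴.p.IsHomLift (𝟙 W ≫ f) (θ ≫ φ₀) := inferInstance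
  rw [Category.id_comp] at hcomp
  exact ⟨x, θ ≫ φ₀, hcomp⟩

end Groth.Agent.Lib.Helper43.GerbFF
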