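import Groth.Prelude.Def_StGerb2
import Groth.Agent.Lib.Helper43.GerbBand
import Groth.Agent.Lib.Helper43.StkGlue2

/-!
# An endofunctor of a gerbe acting trivially on the automorphism sheaf of a global object is
fibrewise isomorphic to the identity (helper43, for S17912)
-/

set_option autoImplicit false

universe v u

open CategoryTheory CategoryTheory.Functor Opposite

namespace Groth.Agent.Lib.Helper43.GerbId

open Groth.Agent.Lib.Helper80 Groth.Agent.Lib.Helper43.StkGlue Groth.Agent.Lib.Helper43.GerbBand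
  Groth.Agent.Lib.Helper43.StkGlue2

variable {C : Type u} [Category.{v} C]
variable {𝒳 : BasedCategory.{v, max u v} C} (F : 𝒳 ⥤ᵇ 𝒳)
variable (hp : FibCat.IsFibGrpd 𝒳.p) (x : 𝒳.obj) (ht : Limits.IsTerminal (𝒳.p.obj x))
  (g : F.obj x ⟶ x) (hgl : 𝒳.p.IsHomLift (𝟙 (𝒳.p.obj x)) g)

omit F in
lemma map_eq_of_isHomLift {R S : C} {a b : 𝒳.obj} (f : R ⟶ S) (m m' : a ⟶ b)
    [𝒳.p.IsHomLift f m] [𝒳.p.IsHomLift f m'] : 𝒳.p.map m = 𝒳.p.map m' := by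
  rw [IsHomLift.fac' 𝒳.p f m, IsHomLift.fac' 𝒳.p f m']

section GOf

include hp hgl in
lemma exists_gOf {z : 𝒳.obj} (c : z ⟶ x) :
    ∃ g' : F.obj z ⟶ z, 𝒳.p.IsHomLift (𝟙 (𝒳.p.obj z)) g' ∧ F.map c ≫ g = g' ≫ c := by
  have hc := hp.isStronglyCartesian c
  have h1 : 𝒳.p.IsHomLift (𝒳.p.map c) (F.map c) := inferInstance
  have h2 : 𝒳.p.IsHomLift (𝒳.p.map c ≫ 𝟙 (𝒳.p.obj x)) (F.map c ≫ g) := inferInstance
  rw [Category.comp_id] at h2
  exact ⟨IsCartesian.map 𝒳.p (𝒳.p.map c) c (F.map c ≫ g), inferInstance,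
    (IsCartesian.fac 𝒳.p (𝒳.p.map c) c (F.map c ≫ g)).symm⟩

/-- the transport of `g` along `c : z ⟶ x` -/
noncomputable def gOf {z : 𝒳.obj} (c : z ⟶ x) : F.obj z ⟶ z := (exists_gOf F hp x g hgl c).choose

lemma gOf_isHomLift {z : 𝒳.obj} (c : z ⟶ x) :
    𝒳.p.IsHomLift (𝟙 (𝒳.p.obj z)) (gOf F hp x g hgl c) :=
  (exists_gOf F hp x g hgl c).choose_spec.1

lemma gOf_spec {z : 𝒳.obj} (c : z ⟶ x) : F.map c ≫ g = gOf F hp x g hgl c ≫ c :=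
  (exists_gOf F hp x g hgl c).choose_spec.2

lemma gOf_unique {z : 𝒳.obj} (c : z ⟶ x) (g' : F.obj z ⟶ z)
    (h1 : 𝒳.p.IsHomLift (𝟙 (𝒳.p.obj z)) g') (h2 : F.map c ≫ g = g' ≫ c) :
    g' = gOf F hp x g hgl c := by
  have := gOf_isHomLift F hp x g hgl c
  apply cancel_lift hp c
  · exact map_eq_of_isHomLift (𝟙 (𝒳.p.obj z)) _ _
  · rw [← h2, gOf_spec]

variable (hconj : ∀ (x' : 𝒳.obj) (c : x' ⟶ x) (g' : F.obj x' ⟶ x'),
    𝒳.p.IsHomLift (𝟙 (𝒳.p.obj x')) g' → F.map c ≫ g = g' ≫ c →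
    ∀ α : Gerb.AutO x', F.map α.hom.1 ≫ g' = g' ≫ α.hom.1)

include ht hconj in
lemma gOf_indep {z : 𝒳.obj} (c c' : z ⟶ x) : gOf F hp x g hgl c = gOf F hp x g hgl c' := by
  have hc := hp.isStronglyCartesian c
  have hcc' : 𝒳.p.map c = 𝒳.p.map c' := ht.hom_ext _ _
  have : 𝒳.p.IsHomLift (𝒳.p.map c) c' := by rw [hcc']; infer_instance
  let ε : V z := V.mk (IsCartesian.map 𝒳.p (𝒳.p.map c) c c')
  have hε : ε.hom ≫ c = c' := IsCartesian.fac 𝒳.p (𝒳.p.map c) c c'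
  apply gOf_unique F hp x g hgl c' _ (gOf_isHomLift F hp x g hgl c)
  have h1 := hconj z c (gOf F hp x g hgl c) (gOf_isHomLift F hp x g hgl c)
    (gOf_spec F hp x g hgl c) (toAut hp ε)
  have h1' : F.map ε.hom ≫ gOf F hp x g hgl c = gOf F hp x g hgl c ≫ ε.hom := h1
  rw [← hε, Functor.map_comp, Category.assoc, gOf_spec F hp x g hgl c, ← Category.assoc, h1',
    Category.assoc]

include ht hconj in
lemma gOf_nat {z' z : 𝒳.obj} (κ : z' ⟶ z) (c : z ⟶ x) (c' : z' ⟶ x) :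
    gOf F hp x g hgl c' ≫ κ = F.map κ ≫ gOf F hp x g hgl c := by
  rw [gOf_indep F hp x ht g hgl hconj c' (κ ≫ c)]
  have h1 := gOf_isHomLift F hp x g hgl (κ ≫ c)
  have h2 := gOf_isHomLift F hp x g hgl c
  apply cancel_lift hp c
  · have l1 : 𝒳.p.IsHomLift (𝟙 (𝒳.p.obj z') ≫ 𝒳.p.map κ) (gOf F hp x g hgl (κ ≫ c) ≫ κ) :=
      inferInstance
    rw [Category.id_comp] at l1
    have l0 : 𝒳.p.IsHomLift (𝒳.p.map κ) (F.map κ) := inferInstance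
    have l2 : 𝒳.p.IsHomLift (𝒳.p.map κ ≫ 𝟙 (𝒳.p.obj z)) (F.map κ ≫ gOf F hp x g hgl c) :=
      inferInstance
    rw [Category.comp_id] at l2
    exact map_eq_of_isHomLift (𝒳.p.map κ) _ _
  · rw [Category.assoc, ← gOf_spec F hp x g hgl (κ ≫ c), Category.assoc,
      ← gOf_spec F hp x g hgl c, Functor.map_comp, Category.assoc]

end GOf

section Glue

variable (J : GrothendieckTopology C) (h𝒳 : Stk.IsStack J 𝒳)
  (hg' : Gerb.LocSurjHom J (FibCat.toSelf 𝒳))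
  (hconj : ∀ (x' : 𝒳.obj) (c : x' ⟶ x) (g' : F.obj x' ⟶ x'),
    𝒳.p.IsHomLift (𝟙 (𝒳.p.obj x')) g' → F.map c ≫ g = g' ≫ c →
    ∀ α : Gerb.AutO x', F.map α.hom.1 ≫ g' = g' ≫ α.hom.1)

omit F in
include hp in
/-- the sieve of base morphisms along which `y` becomes connected to `x` -/
def connSieve (y : 𝒳.obj) : Sieve (𝒳.p.obj y) where
  arrows W f := ∃ (z : 𝒳.obj) (φ₀ : z ⟶ y) (_ : z ⟶ x), 𝒳.p.IsHomLift f φ₀
  downward_closed := by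
    rintro W W' f ⟨z, φ₀, c, h⟩ k
    have hz : 𝒳.p.obj z = W := IsHomLift.domain_eq 𝒳.p f φ₀
    obtain ⟨z', κ, hκ⟩ := hp.exists_lift (x := z) (k ≫ eqToHom hz.symm)
    refine ⟨z', κ ≫ φ₀, κ ≫ c, ?_⟩
    have hz' : 𝒳.p.obj z' = W' := IsHomLift.domain_eq 𝒳.p (k ≫ eqToHom hz.symm) κ
    apply IsHomLift.of_fac' 𝒳.p (k ≫ f) (κ ≫ φ₀) hz' rfl
    rw [Functor.map_comp, IsHomLift.fac' 𝒳.p (k ≫ eqToHom hz.symm) κ,
      IsHomLift.fac' 𝒳.p f φ₀]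
    simp

omit F in
include hg' ht in
lemma connSieve_mem (y : 𝒳.obj) : connSieve hp x y ∈ J (𝒳.p.obj y) := by
  obtain ⟨T, hT, hconn⟩ := exists_conn J hp hg' x y (ht.from _)
  refine J.superset_covering ?_ hT
  intro W f hf
  obtain ⟨z, φ₀, hφ₀⟩ := hp.exists_lift (x := y) f
  have hTφ₀ : T (𝒳.p.map φ₀) := T_of_lift T φ₀ f hf
  obtain ⟨ψ, -⟩ := hconn φ₀ hTφ₀
  exact ⟨z, φ₀, ψ, hφ₀⟩

omit F in
lemma exists_conn_of_mem {y z : 𝒳.obj} (φ₀ : z ⟶ y)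
    (h : connSieve hp x y (𝒳.p.map φ₀ ≫ eqToHom rfl)) : Nonempty (z ⟶ x) := by
  obtain ⟨z₁, φ₁, c₁, h₁⟩ := h
  have hc := IsFibGrpd.isStronglyCartesian' 𝒳.p hp (𝒳.p.map φ₀ ≫ eqToHom rfl) φ₁
  have : 𝒳.p.IsHomLift (𝒳.p.map φ₀ ≫ eqToHom rfl) φ₀ := by
    apply IsHomLift.of_fac' 𝒳.p _ φ₀ rfl rfl
    simp
  exact ⟨IsCartesian.map 𝒳.p (𝒳.p.map φ₀ ≫ eqToHom rfl) φ₁ φ₀ ≫ c₁⟩

include ht h𝒳 hg' hconj in
lemma exists_m (y : 𝒳.obj) :
    ∃ m : y ⟶ F.obj y, 𝒳.p.IsHomLift (𝟙 (𝒳.p.obj y)) m ∧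
      ∀ {z : 𝒳.obj} (φ₀ : z ⟶ y) (c : z ⟶ x), F.map φ₀ = gOf F hp x g hgl c ≫ φ₀ ≫ m := by
  have hT := connSieve_mem hp x ht J hg' y
  haveI : (Stk.resSieve (connSieve hp x y) 𝒳).IsEquivalence := h𝒳.2 _ hT
  have hiso : ∀ {z : 𝒳.obj} (c : z ⟶ x), IsIso (gOf F hp x g hgl c) := by
    intro z c
    have := gOf_isHomLift F hp x g hgl c
    exact IsFibGrpd.isIso_of_base_isIso 𝒳.p hp (𝟙 (𝒳.p.obj z)) _
  obtain ⟨m, hml, hm⟩ := glue₂ hp (y := y) (y' := F.obj y) rfl (F.w_obj y) (connSieve hp x y)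
    (fun {z} φ₀ h =>
      haveI := hiso (exists_conn_of_mem hp x φ₀ h).some
      inv (gOf F hp x g hgl (exists_conn_of_mem hp x φ₀ h).some) ≫ F.map φ₀)
    (by
      intro z φ₀ h
      have hi := hiso (exists_conn_of_mem hp x φ₀ h).some
      have h1 := gOf_isHomLift F hp x g hgl (exists_conn_of_mem hp x φ₀ h).some
      have h2 : 𝒳.p.IsHomLift (𝟙 (𝒳.p.obj z))
          (inv (gOf F hp x g hgl (exists_conn_of_mem hp x φ₀ h).some)) := inferInstance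
      have h3 : 𝒳.p.IsHomLift (𝒳.p.map φ₀) (F.map φ₀) := inferInstance
      have h4 : 𝒳.p.IsHomLift (𝟙 (𝒳.p.obj z) ≫ 𝒳.p.map φ₀)
          (inv (gOf F hp x g hgl (exists_conn_of_mem hp x φ₀ h).some) ≫ F.map φ₀) :=
        inferInstance
      rw [Category.id_comp] at h4
      rw [IsHomLift.fac' 𝒳.p (𝒳.p.map φ₀) _]
      simp)
    (by
      intro z' z ψ φ₀ h h'
      have hi := hiso (exists_conn_of_mem hp x φ₀ h).some
      have hi' := hiso (exists_conn_of_mem hp x (ψ ≫ φ₀) h').some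
      have hn := gOf_nat F hp x ht g hgl hconj ψ (exists_conn_of_mem hp x φ₀ h).some
        (exists_conn_of_mem hp x (ψ ≫ φ₀) h').some
      rw [IsIso.inv_comp_eq, Functor.map_comp, ← Category.assoc, ← Category.assoc, hn,
        Category.assoc, Category.assoc, IsIso.hom_inv_id_assoc])
  refine ⟨m, hml, fun {z} φ₀ c => ?_⟩
  have hmem : connSieve hp x y (𝒳.p.map φ₀ ≫ eqToHom rfl) := by
    refine ⟨z, φ₀, c, ?_⟩
    apply IsHomLift.of_fac' 𝒳.p _ φ₀ rfl rfl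
    simp
  have h1 := hm φ₀ hmem
  have hi := hiso (exists_conn_of_mem hp x φ₀ hmem).some
  rw [IsIso.inv_comp_eq] at h1
  rw [h1, gOf_indep F hp x ht g hgl hconj c (exists_conn_of_mem hp x φ₀ hmem).some]

include hp hgl ht h𝒳 hg' hconj in
/-- `F` is fibrewise naturally isomorphic to the identity -/
theorem exists_rho :
    ∃ ρ : ∀ y : 𝒳.obj, F.obj y ⟶ y,
      (∀ y, IsIso (ρ y) ∧ 𝒳.p.IsHomLift (𝟙 (𝒳.p.obj y)) (ρ y)) ∧
      (∀ (y y' : 𝒳.obj) (f : y ⟶ y'), 𝒳.p.IsHomLift (𝟙 (𝒳.p.obj y)) f →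
        F.map f ≫ ρ y' = ρ y ≫ f) := by
  choose m hml hm using exists_m F hp x ht g hgl J h𝒳 hg' hconj
  have hiso : ∀ y, IsIso (m y) := fun y =>
    haveI := hml y
    IsFibGrpd.isIso_of_base_isIso 𝒳.p hp (𝟙 (𝒳.p.obj y)) (m y)
  refine ⟨fun y => haveI := hiso y; inv (m y), fun y => ?_, fun y y' f hf => ?_⟩
  · haveI := hiso y
    haveI := hml y
    refine ⟨inferInstance, ?_⟩
    have : 𝒳.p.IsHomLift (inv (𝟙 (𝒳.p.obj y))) (inv (m y)) := inferInstance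
    simpa using this
  · haveI := hiso y
    haveI := hiso y'
    have e : 𝒳.p.obj y' = 𝒳.p.obj y := IsHomLift.codomain_eq 𝒳.p (𝟙 (𝒳.p.obj y)) f
    have hy' : 𝒳.p.obj (F.obj y') = 𝒳.p.obj y := (F.w_obj y').trans e
    have key : m y ≫ F.map f = f ≫ m y' := by
      have hT := connSieve_mem hp x ht J hg' y
      haveI : (Stk.resSieve (connSieve hp x y) 𝒳).IsEquivalence := h𝒳.2 _ hT
      have l1 : 𝒳.p.IsHomLift (𝟙 (𝒳.p.obj y)) (m y ≫ F.map f) := by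
        haveI := hml y
        have h0 : 𝒳.p.IsHomLift (𝟙 (𝒳.p.obj y)) (F.map f) := inferInstance
        have : 𝒳.p.IsHomLift (𝟙 (𝒳.p.obj y) ≫ 𝟙 (𝒳.p.obj y)) (m y ≫ F.map f) := inferInstance
        simpa using this
      have l2 : 𝒳.p.IsHomLift (𝟙 (𝒳.p.obj y)) (f ≫ m y') := by
        haveI : 𝒳.p.IsHomLift (𝟙 (𝒳.p.obj y)) (m y') := isHomLift_id_of_eq e (m y')
        have : 𝒳.p.IsHomLift (𝟙 (𝒳.p.obj y) ≫ 𝟙 (𝒳.p.obj y)) (f ≫ m y') := inferInstance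
        simpa using this
      apply sep₂ hp (y := y) (y' := F.obj y') rfl hy' (connSieve hp x y)
      intro z φ₀ h
      obtain ⟨c⟩ := exists_conn_of_mem hp x φ₀ h
      have h1 := hm y φ₀ c
      have h2 := hm y' (φ₀ ≫ f) c
      haveI : IsIso (gOf F hp x g hgl c) := by
        have := gOf_isHomLift F hp x g hgl c
        exact IsFibGrpd.isIso_of_base_isIso 𝒳.p hp (𝟙 (𝒳.p.obj z)) _
      rw [← cancel_epi (gOf F hp x g hgl c)]
      have e1 : gOf F hp x g hgl c ≫ φ₀ ≫ m y ≫ F.map f = F.map φ₀ ≫ F.map f := by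
        rw [h1]; simp only [Category.assoc]
      rw [e1, ← Functor.map_comp, h2]
      simp only [Category.assoc]
    rw [IsIso.comp_inv_eq, Category.assoc, ← key, IsIso.inv_hom_id_assoc]

end Glue

end Groth.Agent.Lib.Helper43.GerbId
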