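import Groth.Prelude.Def_StGerb2
import Groth.Agent.Lib.Helper43.GerbFF
import Groth.Agent.Lib.Helper43.GerbId

/-!
# Mutually quasi-inverse functors between gerbes (helper43, for S17913)
-/

set_option autoImplicit false

universe v u

open CategoryTheory CategoryTheory.Functor Opposite

namespace Groth.Agent.Lib.Helper43.GerbInv

open Groth.Agent.Lib.Helper80 Groth.Agent.Lib.Helper43.StkGlue Groth.Agent.Lib.Helper43.GerbBand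

variable {C : Type u} [Category.{v} C]
variable {𝒳 𝒴 : BasedCategory.{v, max u v} C}

theorem exists_sigma (J : GrothendieckTopology C)
    (h𝒳 : Gerb.IsGerbe J 𝒳) (h𝒴 : Gerb.IsGerbe J 𝒴)
    (φ : 𝒳 ⥤ᵇ 𝒴) (ψ : 𝒴 ⥤ᵇ 𝒳) (x : 𝒳.obj) (ht : Limits.IsTerminal (𝒳.p.obj x))
    (hφ : ∀ (x' : 𝒳.obj) (_ : x' ⟶ x), Function.Surjective (Gerb.autMap φ x'))
    (g : ψ.obj (φ.obj x) ⟶ x) [IsIso g] (hg : 𝒳.p.IsHomLift (𝟙 (𝒳.p.obj x)) g)
    (hconj : ∀ (x' : 𝒳.obj) (c : x' ⟶ x) (g' : ψ.obj (φ.obj x') ⟶ x'),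
      𝒳.p.IsHomLift (𝟙 (𝒳.p.obj x')) g' →
      ψ.map (φ.map c) ≫ g = g' ≫ c → ∀ α : Gerb.AutO x', ψ.map (φ.map α.hom.1) ≫ g' = g' ≫ α.hom.1) :
    ∃ σ : ∀ z : 𝒴.obj, φ.obj (ψ.obj z) ⟶ z,
      (∀ z, IsIso (σ z) ∧ 𝒴.p.IsHomLift (𝟙 (𝒴.p.obj z)) (σ z)) ∧
      (∀ (z z' : 𝒴.obj) (f : z ⟶ z'), 𝒴.p.IsHomLift (𝟙 (𝒴.p.obj z)) f →
        φ.map (ψ.map f) ≫ σ z' = σ z ≫ f) := by
  obtain ⟨ρ, hρ, hρnat⟩ : ∃ ρ : ∀ y : 𝒳.obj, ψ.obj (φ.obj y) ⟶ y,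
      (∀ y, IsIso (ρ y) ∧ 𝒳.p.IsHomLift (𝟙 (𝒳.p.obj y)) (ρ y)) ∧
      (∀ (y y' : 𝒳.obj) (f : y ⟶ y'), 𝒳.p.IsHomLift (𝟙 (𝒳.p.obj y)) f →
        ψ.map (φ.map f) ≫ ρ y' = ρ y ≫ f) :=
    GerbId.exists_rho (BasedFunctor.comp φ ψ) h𝒳.1.1 x ht g hg J h𝒳.1 h𝒳.2.2 hconj
  -- `φ` is bijective on automorphism groups of pullbacks of `x`
  have hbij : ∀ (x' : 𝒳.obj) (_ : x' ⟶ x), Function.Bijective (Gerb.autMap φ x') := by
    intro x' c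
    refine ⟨fun a b hab => ?_, hφ x' c⟩
    have h1 : φ.map a.hom.1 = φ.map b.hom.1 := by
      have := congrArg (fun t => t.hom.1) hab
      simpa using this
    have ha := hρnat x' x' a.hom.1 a.hom.2
    have hb := hρnat x' x' b.hom.1 b.hom.2
    haveI := (hρ x').1
    have h2 : ρ x' ≫ a.hom.1 = ρ x' ≫ b.hom.1 := by
      rw [← ha, ← hb]
      rw [h1]
    have h3 : a.hom.1 = b.hom.1 := (cancel_epi (ρ x')).1 h2
    apply Aut.ext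
    apply Functor.Fiber.hom_ext
    exact h3
  have hX := h𝒳.1
  have hY := h𝒴.1
  have hbijV : ∀ x' : 𝒳.obj, Function.Bijective (GerbFF.mapV φ (x := x')) :=
    GerbFF.mapV_bijective φ J hX hY h𝒳.2.2 x ht
      (fun x' c => GerbFF.mapV_bijective_of_autMap φ hX.1 hY.1 (hbij x' c))
  obtain ⟨hfull, hfaith⟩ := GerbFF.full_faithful φ J hX hY h𝒳.2.2 hbijV
  obtain ⟨G, -, ⟨e⟩⟩ := GerbFF.isEquivOver_of_autMap_bijective φ J h𝒳 h𝒴 x ht hbij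
  -- components of `e`
  let ε : ∀ z : 𝒴.obj, φ.obj (G.obj z) ⟶ z := fun z => e.hom.toNatTrans.app z
  have hεiso : ∀ z, IsIso (ε z) := fun z => by
    haveI : IsIso (X := (BasedFunctor.comp G φ).toFunctor) e.hom.toNatTrans := inferInstance
    exact NatIso.isIso_app_of_isIso e.hom.toNatTrans z
  have hεl : ∀ z, 𝒴.p.IsHomLift (𝟙 (𝒴.p.obj z)) (ε z) := fun z =>
    BasedNatTrans.app_isHomLift e.hom z
  have hA : ∀ z, IsIso (φ.map (ψ.map (ε z))) := fun z => by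
    haveI := hεiso z
    infer_instance
  have hAl : ∀ z, 𝒴.p.IsHomLift (𝟙 (𝒴.p.obj z)) (φ.map (ψ.map (ε z))) := fun z => by
    haveI := hεl z
    infer_instance
  have hAil : ∀ z, 𝒴.p.IsHomLift (𝟙 (𝒴.p.obj z)) (haveI := hA z; inv (φ.map (ψ.map (ε z)))) :=
    fun z => by
      haveI := hA z
      haveI := hAl z
      have : 𝒴.p.IsHomLift (inv (𝟙 (𝒴.p.obj z))) (inv (φ.map (ψ.map (ε z)))) := inferInstance
      simpa using this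
  have hBl : ∀ z, 𝒴.p.IsHomLift (𝟙 (𝒴.p.obj z)) (φ.map (ρ (G.obj z))) := fun z => by
    haveI := (hρ (G.obj z)).2
    haveI : 𝒳.p.IsHomLift (𝟙 (𝒴.p.obj z)) (ρ (G.obj z)) :=
      isHomLift_id_of_eq (G.w_obj z) (ρ (G.obj z))
    infer_instance
  have hBiso : ∀ z, IsIso (φ.map (ρ (G.obj z))) := fun z => by
    haveI := (hρ (G.obj z)).1
    infer_instance
  refine ⟨fun z => haveI := hA z; inv (φ.map (ψ.map (ε z))) ≫ φ.map (ρ (G.obj z)) ≫ ε z,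
    fun z => ?_, fun z z' f hf => ?_⟩
  · haveI := hA z
    haveI := hBiso z
    haveI := hεiso z
    refine ⟨?_, ?_⟩
    · change IsIso (inv (φ.map (ψ.map (ε z))) ≫ φ.map (ρ (G.obj z)) ≫ ε z)
      infer_instance
    change 𝒴.p.IsHomLift (𝟙 (𝒴.p.obj z)) (inv (φ.map (ψ.map (ε z))) ≫ φ.map (ρ (G.obj z)) ≫ ε z)
    haveI := hAil z
    haveI := hBl z
    haveI := hεl z
    have : 𝒴.p.IsHomLift (𝟙 (𝒴.p.obj z) ≫ 𝟙 (𝒴.p.obj z) ≫ 𝟙 (𝒴.p.obj z))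
      (inv (φ.map (ψ.map (ε z))) ≫ φ.map (ρ (G.obj z)) ≫ ε z) := inferInstance
    simpa using this
  · haveI := hA z
    haveI := hA z'
    haveI := hεiso z
    haveI := hεiso z'
    have ez : 𝒴.p.obj z' = 𝒴.p.obj z := IsHomLift.codomain_eq 𝒴.p (𝟙 (𝒴.p.obj z)) f
    -- the morphism `h` and its preimage `k`
    have hhl : 𝒴.p.IsHomLift (𝟙 (𝒴.p.obj z)) (ε z ≫ f ≫ inv (ε z')) := by
      haveI := hεl z
      haveI : 𝒴.p.IsHomLift (𝟙 (𝒴.p.obj z)) (inv (ε z')) := by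
        haveI := hεl z'
        have h0 : 𝒴.p.IsHomLift (inv (𝟙 (𝒴.p.obj z'))) (inv (ε z')) := inferInstance
        have h1 : 𝒴.p.IsHomLift (𝟙 (𝒴.p.obj z')) (inv (ε z')) := by simpa using h0
        exact isHomLift_id_of_eq ez (inv (ε z'))
      have : 𝒴.p.IsHomLift (𝟙 (𝒴.p.obj z) ≫ 𝟙 (𝒴.p.obj z) ≫ 𝟙 (𝒴.p.obj z))
        (ε z ≫ f ≫ inv (ε z')) := inferInstance
      simpa using this
    obtain ⟨k, hk⟩ := hfull.map_surjective (ε z ≫ f ≫ inv (ε z'))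
    have hkl : 𝒳.p.IsHomLift (𝟙 (𝒳.p.obj (G.obj z))) k := by
      haveI : 𝒴.p.IsHomLift (𝟙 (𝒳.p.obj (G.obj z))) (φ.map k) := by
        rw [hk]
        exact isHomLift_id_of_eq (G.w_obj z).symm _
      exact BasedFunctor.isHomLift_map φ (𝟙 (𝒳.p.obj (G.obj z))) k
    have hnat := hρnat (G.obj z) (G.obj z') k hkl
    have hnat' : ψ.map (φ.map k) ≫ ρ (G.obj z') = ρ (G.obj z) ≫ k := hnat
    have key : ε z ≫ f = φ.map k ≫ ε z' := by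
      rw [hk]
      simp
    have key2 : φ.map (ψ.map f) ≫ inv (φ.map (ψ.map (ε z'))) =
        inv (φ.map (ψ.map (ε z))) ≫ φ.map (ψ.map (φ.map k)) := by
      rw [IsIso.comp_inv_eq, Category.assoc, IsIso.eq_inv_comp, ← Functor.map_comp,
        ← Functor.map_comp, ← Functor.map_comp, ← Functor.map_comp, key]
    calc φ.map (ψ.map f) ≫ inv (φ.map (ψ.map (ε z'))) ≫ φ.map (ρ (G.obj z')) ≫ ε z'
        = inv (φ.map (ψ.map (ε z))) ≫ (φ.map (ψ.map (φ.map k)) ≫ φ.map (ρ (G.obj z'))) ≫ ε z' := by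
          rw [← Category.assoc, key2]
          simp only [Category.assoc]
      _ = inv (φ.map (ψ.map (ε z))) ≫ (φ.map (ρ (G.obj z)) ≫ φ.map k) ≫ ε z' := by
          rw [← Functor.map_comp, hnat', Functor.map_comp]
      _ = (inv (φ.map (ψ.map (ε z))) ≫ φ.map (ρ (G.obj z)) ≫ ε z) ≫ f := by
          simp only [Category.assoc]
          rw [key]

end Groth.Agent.Lib.Helper43.GerbInv
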