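import Groth.Prelude.Def_StGerb2

/-!
# The space under a gerbe is the sheafification of the presheaf of isomorphism classes
(helper43, for S16877)
-/

set_option autoImplicit false

universe w v₂ u₂ v u

open CategoryTheory CategoryTheory.Functor Opposite

namespace Groth.Agent.Lib.Helper43.GerbIsoCl

variable {C : Type u} [Category.{v} C] {𝒳 : BasedCategory.{v₂, u₂} C} [FibCat.IsFibGrpd 𝒳.p]
variable {P : Cᵒᵖ ⥤ Type u₂} (π : 𝒳 ⥤ᵇ Stk.ofPsh P)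

/-- the section of `P` under `π x`, transported to an object equal to the one under `x` -/
def secAt (x : 𝒳.obj) (U : C) (hx : 𝒳.p.obj x = U) : P.obj (op U) :=
  P.map (eqToHom (hx.symm.trans (π.w_obj x).symm) : U ⟶ (π.obj x).base).op (π.obj x).sec

lemma secAt_of_isHomLift {x x' : 𝒳.obj} {V U : C} (f : V ⟶ U) (m : x ⟶ x')
    [𝒳.p.IsHomLift f m] (hx : 𝒳.p.obj x = V) (hx' : 𝒳.p.obj x' = U) :
    secAt π x V hx = P.map f.op (secAt π x' U hx') := by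
  have h1 : (Stk.ofPsh P).p.IsHomLift f (π.map m) :=
    @BasedFunctor.preserves_isHomLift _ _ _ _ π _ _ _ _ f m inferInstance
  have h2 := @IsHomLift.fac' _ _ _ _ (Stk.ofPsh P).p _ _ _ _ f (π.map m) h1
  have h3 : (π.map m).hom = eqToHom ((π.w_obj x).trans hx) ≫ f ≫
      eqToHom (hx'.symm.trans (π.w_obj x').symm) := by
    have : (Stk.ofPsh P).p.map (π.map m) = (π.map m).hom := rfl
    rw [← this, h2]
  have h4 := (π.map m).map_sec
  unfold secAt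
  rw [← h4, ← Functor.map_comp_apply, ← Functor.map_comp_apply, ← op_comp,
    ← op_comp, h3]
  congr 2
  simp

variable (𝒳) in
lemma isoRel_secAt {U : C} (a b : 𝒳.p.Fiber U) (h : Gerb.IsoRel 𝒳 U a b) :
    secAt π a.1 U a.2 = secAt π b.1 U b.2 := by
  obtain ⟨φ⟩ := h
  haveI : 𝒳.p.IsHomLift (𝟙 U) φ.1 := φ.2
  rw [secAt_of_isHomLift π (𝟙 U) φ.1 a.2 b.2]
  simp

/-- the map of presheaves `[x] ↦ π(x)` -/
noncomputable def cMap : Gerb.isoClPsh 𝒳 ⟶ P where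
  app U := ↾Quot.lift (fun a : 𝒳.p.Fiber U.unop => secAt π a.1 U.unop a.2)
    (fun a b h => isoRel_secAt 𝒳 π a b h)
  naturality {U V} f := by
    ext a
    obtain ⟨a⟩ := a
    change secAt π (Gerb.pullFib 𝒳 f.unop a).1 V.unop (Gerb.pullFib 𝒳 f.unop a).2 =
      P.map f (secAt π a.1 U.unop a.2)
    haveI := Gerb.pullHom_isHomLift 𝒳 a.1 (f.unop ≫ eqToHom a.2.symm)
    have := secAt_of_isHomLift π (f.unop ≫ eqToHom a.2.symm)
      (Gerb.pullHom 𝒳 a.1 (f.unop ≫ eqToHom a.2.symm))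
      (Gerb.pull_over 𝒳 a.1 _) rfl
    change secAt π (Gerb.pull 𝒳 a.1 (f.unop ≫ eqToHom a.2.symm)) V.unop _ = _
    rw [this]
    unfold secAt
    rw [← Functor.map_comp_apply, ← Functor.map_comp_apply, ← op_comp]
    congr 2
    have : f = f.unop.op := rfl
    rw [this, ← op_comp]
    congr 1
    simp

lemma cMap_app (x : 𝒳.obj) :
    (cMap π).app (op (𝒳.p.obj x)) (Quot.mk _ (Gerb.fib x)) =
      P.map (eqToHom (π.w_obj x).symm).op (π.obj x).sec := rfl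

variable (J : GrothendieckTopology C)

lemma locSurj (h : Gerb.LocSurjObj J π) : Presheaf.IsLocallySurjective J (cMap π) := by
  constructor
  intro U s
  obtain ⟨R, hR, H⟩ := h (⟨U, s⟩ : Stk.EltObj P)
  refine J.superset_covering ?_ hR
  intro V f hf
  obtain ⟨x, g, hg⟩ := H f hf
  have hV : (π.obj x).base = V := @IsHomLift.domain_eq _ _ _ _ (Stk.ofPsh P).p _ _ _ _ f g hg
  have hxV : 𝒳.p.obj x = V := (π.w_obj x).symm.trans hV
  refine ⟨Quot.mk _ ⟨x, hxV⟩, ?_⟩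
  change secAt π x V hxV = P.map f.op s
  have h2 := @IsHomLift.fac' _ _ _ _ (Stk.ofPsh P).p _ _ _ _ f g hg
  have h3 : g.hom = eqToHom hV ≫ f := by
    have : (Stk.ofPsh P).p.map g = g.hom := rfl
    rw [← this, h2]
    simp
  have h4 : P.map g.hom.op s = (π.obj x).sec := g.map_sec
  unfold secAt
  rw [← h4, ← Functor.map_comp_apply, ← op_comp, h3]
  congr 2
  simp

omit [FibCat.IsFibGrpd 𝒳.p] in
lemma key {A B U : C} (a : U = A) (b : U = B) (s : P.obj (op A)) (t : P.obj (op B))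
    (h : P.map (eqToHom a).op s = P.map (eqToHom b).op t) :
    P.map (eqToHom (a.symm.trans b)).op t = s := by
  subst a
  subst b
  simpa using h.symm

lemma locInj_aux (h : Gerb.LocSurjHom J π) (U : C) (a b : 𝒳.p.Fiber U)
    (hab : secAt π a.1 U a.2 = secAt π b.1 U b.2) :
    Presheaf.equalizerSieve (F := Gerb.isoClPsh 𝒳) (X := op U)
      (Quot.mk (Gerb.IsoRel 𝒳 U) a) (Quot.mk (Gerb.IsoRel 𝒳 U) b) ∈ J U := by
  obtain ⟨x, hx⟩ := a
  obtain ⟨x', hx'⟩ := b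
  subst hx
  have hab' : secAt π x (𝒳.p.obj x) rfl = secAt π x' (𝒳.p.obj x) hx' := hab
  -- the morphism `π x ⟶ π x'` over the identity
  let b₀ : π.obj x ⟶ π.obj x' :=
    ⟨eqToHom ((π.w_obj x).trans (hx'.symm.trans (π.w_obj x').symm)), by
      unfold secAt at hab'
      exact key (P := P) (A := (π.obj x).base) (B := (π.obj x').base) _ _ _ _ hab'⟩
  have hb₀ : (Stk.ofPsh P).p.IsHomLift (𝟙 (𝒳.p.obj x)) b₀ := by
    apply IsHomLift.of_fac' (Stk.ofPsh P).p _ _ (π.w_obj x) ((π.w_obj x').trans hx')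
    have e0 : (Stk.ofPsh P).p.map b₀ = b₀.hom := rfl
    rw [e0]
    simp [b₀]
  obtain ⟨R, hR, H⟩ := h x x' b₀ hb₀
  refine J.superset_covering ?_ hR
  intro V f hf
  obtain ⟨x₀, φ, ψ, hφ, hψ, -⟩ := H f hf
  have hx₀ : 𝒳.p.obj x₀ = V := IsHomLift.domain_eq 𝒳.p f φ
  change Quot.mk _ (Gerb.pullFib 𝒳 f ⟨x, rfl⟩) = Quot.mk _ (Gerb.pullFib 𝒳 f ⟨x', hx'⟩)
  have hφ' : 𝒳.p.IsHomLift (f ≫ eqToHom (rfl : 𝒳.p.obj x = 𝒳.p.obj x).symm) φ := by
    simpa using hφ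
  have hψ' : 𝒳.p.IsHomLift (f ≫ eqToHom hx'.symm) ψ := by
    apply IsHomLift.of_fac' 𝒳.p _ _ hx₀ rfl
    have := IsHomLift.fac' 𝒳.p f ψ
    rw [this]
    simp
  obtain ⟨χ, hχ, -⟩ := Gerb.exists_hom_pull 𝒳 x _ φ hφ'
  obtain ⟨χ', hχ', -⟩ := Gerb.exists_hom_pull 𝒳 x' _ ψ hψ'
  have e1 : Quot.mk (Gerb.IsoRel 𝒳 V) ⟨x₀, hx₀⟩ = Quot.mk _ (Gerb.pullFib 𝒳 f ⟨x, rfl⟩) :=
    Quot.sound ⟨⟨χ, hχ⟩⟩
  have e2 : Quot.mk (Gerb.IsoRel 𝒳 V) ⟨x₀, hx₀⟩ = Quot.mk _ (Gerb.pullFib 𝒳 f ⟨x', hx'⟩) :=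
    Quot.sound ⟨⟨χ', hχ'⟩⟩
  rw [← e1, ← e2]

lemma locInj (h : Gerb.LocSurjHom J π) : Presheaf.IsLocallyInjective J (cMap π) := by
  constructor
  intro U a b hab
  induction U using Opposite.rec with | _ U => ?_
  obtain ⟨a⟩ := a
  obtain ⟨b⟩ := b
  exact locInj_aux π J h U a b hab

end Groth.Agent.Lib.Helper43.GerbIsoCl
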