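import Groth.Agent.Lib.Helper43.GerbBC
import Groth.Agent.Lib.Helper43.FibGrpdTop
import Groth.Prelude.Def_StGerb

/-!
# A relative gerbe `F' : 𝒳' ⟶ 𝒴` fibred in groupoids is a gerbe over the site `𝒴`
(gerbe conditions only; the stack condition is `StkOver.isStack_over`).
-/

set_option autoImplicit false
universe v₃ u₃ v₂ u₂ v u

open CategoryTheory Functor

namespace Groth.Agent.Lib.Helper43.GerbOver

open Groth.Agent.Lib.Helper43.GerbBC Groth.Agent.Lib.Helper43.FibGrpdTop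

variable {C : Type u} [Category.{v} C] (J : GrothendieckTopology C)
  {𝒳' : BasedCategory.{v₂, u₂} C} {𝒴 : BasedCategory.{v₃, u₃} C} (F' : 𝒳' ⥤ᵇ 𝒴)
  (hF' : FibCat.IsFibGrpd F'.toFunctor) (h𝒴 : FibCat.IsFibGrpd 𝒴.p)

/-- arrows factoring through an object of the image. -/
def objS (y : 𝒴.obj) : Sieve y where
  arrows := fun z m => ∃ (x : 𝒳'.obj) (g : F'.obj x ⟶ y) (n : z ⟶ F'.obj x), n ≫ g = m
  downward_closed := by
    rintro z z' m ⟨x, g, n, rfl⟩ k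
    exact ⟨x, g, k ≫ n, Category.assoc _ _ _⟩

/-- arrows factoring through the image of a local lift of `b`. -/
def homS (x x' : 𝒳'.obj) (b : F'.obj x ⟶ F'.obj x') : Sieve (F'.obj x) where
  arrows := fun z m => ∃ (x₀ : 𝒳'.obj) (φ : x₀ ⟶ x) (ψ : x₀ ⟶ x') (n : z ⟶ F'.obj x₀),
    F'.map φ ≫ b = F'.map ψ ∧ n ≫ F'.map φ = m
  downward_closed := by
    rintro z z' m ⟨x₀, φ, ψ, n, hb, rfl⟩ k
    exact ⟨x₀, φ, ψ, k ≫ n, hb, Category.assoc _ _ _⟩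

include hF' h𝒴 in
theorem locSurjObj_toSelf (h : Gerb.LocSurjObj J F') :
    Gerb.LocSurjObj (𝒴.p.restrictedTopology J)
      (FibCat.toSelf (BasedCategory.ofFunctor F'.toFunctor)) := by
  intro y
  obtain ⟨R, hR, hR'⟩ := h y
  refine ⟨objS F' y, ?_, ?_⟩
  · show objS F' y ∈ 𝒴.p.restrictedTopology J y
    rw [mem_restrictedTopology_iff 𝒴.p h𝒴 J]
    refine J.superset_covering ?_ hR
    intro V f hf
    obtain ⟨x, g, hg⟩ := hR' f hf
    have hd : 𝒴.p.obj (F'.obj x) = V := IsHomLift.domain_eq 𝒴.p f g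
    refine ⟨F'.obj x, g, eqToHom hd.symm, ⟨x, g, 𝟙 _, Category.id_comp _⟩, ?_⟩
    rw [IsHomLift.fac' 𝒴.p f g]
    simp
  · intro z m hm
    obtain ⟨x, g, n, hm⟩ := hm
    obtain ⟨x', l, hl⟩ := hF'.exists_lift (x := x) n
    refine ⟨x', F'.map l ≫ g, ?_⟩
    have hd : F'.obj x' = z := IsHomLift.domain_eq F'.toFunctor n l
    refine IsHomLift.of_fac' _ _ _ hd rfl ?_
    have hf := IsHomLift.fac' F'.toFunctor n l
    show F'.map l ≫ g = eqToHom hd ≫ m ≫ eqToHom rfl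
    rw [← hm]
    have hf' : F'.map l = eqToHom hd ≫ n ≫ eqToHom rfl := hf
    rw [hf']
    simp
    rfl

include hF' h𝒴 in
lemma locSurjHom_core (h : Gerb.LocSurjHom J F') (x x' : 𝒳'.obj) (he' : F'.obj x' = F'.obj x) :
    ∃ S ∈ 𝒴.p.restrictedTopology J (F'.obj x), ∀ ⦃z : 𝒴.obj⦄ (m : z ⟶ F'.obj x), S m →
      ∃ (x₀ : 𝒳'.obj) (φ : x₀ ⟶ x) (ψ : x₀ ⟶ x'), F'.toFunctor.IsHomLift m φ ∧
        F'.toFunctor.IsHomLift m ψ ∧ F'.map φ ≫ eqToHom he'.symm = F'.map ψ := by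
  have hb' : 𝒴.p.IsHomLift (𝟙 (𝒴.p.obj (F'.obj x))) (eqToHom he'.symm) :=
    IsHomLift.eqToHom_domain_lift_id he'.symm rfl
  obtain ⟨R, hR, hR'⟩ := locSurjHom_at J h x x' (F'.w_obj x).symm (eqToHom he'.symm) hb'
  refine ⟨homS F' x x' (eqToHom he'.symm), ?_, ?_⟩
  · rw [mem_restrictedTopology_iff 𝒴.p h𝒴 J]
    refine J.superset_covering ?_ hR
    intro V f hf
    obtain ⟨x₀, φ, ψ, hφ, hψ, hb''⟩ := hR' f hf
    haveI := hφ
    have hφ' : 𝒴.p.IsHomLift f (F'.map φ) := inferInstance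
    have hd : 𝒴.p.obj (F'.obj x₀) = V := IsHomLift.domain_eq 𝒴.p f (F'.map φ)
    refine ⟨F'.obj x₀, F'.map φ, eqToHom hd.symm, ⟨x₀, φ, ψ, 𝟙 _, hb'', Category.id_comp _⟩, ?_⟩
    rw [IsHomLift.fac' 𝒴.p f (F'.map φ)]
    simp
  · intro z m hm
    obtain ⟨x₀, φ, ψ, n, hb'', hm⟩ := hm
    obtain ⟨x₁, l, hl⟩ := hF'.exists_lift (x := x₀) n
    haveI := hl
    refine ⟨x₁, l ≫ φ, l ≫ ψ, ?_, ?_, ?_⟩
    · rw [← hm]
      exact (inferInstance : F'.toFunctor.IsHomLift (n ≫ F'.toFunctor.map φ) (l ≫ φ))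
    · have h1 : F'.toFunctor.IsHomLift (n ≫ F'.toFunctor.map ψ) (l ≫ ψ) := inferInstance
      have h2 : n ≫ F'.toFunctor.map ψ = m ≫ eqToHom he'.symm := by
        rw [← hm, Category.assoc]
        exact congrArg (fun t => n ≫ t) hb''.symm
      rw [h2] at h1
      exact (IsHomLift.lift_comp_eqToHom_iff F'.toFunctor m (l ≫ ψ) he'.symm).1 h1
    · rw [Functor.map_comp, Functor.map_comp, Category.assoc, hb'']

include hF' h𝒴 in
theorem locSurjHom_toSelf (h : Gerb.LocSurjHom J F') :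
    Gerb.LocSurjHom (𝒴.p.restrictedTopology J)
      (FibCat.toSelf (BasedCategory.ofFunctor F'.toFunctor)) := by
  intro x x' b hb
  have he' : F'.obj x' = F'.obj x := @IsHomLift.codomain_eq _ _ _ _ (𝟭 𝒴.obj) _ _ _ _ _ _ hb
  have hbe : b = eqToHom he'.symm := by
    have h1 := @IsHomLift.fac' _ _ _ _ (𝟭 𝒴.obj) _ _ _ _ _ _ hb
    have h2 : b = (𝟭 𝒴.obj).map b := rfl
    rw [h2, h1]
    simp
    rfl
  subst hbe
  exact locSurjHom_core J F' hF' h𝒴 h x x' he'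

include hF' h𝒴 in
theorem isGerbeOver_toSelf (h : Gerb.IsGerbeOver J F') :
    Gerb.IsGerbeOver (𝒴.p.restrictedTopology J)
      (FibCat.toSelf (BasedCategory.ofFunctor F'.toFunctor)) :=
  ⟨locSurjObj_toSelf J F' hF' h𝒴 h.1, locSurjHom_toSelf J F' hF' h𝒴 h.2⟩

end Groth.Agent.Lib.Helper43.GerbOver
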