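import Groth.Agent.Lib.Helper43.EqRel
import Mathlib.CategoryTheory.Sites.CartesianMonoidal
import Mathlib.CategoryTheory.Monoidal.Cartesian.Grp
import Mathlib.CategoryTheory.Monoidal.Grp
import Mathlib.CategoryTheory.Limits.Shapes.Equalizers
import Mathlib.Tactic.Group

/-!
# Quotients of group objects in exact categories (sheaf topoi), by generalized elements (helper43)
-/

set_option autoImplicit false
open CategoryTheory CategoryTheory.Limits MonoidalCategory CartesianMonoidalCategory MonObj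
universe w v u v₁ u₁

namespace Groth.Agent.Lib.Helper43.GrpQuot

open Groth.Agent.Lib.Helper8

/-- abstract exactness: epis are universally effective and equivalence relations are effective -/
class Exact (E : Type u) [Category.{v} E] : Prop where
  uee_of_epi : ∀ {X Y : E} (f : X ⟶ Y) [Epi f], UEE E f
  effective : ∀ {R X : E} (p₁ p₂ : R ⟶ X), EquivalenceRelation p₁ p₂ →
    Nonempty (EffectiveEquivalenceRelation p₁ p₂)

instance sheafExact {C : Type u₁} [Category.{v₁} C] (J : GrothendieckTopology C)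
    [HasSheafify J (Type w)] : Exact (Sheaf J (Type w)) where
  uee_of_epi f _ := UEE_of_epi J f
  effective _ _ e := ⟨EqRel.effSheaf J e⟩

section General

variable {E : Type u} [Category.{v} E] [HasPullbacks E] [Exact E]

/-- local lifting of generalized elements along an epimorphism -/
lemma exists_lift {X B Y : E} (π : X ⟶ B) [Epi π] (f : Y ⟶ B) :
    ∃ (Y' : E) (c : Y' ⟶ Y) (a : Y' ⟶ X), Epi c ∧ c ≫ f = a ≫ π :=
  ⟨pullback f π, pullback.fst f π, pullback.snd f π,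
    ((Exact.uee_of_epi π).pullback_fst f).epi, pullback.condition⟩

lemma epi_of_locallySurj {A B : E} (f : A ⟶ B)
    (h : ∃ (Y' : E) (c : Y' ⟶ B) (a : Y' ⟶ A), Epi c ∧ c = a ≫ f) : Epi f := by
  obtain ⟨Y', c, a, hc, rfl⟩ := h
  exact epi_of_epi a f

/-- descent of morphisms along an epimorphism -/
lemma exists_desc {X B Z : E} (q : X ⟶ B) [Epi q] (f : X ⟶ Z)
    (h : ∀ {W : E} (g₁ g₂ : W ⟶ X), g₁ ≫ q = g₂ ≫ q → g₁ ≫ f = g₂ ≫ f) :
    ∃ g : B ⟶ Z, q ≫ g = f := by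
  have := (Exact.uee_of_epi q).effectiveEpi
  exact ⟨EffectiveEpi.desc q f (fun g₁ g₂ hg => h g₁ g₂ hg), EffectiveEpi.fac _ _ _⟩

/-- criterion for pullback squares via generalized elements -/
lemma isPullback_of_existsUnique {P X Y Z : E} {fst' : P ⟶ X} {snd' : P ⟶ Y} {f : X ⟶ Z}
    {g : Y ⟶ Z} (w : fst' ≫ f = snd' ≫ g)
    (h : ∀ {W : E} (a : W ⟶ X) (b : W ⟶ Y), a ≫ f = b ≫ g →
      ∃! k : W ⟶ P, k ≫ fst' = a ∧ k ≫ snd' = b) : IsPullback fst' snd' f g := by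
  refine ⟨⟨w⟩, ⟨PullbackCone.IsLimit.mk w (fun s => (h s.fst s.snd s.condition).choose)
    (fun s => (h s.fst s.snd s.condition).choose_spec.1.1)
    (fun s => (h s.fst s.snd s.condition).choose_spec.1.2) ?_⟩⟩
  intro s m hm₁ hm₂
  exact (h s.fst s.snd s.condition).choose_spec.2 m ⟨hm₁, hm₂⟩

end General

section Products

variable {E : Type u} [Category.{v} E] [HasPullbacks E] [Exact E] [CartesianMonoidalCategory E]

lemma epi_tensorHom {A B A' B' : E} (f : A ⟶ B) (g : A' ⟶ B') [Epi f] [Epi g] :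
    Epi (f ⊗ₘ g) := by
  obtain ⟨Y₁, c₁, a₁, hc₁, h₁⟩ := exists_lift f (fst B B')
  obtain ⟨Y₂, c₂, a₂, hc₂, h₂⟩ := exists_lift g (c₁ ≫ snd B B')
  refine epi_of_locallySurj _ ⟨Y₂, c₂ ≫ c₁, lift (c₂ ≫ a₁) a₂, epi_comp _ _, ?_⟩
  ext
  · simp [h₁]
  · simp [h₂]

instance epi_whiskerLeft (X : E) {A B : E} (f : A ⟶ B) [Epi f] : Epi (X ◁ f) := by
  rw [← id_tensorHom]
  exact epi_tensorHom _ _

instance epi_whiskerRight (X : E) {A B : E} (f : A ⟶ B) [Epi f] : Epi (f ▷ X) := by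
  rw [← tensorHom_id]
  exact epi_tensorHom _ _

end Products

section Mul

variable {E : Type u} [Category.{v} E] [CartesianMonoidalCategory E]
  {G H : E} [MonObj G] (u : H ⟶ G)

lemma lift_p₂ {Y : E} (a : Y ⟶ G) (h : Y ⟶ H) :
    lift a h ≫ (G ◁ u) ≫ μ[G] = a * (h ≫ u) := by
  rw [lift_whiskerLeft_assoc, Hom.mul_def]

lemma comp_p₂ {Y : E} (k : Y ⟶ G ⊗ H) :
    k ≫ (G ◁ u) ≫ μ[G] = (k ≫ fst G H) * (k ≫ snd G H ≫ u) := by
  conv_lhs => rw [← lift_comp_fst_snd k]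
  rw [lift_p₂, Category.assoc]

lemma p₂_eq : (G ◁ u) ≫ μ[G] = fst G H * (snd G H ≫ u) := by
  have := comp_p₂ u (𝟙 (G ⊗ H))
  simpa using this

lemma comp_μ {M Y : E} [MonObj M] (g : Y ⟶ M ⊗ M) : g ≫ μ[M] = (g ≫ fst M M) * (g ≫ snd M M) := by
  rw [MonObj.mul_eq_mul, MonObj.comp_mul]

end Mul

section Grp

variable {E : Type u} [Category.{v} E] [CartesianMonoidalCategory E]
  {G H : E} [GrpObj G] [GrpObj H] (u : H ⟶ G)

variable [IsMonHom u] [Mono u]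

lemma jointlyMono₂_p : JointlyMono₂ (fst G H) ((G ◁ u) ≫ μ[G]) where
  right_cancellation Y f g h₁ h₂ := by
    rw [comp_p₂, comp_p₂, h₁] at h₂
    have h₃ := mul_left_cancel h₂
    rw [← Category.assoc, ← Category.assoc, cancel_mono] at h₃
    ext
    · exact h₁
    · exact h₃

variable [HasPullbacks E]

/-- the equivalence relation `G × H ⇉ G` defined by a subgroup -/
noncomputable def eqRel : EquivalenceRelation (fst G H) ((G ◁ u) ≫ μ[G]) where
  __ := jointlyMono₂_p u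
  r := lift (𝟙 G) 1
  reflexivity₁ := lift_fst _ _
  reflexivity₂ := by
    rw [lift_p₂, MonObj.one_comp, _root_.mul_one]
  s := lift ((G ◁ u) ≫ μ[G]) (snd G H)⁻¹
  symmetry₁ := lift_fst _ _
  symmetry₂ := by
    rw [lift_p₂, p₂_eq, GrpObj.inv_comp, _root_.mul_assoc, mul_inv_cancel, _root_.mul_one]
  c := pullback.cone _ _
  isLimit := pullback.isLimit _ _
  t := lift (pullback.fst _ _ ≫ fst G H) ((pullback.fst _ _ ≫ snd G H) * (pullback.snd _ _ ≫ snd G H))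
  transitivity₁ := by
    simp
  transitivity₂ := by
    have hc := pullback.condition (f := (G ◁ u) ≫ μ[G]) (g := fst G H)
    rw [comp_p₂] at hc
    show lift _ _ ≫ (G ◁ u) ≫ μ[G] = pullback.snd _ _ ≫ (G ◁ u) ≫ μ[G]
    rw [lift_p₂, comp_p₂ u (pullback.snd _ _), ← hc, MonObj.mul_comp, _root_.mul_assoc]
    simp only [Category.assoc]

variable [Exact E] [HasCoequalizer (fst G H) ((G ◁ u) ≫ μ[G])]

/-- `G × H ⇉ G` is the kernel pair of `G ⟶ G/H` -/
lemma isKernelPair_π :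
    IsKernelPair (coequalizer.π (fst G H) ((G ◁ u) ≫ μ[G])) (fst G H) ((G ◁ u) ≫ μ[G]) := by
  obtain ⟨e⟩ := Exact.effective _ _ (eqRel u)
  let i := IsColimit.coconePointUniqueUpToIso (colimit.isColimit _) e.isCoequalizer
  have hi : coequalizer.π (fst G H) ((G ◁ u) ≫ μ[G]) ≫ i.hom = e.π :=
    IsColimit.comp_coconePointUniqueUpToIso_hom (colimit.isColimit _) e.isCoequalizer
      WalkingParallelPair.one
  have hk := e.isKernelPair
  rw [← hi] at hk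
  exact hk.cancel_right_of_mono

/-- two generalized elements of `G` have the same image in `G/H` iff they differ by `H` -/
lemma rel_iff {Y : E} (a b : Y ⟶ G) :
    a ≫ coequalizer.π (fst G H) ((G ◁ u) ≫ μ[G]) = b ≫ coequalizer.π (fst G H) ((G ◁ u) ≫ μ[G]) ↔
      ∃ h : Y ⟶ H, b = a * (h ≫ u) := by
  constructor
  · intro hab
    obtain ⟨k, hk₁, hk₂⟩ := (isKernelPair_π u).exists_lift a b hab
    refine ⟨k ≫ snd G H, ?_⟩
    rw [← hk₂, comp_p₂, hk₁, Category.assoc]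
  · rintro ⟨h, rfl⟩
    have hc := coequalizer.condition (fst G H) ((G ◁ u) ≫ μ[G])
    rw [Category.assoc] at hc
    rw [← lift_p₂, Category.assoc, Category.assoc, ← hc, lift_fst_assoc]

/-- `L × (H ∩ L) ⇉ L` is the kernel pair of `L ⟶ G ⟶ G/H` -/
lemma isKernelPair_comp_π {L : E} [GrpObj L] (l : L ⟶ G) [IsMonHom l] :
    IsKernelPair (l ≫ coequalizer.π (fst G H) ((G ◁ u) ≫ μ[G]))
      (fst L (pullback u l)) ((L ◁ pullback.snd u l) ≫ μ[L]) := by
  apply isPullback_of_existsUnique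
  · rw [← Category.assoc, ← Category.assoc, rel_iff]
    refine ⟨snd L (pullback u l) ≫ pullback.fst u l, ?_⟩
    rw [p₂_eq, MonObj.mul_comp]
    simp only [Category.assoc]
    rw [pullback.condition]
  · intro W a b hab
    rw [← Category.assoc, ← Category.assoc, rel_iff] at hab
    obtain ⟨h, hh⟩ := hab
    have hd : h ≫ u = (a⁻¹ * b) ≫ l := by
      rw [MonObj.mul_comp, GrpObj.inv_comp, hh, inv_mul_cancel_left]
    refine ⟨lift a (pullback.lift h (a⁻¹ * b) hd), ⟨lift_fst _ _, ?_⟩, ?_⟩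
    · rw [lift_p₂, pullback.lift_snd, mul_inv_cancel_left]
    · rintro m ⟨hm₁, hm₂⟩
      rw [comp_p₂, hm₁] at hm₂
      apply CartesianMonoidalCategory.hom_ext
      · rw [hm₁, lift_fst]
      · rw [lift_snd, ← cancel_mono (pullback.snd u l), pullback.lift_snd, Category.assoc,
          ← hm₂, inv_mul_cancel_left]

section Action

/-- compatibility needed to descend the multiplication to an action on `G/H` -/
lemma act_compat {W : E} (g₁ g₂ : W ⟶ G ⊗ G)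
    (hg : g₁ ≫ (G ◁ coequalizer.π (fst G H) ((G ◁ u) ≫ μ[G])) =
      g₂ ≫ (G ◁ coequalizer.π (fst G H) ((G ◁ u) ≫ μ[G]))) :
    g₁ ≫ μ[G] ≫ coequalizer.π (fst G H) ((G ◁ u) ≫ μ[G]) =
      g₂ ≫ μ[G] ≫ coequalizer.π (fst G H) ((G ◁ u) ≫ μ[G]) := by
  have h₁ : g₁ ≫ fst G G = g₂ ≫ fst G G := by
    have := congrArg (fun k => k ≫ fst G _) hg
    simpa using this
  have h₂ : (g₁ ≫ snd G G) ≫ coequalizer.π (fst G H) ((G ◁ u) ≫ μ[G]) =
      (g₂ ≫ snd G G) ≫ coequalizer.π (fst G H) ((G ◁ u) ≫ μ[G]) := by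
    have := congrArg (fun k => k ≫ snd G _) hg
    simpa using this
  rw [rel_iff] at h₂
  obtain ⟨h, hh⟩ := h₂
  rw [← Category.assoc, ← Category.assoc, rel_iff]
  refine ⟨h, ?_⟩
  rw [comp_μ, comp_μ, hh, h₁, _root_.mul_assoc]

/-- the action of `G` on `G/H` -/
noncomputable def act : G ⊗ coequalizer (fst G H) ((G ◁ u) ≫ μ[G]) ⟶
    coequalizer (fst G H) ((G ◁ u) ≫ μ[G]) :=
  (exists_desc (G ◁ coequalizer.π (fst G H) ((G ◁ u) ≫ μ[G]))
    (μ[G] ≫ coequalizer.π (fst G H) ((G ◁ u) ≫ μ[G])) (act_compat u)).choose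

@[reassoc]
lemma π_act : (G ◁ coequalizer.π (fst G H) ((G ◁ u) ≫ μ[G])) ≫ act u =
    μ[G] ≫ coequalizer.π (fst G H) ((G ◁ u) ≫ μ[G]) :=
  (exists_desc (G ◁ coequalizer.π (fst G H) ((G ◁ u) ≫ μ[G]))
    (μ[G] ≫ coequalizer.π (fst G H) ((G ◁ u) ≫ μ[G])) (act_compat u)).choose_spec

lemma act_one : (η[G] ▷ coequalizer (fst G H) ((G ◁ u) ≫ μ[G])) ≫ act u =
    (λ_ (coequalizer (fst G H) ((G ◁ u) ≫ μ[G]))).hom := by
  rw [← cancel_epi (𝟙_ E ◁ coequalizer.π (fst G H) ((G ◁ u) ≫ μ[G])),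
    whisker_exchange_assoc, π_act, MonObj.one_mul_assoc, leftUnitor_naturality]

lemma act_mul : (μ[G] ▷ coequalizer (fst G H) ((G ◁ u) ≫ μ[G])) ≫ act u =
    (α_ G G (coequalizer (fst G H) ((G ◁ u) ≫ μ[G]))).hom ≫ (G ◁ act u) ≫ act u := by
  rw [← cancel_epi ((G ⊗ G) ◁ coequalizer.π (fst G H) ((G ◁ u) ≫ μ[G])),
    whisker_exchange_assoc, π_act, MonObj.mul_assoc_assoc, associator_naturality_right_assoc,
    ← MonoidalCategory.whiskerLeft_comp_assoc, π_act, MonoidalCategory.whiskerLeft_comp_assoc, π_act]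

end Action

section Normal

variable (hn : ∀ (Y : E) (g : Y ⟶ G) (h : Y ⟶ H), ∃ h' : Y ⟶ H, g * (h ≫ u) * g⁻¹ = h' ≫ u)

/-- the quotient object `G/H` -/
noncomputable abbrev Q : E := coequalizer (fst G H) ((G ◁ u) ≫ μ[G])

/-- the quotient map -/
noncomputable abbrev π : G ⟶ Q u := coequalizer.π (fst G H) ((G ◁ u) ≫ μ[G])

include hn in
lemma mul_compat {W : E} (g₁ g₂ : W ⟶ G ⊗ G) (hg : g₁ ≫ (π u ⊗ₘ π u) = g₂ ≫ (π u ⊗ₘ π u)) :
    g₁ ≫ μ[G] ≫ π u = g₂ ≫ μ[G] ≫ π u := by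
  have h₁ : (g₁ ≫ fst G G) ≫ π u = (g₂ ≫ fst G G) ≫ π u := by
    have := congrArg (fun k => k ≫ fst _ _) hg
    simpa using this
  have h₂ : (g₁ ≫ snd G G) ≫ π u = (g₂ ≫ snd G G) ≫ π u := by
    have := congrArg (fun k => k ≫ snd _ _) hg
    simpa using this
  rw [rel_iff] at h₁ h₂
  obtain ⟨h, hh⟩ := h₁
  obtain ⟨k, hk⟩ := h₂
  obtain ⟨h', hh'⟩ := hn W (g₁ ≫ snd G G)⁻¹ h
  rw [← Category.assoc, ← Category.assoc, rel_iff]
  refine ⟨h' * k, ?_⟩
  rw [comp_μ, comp_μ, hh, hk, MonObj.mul_comp, ← hh']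
  group

include hn in
lemma inv_compat {W : E} (g₁ g₂ : W ⟶ G) (hg : g₁ ≫ π u = g₂ ≫ π u) :
    g₁ ≫ ι[G] ≫ π u = g₂ ≫ ι[G] ≫ π u := by
  rw [rel_iff] at hg
  obtain ⟨h, hh⟩ := hg
  obtain ⟨h', hh'⟩ := hn W g₁ h⁻¹
  rw [← Category.assoc, ← Category.assoc, rel_iff]
  refine ⟨h', ?_⟩
  rw [← Hom.inv_def, ← Hom.inv_def, hh, ← hh', GrpObj.inv_comp]
  group

/-- multiplication on `G/H` -/
noncomputable def mQ : Q u ⊗ Q u ⟶ Q u :=
  haveI := epi_tensorHom (π u) (π u)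
  (exists_desc (π u ⊗ₘ π u) (μ[G] ≫ π u) (mul_compat u hn)).choose

@[reassoc]
lemma π_mQ : (π u ⊗ₘ π u) ≫ mQ u hn = μ[G] ≫ π u :=
  haveI := epi_tensorHom (π u) (π u)
  (exists_desc (π u ⊗ₘ π u) (μ[G] ≫ π u) (mul_compat u hn)).choose_spec

/-- inverse on `G/H` -/
noncomputable def iQ : Q u ⟶ Q u :=
  (exists_desc (π u) (ι[G] ≫ π u) (inv_compat u hn)).choose

@[reassoc]
lemma π_iQ : π u ≫ iQ u hn = ι[G] ≫ π u :=
  (exists_desc (π u) (ι[G] ≫ π u) (inv_compat u hn)).choose_spec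

/-- the group structure on `G/H` for `H` normal -/
noncomputable def grpQ : GrpObj (Q u) where
  one := η[G] ≫ π u
  mul := mQ u hn
  one_mul := by
    rw [← cancel_epi (𝟙_ E ◁ π u), ← tensorHom_def'_assoc]
    have : (η[G] ≫ π u) ⊗ₘ π u = (η[G] ▷ G) ≫ (π u ⊗ₘ π u) := by
      rw [← tensorHom_id, tensorHom_comp_tensorHom, Category.id_comp]
    rw [this, Category.assoc, π_mQ, MonObj.one_mul_assoc, leftUnitor_naturality]
  mul_one := by
    rw [← cancel_epi (π u ▷ 𝟙_ E), ← tensorHom_def_assoc]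
    have : π u ⊗ₘ (η[G] ≫ π u) = (G ◁ η[G]) ≫ (π u ⊗ₘ π u) := by
      rw [← id_tensorHom, tensorHom_comp_tensorHom, Category.id_comp]
    rw [this, Category.assoc, π_mQ, MonObj.mul_one_assoc, rightUnitor_naturality]
  mul_assoc := by
    have := epi_tensorHom (π u) (π u)
    have := epi_tensorHom (π u ⊗ₘ π u) (π u)
    rw [← cancel_epi ((π u ⊗ₘ π u) ⊗ₘ π u)]
    have e₁ : ((π u ⊗ₘ π u) ⊗ₘ π u) ≫ (mQ u hn ▷ Q u) = (μ[G] ▷ G) ≫ (π u ⊗ₘ π u) := by
      rw [← tensorHom_id, tensorHom_comp_tensorHom, π_mQ, Category.comp_id, ← tensorHom_id,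
        tensorHom_comp_tensorHom, Category.id_comp]
    have e₂ : (π u ⊗ₘ (π u ⊗ₘ π u)) ≫ (Q u ◁ mQ u hn) = (G ◁ μ[G]) ≫ (π u ⊗ₘ π u) := by
      rw [← id_tensorHom, tensorHom_comp_tensorHom, π_mQ, Category.comp_id, ← id_tensorHom,
        tensorHom_comp_tensorHom, Category.id_comp]
    rw [reassoc_of% e₁, π_mQ, associator_naturality_assoc, reassoc_of% e₂, π_mQ,
      MonObj.mul_assoc_assoc]
  inv := iQ u hn
  left_inv := by
    rw [← cancel_epi (π u), comp_lift_assoc, π_iQ, Category.comp_id]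
    have : lift (ι[G] ≫ π u) (π u) = lift ι[G] (𝟙 G) ≫ (π u ⊗ₘ π u) := by
      rw [lift_map, Category.id_comp]
    rw [this, Category.assoc, π_mQ, GrpObj.left_inv_assoc, ← Category.assoc (π u)]
    congr 1
    exact toUnit_unique _ _
  right_inv := by
    rw [← cancel_epi (π u), comp_lift_assoc, π_iQ, Category.comp_id]
    have : lift (π u) (ι[G] ≫ π u) = lift (𝟙 G) ι[G] ≫ (π u ⊗ₘ π u) := by
      rw [lift_map, Category.id_comp]
    rw [this, Category.assoc, π_mQ, GrpObj.right_inv_assoc, ← Category.assoc (π u)]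
    congr 1
    exact toUnit_unique _ _

lemma isMonHom_π : @IsMonHom E _ _ G (Q u) _ (grpQ u hn).toMonObj (π u) :=
  letI := grpQ u hn
  { one_hom := rfl
    mul_hom := (π_mQ u hn).symm }

lemma grpQ_unique (str : GrpObj (Q u))
    (h : @IsMonHom E _ _ G (Q u) _ str.toMonObj (π u)) : str = grpQ u hn := by
  apply GrpObj.ext
  apply MonObj.ext
  have := epi_tensorHom (π u) (π u)
  rw [← cancel_epi (π u ⊗ₘ π u)]
  have h₁ := h.mul_hom
  have h₂ := (isMonHom_π u hn).mul_hom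
  exact h₁.symm.trans h₂

end Normal

end Grp

section Tower

variable {E : Type u} [Category.{v} E] [CartesianMonoidalCategory E] [HasPullbacks E] [Exact E]
  {H K G : E} [GrpObj H] [GrpObj K] [GrpObj G] (h : H ⟶ K) (k : K ⟶ G) [Mono h] [Mono k]
  [IsMonHom h] [IsMonHom k]
  [HasCoequalizer (fst G H) ((G ◁ (h ≫ k)) ≫ μ[G])]
  [HasCoequalizer (fst K H) ((K ◁ h) ≫ μ[K])]
  [HasCoequalizer (fst G K) ((G ◁ k) ≫ μ[G])]
  (act : Q (h ≫ k) ⊗ Q h ⟶ Q (h ≫ k))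
  (hact : (π (h ≫ k) ⊗ₘ π h) ≫ act = (G ◁ k) ≫ μ[G] ≫ π (h ≫ k))
  (qbar : Q (h ≫ k) ⟶ Q k) (hq : π (h ≫ k) ≫ qbar = π k)

include hact in
lemma act_lift {Y : E} (a : Y ⟶ G) (b : Y ⟶ K) :
    lift (a ≫ π (h ≫ k)) (b ≫ π h) ≫ act = (a * (b ≫ k)) ≫ π (h ≫ k) := by
  have : lift (a ≫ π (h ≫ k)) (b ≫ π h) = lift a b ≫ (π (h ≫ k) ⊗ₘ π h) := by
    rw [lift_map]
  rw [this, Category.assoc, hact, ← Category.assoc, ← Category.assoc, Category.assoc (lift a b),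
    lift_p₂]

include hact in
/-- the action of `K/H` on `G/H` is free -/
lemma mono_lift_act : Mono (lift act (fst (Q (h ≫ k)) (Q h))) := by
  constructor
  intro Y x y hxy
  have h₁ : x ≫ act = y ≫ act := by
    have := congrArg (fun t => t ≫ fst _ _) hxy
    simpa using this
  have h₂ : x ≫ fst _ _ = y ≫ fst _ _ := by
    have := congrArg (fun t => t ≫ snd _ _) hxy
    simpa using this
  apply CartesianMonoidalCategory.hom_ext _ _ h₂
  obtain ⟨Y₁, c₁, a, hc₁, ha⟩ := exists_lift (π (h ≫ k)) (x ≫ fst _ _)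
  obtain ⟨Y₂, c₂, b, hc₂, hb⟩ := exists_lift (π h) (c₁ ≫ x ≫ snd _ _)
  obtain ⟨Y₃, c₃, b', hc₃, hb'⟩ := exists_lift (π h) (c₂ ≫ c₁ ≫ y ≫ snd _ _)
  have hc : Epi (c₃ ≫ c₂ ≫ c₁) := epi_comp' hc₃ (epi_comp' hc₂ hc₁)
  rw [← cancel_epi (c₃ ≫ c₂ ≫ c₁)]
  have ex : (c₃ ≫ c₂ ≫ c₁) ≫ x =
      lift ((c₃ ≫ c₂ ≫ a) ≫ π (h ≫ k)) ((c₃ ≫ b) ≫ π h) := by
    apply CartesianMonoidalCategory.hom_ext
    · simp only [Category.assoc, lift_fst, ha]
    · simp only [Category.assoc, lift_snd, hb]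
  have ey : (c₃ ≫ c₂ ≫ c₁) ≫ y =
      lift ((c₃ ≫ c₂ ≫ a) ≫ π (h ≫ k)) (b' ≫ π h) := by
    apply CartesianMonoidalCategory.hom_ext
    · simp only [Category.assoc, lift_fst, ← h₂, ha]
    · simp only [Category.assoc, lift_snd, hb']
  have h₃ : ((c₃ ≫ c₂ ≫ c₁) ≫ x) ≫ act = ((c₃ ≫ c₂ ≫ c₁) ≫ y) ≫ act := by
    simp only [Category.assoc, h₁]
  rw [ex, ey, act_lift h k act hact, act_lift h k act hact, rel_iff] at h₃
  obtain ⟨h₀, hh₀⟩ := h₃
  have e₁ : b' ≫ k = ((c₃ ≫ b) * (h₀ ≫ h)) ≫ k := by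
    rw [MonObj.mul_comp, Category.assoc]
    apply mul_left_cancel (a := c₃ ≫ c₂ ≫ a)
    rw [hh₀, _root_.mul_assoc]
    simp only [Category.assoc]
  rw [cancel_mono] at e₁
  rw [← Category.assoc, ← Category.assoc _ y, ex, ey, lift_snd, lift_snd, rel_iff]
  exact ⟨h₀, e₁⟩

include hact hq in
lemma fst_qbar : fst (Q (h ≫ k)) (Q h) ≫ qbar = act ≫ qbar := by
  have := epi_tensorHom (π (h ≫ k)) (π h)
  rw [← cancel_epi (π (h ≫ k) ⊗ₘ π h), tensorHom_fst_assoc, hq, reassoc_of% hact, hq]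
  have hc := coequalizer.condition (fst G K) ((G ◁ k) ≫ μ[G])
  rw [Category.assoc] at hc
  exact hc

include hact hq in
/-- `G/K` is the quotient of `G/H` by the action of `K/H` -/
lemma isColimit_qbar :
    Nonempty (IsColimit (Cofork.ofπ qbar (fst_qbar h k act hact qbar hq))) := by
  have hπ : Epi (π (h ≫ k)) := inferInstance
  have hqe : Epi qbar := by
    have : Epi (π (h ≫ k) ≫ qbar) := by rw [hq]; infer_instance
    exact epi_of_epi (π (h ≫ k)) qbar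
  refine ⟨Cofork.IsColimit.mk _ (fun s => coequalizer.desc (π (h ≫ k) ≫ s.π) ?_) ?_ ?_⟩
  · have hs := s.condition
    have := congrArg (fun t => (π (h ≫ k) ⊗ₘ π h) ≫ t) hs
    simp only [tensorHom_fst_assoc, reassoc_of% hact] at this
    rw [this]
    simp only [Category.assoc]
  · intro s
    rw [← cancel_epi (π (h ≫ k))]
    show π (h ≫ k) ≫ qbar ≫ _ = _
    rw [reassoc_of% hq, coequalizer.π_desc]
  · intro s m hm
    rw [← cancel_epi qbar]
    have hm' : qbar ≫ m = s.π := hm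
    rw [hm', ← cancel_epi (π (h ≫ k)), reassoc_of% hq, coequalizer.π_desc]

end Tower

end Groth.Agent.Lib.Helper43.GrpQuot
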