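import Groth.Prelude.Def_HMNum
import Groth.Prelude.Def_GLinSh
import Groth.Prelude.Def_AlgGrp
import Groth.Prelude.Def_Red

/-!
# Conjugation invariance of the numerical function μ (helper43, for S19786 / S19791)
-/

set_option autoImplicit false
universe u
open CategoryTheory MonoidalCategory CartesianMonoidalCategory MonObj AlgebraicGeometry Opposite

namespace Groth.Agent.Lib.Helper43.HMConj

open Magnet HMNum

variable {S : Scheme.{u}} {G X V : Over S} [GrpObj G]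

section ActLemmas

variable (a : AlgGrp.Action G X)

lemma act_mul {T : Over S} (g h : T ⟶ G) (x : T ⟶ X) :
    lift (g * h) x ≫ a.act = lift g (lift h x ≫ a.act) ≫ a.act :=
  (MonAct.ofAction a).lift_mul_act g h x

lemma act_one {T : Over S} (x : T ⟶ X) : lift (1 : T ⟶ G) x ≫ a.act = x :=
  (MonAct.ofAction a).lift_one_act x

lemma act_inv_act {T : Over S} (g : T ⟶ G) (x : T ⟶ X) :
    lift g⁻¹ (lift g x ≫ a.act) ≫ a.act = x := by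
  rw [← act_mul, inv_mul_cancel, act_one]

lemma act_act_inv {T : Over S} (g : T ⟶ G) (x : T ⟶ X) :
    lift g (lift g⁻¹ x ≫ a.act) ≫ a.act = x := by
  rw [← act_mul, mul_inv_cancel, act_one]

lemma comp_act {T T' : Over S} (t : T' ⟶ T) (g : T ⟶ G) (x : T ⟶ X) :
    t ≫ lift g x ≫ a.act = lift (t ≫ g) (t ≫ x) ≫ a.act := by
  rw [comp_lift_assoc]

end ActLemmas

/-- pointwise form of the conjugation hypothesis -/
lemma comp_conj (l l' : Red.Gm S ⟶ G) (γ : 𝟙_ (Over S) ⟶ G)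
    (hl' : l' = (toUnit _ ≫ γ)⁻¹ * l * (toUnit _ ≫ γ)) {T' : Over S} (g : T' ⟶ Red.Gm S) :
    g ≫ l' = (toUnit T' ≫ γ)⁻¹ * (g ≫ l) * (toUnit T' ≫ γ) := by
  rw [hl', MonObj.comp_mul, MonObj.comp_mul, GrpObj.comp_inv, ← Category.assoc g, comp_toUnit]

/-- the conjugate of a homomorphism by a rational point is a homomorphism -/
lemma isMonHom_conj {M : Over S} [MonObj M] (l : M ⟶ G) [IsMonHom l] (γ : 𝟙_ (Over S) ⟶ G) :
    IsMonHom ((toUnit M ≫ γ)⁻¹ * l * (toUnit M ≫ γ)) where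
  one_hom := by
    have h0 : (η[G] : 𝟙_ (Over S) ⟶ G) = 1 := one_eq_one G
    rw [MonObj.comp_mul, MonObj.comp_mul, GrpObj.comp_inv, IsMonHom.one_hom l, h0]
    group
  mul_hom := by
    have h1 : μ[M] = fst M M * snd M M := by
      rw [Hom.mul_def, lift_fst_snd, Category.id_comp]
    have h2 : ∀ f : M ⟶ G, (f ⊗ₘ f) ≫ μ[G] = (fst M M ≫ f) * (snd M M ≫ f) := by
      intro f
      rw [Hom.mul_def, lift_fst_comp_snd_comp]
    have h3 : ∀ p : M ⊗ M ⟶ M, p ≫ toUnit M ≫ γ = toUnit (M ⊗ M) ≫ γ := by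
      intro p
      rw [← Category.assoc, comp_toUnit]
    rw [h2, h1, MonObj.comp_mul, MonObj.comp_mul, GrpObj.comp_inv, MonObj.mul_comp (fst M M) (snd M M) l,
      MonObj.comp_mul, MonObj.comp_mul, MonObj.comp_mul, MonObj.comp_mul, GrpObj.comp_inv,
      GrpObj.comp_inv, h3, h3, h3]
    group

section Limit

variable (a : AlgGrp.Action G X)

/-- transport of a limit point under translation by a rational point of `G` -/
lemma isLimitPt_conj (l l' : Red.Gm S ⟶ G) [IsMonHom l] [IsMonHom l'] (γ : 𝟙_ (Over S) ⟶ G)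
    (hl' : l' = (toUnit _ ≫ γ)⁻¹ * l * (toUnit _ ≫ γ)) {T : Over S} (x y : T ⟶ X)
    (h : IsLimitPt a l (lift (toUnit T ≫ γ) x ≫ a.act) y) :
    IsLimitPt a l' x (lift (toUnit T ≫ γ)⁻¹ y ≫ a.act) := by
  obtain ⟨φ, hφx, hφy⟩ := h
  have hφ := φ.2
  rw [MonAct.mem_eqvHom_iff] at hφ
  refine ⟨⟨lift (toUnit _ ≫ γ)⁻¹ φ.1 ≫ a.act, ?_⟩, ?_, ?_⟩
  · rw [MonAct.mem_eqvHom_iff]
    intro T' g b t
    rw [comp_lift_assoc, hφ, MonAct.lift_restrict_act, MonAct.lift_restrict_act,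
      MonAct.ofAction_act, comp_lift_assoc, GrpObj.comp_inv, GrpObj.comp_inv,
      ← Category.assoc _ (toUnit _), ← Category.assoc _ (toUnit _), comp_toUnit, comp_toUnit,
      ← act_mul, ← act_mul, comp_conj l l' γ hl' g]
    congr 2
    group
  · have h1 : (Magnet.attrToX (gmAct a l) plus).app (op T) φ =
        lift (toUnit T ≫ η[A1 S]) (𝟙 T) ≫ φ.1 := rfl
    change lift (toUnit T ≫ η[A1 S]) (𝟙 T) ≫ (lift (toUnit _ ≫ γ)⁻¹ φ.1 ≫ a.act) = x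
    rw [comp_lift_assoc, ← h1, hφx, GrpObj.comp_inv, ← Category.assoc _ (toUnit _), comp_toUnit,
      act_inv_act]
  · rw [limitPt_eq] at hφy ⊢
    change lift (toUnit T ≫ origin S) (𝟙 T) ≫ (lift (toUnit _ ≫ γ)⁻¹ φ.1 ≫ a.act) = _
    rw [comp_lift_assoc, hφy, GrpObj.comp_inv, ← Category.assoc _ (toUnit _), comp_toUnit]

end Limit

section Weight

open GLinSh

lemma appLE_hom_congr {Y Z : Scheme.{u}} {f g : Y ⟶ Z} (h : f = g) (U : Z.Opens) (W : Y.Opens)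
    (e : W ≤ f ⁻¹ᵁ U) (e' : W ≤ g ⁻¹ᵁ U) (x : Γ(Z, U)) :
    f.appLE U W e x = g.appLE U W e' x := by
  subst h; rfl

lemma evalFn_congr (π : V ⟶ X) {U : X.left.Opens} (y : Γ(V.left, π.left ⁻¹ᵁ U)) {T' : Over S}
    {v v' : T' ⟶ V} (h : v = v') (hv : ⊤ ≤ v.left ⁻¹ᵁ (π.left ⁻¹ᵁ U))
    (hv' : ⊤ ≤ v'.left ⁻¹ᵁ (π.left ⁻¹ᵁ U)) :
    evalFn π y v hv = evalFn π y v' hv' := by
  subst h; rfl

variable (a : AlgGrp.Action G X) (π : V ⟶ X) (Φ : AlgGrp.Action G V)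

/-- evaluating the linear-lift identity at a point `(γ, u)` -/
lemma evalFn_act (hπ : Φ.act ≫ π = (G ◁ π) ≫ a.act) {U U' : X.left.Opens}
    (yc : Γ(V.left, π.left ⁻¹ᵁ U)) (y' : Γ(V.left, π.left ⁻¹ᵁ U'))
    (c : Γ((G ⊗ X).left, a.act.left ⁻¹ᵁ U' ⊓ (snd G X).left ⁻¹ᵁ U))
    (hc : Φ.act.left.appLE (π.left ⁻¹ᵁ U') (liftOpen a π U U') (liftOpen_le_act a π Φ hπ) y' =
      (G ◁ π).left.appLE _ (liftOpen a π U U') (liftOpen_le_base a π) c *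
        (snd G V).left.appLE (π.left ⁻¹ᵁ U) (liftOpen a π U U') (liftOpen_le_snd a π) yc)
    {T' : Over S} (γ : T' ⟶ G) (u : T' ⟶ V) (q : T' ⟶ X) (hq : u ≫ π = q)
    (h1 : ⊤ ≤ u.left ⁻¹ᵁ (π.left ⁻¹ᵁ U))
    (h2 : ⊤ ≤ (lift γ u ≫ Φ.act).left ⁻¹ᵁ (π.left ⁻¹ᵁ U'))
    (h3 : ⊤ ≤ (lift γ q).left ⁻¹ᵁ (a.act.left ⁻¹ᵁ U' ⊓ (snd G X).left ⁻¹ᵁ U)) :
    evalFn π y' (lift γ u ≫ Φ.act) h2 =
      (lift γ q).left.appLE (a.act.left ⁻¹ᵁ U' ⊓ (snd G X).left ⁻¹ᵁ U) ⊤ h3 c * evalFn π yc u h1 := by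
  subst hq
  have hp : ⊤ ≤ (lift γ u).left ⁻¹ᵁ (liftOpen a π U U') := by
    have e1 : (lift γ u).left ⁻¹ᵁ (liftOpen a π U U') =
        (lift γ u ≫ (G ◁ π)).left ⁻¹ᵁ (a.act.left ⁻¹ᵁ U' ⊓ (snd G X).left ⁻¹ᵁ U) := rfl
    rw [e1, lift_whiskerLeft]
    exact h3
  have key := congrArg ((lift γ u).left.appLE (liftOpen a π U U') ⊤ hp) hc
  rw [map_mul] at key
  have k1 : (lift γ u).left.appLE (liftOpen a π U U') ⊤ hp
      (Φ.act.left.appLE (π.left ⁻¹ᵁ U') (liftOpen a π U U') (liftOpen_le_act a π Φ hπ) y') =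
      evalFn π y' (lift γ u ≫ Φ.act) h2 := by
    have := Scheme.Hom.appLE_comp_appLE (lift γ u).left Φ.act.left (π.left ⁻¹ᵁ U')
      (liftOpen a π U U') ⊤ (liftOpen_le_act a π Φ hπ) hp
    have h' := congrArg (fun f => f.hom y') this
    refine h'.trans ?_
    unfold evalFn
    exact appLE_hom_congr (Over.comp_left _ _ _ (lift γ u) Φ.act).symm _ _ _ _ _
  have k2 : (lift γ u).left.appLE (liftOpen a π U U') ⊤ hp
      ((snd G V).left.appLE (π.left ⁻¹ᵁ U) (liftOpen a π U U') (liftOpen_le_snd a π) yc) =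
      evalFn π yc u h1 := by
    have := Scheme.Hom.appLE_comp_appLE (lift γ u).left (snd G V).left (π.left ⁻¹ᵁ U)
      (liftOpen a π U U') ⊤ (liftOpen_le_snd a π) hp
    have h' := congrArg (fun f => f.hom yc) this
    refine h'.trans ?_
    have e : (lift γ u ≫ snd G V) = u := lift_snd _ _
    unfold evalFn
    exact appLE_hom_congr ((Over.comp_left _ _ _ (lift γ u) (snd G V)).symm.trans
      (congrArg (fun f => f.left) e)) _ _ _ _ _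
  have k3 : (lift γ u).left.appLE (liftOpen a π U U') ⊤ hp
      ((G ◁ π).left.appLE _ (liftOpen a π U U') (liftOpen_le_base a π) c) =
      (lift γ (u ≫ π)).left.appLE (a.act.left ⁻¹ᵁ U' ⊓ (snd G X).left ⁻¹ᵁ U) ⊤ h3 c := by
    have := Scheme.Hom.appLE_comp_appLE (lift γ u).left (G ◁ π).left
      (a.act.left ⁻¹ᵁ U' ⊓ (snd G X).left ⁻¹ᵁ U)
      (liftOpen a π U U') ⊤ (liftOpen_le_base a π) hp
    have h' := congrArg (fun f => f.hom c) this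
    refine h'.trans ?_
    have e : (lift γ u ≫ (G ◁ π)) = lift γ (u ≫ π) := lift_whiskerLeft _ _ _
    exact appLE_hom_congr ((Over.comp_left _ _ _ (lift γ u) (G ◁ π)).symm.trans
      (congrArg (fun f => f.left) e)) _ _ _ _ _
  rw [k1, k2, k3] at key
  exact key

/-- transport of the fibre weight under translation by a rational point of `G` -/
lemma hasFibreWt_conj (hπ : Φ.act ≫ π = (G ◁ π) ≫ a.act)
    (chart : ∀ U : X.left.Opens, Set (Γ(V.left, π.left ⁻¹ᵁ U)))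
    (hlin : IsLinearLift a π Φ chart hπ)
    (hcover : ∀ x : X.left, ∃ U : X.left.Opens, x ∈ U ∧ (chart U).Nonempty)
    (l l' : Red.Gm S ⟶ G) (γ : 𝟙_ (Over S) ⟶ G)
    (hl' : l' = (toUnit _ ≫ γ)⁻¹ * l * (toUnit _ ≫ γ)) {T : Over S} [Nonempty T.left]
    (hT : ∀ (q : T ⟶ X) (U : X.left.Opens) (p : T.left), q.left p ∈ U → q.left ⁻¹ᵁ U = ⊤)
    (y₀ : T ⟶ X) (w : ℤ) (h : HasFibreWt a π chart Φ l y₀ w) :
    HasFibreWt a π chart Φ l' (lift (toUnit T ≫ γ)⁻¹ y₀ ≫ a.act) w := by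
  obtain ⟨hfix, U, yc, hyc, hU, hw⟩ := h
  have hcomp : ∀ {T' : Over S} (t : T' ⟶ T), t ≫ (lift (toUnit T ≫ γ)⁻¹ y₀ ≫ a.act) =
      lift (toUnit T' ≫ γ)⁻¹ (t ≫ y₀) ≫ a.act := by
    intro T' t
    rw [comp_lift_assoc, GrpObj.comp_inv, ← Category.assoc _ (toUnit _), comp_toUnit]
  obtain ⟨p⟩ := (inferInstance : Nonempty T.left)
  obtain ⟨U', hpU', y', hy'⟩ := hcover ((lift (toUnit T ≫ γ)⁻¹ y₀ ≫ a.act).left p)
  have hU' : (lift (toUnit T ≫ γ)⁻¹ y₀ ≫ a.act).left ⁻¹ᵁ U' = ⊤ := hT _ U' p hpU'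
  have hfix' : IsFixedBy a l' (lift (toUnit T ≫ γ)⁻¹ y₀ ≫ a.act) := by
    intro T' t g
    rw [hcomp, comp_conj l l' γ hl' g, ← act_mul]
    have e : (toUnit T' ≫ γ)⁻¹ * (g ≫ l) * (toUnit T' ≫ γ) * (toUnit T' ≫ γ)⁻¹ =
        (toUnit T' ≫ γ)⁻¹ * (g ≫ l) := by group
    rw [e, act_mul, hfix T' t g]
  refine ⟨hfix', U', y', hy', hU', ?_⟩
  intro T' t g v' hv' hgv'
  obtain ⟨c, hc⟩ := hlin U U' yc y' hyc hy'
  have hu₀ : (lift (toUnit T' ≫ γ) v' ≫ Φ.act) ≫ π = t ≫ y₀ := by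
    rw [Category.assoc, hπ, lift_whiskerLeft_assoc, hv', hcomp, act_act_inv]
  have hu₁ : (lift (g ≫ l) (lift (toUnit T' ≫ γ) v' ≫ Φ.act) ≫ Φ.act) ≫ π = t ≫ y₀ := by
    rw [Category.assoc, hπ, lift_whiskerLeft_assoc, hu₀, hfix T' t g]
  have hyp := hw T' t g (lift (toUnit T' ≫ γ) v' ≫ Φ.act) hu₀ hu₁
  have P1 : lift (g ≫ l') v' ≫ Φ.act = lift (toUnit T' ≫ γ)⁻¹
      (lift (g ≫ l) (lift (toUnit T' ≫ γ) v' ≫ Φ.act) ≫ Φ.act) ≫ Φ.act := by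
    rw [comp_conj l l' γ hl' g, act_mul, act_mul]
  have P2 : v' = lift (toUnit T' ≫ γ)⁻¹ (lift (toUnit T' ≫ γ) v' ≫ Φ.act) ≫ Φ.act := by
    rw [act_inv_act]
  have h3 : ⊤ ≤ (lift (toUnit T' ≫ γ)⁻¹ (t ≫ y₀)).left ⁻¹ᵁ
      (a.act.left ⁻¹ᵁ U' ⊓ (snd G X).left ⁻¹ᵁ U) := by
    have e1 : (lift (toUnit T' ≫ γ)⁻¹ (t ≫ y₀)).left ⁻¹ᵁ
        (a.act.left ⁻¹ᵁ U' ⊓ (snd G X).left ⁻¹ᵁ U) =
        (lift (toUnit T' ≫ γ)⁻¹ (t ≫ y₀) ≫ a.act).left ⁻¹ᵁ U' ⊓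
          (lift (toUnit T' ≫ γ)⁻¹ (t ≫ y₀) ≫ snd G X).left ⁻¹ᵁ U := rfl
    rw [e1, ← hcomp, lift_snd]
    have e2 : (t ≫ (lift (toUnit T ≫ γ)⁻¹ y₀ ≫ a.act)).left ⁻¹ᵁ U' =
        t.left ⁻¹ᵁ ((lift (toUnit T ≫ γ)⁻¹ y₀ ≫ a.act).left ⁻¹ᵁ U') := rfl
    have e3 : (t ≫ y₀).left ⁻¹ᵁ U = t.left ⁻¹ᵁ (y₀.left ⁻¹ᵁ U) := rfl
    rw [e2, e3, hU', hU]
    exact le_of_eq (by simp)
  have h2₁ : (lift (toUnit T' ≫ γ)⁻¹
      (lift (g ≫ l) (lift (toUnit T' ≫ γ) v' ≫ Φ.act) ≫ Φ.act) ≫ Φ.act) ≫ π =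
      t ≫ (lift (toUnit T ≫ γ)⁻¹ y₀ ≫ a.act) := by
    rw [← P1]; exact hgv'
  have h2₀ : (lift (toUnit T' ≫ γ)⁻¹ (lift (toUnit T' ≫ γ) v' ≫ Φ.act) ≫ Φ.act) ≫ π =
      t ≫ (lift (toUnit T ≫ γ)⁻¹ y₀ ≫ a.act) := by
    rw [← P2]; exact hv'
  have E1 := evalFn_act a π Φ hπ yc y' c hc (toUnit T' ≫ γ)⁻¹
    (lift (g ≫ l) (lift (toUnit T' ≫ γ) v' ≫ Φ.act) ≫ Φ.act) (t ≫ y₀) hu₁
    (top_le_preimage π hU hu₁) (top_le_preimage π hU' h2₁) h3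
  have E0 := evalFn_act a π Φ hπ yc y' c hc (toUnit T' ≫ γ)⁻¹
    (lift (toUnit T' ≫ γ) v' ≫ Φ.act) (t ≫ y₀) hu₀
    (top_le_preimage π hU hu₀) (top_le_preimage π hU' h2₀) h3
  rw [evalFn_congr π y' P1 _ (top_le_preimage π hU' h2₁), E1, hyp,
    evalFn_congr π y' P2 (top_le_preimage π hU' hv') (top_le_preimage π hU' h2₀), E0]
  exact mul_left_comm _ _ _

end Weight

section Mu

open GLinSh

variable {a : AlgGrp.Action G X} (B : GLinSh.LinBun G a)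

/-- one direction of the conjugation invariance of `μ` -/
lemma isMu_conj_imp (l l' : Red.Gm S ⟶ G) [IsMonHom l] [IsMonHom l'] (γ : 𝟙_ (Over S) ⟶ G)
    (hl' : l' = (toUnit _ ≫ γ)⁻¹ * l * (toUnit _ ≫ γ)) {T : Over S} [Nonempty T.left]
    (hT : ∀ (q : T ⟶ X) (U : X.left.Opens) (p : T.left), q.left p ∈ U → q.left ⁻¹ᵁ U = ⊤)
    (x : T ⟶ X) (m : ℤ) (h : IsMu B l (lift (toUnit T ≫ γ) x ≫ a.act) m) : IsMu B l' x m := by
  obtain ⟨y, hlim, hwt⟩ := h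
  exact ⟨lift (toUnit T ≫ γ)⁻¹ y ≫ a.act, isLimitPt_conj a l l' γ hl' x y hlim,
    hasFibreWt_conj a B.π B.lift B.lift_π B.atlas.chart B.lift_linear B.atlas.cover l l' γ hl' hT
      y (-m) hwt⟩

/-- conjugation invariance of `μ` -/
lemma isMu_conj_iff (l l' : Red.Gm S ⟶ G) [IsMonHom l] [IsMonHom l'] (γ : 𝟙_ (Over S) ⟶ G)
    (hl' : l' = (toUnit _ ≫ γ)⁻¹ * l * (toUnit _ ≫ γ)) {T : Over S} [Nonempty T.left]
    (hT : ∀ (q : T ⟶ X) (U : X.left.Opens) (p : T.left), q.left p ∈ U → q.left ⁻¹ᵁ U = ⊤)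
    (x : T ⟶ X) (m : ℤ) : IsMu B l (lift (toUnit T ≫ γ) x ≫ a.act) m ↔ IsMu B l' x m := by
  refine ⟨isMu_conj_imp B l l' γ hl' hT x m, fun h => ?_⟩
  have hl : l = (toUnit _ ≫ γ⁻¹)⁻¹ * l' * (toUnit _ ≫ γ⁻¹) := by
    rw [hl', GrpObj.comp_inv]
    group
  refine isMu_conj_imp B l' l γ⁻¹ hl hT (lift (toUnit T ≫ γ) x ≫ a.act) m ?_
  rw [GrpObj.comp_inv, act_inv_act]
  exact h

end Mu

end Groth.Agent.Lib.Helper43.HMConj
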