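import Groth.Agent.Lib.Helper43.HMConj
import Groth.Agent.Lib.Helper40.MagnetDense

/-!
# Limits of orbits under a one-parameter subgroup: uniqueness, fixedness (helper43, for S19787)
-/

set_option autoImplicit false
universe u
open CategoryTheory MonoidalCategory CartesianMonoidalCategory MonObj AlgebraicGeometry Opposite

namespace Groth.Agent.Lib.Helper43.HMLim

open Magnet HMNum Groth.Agent.Lib.Helper43.HMConj

variable {S : Scheme.{u}} {G X : Over S} [GrpObj G]

/-! ### `A({0})_S` is terminal -/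

lemma bijective_algebraMap_of_subsingleton (R : Type u) [CommRing R] (M : Type) [Monoid M]
    [Subsingleton M] : Function.Bijective (algebraMap R (MonoidAlgebra R M)) := by
  have h : ⇑(algebraMap R (MonoidAlgebra R M)) = ⇑(MonoidAlgebra.uniqueAlgEquiv R (A := R) M).symm := by
    funext r
    exact ((MonoidAlgebra.uniqueAlgEquiv R (A := R) M).symm.commutes r).symm
  rw [h]
  exact AlgEquiv.bijective _

instance mono_AMon_bot_hom (R : Type u) [CommRing R] :
    Mono (Magnet.AMon R ↥(⊥ : AddSubmonoid ℤ)).hom := by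
  haveI : Subsingleton (Multiplicative ↥(⊥ : AddSubmonoid ℤ)) :=
    ⟨fun x y => Subtype.ext ((AddSubmonoid.mem_bot.1 (Multiplicative.toAdd x).2).trans
      (AddSubmonoid.mem_bot.1 (Multiplicative.toAdd y).2).symm)⟩
  have hb := bijective_algebraMap_of_subsingleton R (Multiplicative ↥(⊥ : AddSubmonoid ℤ))
  have hiso : IsIso (CommRingCat.ofHom (algebraMap R
      (MonoidAlgebra R (Multiplicative ↥(⊥ : AddSubmonoid ℤ))))) :=
    (ConcreteCategory.isIso_iff_bijective _).2 hb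
  have : IsIso (Magnet.AMon R ↥(⊥ : AddSubmonoid ℤ)).hom := by
    change IsIso (Spec.map (CommRingCat.ofHom (algebraMap R
      (MonoidAlgebra R (Multiplicative ↥(⊥ : AddSubmonoid ℤ))))))
    infer_instance
  infer_instance

lemma hom_AMonS_bot_ext {T' : Over S} (u v : T' ⟶ Magnet.AMonS S ↥(⊥ : AddSubmonoid ℤ)) : u = v := by
  apply Over.OverMorphism.ext
  haveI : Mono (Magnet.AMonS S ↥(⊥ : AddSubmonoid ℤ)).hom := by
    change Mono (Limits.pullback.snd (Magnet.AMon (ULift.{u} ℤ) ↥(⊥ : AddSubmonoid ℤ)).hom _)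
    infer_instance
  rw [← cancel_mono (Magnet.AMonS S ↥(⊥ : AddSubmonoid ℤ)).hom, Over.w u, Over.w v]

/-- the origin of the affine line is absorbing -/
lemma act_origin {T' : Over S} (g : T' ⟶ Red.Gm S) :
    lift g (toUnit T' ≫ origin S) ≫ (Magnet.subAct S ℤ plus).act = toUnit T' ≫ origin S := by
  have h := (MonAct.isEquivariant_iff _ _ _).1 (Magnet.isEquivariant_faceMapS S isFace_bot) T' g
    (toUnit T' ≫ η[Magnet.AMonS S ↥(⊥ : AddSubmonoid ℤ)])
  have e : lift g (toUnit T' ≫ η[Magnet.AMonS S ↥(⊥ : AddSubmonoid ℤ)]) ≫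
      (Magnet.subAct S ℤ ⊥).act = toUnit T' ≫ η[Magnet.AMonS S ↥(⊥ : AddSubmonoid ℤ)] :=
    hom_AMonS_bot_ext _ _
  rw [← Category.assoc, e] at h
  have ho : origin S = η[Magnet.AMonS S ↥(⊥ : AddSubmonoid ℤ)] ≫
      Magnet.AMonS.faceMap S isFace_bot := rfl
  rw [ho]
  simp only [Category.assoc] at h ⊢
  exact h.symm

variable (a : AlgGrp.Action G X)

/-- a limit point is fixed -/
lemma isFixedBy_of_isLimitPt (l : Red.Gm S ⟶ G) [IsMonHom l] {T : Over S} (x y : T ⟶ X)
    (h : IsLimitPt a l x y) : IsFixedBy a l y := by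
  obtain ⟨φ, -, hφy⟩ := h
  rw [limitPt_eq] at hφy
  have hφ := φ.2
  rw [MonAct.mem_eqvHom_iff] at hφ
  intro T' t g
  have e1 : t ≫ y = lift (toUnit T' ≫ origin S) t ≫ φ.1 := by
    rw [← hφy, comp_lift_assoc, Category.comp_id, ← Category.assoc, comp_toUnit]
  have h2 := hφ T' g (toUnit T' ≫ origin S) t
  rw [act_origin, MonAct.lift_restrict_act, MonAct.ofAction_act] at h2
  rw [e1]
  exact h2.symm

/-- a fixed point is its own limit -/
lemma isLimitPt_self (l : Red.Gm S ⟶ G) [IsMonHom l] {T : Over S} (y : T ⟶ X)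
    (h : IsFixedBy a l y) : IsLimitPt a l y y := by
  refine ⟨⟨snd (A1 S) T ≫ y, ?_⟩, ?_, ?_⟩
  · rw [MonAct.mem_eqvHom_iff]
    intro T' g b t
    rw [lift_snd_assoc, lift_snd_assoc, MonAct.lift_restrict_act, MonAct.ofAction_act]
    exact (h T' t g).symm
  · change lift (toUnit T ≫ η[A1 S]) (𝟙 T) ≫ snd (A1 S) T ≫ y = y
    rw [lift_snd_assoc, Category.id_comp]
  · rw [limitPt_eq]
    change lift (toUnit T ≫ origin S) (𝟙 T) ≫ snd (A1 S) T ≫ y = y
    rw [lift_snd_assoc, Category.id_comp]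

/-- uniqueness of the limit for a separated target -/
lemma isLimitPt_unique [IsSeparated X.hom] (l : Red.Gm S ⟶ G) [IsMonHom l] {T : Over S}
    (x y y' : T ⟶ X) (h : IsLimitPt a l x y) (h' : IsLimitPt a l x y') : y = y' := by
  obtain ⟨φ, hφx, hφy⟩ := h
  obtain ⟨φ', hφx', hφy'⟩ := h'
  have k1 := Groth.Agent.Lib.Helper40.MagnetDense.whiskerRight_comp_eq_of_mem_eqvHom
    (incl S) (gmAct a l) φ.1 φ.2
  have k2 := Groth.Agent.Lib.Helper40.MagnetDense.whiskerRight_comp_eq_of_mem_eqvHom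
    (incl S) (gmAct a l) φ'.1 φ'.2
  have e1 : lift (toUnit T ≫ η[A1 S]) (𝟙 T) ≫ φ.1 = x := hφx
  have e2 : lift (toUnit T ≫ η[A1 S]) (𝟙 T) ≫ φ'.1 = x := hφx'
  rw [e1] at k1
  rw [e2] at k2
  haveI : IsSchemeTheoreticallyDominant ((incl S) ▷ T).left :=
    Groth.Agent.Lib.Helper40.MagnetDense.dominant_AMonS_map_whiskerRight S plus.subtype
      Subtype.val_injective T
  have key : φ.1 = φ'.1 :=
    Groth.Agent.Lib.Helper40.MagnetDense.eq_of_dominant_comp_eq ((incl S) ▷ T) (k1.trans k2.symm)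
  rw [limitPt_eq] at hφy hφy'
  rw [← hφy, ← hφy', key]

/-- `μ(x, λ) = μ(lim, λ)` -/
lemma isMu_limit_iff {a : AlgGrp.Action G X} [IsSeparated X.hom] (B : GLinSh.LinBun G a)
    (l : Red.Gm S ⟶ G) [IsMonHom l] {T : Over S} (x y : T ⟶ X) (hy : IsLimitPt a l x y) (m : ℤ) :
    IsMu B l x m ↔ IsMu B l y m := by
  have hfix := isFixedBy_of_isLimitPt a l x y hy
  have hself := isLimitPt_self a l y hfix
  constructor
  · rintro ⟨y', hlim, hwt⟩
    have e := isLimitPt_unique a l x y y' hy hlim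
    subst e
    exact ⟨y, hself, hwt⟩
  · rintro ⟨y', hlim, hwt⟩
    have e := isLimitPt_unique a l y y y' hself hlim
    subst e
    exact ⟨y, hy, hwt⟩

end Groth.Agent.Lib.Helper43.HMLim
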