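import Groth.Agent.Lib.Helper43.HMLim

/-!
# The numerical function and the parabolic subgroup `P(λ)` (helper43, for S19785)
-/

set_option autoImplicit false
universe u
open CategoryTheory MonoidalCategory CartesianMonoidalCategory MonObj AlgebraicGeometry Opposite

namespace Groth.Agent.Lib.Helper43.HMPar

open Magnet HMNum Groth.Agent.Lib.Helper43.HMConj Groth.Agent.Lib.Helper43.HMLim

variable {S : Scheme.{u}} {G X : Over S} [GrpObj G]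

lemma subAct_act_pt {T' : Over S} (g : T' ⟶ Red.Gm S) (b : T' ⟶ A1 S) :
    lift g b ≫ (Magnet.subAct S ℤ plus).act = (g ≫ incl S) * b := by
  unfold Magnet.subAct
  rw [MonAct.lift_restrict_act, MonAct.lift_regular_act]

/-- an extension `f` to the affine line of `u ↦ λ(u) gam λ(u)⁻¹` is equivariant for conjugation -/
lemma ext_equivariant [IsSeparated G.hom] (l : Red.Gm S ⟶ G) [IsMonHom l] (gam : 𝟙_ (Over S) ⟶ G)
    (f : A1 S ⟶ G) (hf : incl S ≫ f = l * (toUnit _ ≫ gam) * l⁻¹) {T' : Over S}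
    (g : T' ⟶ Red.Gm S) (b : T' ⟶ A1 S) :
    ((g ≫ incl S) * b) ≫ f = (g ≫ l) * (b ≫ f) * (g ≫ l)⁻¹ := by
  let U₁ : A1 S ⊗ Red.Gm S ⟶ G := ((snd _ _ ≫ incl S) * fst _ _) ≫ f
  let U₂ : A1 S ⊗ Red.Gm S ⟶ G := (snd _ _ ≫ l) * (fst _ _ ≫ f) * (snd _ _ ≫ l)⁻¹
  haveI : IsSchemeTheoreticallyDominant ((incl S) ▷ Red.Gm S).left :=
    Groth.Agent.Lib.Helper40.MagnetDense.dominant_AMonS_map_whiskerRight S plus.subtype
      Subtype.val_injective (Red.Gm S)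
  have key : U₁ = U₂ := by
    refine Groth.Agent.Lib.Helper40.MagnetDense.eq_of_dominant_comp_eq ((incl S) ▷ Red.Gm S) ?_
    apply hom_ext_lift₂
    intro T'' u g'
    have e1 : lift u g' ≫ (incl S ▷ Red.Gm S) ≫ U₁ = ((g' * u) ≫ incl S) ≫ f := by
      rw [lift_whiskerRight_assoc]
      change lift (u ≫ incl S) g' ≫ ((snd _ _ ≫ incl S) * fst _ _) ≫ f = _
      rw [← Category.assoc, MonObj.comp_mul, lift_snd_assoc, lift_fst, MonObj.mul_comp g' u (incl S)]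
    have e2 : lift u g' ≫ (incl S ▷ Red.Gm S) ≫ U₂ =
        (g' ≫ l) * ((u ≫ incl S) ≫ f) * (g' ≫ l)⁻¹ := by
      rw [lift_whiskerRight_assoc]
      change lift (u ≫ incl S) g' ≫ ((snd _ _ ≫ l) * (fst _ _ ≫ f) * (snd _ _ ≫ l)⁻¹) = _
      rw [MonObj.comp_mul, MonObj.comp_mul, GrpObj.comp_inv, lift_snd_assoc, lift_fst_assoc]
    rw [e1, e2, Category.assoc, Category.assoc, hf, MonObj.comp_mul, MonObj.comp_mul,
      GrpObj.comp_inv, MonObj.comp_mul, MonObj.comp_mul, GrpObj.comp_inv, MonObj.mul_comp g' u l,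
      ← Category.assoc (g' * u), ← Category.assoc u, comp_toUnit, comp_toUnit]
    group
  have h := congrArg (fun U => lift b g ≫ U) key
  simp only [U₁, U₂] at h
  rw [← Category.assoc, MonObj.comp_mul, lift_snd_assoc, lift_fst, MonObj.comp_mul,
    MonObj.comp_mul, GrpObj.comp_inv, lift_snd_assoc, lift_fst_assoc] at h
  exact h

/-- value of the extension at the unit section -/
lemma ext_one (l : Red.Gm S ⟶ G) [IsMonHom l] (gam : 𝟙_ (Over S) ⟶ G)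
    (f : A1 S ⟶ G) (hf : incl S ≫ f = l * (toUnit _ ≫ gam) * l⁻¹) :
    η[A1 S] ≫ f = gam := by
  have h1 : η[A1 S] = η[Red.Gm S] ≫ incl S := (IsMonHom.one_hom (incl S)).symm
  have h0 : (η[G] : 𝟙_ (Over S) ⟶ G) = 1 := one_eq_one G
  rw [h1, Category.assoc, hf, MonObj.comp_mul, MonObj.comp_mul, GrpObj.comp_inv,
    IsMonHom.one_hom l, h0, ← Category.assoc, comp_toUnit, toUnit_unit, Category.id_comp]
  group

variable (a : AlgGrp.Action G X)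

/-- if `γ ∈ P(λ)` and `λ(u)·x → y` then `λ(u)·γx → γ₀·y`, `γ₀` the limit of `λ(u) γ λ(u)⁻¹` -/
lemma isLimitPt_par [IsSeparated G.hom] (l : Red.Gm S ⟶ G) [IsMonHom l] (gam : 𝟙_ (Over S) ⟶ G)
    (f : A1 S ⟶ G) (hf : incl S ≫ f = l * (toUnit _ ≫ gam) * l⁻¹) {T : Over S} (x y : T ⟶ X)
    (h : IsLimitPt a l x y) :
    IsLimitPt a l (lift (toUnit T ≫ gam) x ≫ a.act) (lift (toUnit T ≫ origin S ≫ f) y ≫ a.act) := by
  obtain ⟨φ, hφx, hφy⟩ := h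
  have hφ := φ.2
  rw [MonAct.mem_eqvHom_iff] at hφ
  refine ⟨⟨lift (fst (A1 S) T ≫ f) φ.1 ≫ a.act, ?_⟩, ?_, ?_⟩
  · rw [MonAct.mem_eqvHom_iff]
    intro T' g b t
    rw [comp_lift_assoc, lift_fst_assoc, hφ, subAct_act_pt, ext_equivariant l gam f hf g b,
      MonAct.lift_restrict_act, MonAct.lift_restrict_act, MonAct.ofAction_act, comp_lift_assoc,
      lift_fst_assoc, ← act_mul, ← act_mul]
    congr 2
    group
  · have h1 : lift (toUnit T ≫ η[A1 S]) (𝟙 T) ≫ φ.1 = x := hφx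
    change lift (toUnit T ≫ η[A1 S]) (𝟙 T) ≫ (lift (fst (A1 S) T ≫ f) φ.1 ≫ a.act) = _
    rw [comp_lift_assoc, lift_fst_assoc, h1, Category.assoc, ext_one l gam f hf]
  · rw [limitPt_eq] at hφy ⊢
    change lift (toUnit T ≫ origin S) (𝟙 T) ≫ (lift (fst (A1 S) T ≫ f) φ.1 ≫ a.act) = _
    rw [comp_lift_assoc, lift_fst_assoc, hφy, Category.assoc]

/-- the limit `γ₀` of `λ(u) γ λ(u)⁻¹` commutes with `λ` -/
lemma origin_commutes [IsSeparated G.hom] (l : Red.Gm S ⟶ G) [IsMonHom l]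
    (gam : 𝟙_ (Over S) ⟶ G) (f : A1 S ⟶ G) (hf : incl S ≫ f = l * (toUnit _ ≫ gam) * l⁻¹) :
    l = (toUnit _ ≫ (origin S ≫ f)⁻¹)⁻¹ * l * (toUnit _ ≫ (origin S ≫ f)⁻¹) := by
  have h := ext_equivariant l gam f hf (𝟙 (Red.Gm S)) (toUnit _ ≫ origin S)
  rw [← subAct_act_pt, act_origin, Category.id_comp, Category.assoc] at h
  rw [GrpObj.comp_inv, inv_inv]
  have h' : (toUnit (Red.Gm S) ≫ origin S ≫ f) * l = l * (toUnit (Red.Gm S) ≫ origin S ≫ f) := by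
    conv_lhs => rw [h]
    group
  calc l = (toUnit (Red.Gm S) ≫ origin S ≫ f) * l * (toUnit (Red.Gm S) ≫ origin S ≫ f)⁻¹ := by
        rw [h']; group
    _ = _ := rfl

section Mu

variable {a} (B : GLinSh.LinBun G a)

/-- `μ(x, λ) = m ⇒ μ(γ x, λ) = m` for `γ ∈ P(λ)` -/
lemma isMu_par_imp [IsSeparated G.hom] (l : Red.Gm S ⟶ G) [IsMonHom l] (gam : 𝟙_ (Over S) ⟶ G)
    (f : A1 S ⟶ G) (hf : incl S ≫ f = l * (toUnit _ ≫ gam) * l⁻¹) {T : Over S} [Nonempty T.left]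
    (hT : ∀ (q : T ⟶ X) (U : X.left.Opens) (p : T.left), q.left p ∈ U → q.left ⁻¹ᵁ U = ⊤)
    (x : T ⟶ X) (m : ℤ) (h : IsMu B l x m) : IsMu B l (lift (toUnit T ≫ gam) x ≫ a.act) m := by
  obtain ⟨y, hlim, hwt⟩ := h
  refine ⟨lift (toUnit T ≫ origin S ≫ f) y ≫ a.act, isLimitPt_par a l gam f hf x y hlim, ?_⟩
  have hw := hasFibreWt_conj a B.π B.lift B.lift_π B.atlas.chart B.lift_linear B.atlas.cover l l
    (origin S ≫ f)⁻¹ (origin_commutes l gam f hf) hT y (-m) hwt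
  rw [GrpObj.comp_inv, inv_inv] at hw
  exact hw

/-- `μ(x, λ) = μ(γ x, λ)` for `γ ∈ P(λ)` -/
lemma isMu_par_iff [IsSeparated G.hom] (l : Red.Gm S ⟶ G) [IsMonHom l] (gam : 𝟙_ (Over S) ⟶ G)
    (f : A1 S ⟶ G) (hf : incl S ≫ f = l * (toUnit _ ≫ gam) * l⁻¹) {T : Over S} [Nonempty T.left]
    (hT : ∀ (q : T ⟶ X) (U : X.left.Opens) (p : T.left), q.left p ∈ U → q.left ⁻¹ᵁ U = ⊤)
    (x : T ⟶ X) (m : ℤ) : IsMu B l x m ↔ IsMu B l (lift (toUnit T ≫ gam) x ≫ a.act) m := by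
  refine ⟨isMu_par_imp B l gam f hf hT x m, fun h => ?_⟩
  have hf' : incl S ≫ f⁻¹ = l * (toUnit _ ≫ gam⁻¹) * l⁻¹ := by
    rw [GrpObj.comp_inv, hf, GrpObj.comp_inv]
    group
  have h2 := isMu_par_imp B l gam⁻¹ f⁻¹ hf' hT (lift (toUnit T ≫ gam) x ≫ a.act) m h
  rw [GrpObj.comp_inv, act_inv_act] at h2
  exact h2

end Mu

end Groth.Agent.Lib.Helper43.HMPar
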