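import Groth.Prelude.Def_HRes
import Groth.Agent.Lib.Cohomology.Helper3_ExtFunct

/-!
# Functoriality of `HRes.pull` (identity and composition laws)
-/

set_option autoImplicit false
open CategoryTheory Limits AlgebraicGeometry Opposite Abelian

namespace Groth.Agent.Lib.Helper43.HResFun

universe u

variable (K : Precoverage Scheme.{u})

/-- `pullConst` composed with toSheafify. -/
lemma toSheafify_pullConst_inv {S T : Scheme.{u}} (f : T ⟶ S) (M : AddCommGrpCat.{u + 1}) :
    toSheafify (QuotSh.J K T) ((Functor.const _).obj M) ≫ (HRes.pullConst K f M).inv.hom =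
      Functor.whiskerLeft (Over.map f).op (toSheafify (QuotSh.J K S) ((Functor.const _).obj M)) := by
  exact Functor.toSheafify_pullbackSheafificationCompatibility (Over.map f) AddCommGrpCat.{u + 1}
    (QuotSh.J K T) (QuotSh.J K S) ((Functor.const _).obj M)

lemma pullConst_id (S : Scheme.{u}) (M : AddCommGrpCat.{u + 1}) :
    (HRes.pullConst K (𝟙 S) M).inv ≫
      (K.toGrothendieck.overMapPullbackId AddCommGrpCat.{u + 1} S).hom.app
        ((constantSheaf (QuotSh.J K S) AddCommGrpCat.{u + 1}).obj M) = 𝟙 _ := by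
  apply ObjectProperty.hom_ext
  apply sheafify_hom_ext _ _ _ (ObjectProperty.FullSubcategory.property _)
  refine NatTrans.ext (funext fun U => ?_)
  have h1 := congrArg (fun t => t.app U) (toSheafify_pullConst_inv K (𝟙 S) M)
  have h := (toSheafify (QuotSh.J K S) ((Functor.const (Over S)ᵒᵖ).obj M)).naturality
    ((Over.mapId S).inv.app U.unop).op
  dsimp at h h1
  rw [Category.id_comp] at h
  have key : (toSheafify (QuotSh.J K S) ((Functor.const (Over S)ᵒᵖ).obj M)).app U ≫
      ((HRes.pullConst K (𝟙 S) M).inv.hom.app U ≫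
        ((constantSheaf (QuotSh.J K S) AddCommGrpCat.{u + 1}).obj M).obj.map
          ((Over.mapId S).inv.app U.unop).op) =
      (toSheafify (QuotSh.J K S) ((Functor.const (Over S)ᵒᵖ).obj M)).app U := by
    rw [← Category.assoc]
    erw [h1]
    exact h.symm
  exact key.trans (Category.comp_id _).symm

lemma pullConst_comp {S T T' : Scheme.{u}} (f : T ⟶ S) (g : T' ⟶ T) (M : AddCommGrpCat.{u + 1}) :
    (HRes.pullConst K g M).inv ≫
      (BigSite.pullBig K g AddCommGrpCat.{u + 1}).map (HRes.pullConst K f M).inv ≫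
        (K.toGrothendieck.overMapPullbackComp AddCommGrpCat.{u + 1} g f).hom.app
          ((constantSheaf (QuotSh.J K S) AddCommGrpCat.{u + 1}).obj M) =
      (HRes.pullConst K (g ≫ f) M).inv := by
  apply ObjectProperty.hom_ext
  apply sheafify_hom_ext _ _ _ (ObjectProperty.FullSubcategory.property _)
  refine NatTrans.ext (funext fun U => ?_)
  have h1 := congrArg (fun t => t.app U) (toSheafify_pullConst_inv K g M)
  have h2 := congrArg (fun t => t.app (op ((Over.map g).obj U.unop)))
    (toSheafify_pullConst_inv K f M)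
  have h3 := congrArg (fun t => t.app U) (toSheafify_pullConst_inv K (g ≫ f) M)
  have h := (toSheafify (QuotSh.J K S) ((Functor.const (Over S)ᵒᵖ).obj M)).naturality
    ((Over.mapComp g f).symm.inv.app U.unop).op
  dsimp at h h1 h2 h3
  rw [Category.id_comp] at h
  have key : (toSheafify (QuotSh.J K T') ((Functor.const (Over T')ᵒᵖ).obj M)).app U ≫
      ((HRes.pullConst K g M).inv.hom.app U ≫
        (HRes.pullConst K f M).inv.hom.app (op ((Over.map g).obj U.unop)) ≫
        ((constantSheaf (QuotSh.J K S) AddCommGrpCat.{u + 1}).obj M).obj.map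
          ((Over.mapComp g f).symm.inv.app U.unop).op) =
      (toSheafify (QuotSh.J K T') ((Functor.const (Over T')ᵒᵖ).obj M)).app U ≫
        (HRes.pullConst K (g ≫ f) M).inv.hom.app U := by
    rw [← Category.assoc]
    erw [h1, h3]
    rw [← Category.assoc]
    erw [h2]
    exact h.symm
  exact key

open Groth.Agent.Lib.Cohomology.ExtFunct in
/-- `S14708`. -/
theorem pull_id (S : Scheme.{u}) (F : BigSite.Ab K S) (n : ℕ) (x : BigSite.H K S F n) :
    Sheaf.H.map ((K.toGrothendieck.overMapPullbackId AddCommGrpCat.{u + 1} S).hom.app F) n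
      (HRes.pull K (𝟙 S) F n x) = x := by
  rw [Sheaf.H.map_apply, HRes.pull_apply]
  have h1 := mapExactFunctor_natIso (BigSite.pullBig K (𝟙 S) AddCommGrpCat.{u + 1}) (𝟭 _)
    (K.toGrothendieck.overMapPullbackId AddCommGrpCat.{u + 1} S) n F x
  rw [mapExactFunctor_idFunctor] at h1
  refine (Ext.comp_assoc _ _ _ (zero_add n) (add_zero n) (by omega)).trans ?_
  refine (congrArg (fun z => (Ext.mk₀ (HRes.pullConst K (𝟙 S)
    (AddCommGrpCat.of (ULift.{u + 1} ℤ))).inv).comp z (zero_add n)) h1).trans ?_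
  refine (Ext.comp_assoc _ _ _ (zero_add 0) (zero_add n) (by omega)).symm.trans ?_
  rw [Ext.mk₀_comp_mk₀]
  erw [pullConst_id]
  exact Ext.mk₀_id_comp x

open Groth.Agent.Lib.Cohomology.ExtFunct in
/-- `S14709`. -/
theorem pull_comp {S T T' : Scheme.{u}} (f : T ⟶ S) (g : T' ⟶ T) (F : BigSite.Ab K S) (n : ℕ)
    (x : BigSite.H K S F n) :
    HRes.pull K (g ≫ f) F n x =
      Sheaf.H.map ((K.toGrothendieck.overMapPullbackComp AddCommGrpCat.{u + 1} g f).hom.app F) n
        (HRes.pull K g ((BigSite.pullBig K f AddCommGrpCat.{u + 1}).obj F) n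
          (HRes.pull K f F n x)) := by
  rw [Sheaf.H.map_apply, HRes.pull_apply, HRes.pull_apply, HRes.pull_apply]
  set Pf := BigSite.pullBig K f AddCommGrpCat.{u + 1}
  set Pg := BigSite.pullBig K g AddCommGrpCat.{u + 1}
  set Z := AddCommGrpCat.of (ULift.{u + 1} ℤ)
  have h1 := mapExactFunctor_natIso (Pf ⋙ Pg) (BigSite.pullBig K (g ≫ f) AddCommGrpCat.{u + 1})
    (K.toGrothendieck.overMapPullbackComp AddCommGrpCat.{u + 1} g f) n F x
  rw [← mapExactFunctor_compFunctor Pf Pg n F x] at h1
  rw [Ext.mapExactFunctor_comp, Ext.mapExactFunctor_mk₀]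
  symm
  refine (Ext.comp_assoc _ _ _ (zero_add n) (add_zero n) (by omega)).trans ?_
  refine (congrArg (fun z => (Ext.mk₀ (HRes.pullConst K g Z).inv).comp z (zero_add n))
    (Ext.comp_assoc _ _ _ (zero_add n) (add_zero n) (by omega))).trans ?_
  refine (congrArg (fun z => (Ext.mk₀ (HRes.pullConst K g Z).inv).comp
    ((Ext.mk₀ (Pg.map (HRes.pullConst K f Z).inv)).comp z (zero_add n)) (zero_add n)) h1).trans ?_
  refine (congrArg (fun z => (Ext.mk₀ (HRes.pullConst K g Z).inv).comp z (zero_add n))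
    (Ext.comp_assoc _ _ _ (zero_add 0) (zero_add n) (by omega)).symm).trans ?_
  refine (Ext.comp_assoc _ _ _ (zero_add 0) (zero_add n) (by omega)).symm.trans ?_
  rw [Ext.mk₀_comp_mk₀, Ext.mk₀_comp_mk₀]
  erw [pullConst_comp]

end Groth.Agent.Lib.Helper43.HResFun
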