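import Groth.Agent.Lib.Helper43.SRLoc
import Groth.Agent.S19631
import Mathlib.CategoryTheory.Limits.Constructions.Over.Connected
import Mathlib.CategoryTheory.Limits.Constructions.Over.Basic
import Mathlib.CategoryTheory.Limits.Constructions.BinaryProducts
import Mathlib.CategoryTheory.Limits.Constructions.FiniteProductsOfBinaryProducts

/-!
# Hypercoverings: from semi-representable coverings to Verdier hypercoverings
-/

set_option autoImplicit false
set_option linter.deprecated false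
universe u v' u'
open CategoryTheory CategoryTheory.Limits Opposite Simplicial

namespace Groth.Agent.Lib.Helper43.HyperSite

section FinProd

variable {C : Type u} [SmallCategory C] [HasPullbacks C] (X : C)

instance : HasFiniteProducts (FormalCoproduct.{u} (Over X)) :=
  haveI : HasBinaryProducts (FormalCoproduct.{u} (Over X)) :=
    hasBinaryProducts_of_hasTerminal_and_pullbacks _
  hasFiniteProducts_of_has_binary_and_terminal

end FinProd

section Rho

variable {E : Type u'} [Category.{v'} E] [HasFiniteProducts E] (K : SimplicialObject E)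

/-- The canonical map from a simplicial object to the Čech nerve of its object of vertices. -/
noncomputable def ρ : K ⟶ cechNerveTerminalFrom (K.obj (op ⦋0⦌)) where
  app m := Pi.lift (fun l => K.map (SimplexCategory.const ⦋0⦌ m.unop l).op)
  naturality a b f := by
    apply Pi.hom_ext
    intro l
    simp only [cechNerveTerminalFrom, Category.assoc, Pi.lift_π]
    rw [← K.map_comp]
    congr 1

lemma ρ_π (m : SimplexCategoryᵒᵖ) (l : Fin (m.unop.len + 1)) :
    (ρ K).app m ≫ Pi.π (fun _ : Fin (m.unop.len + 1) => K.obj (op ⦋0⦌)) l =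
      K.map (SimplexCategory.const ⦋0⦌ m.unop l).op :=
  Pi.lift_π _ _

lemma isIso_ρ_zero : IsIso ((ρ K).app (op ⦋0⦌)) := by
  let p : (cechNerveTerminalFrom (K.obj (op ⦋0⦌))).obj (op ⦋0⦌) ⟶ K.obj (op ⦋0⦌) :=
    Pi.π (fun _ : Fin ((op ⦋0⦌ : SimplexCategoryᵒᵖ).unop.len + 1) => K.obj (op ⦋0⦌)) 0
  have h0 : (ρ K).app (op ⦋0⦌) ≫ p = 𝟙 _ := by
    have h := ρ_π K (op ⦋0⦌) 0
    have h' : SimplexCategory.const ⦋0⦌ (op ⦋0⦌ : SimplexCategoryᵒᵖ).unop 0 = 𝟙 ⦋0⦌ :=
      SimplexCategory.hom_zero_zero _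
    rw [h'] at h
    simpa using h
  refine ⟨p, h0, ?_⟩
  apply Pi.hom_ext
  intro l
  have hl : l = 0 := Fin.fin_one_eq_zero l
  subst hl
  calc (p ≫ (ρ K).app (op ⦋0⦌)) ≫ Pi.π _ 0 = p ≫ ((ρ K).app (op ⦋0⦌) ≫ p) := by
        rw [Category.assoc]
    _ = p := by rw [h0, Category.comp_id]
    _ = 𝟙 _ ≫ Pi.π _ 0 := (Category.id_comp _).symm

lemma isIso_trunc_ρ : IsIso ((SimplicialObject.truncation 0).map (ρ K)) := by
  have : ∀ m, IsIso (((SimplicialObject.truncation 0).map (ρ K)).app m) := by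
    intro m
    obtain ⟨⟨m, hm⟩⟩ := m
    have hm0 : m = ⦋0⦌ := by
      ext
      have : m.len ≤ 0 := hm
      simpa using this
    subst hm0
    exact isIso_ρ_zero K
  exact NatIso.isIso_of_isIso_app _

variable [∀ (n : ℕ) (F : (SimplexCategory.Truncated n)ᵒᵖ ⥤ E),
  (SimplexCategory.Truncated.inclusion n).op.HasRightKanExtension F]

/-- The unit `K_1 ⟶ (cosk_0 sk_0 K)_1` identifies, up to an isomorphism of the target, with the
canonical map `K_1 ⟶ K_0 × K_0`. -/
lemma exists_iso_unit_ρ :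
    ∃ e : ((SimplicialObject.truncation 0 ⋙ SimplicialObject.Truncated.cosk 0).obj K).obj
        (op (SimplexCategory.mk (0 + 1))) ≅
        (cechNerveTerminalFrom (K.obj (op ⦋0⦌))).obj (op (SimplexCategory.mk (0 + 1))),
      ((SimplicialObject.coskAdj 0).unit.app K).app (op (SimplexCategory.mk (0 + 1))) ≫ e.hom =
        (ρ K).app (op (SimplexCategory.mk (0 + 1))) := by
  have hnat := (SimplicialObject.coskAdj 0).unit.naturality (ρ K)
  have hnat1 := congrArg (fun α => α.app (op (SimplexCategory.mk (0 + 1)))) hnat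
  simp only [Functor.id_map, NatTrans.comp_app] at hnat1
  have : SimplicialObject.IsCoskeletal (cechNerveTerminalFrom (K.obj (op ⦋0⦌))) 0 :=
    Groth.Agent.S19631.isCoskeletal _ 0
  have h1 : IsIso ((SimplicialObject.coskAdj 0).unit.app
    (cechNerveTerminalFrom (K.obj (op ⦋0⦌)))) := inferInstance
  have h2 : IsIso ((SimplicialObject.truncation 0).map (ρ K)) := isIso_trunc_ρ K
  have h3 : IsIso ((SimplicialObject.truncation 0 ⋙ SimplicialObject.Truncated.cosk 0).map (ρ K)) := by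
    rw [Functor.comp_map]
    infer_instance
  refine ⟨asIso (((SimplicialObject.truncation 0 ⋙ SimplicialObject.Truncated.cosk 0).map
    (ρ K)).app (op (SimplexCategory.mk (0 + 1)))) ≪≫
    (asIso (((SimplicialObject.coskAdj 0).unit.app
      (cechNerveTerminalFrom (K.obj (op ⦋0⦌)))).app (op (SimplexCategory.mk (0 + 1))))).symm, ?_⟩
  simp only [Iso.trans_hom, asIso_hom, Iso.symm_hom, asIso_inv]
  rw [← Category.assoc, ← hnat1, Category.assoc, IsIso.hom_inv_id, Category.comp_id]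

end Rho

section Elements

variable {D : Type u} [SmallCategory D]

lemma subsingleton_terminal_obj (V : Dᵒᵖ) : Subsingleton ((⊤_ (Dᵒᵖ ⥤ Type u)).obj V) := by
  have h : IsTerminal ((⊤_ (Dᵒᵖ ⥤ Type u)).obj V) :=
    terminalIsTerminal.isTerminalObj ((evaluation _ _).obj V) _
  have := (Types.isTerminalEquivUnique _).toFun h
  infer_instance

lemma prod_ext (P Q : Dᵒᵖ ⥤ Type u) (V : D) (s s' : (P ⨯ Q).obj (op V))
    (h1 : (prod.fst : P ⨯ Q ⟶ P).app (op V) s = (prod.fst : P ⨯ Q ⟶ P).app (op V) s')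
    (h2 : (prod.snd : P ⨯ Q ⟶ Q).app (op V) s = (prod.snd : P ⨯ Q ⟶ Q).app (op V) s') :
    s = s' := by
  apply (yonedaEquiv (X := V) (F := P ⨯ Q)).symm.injective
  apply Limits.prod.hom_ext
  · apply yonedaEquiv.injective
    rw [yonedaEquiv_comp, yonedaEquiv_comp, Equiv.apply_symm_apply, Equiv.apply_symm_apply]
    exact h1
  · apply yonedaEquiv.injective
    rw [yonedaEquiv_comp, yonedaEquiv_comp, Equiv.apply_symm_apply, Equiv.apply_symm_apply]
    exact h2

end Elements

section Parts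

variable {C : Type u} [SmallCategory C] (J : GrothendieckTopology C) (X : C)

lemma isLocallySurjective_terminal_from (K0 : FormalCoproduct.{u} (Over X))
    (h : Sieve.ofArrows (fun i => (K0.obj i).left) (fun i => (K0.obj i).hom) ∈ J X) :
    Presheaf.IsLocallySurjective (J.over X) (terminal.from (FormalCoproduct.yoneda.obj K0)) := by
  refine ⟨fun {U} s => ?_⟩
  rw [GrothendieckTopology.mem_over_iff]
  refine J.superset_covering ?_ (J.pullback_stable U.hom h)
  intro W g hg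
  rw [Sieve.pullback_apply, Sieve.mem_ofArrows_iff] at hg
  obtain ⟨i, b, hb⟩ := hg
  rw [Sieve.overEquiv_iff]
  refine ⟨SRLoc.τ K0 (Over.mk (g ≫ U.hom))
    (FormalCoproduct.Hom.fromIncl i (Over.homMk b hb.symm)), ?_⟩
  haveI := subsingleton_terminal_obj (D := Over X) (op (Over.mk (g ≫ U.hom)))
  exact Subsingleton.elim _ _

lemma isLocallySurjective_prod_lift {D : Type u} [SmallCategory D] (J' : GrothendieckTopology D)
    [HasFiniteProducts (FormalCoproduct.{u} D)] (K : SimplicialObject (FormalCoproduct.{u} D))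
    (h : Hyper.IsSRCovering J' ((ρ K).app (op (SimplexCategory.mk (0 + 1))))) :
    Presheaf.IsLocallySurjective J'
      (prod.lift (FormalCoproduct.yoneda.map (K.δ (1 : Fin 2)))
        (FormalCoproduct.yoneda.map (K.δ (0 : Fin 2)))) := by
  refine ⟨fun {U} s => ?_⟩
  obtain ⟨c₁, hc₁⟩ := SRLoc.τ_surjective _ U ((prod.fst : FormalCoproduct.yoneda.obj (K.obj (op ⦋0⦌)) ⨯
    FormalCoproduct.yoneda.obj (K.obj (op ⦋0⦌)) ⟶ _).app (op U) s)
  obtain ⟨c₂, hc₂⟩ := SRLoc.τ_surjective _ U ((prod.snd : FormalCoproduct.yoneda.obj (K.obj (op ⦋0⦌)) ⨯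
    FormalCoproduct.yoneda.obj (K.obj (op ⦋0⦌)) ⟶ _).app (op U) s)
  let c : (FormalCoproduct.incl D).obj U ⟶
      (cechNerveTerminalFrom (K.obj (op ⦋0⦌))).obj (op (SimplexCategory.mk (0 + 1))) :=
    Pi.lift (fun l : Fin 2 => ![c₁, c₂] l)
  have hc0 : c ≫ Pi.π (fun _ : Fin 2 => K.obj (op ⦋0⦌)) 0 = c₁ := Pi.lift_π _ _
  have hc1 : c ≫ Pi.π (fun _ : Fin 2 => K.obj (op ⦋0⦌)) 1 = c₂ := Pi.lift_π _ _
  have hρ0 : (ρ K).app (op (SimplexCategory.mk (0 + 1))) ≫
      Pi.π (fun _ : Fin 2 => K.obj (op ⦋0⦌)) 0 = K.δ (1 : Fin 2) := by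
    have := ρ_π K (op (SimplexCategory.mk (0 + 1))) 0
    rw [this, SimplicialObject.δ, SimplexCategory.δ_one_eq_const]
  have hρ1 : (ρ K).app (op (SimplexCategory.mk (0 + 1))) ≫
      Pi.π (fun _ : Fin 2 => K.obj (op ⦋0⦌)) 1 = K.δ (0 : Fin 2) := by
    have := ρ_π K (op (SimplexCategory.mk (0 + 1))) 1
    rw [this, SimplicialObject.δ, SimplexCategory.δ_zero_eq_const]
  refine J'.superset_covering ?_ (SRLoc.liftSieve_mem J' _ h c)
  rintro V g ⟨t, ht⟩
  refine ⟨SRLoc.τ _ V t, ?_⟩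
  apply prod_ext
  · have e1 := ConcreteCategory.congr_hom (NatTrans.congr_app (prod.lift_fst
      (FormalCoproduct.yoneda.map (K.δ (1 : Fin 2))) (FormalCoproduct.yoneda.map (K.δ (0 : Fin 2))))
      (op V)) (SRLoc.τ _ V t)
    have e2 := NatTrans.naturality_apply (prod.fst : FormalCoproduct.yoneda.obj (K.obj (op ⦋0⦌)) ⨯
      FormalCoproduct.yoneda.obj (K.obj (op ⦋0⦌)) ⟶ _) g.op s
    refine e1.trans (Eq.trans ?_ e2.symm)
    rw [SRLoc.τ_map, ← hc₁, SRLoc.τ_res, ← hρ0, ← Category.assoc, ht, Category.assoc, hc0]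
  · have e1 := ConcreteCategory.congr_hom (NatTrans.congr_app (prod.lift_snd
      (FormalCoproduct.yoneda.map (K.δ (1 : Fin 2))) (FormalCoproduct.yoneda.map (K.δ (0 : Fin 2))))
      (op V)) (SRLoc.τ _ V t)
    have e2 := NatTrans.naturality_apply (prod.snd : FormalCoproduct.yoneda.obj (K.obj (op ⦋0⦌)) ⨯
      FormalCoproduct.yoneda.obj (K.obj (op ⦋0⦌)) ⟶ _) g.op s
    refine e1.trans (Eq.trans ?_ e2.symm)
    rw [SRLoc.τ_map, ← hc₂, SRLoc.τ_res, ← hρ1, ← Category.assoc, ht, Category.assoc, hc1]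

end Parts

end Groth.Agent.Lib.Helper43.HyperSite
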