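import Mathlib.CategoryTheory.Limits.Presheaf
import Mathlib.CategoryTheory.Limits.Indization.IndObject
import Mathlib.CategoryTheory.Functor.KanExtension.Adjunction

/-!
# `u_!` on ind-objects and (full) faithfulness of `u`
-/

set_option autoImplicit false
universe u

open CategoryTheory CategoryTheory.Limits Opposite

namespace Groth.Agent.Lib.Helper43.IndLan

variable {C : Type u} [SmallCategory C] {C' : Type u} [SmallCategory C'] (u : C ⥤ C')

/-- `u_!` -/
noncomputable abbrev L : (Cᵒᵖ ⥤ Type u) ⥤ (C'ᵒᵖ ⥤ Type u) := u.op.lan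

/-- `u ⋙ y ≅ y ⋙ u_!` -/
noncomputable def e : u ⋙ uliftYoneda.{u} ≅ uliftYoneda.{u} ⋙ L u :=
  Presheaf.compULiftYonedaIsoULiftYonedaCompLan.{u} u

lemma isIndObject_uliftYoneda (X : C) : IsIndObject (uliftYoneda.{u}.obj X) :=
  (isIndObject_yoneda X).map (uliftYonedaIsoYoneda.{u}.symm.app X).hom

lemma L_map_uliftYoneda_map {X Y : C} (f : X ⟶ Y) :
    (L u).map (uliftYoneda.{u}.map f) =
      (e u).inv.app X ≫ uliftYoneda.{u}.map (u.map f) ≫ (e u).hom.app Y := by
  have h := (e u).hom.naturality f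
  simp only [Functor.comp_map] at h
  rw [h, Iso.inv_hom_id_app_assoc]

theorem faithful_of_injective
    (h : ∀ (F G : Cᵒᵖ ⥤ Type u), IsIndObject F → IsIndObject G →
      Function.Injective (fun φ : F ⟶ G => (L u).map φ)) : u.Faithful where
  map_injective := by
    intro X Y f g hfg
    have h1 : (L u).map (uliftYoneda.{u}.map f) = (L u).map (uliftYoneda.{u}.map g) := by
      rw [L_map_uliftYoneda_map, L_map_uliftYoneda_map, hfg]
    exact uliftYoneda.{u}.map_injective
      (h _ _ (isIndObject_uliftYoneda X) (isIndObject_uliftYoneda Y) h1)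

theorem full_of_bijective
    (h : ∀ (F G : Cᵒᵖ ⥤ Type u), IsIndObject F → IsIndObject G →
      Function.Bijective (fun φ : F ⟶ G => (L u).map φ)) : u.Full where
  map_surjective := by
    intro X Y k
    obtain ⟨φ, hφ⟩ := (h _ _ (isIndObject_uliftYoneda X) (isIndObject_uliftYoneda Y)).2
      ((e u).inv.app X ≫ uliftYoneda.{u}.map k ≫ (e u).hom.app Y)
    obtain ⟨f, rfl⟩ := uliftYoneda.{u}.map_surjective φ
    refine ⟨f, ?_⟩
    apply uliftYoneda.{u}.map_injective
    have hφ' : (L u).map (uliftYoneda.{u}.map f) =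
        (e u).inv.app X ≫ uliftYoneda.{u}.map k ≫ (e u).hom.app Y := hφ
    rw [L_map_uliftYoneda_map] at hφ'
    have h2 := congrArg (fun t => (e u).hom.app X ≫ t ≫ (e u).inv.app Y) hφ'
    simpa using h2

theorem bijective_of_full_faithful [u.Full] [u.Faithful] (F G : Cᵒᵖ ⥤ Type u) :
    Function.Bijective (fun φ : F ⟶ G => (L u).map φ) := by
  have ff : (L u).FullyFaithful := (u.op.lanAdjunction (Type u)).fullyFaithfulLOfIsIsoUnit
  exact ff.map_bijective F G

/-- `u ⋙ y ≅ y ⋙ u_!` with the plain Yoneda embedding -/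
noncomputable def e' : u ⋙ yoneda ≅ yoneda ⋙ L u :=
  Functor.isoWhiskerLeft u uliftYonedaIsoYoneda.{u}.symm ≪≫ e u ≪≫
    Functor.isoWhiskerRight uliftYonedaIsoYoneda.{u} (L u)

section Stage

variable {G : Cᵒᵖ ⥤ Type u} (P : IndObjectPresentation G)

/-- the structure maps of the presentation, with clean types -/
def kap (j : P.I) : yoneda.obj (P.F.obj j) ⟶ G := P.cocone.ι.app j

lemma kap_naturality {j k : P.I} (s : j ⟶ k) : yoneda.map (P.F.map s) ≫ kap P k = kap P j := by
  have := P.cocone.w s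
  exact this

/-- every map from a representable to an ind-object factors through a stage -/
lemma exists_factor {X : C} (α : yoneda.obj X ⟶ G) :
    ∃ (j : P.I) (f : X ⟶ P.F.obj j), α = yoneda.map f ≫ kap P j := by
  have hcol := isColimitOfPreserves ((evaluation Cᵒᵖ (Type u)).obj (op X)) P.coconeIsColimit
  obtain ⟨j, f, hf⟩ := Types.jointly_surjective_of_isColimit hcol (yonedaEquiv α)
  obtain ⟨f, rfl⟩ : ∃ f' : X ⟶ P.F.obj j, f' = f := ⟨f, rfl⟩
  refine ⟨j, f, ?_⟩
  apply yonedaEquiv.injective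
  rw [yonedaEquiv_comp, yonedaEquiv_yoneda_map]
  exact hf.symm

/-- components of `e'` with clean types -/
noncomputable def eps (Y : C) : yoneda.obj (u.obj Y) ⟶ (L u).obj (yoneda.obj Y) :=
  (e' u).hom.app Y

instance (Y : C) : IsIso (eps u Y) := by
  unfold eps; infer_instance

lemma eps_nat {Y Y' : C} (m : Y ⟶ Y') :
    yoneda.map (u.map m) ≫ eps u Y' = eps u Y ≫ (L u).map (yoneda.map m) :=
  (e' u).hom.naturality m

lemma eps_nat_apply {X' : C'} {Y Y' : C} (m : Y ⟶ Y') (h : X' ⟶ u.obj Y) :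
    ((L u).map (yoneda.map m)).app (op X') ((eps u Y).app (op X') h) =
      (eps u Y').app (op X') (h ≫ u.map m) := by
  have := ConcreteCategory.congr_hom (NatTrans.congr_app (eps_nat u m) (op X')) h
  exact this.symm

lemma eps_app_injective (X' : C') (Y : C) :
    Function.Injective ((eps u Y).app (op X')) := by
  have : IsIso ((eps u Y).app (op X')) := inferInstance
  exact ((isIso_iff_bijective _).1 this).1

lemma exists_stage_eq {X' : C'} {j j' : P.I} (h : X' ⟶ u.obj (P.F.obj j))
    (h' : X' ⟶ u.obj (P.F.obj j'))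
    (hyp : yoneda.map h ≫ eps u (P.F.obj j) ≫ (L u).map (kap P j) =
      yoneda.map h' ≫ eps u (P.F.obj j') ≫ (L u).map (kap P j')) :
    ∃ (k : P.I) (s : j ⟶ k) (t : j' ⟶ k),
      h ≫ u.map (P.F.map s) = h' ≫ u.map (P.F.map t) := by
  haveI : PreservesColimitsOfSize.{u, u} (L u) :=
    (u.op.lanAdjunction (Type u)).leftAdjoint_preservesColimits
  have hcol := isColimitOfPreserves (L u ⋙ (evaluation C'ᵒᵖ (Type u)).obj (op X'))
    P.coconeIsColimit
  have hz : ((L u).map (kap P j)).app (op X') ((eps u (P.F.obj j)).app (op X') h) =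
      ((L u).map (kap P j')).app (op X') ((eps u (P.F.obj j')).app (op X') h') := by
    have h1 := congrArg (fun t => yonedaEquiv t) hyp
    simp only [yonedaEquiv_comp, yonedaEquiv_yoneda_map] at h1
    exact h1
  obtain ⟨k, s, t, hst⟩ := (Types.FilteredColimit.isColimit_eq_iff _ hcol
    (xi := ((eps u (P.F.obj j)).app (op X') h)) (xj := ((eps u (P.F.obj j')).app (op X') h'))).1 hz
  refine ⟨k, s, t, ?_⟩
  apply eps_app_injective u X' (P.F.obj k)
  rw [← eps_nat_apply, ← eps_nat_apply]
  exact hst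

include P in
lemma eq_of_L_map_eq [u.Faithful] {X : C} (α β : yoneda.obj X ⟶ G)
    (hαβ : (L u).map α = (L u).map β) : α = β := by
  obtain ⟨j, f, rfl⟩ := exists_factor P α
  obtain ⟨j', g, rfl⟩ := exists_factor P β
  have hyp : yoneda.map (u.map f) ≫ eps u (P.F.obj j) ≫ (L u).map (kap P j) =
      yoneda.map (u.map g) ≫ eps u (P.F.obj j') ≫ (L u).map (kap P j') := by
    rw [← Category.assoc, eps_nat, ← Category.assoc, eps_nat, Category.assoc, Category.assoc,
      ← Functor.map_comp, ← Functor.map_comp, hαβ]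
  obtain ⟨k, s, t, hst⟩ := exists_stage_eq u P (u.map f) (u.map g) hyp
  rw [← u.map_comp, ← u.map_comp] at hst
  have hst' : f ≫ P.F.map s = g ≫ P.F.map t := u.map_injective hst
  rw [← kap_naturality P s, ← kap_naturality P t, ← Category.assoc, ← Category.assoc,
    ← Functor.map_comp, ← Functor.map_comp, hst']

end Stage

theorem injective_of_faithful [u.Faithful] (F G : Cᵒᵖ ⥤ Type u) (hG : IsIndObject G) :
    Function.Injective (fun φ : F ⟶ G => (L u).map φ) := by
  intro φ ψ h
  have h' : (L u).map φ = (L u).map ψ := h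
  apply hom_ext_yoneda
  intro X p
  apply eq_of_L_map_eq u hG.presentation
  rw [Functor.map_comp, Functor.map_comp, h']

end Groth.Agent.Lib.Helper43.IndLan
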