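import Mathlib

/-!
# Left Kan extension along a flat functor preserves finite limits (universe-general, `Type`-valued)
and left exactness of the inverse image of sheaves of sets
-/

set_option autoImplicit false
open CategoryTheory Limits Functor

namespace Groth.Agent.Lib.Helper43.LanFlat

universe w v₁ v₂ v₃ u₁ u₂ u₃

section Lan

variable {C : Type u₁} [Category.{v₁} C] {D : Type u₂} [Category.{v₂} D]
  (E : Type u₃) [Category.{v₃} E]

set_option backward.defeqAttrib.useBackward true in
set_option backward.isDefEq.respectTransparency false in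
/-- The evaluation of `F.lan` at `X` is the colimit over the costructured arrows over `X`
(universe-general copy of Mathlib's `lanEvaluationIsoColim`). -/
noncomputable def lanEvaluationIsoColim (F : C ⥤ D) (X : D)
    [∀ X : D, HasColimitsOfShape (CostructuredArrow F X) E] :
    F.lan ⋙ (evaluation D E).obj X ≅
      (Functor.whiskeringLeft _ _ E).obj (CostructuredArrow.proj F X) ⋙ colim :=
  NatIso.ofComponents (fun G =>
    IsColimit.coconePointUniqueUpToIso
    (Functor.isPointwiseLeftKanExtensionLeftKanExtensionUnit F G X)
    (colimit.isColimit _)) (fun {G₁ G₂} φ => by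
      apply (Functor.isPointwiseLeftKanExtensionLeftKanExtensionUnit F G₁ X).hom_ext
      intro T
      have h₁ := fun (G : C ⥤ E) => IsColimit.comp_coconePointUniqueUpToIso_hom
        (Functor.isPointwiseLeftKanExtensionLeftKanExtensionUnit F G X) (colimit.isColimit _) T
      have h₂ := congr_app (F.lanUnit.naturality φ) T.left
      dsimp at h₁ h₂ ⊢
      simp only [Category.assoc] at h₁ ⊢
      simp only [Functor.lan, Functor.lanUnit] at h₂ ⊢
      rw [reassoc_of% h₁, NatTrans.naturality_assoc, ← reassoc_of% h₂, h₁,
        ι_colimMap, Functor.whiskerLeft_app]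
      rfl)

end Lan

section Flat

variable {C : Type u₁} [Category.{v₁} C] {D : Type u₂} [Category.{v₂} D]

/-- `Lan F.op` on presheaves of types preserves finite limits when `F` is representably flat
(no smallness hypotheses on `C`, `D` beyond existence of the colimits). -/
theorem lan_preservesFiniteLimits (F : C ⥤ D) [RepresentablyFlat F]
    [∀ X : Dᵒᵖ, HasColimitsOfShape (CostructuredArrow F.op X) (Type w)]
    [∀ X : Dᵒᵖ, Small.{w} (CostructuredArrow F.op X)] :
    PreservesFiniteLimits (F.op.lan : (Cᵒᵖ ⥤ Type w) ⥤ (Dᵒᵖ ⥤ Type w)) := by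
  constructor
  intro J _ _
  apply preservesLimitsOfShape_of_evaluation (F.op.lan : (Cᵒᵖ ⥤ Type w) ⥤ Dᵒᵖ ⥤ Type w) J
  intro K
  have : IsFiltered (CostructuredArrow F.op K) :=
    IsFiltered.of_equivalence (structuredArrowOpEquivalence F (Opposite.unop K))
  exact preservesLimitsOfShape_of_natIso (lanEvaluationIsoColim (Type w) F.op K).symm

end Flat

end Groth.Agent.Lib.Helper43.LanFlat
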