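import Groth.Agent.Lib.Helper80.FibCat23
import Groth.Agent.Lib.Helper11.LiftSqComp
import Groth.Prelude.Def_LiftSq

/-!
# Unique lifting against `j` is stable under base change (first projection of a 2-fibre product)
-/

set_option autoImplicit false
set_option backward.isDefEq.respectTransparency false

universe v₆ u₆ v₅ u₅ v₄ u₄ v₃ u₃ v₂ u₂ v u

open CategoryTheory

namespace Groth.Agent.Lib.Helper43.LiftSqBC

open LiftSq Groth.Agent.Lib.Helper80 Groth.Agent.Lib.Helper11.LiftSqComp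

variable {C : Type u} [Category.{v} C]
  {𝒜 : BasedCategory.{v₂, u₂} C} {ℬ : BasedCategory.{v₃, u₃} C}
  {𝒳 : BasedCategory.{v₄, u₄} C} {𝒴 : BasedCategory.{v₅, u₅} C} {𝒴' : BasedCategory.{v₆, u₆} C}
  {j : 𝒜 ⥤ᵇ ℬ} {f : 𝒳 ⥤ᵇ 𝒴} {y : 𝒴' ⥤ᵇ 𝒴}

variable (sq : Sq j (FibCat.fpFst y f))

/-- The square against `f` obtained from a square against the base change of `f`. -/
def sqF : Sq j f where
  top := BasedFunctor.comp sq.top (FibCat.fpSnd y f)
  bot := BasedFunctor.comp sq.bot y
  iso := (Groth.Agent.Lib.Helper80.whiskerRightIso sq.iso y :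
      BasedFunctor.comp j (BasedFunctor.comp sq.bot y) ≅
        BasedFunctor.comp sq.top (BasedFunctor.comp (FibCat.fpFst y f) y)) ≪≫
    (Groth.Agent.Lib.Helper80.whiskerLeftIso sq.top (FibCat.fpIso y f))

lemma sqF_iso_app (a : 𝒜.obj) :
    (sqF sq).iso.hom.toNatTrans.app a =
      y.map (sq.iso.hom.toNatTrans.app a) ≫ (sq.top.obj a).obj.iso.hom := rfl

variable {sq}

lemma lift_w_app (d : sq.Lift) (a : 𝒜.obj) :
    d.isoBot.hom.toNatTrans.app (j.obj a) ≫ (d.isoTop.hom.toNatTrans.app a).hom.fst =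
      sq.iso.hom.toNatTrans.app a :=
  app_congr d.w a

lemma liftF_w_app (dF : (sqF sq).Lift) (a : 𝒜.obj) :
    dF.isoBot.hom.toNatTrans.app (j.obj a) ≫ f.map (dF.isoTop.hom.toNatTrans.app a) =
      y.map (sq.iso.hom.toNatTrans.app a) ≫ (sq.top.obj a).obj.iso.hom :=
  app_congr dF.w a

/-- A lift against `f` of the induced square gives a lift of the original square. -/
def liftOfF (dF : (sqF sq).Lift) : sq.Lift where
  fn := FibCat.fpLift sq.bot dF.fn dF.isoBot
  isoTop := fpIsoMk (A := BasedFunctor.comp j (FibCat.fpLift sq.bot dF.fn dF.isoBot)) (B := sq.top)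
    sq.iso dF.isoTop (fun a => (liftF_w_app dF a).symm)
  isoBot := Iso.refl _
  w := by
    apply hom_ext'; intro a
    change 𝟙 _ ≫ sq.iso.hom.toNatTrans.app a = sq.iso.hom.toNatTrans.app a
    exact Category.id_comp _

/-- A lift of the original square gives a lift against `f` of the induced square. -/
def toF (d : sq.Lift) : (sqF sq).Lift where
  fn := BasedFunctor.comp d.fn (FibCat.fpSnd y f)
  isoTop := Groth.Agent.Lib.Helper80.whiskerRightIso d.isoTop (FibCat.fpSnd y f)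
  isoBot := (Groth.Agent.Lib.Helper80.whiskerRightIso d.isoBot y :
      BasedFunctor.comp sq.bot y ≅
        BasedFunctor.comp d.fn (BasedFunctor.comp (FibCat.fpFst y f) y)) ≪≫
    (Groth.Agent.Lib.Helper80.whiskerLeftIso d.fn (FibCat.fpIso y f))
  w := by
    apply hom_ext'; intro a
    have h1 : y.map (d.isoTop.hom.toNatTrans.app a).hom.fst ≫ (sq.top.obj a).obj.iso.hom =
        (d.fn.obj (j.obj a)).obj.iso.hom ≫ f.map (d.isoTop.hom.toNatTrans.app a).hom.snd :=
      (d.isoTop.hom.toNatTrans.app a).hom.w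
    have h2 := lift_w_app d a
    calc (y.map (d.isoBot.hom.toNatTrans.app (j.obj a)) ≫ (d.fn.obj (j.obj a)).obj.iso.hom) ≫
          f.map (d.isoTop.hom.toNatTrans.app a).hom.snd
        = y.map (d.isoBot.hom.toNatTrans.app (j.obj a)) ≫
            ((d.fn.obj (j.obj a)).obj.iso.hom ≫
              f.map (d.isoTop.hom.toNatTrans.app a).hom.snd) := Category.assoc _ _ _
      _ = y.map (d.isoBot.hom.toNatTrans.app (j.obj a)) ≫
            (y.map (d.isoTop.hom.toNatTrans.app a).hom.fst ≫ (sq.top.obj a).obj.iso.hom) := by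
          rw [h1]
      _ = y.map (d.isoBot.hom.toNatTrans.app (j.obj a) ≫
            (d.isoTop.hom.toNatTrans.app a).hom.fst) ≫ (sq.top.obj a).obj.iso.hom := by
          rw [Functor.map_comp, Category.assoc]
      _ = y.map (sq.iso.hom.toNatTrans.app a) ≫ (sq.top.obj a).obj.iso.hom := by rw [h2]

lemma toF_isoBot_app (d : sq.Lift) (b : ℬ.obj) :
    (toF d).isoBot.hom.toNatTrans.app b =
      y.map (d.isoBot.hom.toNatTrans.app b) ≫ (d.fn.obj b).obj.iso.hom := rfl

/-- A morphism of lifts gives a morphism of the induced lifts. -/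
def toFHom {d d' : sq.Lift} (ψ : d ⟶ d') : toF d ⟶ toF d' where
  hom := BasedCategory.whiskerRight ψ.hom (FibCat.fpSnd y f)
  w_top := by
    apply hom_ext'; intro a
    have h := app_congr ψ.w_top a
    change ψ.hom.toNatTrans.app (j.obj a) ≫ d'.isoTop.hom.toNatTrans.app a =
      d.isoTop.hom.toNatTrans.app a at h
    change (ψ.hom.toNatTrans.app (j.obj a)).hom.snd ≫ (d'.isoTop.hom.toNatTrans.app a).hom.snd =
      (d.isoTop.hom.toNatTrans.app a).hom.snd
    rw [← h]
    rfl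
  w_bot := by
    apply hom_ext'; intro b
    have h := app_congr ψ.w_bot b
    change d.isoBot.hom.toNatTrans.app b ≫ (ψ.hom.toNatTrans.app b).hom.fst =
      d'.isoBot.hom.toNatTrans.app b at h
    have h1 : y.map (ψ.hom.toNatTrans.app b).hom.fst ≫ (d'.fn.obj b).obj.iso.hom =
        (d.fn.obj b).obj.iso.hom ≫ f.map (ψ.hom.toNatTrans.app b).hom.snd :=
      (ψ.hom.toNatTrans.app b).hom.w
    calc (y.map (d.isoBot.hom.toNatTrans.app b) ≫ (d.fn.obj b).obj.iso.hom) ≫
          f.map (ψ.hom.toNatTrans.app b).hom.snd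
        = y.map (d.isoBot.hom.toNatTrans.app b) ≫
            ((d.fn.obj b).obj.iso.hom ≫ f.map (ψ.hom.toNatTrans.app b).hom.snd) :=
          Category.assoc _ _ _
      _ = y.map (d.isoBot.hom.toNatTrans.app b) ≫
            (y.map (ψ.hom.toNatTrans.app b).hom.fst ≫ (d'.fn.obj b).obj.iso.hom) := by rw [h1]
      _ = y.map (d.isoBot.hom.toNatTrans.app b ≫ (ψ.hom.toNatTrans.app b).hom.fst) ≫
            (d'.fn.obj b).obj.iso.hom := by rw [Functor.map_comp, Category.assoc]
      _ = y.map (d'.isoBot.hom.toNatTrans.app b) ≫ (d'.fn.obj b).obj.iso.hom := by rw [h]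

lemma homF_w_bot_app {d d' : sq.Lift} (φ : toF d ⟶ toF d') (b : ℬ.obj) :
    (y.map (d.isoBot.hom.toNatTrans.app b) ≫ (d.fn.obj b).obj.iso.hom) ≫
        f.map (φ.hom.toNatTrans.app b) =
      y.map (d'.isoBot.hom.toNatTrans.app b) ≫ (d'.fn.obj b).obj.iso.hom :=
  app_congr φ.w_bot b

lemma homF_w_top_app {d d' : sq.Lift} (φ : toF d ⟶ toF d') (a : 𝒜.obj) :
    φ.hom.toNatTrans.app (j.obj a) ≫ (d'.isoTop.hom.toNatTrans.app a).hom.snd =
      (d.isoTop.hom.toNatTrans.app a).hom.snd :=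
  app_congr φ.w_top a

/-- The first component of the morphism of lifts. -/
def α₁ (d d' : sq.Lift) :
    BasedFunctor.comp d.fn (FibCat.fpFst y f) ⟶ BasedFunctor.comp d'.fn (FibCat.fpFst y f) :=
  d.isoBot.inv ≫ d'.isoBot.hom

lemma α₁_app (d d' : sq.Lift) (b : ℬ.obj) :
    (α₁ d d').toNatTrans.app b =
      d.isoBot.inv.toNatTrans.app b ≫ d'.isoBot.hom.toNatTrans.app b := rfl

/-- A morphism of the induced lifts comes from a morphism of lifts. -/
def ofFHom {d d' : sq.Lift} (φ : toF d ⟶ toF d') : d ⟶ d' where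
  hom := fpHomMk (A := d.fn) (B := d'.fn) (α₁ d d') φ.hom (fun b => by
    have h := homF_w_bot_app φ b
    have h3 : y.map (d.isoBot.inv.toNatTrans.app b) ≫ y.map (d.isoBot.hom.toNatTrans.app b) =
        𝟙 _ := by
      rw [← Functor.map_comp, iso_inv_hom_app, CategoryTheory.Functor.map_id]
    calc y.map ((α₁ d d').toNatTrans.app b) ≫ (d'.fn.obj b).obj.iso.hom
        = y.map (d.isoBot.inv.toNatTrans.app b) ≫
            (y.map (d'.isoBot.hom.toNatTrans.app b) ≫ (d'.fn.obj b).obj.iso.hom) := by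
          rw [α₁_app, Functor.map_comp, Category.assoc]
      _ = y.map (d.isoBot.inv.toNatTrans.app b) ≫
            ((y.map (d.isoBot.hom.toNatTrans.app b) ≫ (d.fn.obj b).obj.iso.hom) ≫
              f.map (φ.hom.toNatTrans.app b)) := by rw [h]
      _ = (y.map (d.isoBot.inv.toNatTrans.app b) ≫ y.map (d.isoBot.hom.toNatTrans.app b)) ≫
            ((d.fn.obj b).obj.iso.hom ≫ f.map (φ.hom.toNatTrans.app b)) := by
          simp only [Category.assoc]
      _ = (d.fn.obj b).obj.iso.hom ≫ f.map (φ.hom.toNatTrans.app b) := by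
          rw [h3, Category.id_comp])
  w_top := by
    apply fpHom_ext
    · intro a
      change (d.isoBot.inv.toNatTrans.app (j.obj a) ≫ d'.isoBot.hom.toNatTrans.app (j.obj a)) ≫
        (d'.isoTop.hom.toNatTrans.app a).hom.fst = (d.isoTop.hom.toNatTrans.app a).hom.fst
      rw [Category.assoc, lift_w_app d' a, ← lift_w_app d a, iso_inv_hom_app_assoc]
    · intro a
      exact homF_w_top_app φ a
  w_bot := by
    apply hom_ext'; intro b
    change d.isoBot.hom.toNatTrans.app b ≫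
      (d.isoBot.inv.toNatTrans.app b ≫ d'.isoBot.hom.toNatTrans.app b) =
        d'.isoBot.hom.toNatTrans.app b
    rw [iso_hom_inv_app_assoc]

theorem liftsUniquely_fpFst (j : 𝒜 ⥤ᵇ ℬ) (f : 𝒳 ⥤ᵇ 𝒴) (y : 𝒴' ⥤ᵇ 𝒴)
    (hf : LiftsUniquely j f) : LiftsUniquely j (FibCat.fpFst y f) := by
  intro sq
  obtain ⟨⟨dF⟩, uF⟩ := hf (sqF sq)
  refine ⟨⟨liftOfF dF⟩, ?_⟩
  intro d d'
  obtain ⟨u⟩ := uF (toF d) (toF d')
  refine ⟨⟨⟨ofFHom u.default⟩, ?_⟩⟩
  intro ψ
  have h1 : toFHom ψ = u.default := u.uniq _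
  have h1' : BasedCategory.whiskerRight ψ.hom (FibCat.fpSnd y f) = u.default.hom :=
    congrArg Sq.Lift.Hom.hom h1
  apply Sq.Lift.hom_ext
  apply fpHom_ext
  · intro b
    have h := app_congr ψ.w_bot b
    change d.isoBot.hom.toNatTrans.app b ≫ (ψ.hom.toNatTrans.app b).hom.fst =
      d'.isoBot.hom.toNatTrans.app b at h
    change (ψ.hom.toNatTrans.app b).hom.fst =
      d.isoBot.inv.toNatTrans.app b ≫ d'.isoBot.hom.toNatTrans.app b
    rw [← h, iso_inv_hom_app_assoc]
  · intro b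
    exact app_congr h1' b

end Groth.Agent.Lib.Helper43.LiftSqBC
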