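import Groth.Agent.Lib.Helper43.NAH1
import Mathlib.CategoryTheory.Sites.CoversTop.Basic

/-! Čech classes of torsors under a sheaf of groups on a site. -/

set_option autoImplicit false
set_option linter.unusedSectionVars false

universe w' w v u

open CategoryTheory Opposite

namespace Groth.Agent.Lib.Helper43.NAH1

open NonAbH1 NonAbH1.GSheaf

variable {C : Type u} [Category.{v} C] {J : GrothendieckTopology C} {G : Sheaf J GrpCat.{w}}

section Cocycle

variable (P : GSheaf G) (hP : P.IsPseudoTorsor) {I : Type w'} (U : I → C)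
  (s : ∀ i, P.P.obj.obj (op (U i)))

/-- the difference of two sections of a pseudo-torsor -/
noncomputable def diff {T : Cᵒᵖ} (p q : P.P.obj.obj T) : G.obj.obj T := (hP T p q).choose

include hP in
lemma diff_smul {T : Cᵒᵖ} (p q : P.P.obj.obj T) : P.smul (diff P hP p q) p = q :=
  (hP T p q).choose_spec.1

lemma eq_diff {T : Cᵒᵖ} (p q : P.P.obj.obj T) (g : G.obj.obj T) (h : P.smul g p = q) :
    g = diff P hP p q :=
  (hP T p q).choose_spec.2 g h

include hP in
lemma smul_left_injective {T : Cᵒᵖ} (p : P.P.obj.obj T) (g g' : G.obj.obj T)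
    (h : P.smul g p = P.smul g' p) : g = g' :=
  (eq_diff P hP p _ g h).trans (eq_diff P hP p _ g' rfl).symm

/-- the cocycle cut out by a family of sections of a pseudo-torsor -/
noncomputable def cocycleOf : PresheafOfGroups.OneCocycle G.obj U where
  ev i j T a b := diff P hP (P.P.obj.map b.op (s j)) (P.P.obj.map a.op (s i))
  ev_precomp i j T T' φ a b := by
    apply eq_diff
    rw [op_comp, map_comp_apply', ← P.map_smul, diff_smul P hP, op_comp, map_comp_apply']
  ev_trans i j k T a b c := by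
    apply eq_diff
    rw [P.mul_smul, diff_smul P hP, diff_smul P hP]

lemma isCocycleOf_cocycleOf : P.IsCocycleOf U s (cocycleOf P hP U s) := by
  intro i j T a b
  exact diff_smul P hP _ _

include hP in
lemma cohomologous_of_isCocycleOf {s s' : ∀ i, P.P.obj.obj (op (U i))}
    {γ γ' : PresheafOfGroups.OneCocycle G.obj U}
    (h : P.IsCocycleOf U s γ) (h' : P.IsCocycleOf U s' γ') :
    PresheafOfGroups.OneCocycle.IsCohomologous γ γ' := by
  refine ⟨fun i => diff P hP (s i) (s' i), ?_⟩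
  intro i j T a b
  apply smul_left_injective P hP (P.P.obj.map b.op (s j))
  rw [P.mul_smul, h i j a b, ← P.map_smul, diff_smul P hP, P.mul_smul, ← P.map_smul,
    diff_smul P hP, h' i j a b]

include hP in
theorem existsUnique_hasCechClass (hne : P.TrivialisedBy U) :
    ∃! c : PresheafOfGroups.H1 G.obj U, P.HasCechClass U c := by
  classical
  let s₀ : ∀ i, P.P.obj.obj (op (U i)) := fun i => (hne i).some
  refine ⟨(cocycleOf P hP U s₀).class, ⟨s₀, _, isCocycleOf_cocycleOf P hP U s₀, rfl⟩, ?_⟩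
  rintro c ⟨s, γ, hγ, rfl⟩
  exact Quot.sound (cohomologous_of_isCocycleOf P hP U hγ (isCocycleOf_cocycleOf P hP U s₀))

end Cocycle

/-! ### Relational gluing -/

lemma glue_rel (Q : Sheaf J (Type w)) {X : C} (S : Sieve X) (hS : S ∈ J X)
    (ρ : ∀ ⦃T : C⦄ (_ : T ⟶ X), Q.obj.obj (op T) → Prop)
    (hex : ∀ ⦃T : C⦄ (a : T ⟶ X), S a → ∃ y, ρ a y)
    (huniq : ∀ ⦃T : C⦄ (a : T ⟶ X) (y y' : Q.obj.obj (op T)), S a → ρ a y → ρ a y' → y = y')
    (hcompat : ∀ ⦃T T' : C⦄ (a : T ⟶ X) (h : T' ⟶ T) (y : Q.obj.obj (op T)), S a → ρ a y →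
      ρ (h ≫ a) (Q.obj.map h.op y)) :
    ∃ q : Q.obj.obj (op X), (∀ ⦃T : C⦄ (a : T ⟶ X), S a → ρ a (Q.obj.map a.op q)) ∧
      ∀ q' : Q.obj.obj (op X), (∀ ⦃T : C⦄ (a : T ⟶ X), S a → ρ a (Q.obj.map a.op q')) → q' = q := by
  classical
  choose y hy using hex
  obtain ⟨q, hq⟩ := glue Q S hS y (by
    intro T T' a h ha
    exact huniq (h ≫ a) _ _ (S.downward_closed ha h) (hcompat a h _ ha (hy a ha)) (hy _ _))
  refine ⟨q, fun T a ha => ?_, fun q' hq' => ?_⟩
  · rw [hq a ha]; exact hy a ha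
  · apply sep Q S hS
    intro T a ha
    rw [hq a ha]
    exact huniq a _ _ ha (hq' a ha) (hy a ha)

/-! ### Transfer between two pseudo-torsors with the same cocycle -/

section Transfer

variable (P Q : GSheaf G) (hP : P.IsPseudoTorsor) {I : Type w'} (U : I → C)
  (s : ∀ i, P.P.obj.obj (op (U i))) (s' : ∀ i, Q.P.obj.obj (op (U i)))
  (γ : PresheafOfGroups.OneCocycle G.obj U)

/-- local transfer of a section of `P` to a section of `Q` through the chart `(i, b)` -/
noncomputable def tr (i : I) {T : C} (b : T ⟶ U i) (z : P.P.obj.obj (op T)) : Q.P.obj.obj (op T) :=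
  Q.smul (diff P hP (P.P.obj.map b.op (s i)) z) (Q.P.obj.map b.op (s' i))

variable {U s s' γ}

include hP in
lemma diff_map {T T' : C} (h : T' ⟶ T) (x z : P.P.obj.obj (op T)) :
    G.obj.map h.op (diff P hP x z) = diff P hP (P.P.obj.map h.op x) (P.P.obj.map h.op z) := by
  apply eq_diff
  rw [← P.map_smul, diff_smul P hP]

lemma tr_indep (hγ : P.IsCocycleOf U s γ) (hγ' : Q.IsCocycleOf U s' γ) (i j : I) {T : C}
    (b : T ⟶ U i) (b' : T ⟶ U j) (z : P.P.obj.obj (op T)) :
    tr P Q hP U s s' i b z = tr P Q hP U s s' j b' z := by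
  unfold tr
  have h1 : diff P hP (P.P.obj.map b'.op (s j)) z =
      diff P hP (P.P.obj.map b.op (s i)) z * γ.ev i j b b' := by
    symm
    apply eq_diff
    rw [P.mul_smul, hγ i j b b', diff_smul P hP]
  rw [h1, Q.mul_smul, hγ' i j b b']

lemma tr_map (i : I) {T T' : C} (b : T ⟶ U i) (h : T' ⟶ T) (z : P.P.obj.obj (op T)) :
    Q.P.obj.map h.op (tr P Q hP U s s' i b z) =
      tr P Q hP U s s' i (h ≫ b) (P.P.obj.map h.op z) := by
  unfold tr
  rw [Q.map_smul, diff_map P hP h, op_comp, map_comp_apply', map_comp_apply']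

lemma tr_smul (i : I) {T : C} (b : T ⟶ U i) (g : G.obj.obj (op T)) (z : P.P.obj.obj (op T)) :
    tr P Q hP U s s' i b (P.smul g z) = Q.smul g (tr P Q hP U s s' i b z) := by
  unfold tr
  have h1 : diff P hP (P.P.obj.map b.op (s i)) (P.smul g z) =
      g * diff P hP (P.P.obj.map b.op (s i)) z := by
    symm
    apply eq_diff
    rw [P.mul_smul, diff_smul P hP]
  rw [h1, Q.mul_smul]

lemma tr_tr (hQ : Q.IsPseudoTorsor) (i : I) {T : C} (b : T ⟶ U i) (z : P.P.obj.obj (op T)) :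
    tr Q P hQ U s' s i b (tr P Q hP U s s' i b z) = z := by
  unfold tr
  have h1 : diff Q hQ (Q.P.obj.map b.op (s' i))
      (Q.smul (diff P hP (P.P.obj.map b.op (s i)) z) (Q.P.obj.map b.op (s' i))) =
      diff P hP (P.P.obj.map b.op (s i)) z := by
    symm
    apply eq_diff
    rfl
  rw [h1, diff_smul P hP]

variable (hU : J.CoversTop U) (hγ : P.IsCocycleOf U s γ) (hγ' : Q.IsCocycleOf U s' γ)

include hU hγ hγ' in
/-- the global transfer map exists and is characterised locally -/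
lemma exists_transfer (X : C) (p : P.P.obj.obj (op X)) :
    ∃ q : Q.P.obj.obj (op X),
      (∀ ⦃T : C⦄ (a : T ⟶ X) (i : I) (b : T ⟶ U i),
        Q.P.obj.map a.op q = tr P Q hP U s s' i b (P.P.obj.map a.op p)) ∧
      ∀ q' : Q.P.obj.obj (op X), (∀ ⦃T : C⦄ (a : T ⟶ X) (i : I) (b : T ⟶ U i),
        Q.P.obj.map a.op q' = tr P Q hP U s s' i b (P.P.obj.map a.op p)) → q' = q := by
  obtain ⟨q, hq, hq'⟩ := glue_rel Q.P (Sieve.ofObjects U X) (hU X)
    (fun T a y => ∀ (i : I) (b : T ⟶ U i), y = tr P Q hP U s s' i b (P.P.obj.map a.op p))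
    (by
      rintro T a ⟨i₀, ⟨b₀⟩⟩
      exact ⟨tr P Q hP U s s' i₀ b₀ (P.P.obj.map a.op p), fun i b => tr_indep P Q hP hγ hγ' _ _ _ _ _⟩)
    (by
      rintro T a y y' ⟨i₀, ⟨b₀⟩⟩ hy hy'
      rw [hy i₀ b₀, hy' i₀ b₀])
    (by
      rintro T T' a h y ⟨i₀, ⟨b₀⟩⟩ hy i b
      rw [hy i₀ b₀, tr_map, op_comp, map_comp_apply']
      exact tr_indep P Q hP hγ hγ' _ _ _ _ _)
  refine ⟨q, fun T a i b => hq a ⟨i, ⟨b⟩⟩ i b, fun q' h => hq' q' (fun T a _ i b => h a i b)⟩

end Transfer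

section TransferHom

variable (P Q : GSheaf G) (hP : P.IsPseudoTorsor) {I : Type w'} {U : I → C}
  {s : ∀ i, P.P.obj.obj (op (U i))} {s' : ∀ i, Q.P.obj.obj (op (U i))}
  {γ : PresheafOfGroups.OneCocycle G.obj U}
  (hU : J.CoversTop U) (hγ : P.IsCocycleOf U s γ) (hγ' : Q.IsCocycleOf U s' γ)

/-- the transfer function on sections -/
noncomputable def transferFun (X : Cᵒᵖ) (p : P.P.obj.obj X) : Q.P.obj.obj X :=
  (exists_transfer P Q hP hU hγ hγ' X.unop p).choose

lemma transferFun_spec (X : Cᵒᵖ) (p : P.P.obj.obj X) ⦃T : C⦄ (a : T ⟶ X.unop) (i : I)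
    (b : T ⟶ U i) :
    Q.P.obj.map a.op (transferFun P Q hP hU hγ hγ' X p) =
      tr P Q hP U s s' i b (P.P.obj.map a.op p) :=
  (exists_transfer P Q hP hU hγ hγ' X.unop p).choose_spec.1 a i b

lemma transferFun_uniq (X : Cᵒᵖ) (p : P.P.obj.obj X) (q' : Q.P.obj.obj X)
    (h : ∀ ⦃T : C⦄ (a : T ⟶ X.unop) (i : I) (b : T ⟶ U i),
      Q.P.obj.map a.op q' = tr P Q hP U s s' i b (P.P.obj.map a.op p)) :
    q' = transferFun P Q hP hU hγ hγ' X p :=
  (exists_transfer P Q hP hU hγ hγ' X.unop p).choose_spec.2 q' h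

/-- the transfer morphism of `G`-sheaves -/
noncomputable def transferHom : P ⟶ Q where
  hom := mkHom (transferFun P Q hP hU hγ hγ') (by
    intro X Y f p
    symm
    apply transferFun_uniq
    intro T a i b
    have h1 : Q.P.obj.map a.op (Q.P.obj.map f (transferFun P Q hP hU hγ hγ' X p)) =
        Q.P.obj.map (a ≫ f.unop).op (transferFun P Q hP hU hγ hγ' X p) := by
      rw [op_comp, map_comp_apply']; rfl
    have h2 : P.P.obj.map a.op (P.P.obj.map f p) = P.P.obj.map (a ≫ f.unop).op p := by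
      rw [op_comp, map_comp_apply']; rfl
    rw [h1, h2]
    exact transferFun_spec P Q hP hU hγ hγ' X p (a ≫ f.unop) i b)
  map_smul := by
    intro X g p
    rw [mkHom_app, mkHom_app]
    symm
    apply transferFun_uniq
    intro T a i b
    rw [Q.map_smul, P.map_smul, tr_smul, transferFun_spec P Q hP hU hγ hγ' X p a i b]

lemma transferHom_app (X : Cᵒᵖ) (p : P.P.obj.obj X) :
    (transferHom P Q hP hU hγ hγ').hom.hom.app X p = transferFun P Q hP hU hγ hγ' X p := rfl

include hU in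
lemma transfer_transfer (hQ : Q.IsPseudoTorsor) (X : Cᵒᵖ) (p : P.P.obj.obj X) :
    transferFun Q P hQ hU hγ' hγ X (transferFun P Q hP hU hγ hγ' X p) = p := by
  apply sep P.P (Sieve.ofObjects U X.unop) (hU X.unop)
  rintro T a ⟨i, ⟨b⟩⟩
  rw [transferFun_spec Q P hQ hU hγ' hγ X _ a i b, transferFun_spec P Q hP hU hγ hγ' X p a i b,
    tr_tr]

include hU hP hγ hγ' in
theorem nonempty_iso_of_common_cocycle (hQ : Q.IsPseudoTorsor) : Nonempty (P ≅ Q) := by
  refine ⟨isoOfBijective (transferHom P Q hP hU hγ hγ') fun X => ⟨?_, ?_⟩⟩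
  · intro p p' h
    have h' : transferFun P Q hP hU hγ hγ' X p = transferFun P Q hP hU hγ hγ' X p' := h
    rw [← transfer_transfer P Q hP hU hγ hγ' hQ X p, h', transfer_transfer P Q hP hU hγ hγ' hQ X p']
  · intro q
    exact ⟨transferFun Q P hQ hU hγ' hγ X q, transfer_transfer Q P hQ hU hγ' hγ hP X q⟩

end TransferHom

/-- change the sections of `Q` so that its cocycle becomes a given cohomologous one -/
lemma exists_sections_of_cohomologous (Q : GSheaf G) {I : Type w'} {U : I → C}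
    {s' : ∀ i, Q.P.obj.obj (op (U i))} {γ γ' : PresheafOfGroups.OneCocycle G.obj U}
    (hγ' : Q.IsCocycleOf U s' γ') (h : PresheafOfGroups.OneCocycle.IsCohomologous γ γ') :
    ∃ s'' : ∀ i, Q.P.obj.obj (op (U i)), Q.IsCocycleOf U s'' γ := by
  obtain ⟨α, hα⟩ := h
  refine ⟨fun i => Q.smul (α i)⁻¹ (s' i), ?_⟩
  intro i j T a b
  rw [Q.map_smul, Q.map_smul, ← Q.mul_smul, map_inv, map_inv]
  have h1 : γ.ev i j a b * (G.obj.map b.op (α j))⁻¹ = (G.obj.map a.op (α i))⁻¹ * γ'.ev i j a b := by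
    have := hα i j a b
    rw [eq_inv_mul_iff_mul_eq, ← mul_assoc, this, mul_inv_cancel_right]
  rw [h1, Q.mul_smul, hγ' i j a b]

theorem nonempty_iso_of_hasCechClass {I : Type w'} (U : I → C) (hU : J.CoversTop U)
    (P Q : Torsor G) (c : PresheafOfGroups.H1 G.obj U) (hPc : P.HasCechClass U c)
    (hQc : Q.HasCechClass U c) : Nonempty (P.toGSheaf ≅ Q.toGSheaf) := by
  obtain ⟨s, γ, hγ, rfl⟩ := hPc
  obtain ⟨s', γ', hγ', hc⟩ := hQc
  have hcoh : PresheafOfGroups.OneCocycle.IsCohomologous γ γ' := by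
    have h1 : Relation.EqvGen _ γ γ' := Quot.eqvGen_exact hc.symm
    exact ((PresheafOfGroups.OneCocycle.equivalence_isCohomologous G.obj U).eqvGen_iff).1 h1
  obtain ⟨s'', hγ''⟩ := exists_sections_of_cohomologous Q.toGSheaf hγ' hcoh
  exact nonempty_iso_of_common_cocycle P.toGSheaf Q.toGSheaf P.isTorsor.1 hU hγ hγ'' Q.isTorsor.1

end Groth.Agent.Lib.Helper43.NAH1
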