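import Groth.Agent.Lib.Helper43.NAH1Cech
import Mathlib.Algebra.Category.Grp.ForgetCorepresentable
import Mathlib.CategoryTheory.ShrinkYoneda

/-! The torsor obtained by twisting the trivial torsor by a Čech 1-cocycle. -/

set_option autoImplicit false
set_option linter.unusedSectionVars false

universe w' w v u

open CategoryTheory Opposite

namespace Groth.Agent.Lib.Helper43.NAH1

open NonAbH1 NonAbH1.GSheaf

variable {C : Type u} [Category.{v} C] {J : GrothendieckTopology C} (G : Sheaf J GrpCat.{w})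

/-- the underlying presheaf of sets of a sheaf of groups is a sheaf (any universes) -/
lemma isSheaf_forget : Presieve.IsSheaf J (G.obj ⋙ forget GrpCat.{w}) :=
  Presieve.isSheaf_iso J (Functor.isoWhiskerLeft G.obj GrpCat.coyonedaObjIsoForget)
    (G.property (GrpCat.of (ULift.{w} (Multiplicative ℤ))))

/-- the underlying sheaf of sets -/
def setSheaf : Sheaf J (Type w) :=
  ⟨G.obj ⋙ forget GrpCat.{w}, (isSheaf_iff_isSheaf_of_type J _).2 (isSheaf_forget G)⟩

variable {G}

lemma sepG {X : C} (S : Sieve X) (hS : S ∈ J X) (x y : G.obj.obj (op X))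
    (h : ∀ ⦃V : C⦄ (a : V ⟶ X), S a → G.obj.map a.op x = G.obj.map a.op y) : x = y :=
  sep (setSheaf G) S hS x y h

lemma glueG {X : C} (S : Sieve X) (hS : S ∈ J X)
    (x : ∀ ⦃V : C⦄ (a : V ⟶ X), S a → G.obj.obj (op V))
    (hx : ∀ ⦃V W : C⦄ (a : V ⟶ X) (g : W ⟶ V) (ha : S a),
      G.obj.map g.op (x a ha) = x (g ≫ a) (S.downward_closed ha g)) :
    ∃ t : G.obj.obj (op X), ∀ ⦃V : C⦄ (a : V ⟶ X) (ha : S a), G.obj.map a.op t = x a ha :=
  glue (setSheaf G) S hS x hx

lemma mapG_comp {X Y Z : C} (f : X ⟶ Y) (g : Y ⟶ Z) (x : G.obj.obj (op Z)) :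
    G.obj.map (f ≫ g).op x = G.obj.map f.op (G.obj.map g.op x) := by
  rw [op_comp, G.obj.map_comp]; rfl

lemma mapG_id {X : C} (x : G.obj.obj (op X)) : G.obj.map (𝟙 X).op x = x := by
  rw [op_id, G.obj.map_id]; rfl

section Twist

variable {I : Type w'} {U : I → C} (γ : PresheafOfGroups.OneCocycle G.obj U)

/-- sections of the twisted torsor over `X` (in a large universe) -/
@[ext]
structure TwSec (X : C) where
  /-- the coordinates of the section in all charts -/
  t : ∀ ⦃T : C⦄ (_ : T ⟶ X) (i : I) (_ : T ⟶ U i), G.obj.obj (op T)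
  res : ∀ ⦃T T' : C⦄ (h : T' ⟶ T) (a : T ⟶ X) (i : I) (b : T ⟶ U i),
    G.obj.map h.op (t a i b) = t (h ≫ a) i (h ≫ b)
  chg : ∀ ⦃T : C⦄ (a : T ⟶ X) (i j : I) (b : T ⟶ U i) (b' : T ⟶ U j),
    t a i b = t a j b' * γ.ev j i b' b

variable {γ}

/-- restriction of twisted sections -/
def TwSec.map {X Y : C} (f : Y ⟶ X) (x : TwSec γ X) : TwSec γ Y where
  t T a i b := x.t (a ≫ f) i b
  res T T' h a i b := by
    rw [x.res h (a ≫ f) i b, Category.assoc]
  chg T a i j b b' := x.chg (a ≫ f) i j b b'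

/-- the action of `G` on twisted sections -/
def TwSec.smul {X : C} (g : G.obj.obj (op X)) (x : TwSec γ X) : TwSec γ X where
  t T a i b := G.obj.map a.op g * x.t a i b
  res T T' h a i b := by
    rw [map_mul, x.res h a i b, ← mapG_comp]
  chg T a i j b b' := by
    rw [x.chg a i j b b', mul_assoc]

lemma TwSec.map_t {X Y : C} (f : Y ⟶ X) (x : TwSec γ X) ⦃T : C⦄ (a : T ⟶ Y) (i : I)
    (b : T ⟶ U i) : (x.map f).t a i b = x.t (a ≫ f) i b := rfl

lemma TwSec.smul_t {X : C} (g : G.obj.obj (op X)) (x : TwSec γ X) ⦃T : C⦄ (a : T ⟶ X) (i : I)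
    (b : T ⟶ U i) : (x.smul g).t a i b = G.obj.map a.op g * x.t a i b := rfl

lemma TwSec.map_id {X : C} (x : TwSec γ X) : x.map (𝟙 X) = x := by
  ext T a i b
  rw [TwSec.map_t, Category.comp_id]

lemma TwSec.map_comp {X Y Z : C} (f : Y ⟶ X) (g : Z ⟶ Y) (x : TwSec γ X) :
    x.map (g ≫ f) = (x.map f).map g := by
  ext T a i b
  rw [TwSec.map_t, TwSec.map_t, TwSec.map_t, Category.assoc]

lemma TwSec.one_smul {X : C} (x : TwSec γ X) : x.smul 1 = x := by
  ext T a i b
  rw [TwSec.smul_t, map_one, one_mul]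

lemma TwSec.mul_smul {X : C} (g h : G.obj.obj (op X)) (x : TwSec γ X) :
    x.smul (g * h) = (x.smul h).smul g := by
  ext T a i b
  rw [TwSec.smul_t, TwSec.smul_t, TwSec.smul_t, map_mul, mul_assoc]

lemma TwSec.map_smul {X Y : C} (f : Y ⟶ X) (g : G.obj.obj (op X)) (x : TwSec γ X) :
    (x.smul g).map f = (x.map f).smul (G.obj.map f.op g) := by
  ext T a i b
  rw [TwSec.map_t, TwSec.smul_t, TwSec.smul_t, TwSec.map_t, ← mapG_comp]

variable (γ)

/-- the (large) presheaf of twisted sections -/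
def TwF : Cᵒᵖ ⥤ Type (max u v w' w) where
  obj X := TwSec γ X.unop
  map f := ↾(fun x => x.map f.unop)
  map_id X := by
    apply ConcreteCategory.hom_ext
    intro x
    exact TwSec.map_id (X := X.unop) x
  map_comp f g := by
    apply ConcreteCategory.hom_ext
    intro x
    exact TwSec.map_comp f.unop g.unop x

/-- the canonical section over `U k` -/
def TwSec.chart (k : I) : TwSec γ (U k) where
  t _ a i b := γ.ev k i a b
  res _ _ h a i b := γ.ev_precomp k i h a b
  chg _ a i j b b' := (γ.ev_trans k j i a b' b).symm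

end Twist

section TwistTorsor

variable {I : Type w'} {U : I → C} {γ : PresheafOfGroups.OneCocycle G.obj U}

/-- local difference of two twisted sections -/
def dl {X : C} (x x' : TwSec γ X) ⦃T : C⦄ (a : T ⟶ X) (i : I) (b : T ⟶ U i) : G.obj.obj (op T) :=
  x'.t a i b * (x.t a i b)⁻¹

lemma dl_indep {X : C} (x x' : TwSec γ X) ⦃T : C⦄ (a : T ⟶ X) (i j : I) (b : T ⟶ U i)
    (b' : T ⟶ U j) : dl x x' a i b = dl x x' a j b' := by
  unfold dl
  rw [x.chg a i j b b', x'.chg a i j b b']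
  group

lemma dl_map {X : C} (x x' : TwSec γ X) ⦃T T' : C⦄ (h : T' ⟶ T) (a : T ⟶ X) (i : I) (b : T ⟶ U i) :
    G.obj.map h.op (dl x x' a i b) = dl x x' (h ≫ a) i (h ≫ b) := by
  unfold dl
  rw [map_mul, map_inv, x.res, x'.res]

theorem TwSec.existsUnique_smul (hU : J.CoversTop U) {X : C} (x x' : TwSec γ X) :
    ∃! g : G.obj.obj (op X), x.smul g = x' := by
  obtain ⟨g, hg, hg'⟩ := glue_rel (setSheaf G) (Sieve.ofObjects U X) (hU X)
    (fun T a y => ∀ (i : I) (b : T ⟶ U i), y = dl x x' a i b)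
    (by
      rintro T a ⟨i₀, ⟨b₀⟩⟩
      exact ⟨dl x x' a i₀ b₀, fun i b => dl_indep x x' a _ _ _ _⟩)
    (by
      rintro T a y y' ⟨i₀, ⟨b₀⟩⟩ hy hy'
      rw [hy i₀ b₀, hy' i₀ b₀])
    (by
      rintro T T' a h y ⟨i₀, ⟨b₀⟩⟩ hy i b
      rw [hy i₀ b₀]
      change G.obj.map h.op (dl x x' a i₀ b₀) = _
      rw [dl_map]
      exact dl_indep x x' _ _ _ _ _)
  refine ⟨g, ?_, ?_⟩
  · ext T a i b
    have := hg a ⟨i, ⟨b⟩⟩ i b
    change G.obj.map a.op g = dl x x' a i b at this
    rw [TwSec.smul_t, this]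
    unfold dl
    rw [inv_mul_cancel_right]
  · intro g' hg''
    apply hg'
    intro T a _ i b
    change G.obj.map a.op g' = dl x x' a i b
    have := congrArg (fun z : TwSec γ X => z.t a i b) hg''
    simp only [TwSec.smul_t] at this
    unfold dl
    rw [← this, mul_inv_cancel_right]

end TwistTorsor

section TwistSheaf

variable {I : Type w'} {U : I → C} (γ : PresheafOfGroups.OneCocycle G.obj U)

lemma TwF_map_apply {X Y : Cᵒᵖ} (f : X ⟶ Y) (x : TwSec γ X.unop) :
    (TwF γ).map f x = x.map f.unop := rfl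

theorem isSheaf_TwF : Presieve.IsSheaf J (TwF γ) := by
  intro X S hS x hx
  rw [Presieve.compatible_iff_sieveCompatible] at hx
  -- reformulate the family
  have hcomp : ∀ ⦃Y Z : C⦄ (f : Y ⟶ X) (g : Z ⟶ Y) (hf : S f),
      x (g ≫ f) (S.downward_closed hf g) = (x f hf).map g := fun Y Z f g hf => hx f g hf
  have hcongr : ∀ ⦃Y : C⦄ (f f' : Y ⟶ X) (hf : S f) (hf' : S f'), f = f' → x f hf = x f' hf' := by
    intro Y f f' hf hf' e; subst e; rfl
  have hcongr' : ∀ ⦃Y : C⦄ (f f' : Y ⟶ X) (hf : S f) (hf' : S f') (_ : f = f') (i : I)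
      (b b' : Y ⟶ U i) (_ : b = b'), (x f hf).t (𝟙 Y) i b = (x f' hf').t (𝟙 Y) i b' := by
    intro Y f f' hf hf' e i b b' eb; subst e; subst eb; rfl
  -- the coordinates of the amalgamation
  have key : ∀ ⦃T : C⦄ (a : T ⟶ X) (i : I) (b : T ⟶ U i), ∃ y : G.obj.obj (op T),
      (∀ ⦃T' : C⦄ (h : T' ⟶ T) (hh : S (h ≫ a)),
        G.obj.map h.op y = (x (h ≫ a) hh).t (𝟙 T') i (h ≫ b)) ∧
      ∀ y' : G.obj.obj (op T), (∀ ⦃T' : C⦄ (h : T' ⟶ T) (hh : S (h ≫ a)),
        G.obj.map h.op y' = (x (h ≫ a) hh).t (𝟙 T') i (h ≫ b)) → y' = y := by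
    intro T a i b
    obtain ⟨y, hy, hy'⟩ := glue_rel (setSheaf G) (S.pullback a) (J.pullback_stable a hS)
      (fun T' h y => ∀ hh : S (h ≫ a), y = (x (h ≫ a) hh).t (𝟙 T') i (h ≫ b))
      (by
        intro T' h hh
        exact ⟨(x (h ≫ a) hh).t (𝟙 T') i (h ≫ b), fun _ => rfl⟩)
      (by
        intro T' h y y' hh hy hy'
        rw [hy hh, hy' hh])
      (by
        intro T' T'' h k y hh hy hkh
        rw [hy hh]
        change G.obj.map k.op ((x (h ≫ a) hh).t (𝟙 T') i (h ≫ b)) = _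
        rw [(x (h ≫ a) hh).res k (𝟙 T') i (h ≫ b)]
        have e1 : x ((k ≫ h) ≫ a) hkh = (x (h ≫ a) hh).map k := by
          rw [← hcomp (h ≫ a) k hh]
          exact hcongr _ _ _ _ (Category.assoc _ _ _)
        rw [e1, TwSec.map_t, Category.comp_id, Category.id_comp, Category.assoc])
    exact ⟨y, fun T' h hh => hy h hh hh, fun y' h' => hy' y' (fun T' h hh _ => h' h hh)⟩
  choose t ht ht' using key
  have hres : ∀ ⦃T T' : C⦄ (h : T' ⟶ T) (a : T ⟶ X) (i : I) (b : T ⟶ U i),
      G.obj.map h.op (t a i b) = t (h ≫ a) i (h ≫ b) := by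
    intro T T' h a i b
    apply ht'
    intro T'' k hk
    have hk' : S ((k ≫ h) ≫ a) := by rw [Category.assoc]; exact hk
    rw [← mapG_comp, ht a i b (k ≫ h) hk']
    exact hcongr' _ _ _ _ (Category.assoc _ _ _) _ _ _ (Category.assoc _ _ _)
  have hchg : ∀ ⦃T : C⦄ (a : T ⟶ X) (i j : I) (b : T ⟶ U i) (b' : T ⟶ U j),
      t a i b = t a j b' * γ.ev j i b' b := by
    intro T a i j b b'
    apply sepG (S.pullback a) (J.pullback_stable a hS)
    intro T' h hh
    rw [map_mul, ht a i b h hh, ht a j b' h hh, γ.ev_precomp]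
    exact (x (h ≫ a) hh).chg (𝟙 T') i j (h ≫ b) (h ≫ b')
  let z : TwSec γ X := ⟨t, hres, hchg⟩
  refine ⟨z, ?_, ?_⟩
  · intro Y f hf
    rw [TwF_map_apply]
    apply TwSec.ext
    funext T a i b
    change t (a ≫ f) i b = (x f hf).t a i b
    have h1 := ht (a ≫ f) i b (𝟙 T) (by rw [Category.id_comp]; exact S.downward_closed hf a)
    rw [mapG_id] at h1
    rw [h1]
    have e1 : x (𝟙 T ≫ a ≫ f) (by rw [Category.id_comp]; exact S.downward_closed hf a) =
        (x f hf).map a := by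
      rw [← hcomp f a hf]
      exact hcongr _ _ _ _ (Category.id_comp _)
    rw [e1, TwSec.map_t, Category.id_comp, Category.id_comp]
  · intro y hy
    apply TwSec.ext
    funext T a i b
    change TwSec.t y a i b = t a i b
    apply ht'
    intro T' h hh
    rw [y.res h a i b]
    have := hy (h ≫ a) hh
    rw [TwF_map_apply] at this
    rw [← this, TwSec.map_t, Category.id_comp]
    rfl

end TwistSheaf

section TwistSmall

variable {I : Type w'} {U : I → C} (γ : PresheafOfGroups.OneCocycle G.obj U)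

lemma small_TwSec (hU : J.CoversTop U) (X : C) : Small.{w} (TwSec γ X) := by
  by_cases h : Nonempty (TwSec γ X)
  · obtain ⟨x₀⟩ := h
    have hinj : Function.Injective
        (fun x : TwSec γ X => (TwSec.existsUnique_smul hU x₀ x).choose) := by
      intro x x' hxx'
      have h1 := (TwSec.existsUnique_smul hU x₀ x).choose_spec.1
      have h2 := (TwSec.existsUnique_smul hU x₀ x').choose_spec.1
      simp only at hxx'
      rw [← h1, ← h2, hxx']
    exact small_of_injective hinj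
  · rw [not_nonempty_iff] at h
    infer_instance

end TwistSmall

section TwistGSheaf

variable {I : Type w'} {U : I → C} (γ : PresheafOfGroups.OneCocycle G.obj U)
  [hsm : ∀ X : C, Small.{w} (TwSec γ X)]

/-- the small presheaf of twisted sections -/
noncomputable def TwP : Cᵒᵖ ⥤ Type w where
  obj X := Shrink.{w} (TwSec γ X.unop)
  map f := ↾(fun x => equivShrink _ (((equivShrink _).symm x).map f.unop))
  map_id X := by
    apply ConcreteCategory.hom_ext
    intro x
    change equivShrink _ (((equivShrink _).symm x).map (𝟙 X.unop)) = x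
    rw [TwSec.map_id, Equiv.apply_symm_apply]
  map_comp f g := by
    apply ConcreteCategory.hom_ext
    intro x
    change equivShrink _ (((equivShrink _).symm x).map (g.unop ≫ f.unop)) =
      equivShrink _ (((equivShrink _).symm
        (equivShrink _ (((equivShrink _).symm x).map f.unop))).map g.unop)
    rw [Equiv.symm_apply_apply, TwSec.map_comp]

lemma TwP_map_apply {X Y : Cᵒᵖ} (f : X ⟶ Y) (x : (TwP γ).obj X) :
    (TwP γ).map f x = equivShrink _ (((equivShrink (TwSec γ X.unop)).symm x).map f.unop) := rfl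

lemma TwP_map_mk {X Y : Cᵒᵖ} (f : X ⟶ Y) (x : TwSec γ X.unop) :
    (TwP γ).map f (equivShrink _ x) = equivShrink _ (x.map f.unop) := by
  rw [TwP_map_apply, Equiv.symm_apply_apply]

theorem isSheaf_TwP : Presieve.IsSheaf J (TwP γ) :=
  Presieve.isSheaf_of_nat_equiv (P₁ := TwF γ) (P₂ := TwP γ)
    (fun X => equivShrink (TwSec γ X))
    (fun X Y f x => (TwP_map_mk γ f.op x).symm) (isSheaf_TwF γ)

/-- the twisted `G`-sheaf -/
noncomputable def twGSheaf : GSheaf G where
  P := ⟨TwP γ, (isSheaf_iff_isSheaf_of_type J _).2 (isSheaf_TwP γ)⟩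
  smul {X} g p := equivShrink (TwSec γ X.unop) (((equivShrink (TwSec γ X.unop)).symm p).smul g)
  one_smul {X} p := by
    change equivShrink (TwSec γ X.unop) (((equivShrink (TwSec γ X.unop)).symm p).smul 1) = p
    rw [TwSec.one_smul, Equiv.apply_symm_apply]
  mul_smul {X} g h p := by
    change equivShrink (TwSec γ X.unop) (((equivShrink (TwSec γ X.unop)).symm p).smul (g * h)) =
      equivShrink (TwSec γ X.unop) (((equivShrink (TwSec γ X.unop)).symm
        (equivShrink (TwSec γ X.unop) (((equivShrink (TwSec γ X.unop)).symm p).smul h))).smul g)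
    rw [Equiv.symm_apply_apply, TwSec.mul_smul]
  map_smul {X Y} f g p := by
    change (TwP γ).map f (equivShrink (TwSec γ X.unop)
        (((equivShrink (TwSec γ X.unop)).symm p).smul g)) =
      equivShrink (TwSec γ Y.unop) (((equivShrink (TwSec γ Y.unop)).symm
        ((TwP γ).map f p)).smul (G.obj.map f g))
    rw [TwP_map_mk, TwP_map_apply, Equiv.symm_apply_apply, TwSec.map_smul]
    rfl

lemma twGSheaf_smul_mk {X : Cᵒᵖ} (g : G.obj.obj X) (x : TwSec γ X.unop) :
    (twGSheaf γ).smul g (equivShrink (TwSec γ X.unop) x) =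
      equivShrink (TwSec γ X.unop) (x.smul g) := by
  change equivShrink (TwSec γ X.unop) (((equivShrink (TwSec γ X.unop)).symm
    (equivShrink (TwSec γ X.unop) x)).smul g) = _
  rw [Equiv.symm_apply_apply]

lemma twGSheaf_map_mk {X Y : Cᵒᵖ} (f : X ⟶ Y) (x : TwSec γ X.unop) :
    (twGSheaf γ).P.obj.map f (equivShrink (TwSec γ X.unop) x) =
      equivShrink (TwSec γ Y.unop) (x.map f.unop) :=
  TwP_map_mk γ f x

theorem isPseudoTorsor_twGSheaf (hU : J.CoversTop U) : (twGSheaf γ).IsPseudoTorsor := by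
  intro X p q
  obtain ⟨p, rfl⟩ := (equivShrink (TwSec γ X.unop)).surjective p
  obtain ⟨q, rfl⟩ := (equivShrink (TwSec γ X.unop)).surjective q
  obtain ⟨g, hg, hg'⟩ := TwSec.existsUnique_smul hU p q
  refine ⟨g, ?_, ?_⟩
  · change (twGSheaf γ).smul g (equivShrink (TwSec γ X.unop) p) = _
    rw [twGSheaf_smul_mk, hg]
  · intro g' h'
    apply hg'
    rw [twGSheaf_smul_mk] at h'
    exact (equivShrink (TwSec γ X.unop)).injective h'

theorem locallyNonempty_twGSheaf (hU : J.CoversTop U) : (twGSheaf γ).LocallyNonempty := by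
  intro X
  refine ⟨Sieve.ofObjects U X, hU X, ?_⟩
  rintro V f ⟨i, ⟨b⟩⟩
  exact ⟨equivShrink (TwSec γ V) ((TwSec.chart γ i).map b)⟩

theorem isTorsor_twGSheaf (hU : J.CoversTop U) : (twGSheaf γ).IsTorsor :=
  ⟨isPseudoTorsor_twGSheaf γ hU, locallyNonempty_twGSheaf γ hU⟩

/-- the canonical sections of the twisted torsor -/
noncomputable def twSection (k : I) : (twGSheaf γ).P.obj.obj (op (U k)) :=
  equivShrink (TwSec γ (U k)) (TwSec.chart γ k)

theorem isCocycleOf_twSection : (twGSheaf γ).IsCocycleOf U (twSection γ) γ := by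
  intro i j T a b
  change (twGSheaf γ).smul (γ.ev i j a b)
      ((twGSheaf γ).P.obj.map b.op (equivShrink (TwSec γ (U j)) (TwSec.chart γ j))) =
    (twGSheaf γ).P.obj.map a.op (equivShrink (TwSec γ (U i)) (TwSec.chart γ i))
  rw [twGSheaf_map_mk, twGSheaf_map_mk]
  change (twGSheaf γ).smul (γ.ev i j a b)
      (equivShrink (TwSec γ (unop (op T))) ((TwSec.chart γ j).map b)) = _
  rw [twGSheaf_smul_mk]
  congr 1
  apply TwSec.ext
  funext T' a' l b''
  change G.obj.map a'.op (γ.ev i j a b) * γ.ev j l (a' ≫ b) b'' = γ.ev i l (a' ≫ a) b''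
  rw [γ.ev_precomp, γ.ev_trans]

end TwistGSheaf

theorem exists_torsor_hasCechClass {I : Type w'} (U : I → C) (hU : J.CoversTop U)
    (c : PresheafOfGroups.H1 G.obj U) :
    ∃ P : NonAbH1.Torsor G, P.TrivialisedBy U ∧ P.HasCechClass U c := by
  obtain ⟨γ, rfl⟩ : ∃ γ : PresheafOfGroups.OneCocycle G.obj U, γ.class = c :=
    Quot.exists_rep c
  haveI : ∀ X : C, Small.{w} (TwSec γ X) := small_TwSec γ hU
  refine ⟨⟨twGSheaf γ, isTorsor_twGSheaf γ hU⟩, fun i => ⟨twSection γ i⟩,
    ⟨twSection γ, γ, isCocycleOf_twSection γ, rfl⟩⟩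

end Groth.Agent.Lib.Helper43.NAH1
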