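import Mathlib

/-!
# Néron mapping property under smooth base change: Over-category bookkeeping
-/

set_option autoImplicit false
universe u

open CategoryTheory AlgebraicGeometry Limits

namespace Groth.Agent.Lib.Helper43.NeronBC

variable {S S' : Scheme.{u}} (g : S' ⟶ S) (U : S.Opens) (N : Over S) (Y' : Over S')

/-- `Y'` viewed over `S`. -/
abbrev Yb : Over S := Over.mk (Y'.hom ≫ g)

/-- the map `Y' ×_S U ⟶ g⁻¹U` -/
noncomputable def ψ : pullback (Y'.hom ≫ g) U.ι ⟶ (g ⁻¹ᵁ U).toScheme :=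
  (isPullback_morphismRestrict g U).lift (pullback.snd _ _) (pullback.fst _ _ ≫ Y'.hom)
    (by rw [Category.assoc]; exact pullback.condition.symm)

lemma ψ_ι : ψ g U Y' ≫ (g ⁻¹ᵁ U).ι = pullback.fst _ _ ≫ Y'.hom :=
  (isPullback_morphismRestrict g U).lift_snd _ _ _

/-- the map `Y' ×_S U ⟶ Y' ×_{S'} g⁻¹U` -/
noncomputable def φ : pullback (Y'.hom ≫ g) U.ι ⟶ pullback Y'.hom (g ⁻¹ᵁ U).ι :=
  pullback.lift (pullback.fst _ _) (ψ g U Y') (ψ_ι g U Y').symm

lemma φ_fst : φ g U Y' ≫ pullback.fst _ _ = pullback.fst _ _ := pullback.lift_fst _ _ _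

lemma φ_snd : φ g U Y' ≫ pullback.snd _ _ = ψ g U Y' := pullback.lift_snd _ _ _

/-- the map `Y' ×_{S'} g⁻¹U ⟶ Y' ×_S U` -/
noncomputable def φ' : pullback Y'.hom (g ⁻¹ᵁ U).ι ⟶ pullback (Y'.hom ≫ g) U.ι :=
  pullback.lift (pullback.fst _ _) (pullback.snd _ _ ≫ (g ∣_ U)) (by
    rw [Category.assoc, (isPullback_morphismRestrict g U).w, ← Category.assoc, ← Category.assoc,
      pullback.condition])

lemma φ'_fst : φ' g U Y' ≫ pullback.fst _ _ = pullback.fst _ _ := pullback.lift_fst _ _ _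

lemma φ'_φ : φ' g U Y' ≫ φ g U Y' = 𝟙 _ := by
  apply pullback.hom_ext
  · rw [Category.assoc, φ_fst, φ'_fst, Category.id_comp]
  · rw [Category.assoc, φ_snd, Category.id_comp, ← cancel_mono (g ⁻¹ᵁ U).ι, Category.assoc, ψ_ι,
      ← Category.assoc, φ'_fst, pullback.condition]

/-- the transpose of a morphism `Y' ⟶ N ×_S S'` over `S'`. -/
noncomputable def tr (f : Y' ⟶ (Over.pullback g).obj N) : Yb g Y' ⟶ N :=
  Over.homMk (f.left ≫ pullback.fst N.hom g) (by
    have h : f.left ≫ pullback.snd N.hom g = Y'.hom := Over.w f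
    change (f.left ≫ pullback.fst N.hom g) ≫ N.hom = Y'.hom ≫ g
    rw [Category.assoc, pullback.condition, ← Category.assoc, h])

lemma tr_left (f : Y' ⟶ (Over.pullback g).obj N) :
    (tr g N Y' f).left = f.left ≫ pullback.fst N.hom g := rfl

lemma pullback_map_left_fst {X : Scheme.{u}} (j : X ⟶ S) {A B : Over S} (k : A ⟶ B) :
    ((Over.pullback j).map k).left ≫ pullback.fst B.hom j = pullback.fst A.hom j ≫ k.left :=
  pullback.lift_fst _ _ _

lemma pullback_map_left_snd {X : Scheme.{u}} (j : X ⟶ S) {A B : Over S} (k : A ⟶ B) :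
    ((Over.pullback j).map k).left ≫ pullback.snd B.hom j = pullback.snd A.hom j :=
  pullback.lift_snd _ _ _

lemma pullback_map_ext {X : Scheme.{u}} (j : X ⟶ S) {A B : Over S} (k₁ k₂ : A ⟶ B)
    (h : pullback.fst A.hom j ≫ k₁.left = pullback.fst A.hom j ≫ k₂.left) :
    (Over.pullback j).map k₁ = (Over.pullback j).map k₂ := by
  apply Over.OverMorphism.ext
  apply pullback.hom_ext
  · rw [pullback_map_left_fst, pullback_map_left_fst, h]
  · rw [pullback_map_left_snd, pullback_map_left_snd]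

lemma tr_injective (f₁ f₂ : Y' ⟶ (Over.pullback g).obj N) (h : tr g N Y' f₁ = tr g N Y' f₂) :
    f₁ = f₂ := by
  apply Over.OverMorphism.ext
  apply pullback.hom_ext
  · have := congrArg (fun k => k.left) h
    exact this
  · have h1 : f₁.left ≫ pullback.snd N.hom g = Y'.hom := Over.w f₁
    have h2 : f₂.left ≫ pullback.snd N.hom g = Y'.hom := Over.w f₂
    rw [h1, h2]

theorem injective_of_injective
    (hN : Function.Injective (fun f : Yb g Y' ⟶ N => (Over.pullback U.ι).map f)) :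
    Function.Injective
      (fun f : Y' ⟶ (Over.pullback g).obj N => (Over.pullback (g ⁻¹ᵁ U).ι).map f) := by
  intro f₁ f₂ h
  apply tr_injective g N Y'
  apply hN
  change (Over.pullback U.ι).map (tr g N Y' f₁) = (Over.pullback U.ι).map (tr g N Y' f₂)
  apply pullback_map_ext
  rw [tr_left, tr_left]
  have h' : pullback.fst Y'.hom (g ⁻¹ᵁ U).ι ≫ f₁.left = pullback.fst Y'.hom (g ⁻¹ᵁ U).ι ≫ f₂.left := by
    have := congrArg (fun k => k.left ≫ pullback.fst _ _) h
    simp only [pullback_map_left_fst] at this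
    exact this
  change pullback.fst (Y'.hom ≫ g) U.ι ≫ f₁.left ≫ pullback.fst N.hom g =
    pullback.fst (Y'.hom ≫ g) U.ι ≫ f₂.left ≫ pullback.fst N.hom g
  rw [← φ_fst g U Y', Category.assoc, Category.assoc, ← Category.assoc (pullback.fst _ _), h',
    Category.assoc]

/-- the map over `U` induced by a map over `g⁻¹U`. -/
noncomputable def hb (h : (Over.pullback (g ⁻¹ᵁ U).ι).obj Y' ⟶
      (Over.pullback (g ⁻¹ᵁ U).ι).obj ((Over.pullback g).obj N)) :
    (Over.pullback U.ι).obj (Yb g Y') ⟶ (Over.pullback U.ι).obj N :=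
  Over.homMk (pullback.lift
    (φ g U Y' ≫ h.left ≫ pullback.fst (pullback.snd N.hom g) (g ⁻¹ᵁ U).ι ≫ pullback.fst N.hom g)
    (pullback.snd _ _) (by
      have hw : h.left ≫ pullback.snd (pullback.snd N.hom g) (g ⁻¹ᵁ U).ι =
        pullback.snd Y'.hom (g ⁻¹ᵁ U).ι := Over.w h
      simp only [Category.assoc]
      rw [pullback.condition, pullback.condition_assoc, reassoc_of% hw,
        ← Category.assoc (φ g U Y'), φ_snd, ← Category.assoc, ψ_ι, Category.assoc]
      exact pullback.condition)) (pullback.lift_snd _ _ _)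

lemma hb_left_fst (h : (Over.pullback (g ⁻¹ᵁ U).ι).obj Y' ⟶
      (Over.pullback (g ⁻¹ᵁ U).ι).obj ((Over.pullback g).obj N)) :
    (hb g U N Y' h).left ≫ pullback.fst N.hom U.ι =
      φ g U Y' ≫ h.left ≫ pullback.fst (pullback.snd N.hom g) (g ⁻¹ᵁ U).ι ≫
        pullback.fst N.hom g :=
  pullback.lift_fst _ _ _

theorem surjective_of_surjective
    (hN : Function.Surjective (fun f : Yb g Y' ⟶ N => (Over.pullback U.ι).map f)) :
    Function.Surjective
      (fun f : Y' ⟶ (Over.pullback g).obj N => (Over.pullback (g ⁻¹ᵁ U).ι).map f) := by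
  intro h
  obtain ⟨ft, hft⟩ := hN (hb g U N Y' h)
  have hft' : (Over.pullback U.ι).map ft = hb g U N Y' h := hft
  have hw : h.left ≫ pullback.snd (pullback.snd N.hom g) (g ⁻¹ᵁ U).ι =
    pullback.snd Y'.hom (g ⁻¹ᵁ U).ι := Over.w h
  have hftw : ft.left ≫ N.hom = Y'.hom ≫ g := Over.w ft
  let f : Y' ⟶ (Over.pullback g).obj N :=
    Over.homMk (pullback.lift ft.left Y'.hom hftw) (pullback.lift_snd _ _ _)
  have hf1 : f.left ≫ pullback.fst N.hom g = ft.left := pullback.lift_fst _ _ _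
  have hf2 : f.left ≫ pullback.snd N.hom g = Y'.hom := pullback.lift_snd _ _ _
  refine ⟨f, ?_⟩
  apply Over.OverMorphism.ext
  change ((Over.pullback (g ⁻¹ᵁ U).ι).map f).left = h.left
  apply pullback.hom_ext
  · rw [pullback_map_left_fst]
    apply pullback.hom_ext
    · rw [Category.assoc, hf1]
      have e := congrArg (fun k => k.left ≫ pullback.fst N.hom U.ι) hft'
      simp only [pullback_map_left_fst, hb_left_fst] at e
      have e2 : pullback.fst (Y'.hom ≫ g) U.ι ≫ ft.left =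
          φ g U Y' ≫ h.left ≫ pullback.fst (pullback.snd N.hom g) (g ⁻¹ᵁ U).ι ≫
            pullback.fst N.hom g := e
      calc pullback.fst Y'.hom (g ⁻¹ᵁ U).ι ≫ ft.left
          = (φ' g U Y' ≫ pullback.fst (Y'.hom ≫ g) U.ι) ≫ ft.left := by rw [φ'_fst]
        _ = φ' g U Y' ≫ (pullback.fst (Y'.hom ≫ g) U.ι ≫ ft.left) := Category.assoc _ _ _
        _ = φ' g U Y' ≫ (φ g U Y' ≫ h.left ≫
              pullback.fst (pullback.snd N.hom g) (g ⁻¹ᵁ U).ι ≫ pullback.fst N.hom g) := by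
            rw [e2]
        _ = (φ' g U Y' ≫ φ g U Y') ≫ h.left ≫
              pullback.fst (pullback.snd N.hom g) (g ⁻¹ᵁ U).ι ≫ pullback.fst N.hom g :=
            (Category.assoc _ _ _).symm
        _ = h.left ≫ pullback.fst (pullback.snd N.hom g) (g ⁻¹ᵁ U).ι ≫ pullback.fst N.hom g := by
            rw [φ'_φ, Category.id_comp]
    · rw [Category.assoc, hf2, Category.assoc]
      have this : pullback.fst (pullback.snd N.hom g) (g ⁻¹ᵁ U).ι ≫ pullback.snd N.hom g =
          pullback.snd (pullback.snd N.hom g) (g ⁻¹ᵁ U).ι ≫ (g ⁻¹ᵁ U).ι := pullback.condition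
      calc pullback.fst Y'.hom (g ⁻¹ᵁ U).ι ≫ Y'.hom
          = pullback.snd Y'.hom (g ⁻¹ᵁ U).ι ≫ (g ⁻¹ᵁ U).ι := pullback.condition
        _ = (h.left ≫ pullback.snd (pullback.snd N.hom g) (g ⁻¹ᵁ U).ι) ≫ (g ⁻¹ᵁ U).ι := by rw [hw]
        _ = h.left ≫ (pullback.snd (pullback.snd N.hom g) (g ⁻¹ᵁ U).ι ≫ (g ⁻¹ᵁ U).ι) :=
            Category.assoc _ _ _
        _ = h.left ≫ (pullback.fst (pullback.snd N.hom g) (g ⁻¹ᵁ U).ι ≫ pullback.snd N.hom g) := by
            rw [this]
  · rw [pullback_map_left_snd]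
    exact hw.symm

theorem bijective_of_bijective
    (hN : Function.Bijective (fun f : Yb g Y' ⟶ N => (Over.pullback U.ι).map f)) :
    Function.Bijective
      (fun f : Y' ⟶ (Over.pullback g).obj N => (Over.pullback (g ⁻¹ᵁ U).ι).map f) :=
  ⟨injective_of_injective g U N Y' hN.1, surjective_of_surjective g U N Y' hN.2⟩

end Groth.Agent.Lib.Helper43.NeronBC
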