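import Groth.Agent.Lib.Helper43.ClosedPushSet

/-!
# Left adjoints of restriction to an open (extension by the empty set), sheaves of sets
-/

set_option autoImplicit false
universe u
open CategoryTheory TopologicalSpace Opposite

namespace Groth.Agent.Lib.Helper43.OpenShriek

variable {X : TopCat.{u}} (U : Opens X)

/-- restriction to an open is left adjoint to pushforward along the inclusion -/
noncomputable def restrictPushAdj :
    U.sheafRestrict (C := Type u) ⊣ TopCat.Sheaf.pushforward (Type u) U.inclusion' :=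
  haveI := U.isOpenEmbedding.functor_isContinuous
  (U.isOpenEmbedding.isOpenMap.adjunction).sheafPushforwardContinuous (E := Type u)
    (Opens.grothendieckTopology ((Opens.toTopCat X).obj U)) (Opens.grothendieckTopology X)

theorem full_faithful (L : (TopCat.of U).Sheaf (Type u) ⥤ X.Sheaf (Type u))
    (adj : L ⊣ U.sheafRestrict (C := Type u)) : L.Full ∧ L.Faithful := by
  let t : Adjunction.Triple L (U.sheafRestrict (C := Type u))
      (TopCat.Sheaf.pushforward (Type u) U.inclusion') := ⟨adj, restrictPushAdj U⟩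
  have hFF : (TopCat.Sheaf.pushforward (Type u) U.inclusion').FullyFaithful := by
    haveI := ClosedPush.full_sheaf (C := Type u) U.isOpenEmbedding.isInducing
    haveI := ClosedPush.faithful_sheaf (C := Type u) U.isOpenEmbedding.isInducing
    exact Functor.FullyFaithful.ofFullyFaithful _
  let h := t.fullyFaithfulEquiv.symm hFF
  exact ⟨h.full, h.faithful⟩

/-- the presheaf `V ↦ (x ∉ V)` -/
def notMemPresheaf (x : X) : X.Presheaf (Type u) where
  obj V := ULift.{u} (PLift (x ∉ V.unop))
  map f := ↾(fun h => ⟨⟨fun hx => h.down.down (f.unop.le hx)⟩⟩)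
  map_id _ := by
    ext h
    exact Subsingleton.elim _ _
  map_comp _ _ := by
    ext h
    exact Subsingleton.elim _ _

instance (x : X) (V : (Opens X)ᵒᵖ) : Subsingleton ((notMemPresheaf x).obj V) :=
  inferInstanceAs (Subsingleton (ULift.{u} (PLift (x ∉ V.unop))))

theorem notMemPresheaf_isSheaf (x : X) : (notMemPresheaf x).IsSheaf := by
  rw [TopCat.Presheaf.isSheaf_iff_isSheafUniqueGluing_types]
  intro ι W sf _
  refine ⟨⟨⟨fun hx => ?_⟩⟩, fun a => Subsingleton.elim _ _, fun _ _ => Subsingleton.elim _ _⟩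
  obtain ⟨a, ha⟩ := Opens.mem_iSup.mp hx
  exact (sf a).down.down ha

/-- the sheaf `V ↦ (x ∉ V)` -/
def notMemSheaf (x : X) : X.Sheaf (Type u) := ⟨notMemPresheaf x, notMemPresheaf_isSheaf x⟩

theorem stalk_isEmpty_of_mem_essImage (L : (TopCat.of U).Sheaf (Type u) ⥤ X.Sheaf (Type u))
    (adj : L ⊣ U.sheafRestrict (C := Type u)) (G : X.Sheaf (Type u)) (hG : L.essImage G)
    (x : X) (hx : x ∉ U) : IsEmpty (G.presheaf.stalk x) := by
  obtain ⟨F, ⟨e⟩⟩ := hG
  have hnot : ∀ W : Opens U, x ∉ U.isOpenEmbedding.functor.obj W := by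
    rintro W ⟨w, -, rfl⟩
    exact hx w.2
  let ψ : F ⟶ (U.sheafRestrict (C := Type u)).obj (notMemSheaf x) :=
    ⟨{ app := fun W => ↾(fun _ => (⟨⟨hnot W.unop⟩⟩ : ULift.{u} (PLift _)))
       naturality := by
         intro W W' g
         ext s
         exact Subsingleton.elim (α := ULift.{u} (PLift _)) _ _ }⟩
  let φ : G ⟶ notMemSheaf x := e.inv ≫ (adj.homEquiv F (notMemSheaf x)).symm ψ
  refine ⟨fun g => ?_⟩
  obtain ⟨V, hxV, s, -⟩ := TopCat.Presheaf.exists_germ_eq G.1 g
  have h : ULift.{u} (PLift (x ∉ V)) := φ.1.app (op V) s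
  exact h.down.down hxV

section EssImage

open Groth.Agent.Lib.Helper43.ClosedPush

variable {U}

lemma jF_jinv_le (V : Opens X) :
    U.isOpenEmbedding.functor.obj ((Opens.map U.inclusion').obj V) ≤ V := by
  rw [Opens.functor_map_eq_inf]
  exact inf_le_left

lemma le_jF_jinv {V : Opens X} (h : V ≤ U) :
    V ≤ U.isOpenEmbedding.functor.obj ((Opens.map U.inclusion').obj V) := by
  rw [Opens.functor_map_eq_inf]
  exact le_inf le_rfl h

lemma le_of_section (G : X.Sheaf (Type u))
    (hst : ∀ x : X, x ∉ U → IsEmpty (G.presheaf.stalk x)) {V : Opens X}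
    (s : G.1.obj (op V)) : V ≤ U := by
  intro x hxV
  by_contra hxU
  exact (hst x hxU).false (TopCat.Presheaf.germ G.1 V x hxV s)

/-- reconstruction of a morphism from its restriction to `U`, on sections over opens inside `U` -/
lemma hom_formula {G T : X.Sheaf (Type u)} (φ : G ⟶ T) {V : Opens X} (hV : V ≤ U)
    (s : G.1.obj (op V)) :
    φ.1.app (op V) s = T.1.map (homOfLE (le_jF_jinv hV)).op
      (((U.sheafRestrict (C := Type u)).map φ).1.app (op ((Opens.map U.inclusion').obj V))
        (G.1.map (homOfLE (jF_jinv_le V)).op s)) := by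
  have h1 : ((U.sheafRestrict (C := Type u)).map φ).1.app (op ((Opens.map U.inclusion').obj V))
      (G.1.map (homOfLE (jF_jinv_le V)).op s) =
      T.1.map (homOfLE (jF_jinv_le V)).op (φ.1.app (op V) s) :=
    NatTrans.naturality_apply φ.1 (homOfLE (jF_jinv_le V)).op s
  rw [h1, thin_apply T.1 _ _ (𝟙 _), thin_apply_id]

theorem restrict_map_injective {G T : X.Sheaf (Type u)}
    (hst : ∀ x : X, x ∉ U → IsEmpty (G.presheaf.stalk x)) :
    Function.Injective (fun φ : G ⟶ T => (U.sheafRestrict (C := Type u)).map φ) := by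
  intro φ φ' h
  have h' : (U.sheafRestrict (C := Type u)).map φ = (U.sheafRestrict (C := Type u)).map φ' := h
  have key : ∀ (V : Opens X) (s : G.1.obj (op V)), φ.1.app (op V) s = φ'.1.app (op V) s := by
    intro V s
    have hV := le_of_section G hst s
    rw [hom_formula φ hV s, hom_formula φ' hV s, h']
  apply ObjectProperty.hom_ext
  ext V s
  exact key V.unop s

theorem restrict_map_surjective {G T : X.Sheaf (Type u)}
    (hst : ∀ x : X, x ∉ U → IsEmpty (G.presheaf.stalk x)) :
    Function.Surjective (fun φ : G ⟶ T => (U.sheafRestrict (C := Type u)).map φ) := by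
  intro ψ
  -- naturality of ψ in elementwise form
  have hψ : ∀ {W W' : Opens U} (h : W' ≤ W)
      (y : G.1.obj (op (U.isOpenEmbedding.functor.obj W))),
      ψ.1.app (op W') (G.1.map (U.isOpenEmbedding.functor.map (homOfLE h)).op y) =
        T.1.map (U.isOpenEmbedding.functor.map (homOfLE h)).op (ψ.1.app (op W) y) :=
    fun h y => NatTrans.naturality_apply ψ.1 (homOfLE h).op y
  let app : ∀ V : Opens X, G.1.obj (op V) → T.1.obj (op V) := fun V s =>
    T.1.map (homOfLE (le_jF_jinv (le_of_section G hst s))).op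
      (ψ.1.app (op ((Opens.map U.inclusion').obj V)) (G.1.map (homOfLE (jF_jinv_le V)).op s))
  have happ : ∀ (V : Opens X) (s : G.1.obj (op V)) (hV : V ≤ U), app V s =
      T.1.map (homOfLE (le_jF_jinv hV)).op
      (ψ.1.app (op ((Opens.map U.inclusion').obj V)) (G.1.map (homOfLE (jF_jinv_le V)).op s)) :=
    fun V s hV => rfl
  have hnat : ∀ {V V' : Opens X} (h : V' ≤ V) (s : G.1.obj (op V)),
      app V' (G.1.map (homOfLE h).op s) = T.1.map (homOfLE h).op (app V s) := by
    intro V V' h s
    have hV := le_of_section G hst s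
    rw [happ V s hV, happ V' _ (h.trans hV)]
    have hW : (Opens.map U.inclusion').obj V' ≤ (Opens.map U.inclusion').obj V :=
      ((Opens.map U.inclusion').map (homOfLE h)).le
    have e1 : G.1.map (homOfLE (jF_jinv_le V')).op (G.1.map (homOfLE h).op s) =
        G.1.map (U.isOpenEmbedding.functor.map (homOfLE hW)).op
          (G.1.map (homOfLE (jF_jinv_le V)).op s) := by
      rw [thin_apply G.1 _ _ ((homOfLE h).op ≫ (homOfLE (jF_jinv_le V')).op),
        thin_apply G.1 _ _ ((homOfLE h).op ≫ (homOfLE (jF_jinv_le V')).op)]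
    rw [e1, hψ hW]
    rw [thin_apply T.1 _ _ ((homOfLE (le_jF_jinv hV)).op ≫ (homOfLE h).op),
      thin_apply T.1 _ _ ((homOfLE (le_jF_jinv hV)).op ≫ (homOfLE h).op)]
  let φ : G ⟶ T := ⟨{
    app := fun V => ↾(app V.unop)
    naturality := by
      intro V V' g
      ext s
      have := hnat g.unop.le s
      exact this }⟩
  refine ⟨φ, ?_⟩
  apply ObjectProperty.hom_ext
  suffices key : ∀ (W : Opens U) (s : G.1.obj (op (U.isOpenEmbedding.functor.obj W))),
      app (U.isOpenEmbedding.functor.obj W) s = ψ.1.app (op W) s by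
    ext W s
    exact key W.unop s
  intro W s
  have hV : U.isOpenEmbedding.functor.obj W ≤ U := by
    rintro _ ⟨w, -, rfl⟩
    exact w.2
  rw [happ _ s hV]
  have hW : (Opens.map U.inclusion').obj (U.isOpenEmbedding.functor.obj W) ≤ W :=
    (Opens.map_functor_eq W).le
  have e1 : G.1.map (homOfLE (jF_jinv_le (U.isOpenEmbedding.functor.obj W))).op s =
      G.1.map (U.isOpenEmbedding.functor.map (homOfLE hW)).op s :=
    congrArg (fun f => G.1.map f s) (op_hom_subsingleton _ _)
  rw [e1, hψ hW, thin_apply T.1 _ _ (𝟙 _), thin_apply_id]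

theorem mem_essImage_of_stalk_isEmpty (L : (TopCat.of U).Sheaf (Type u) ⥤ X.Sheaf (Type u))
    (adj : L ⊣ U.sheafRestrict (C := Type u)) (G : X.Sheaf (Type u))
    (hst : ∀ x : X, x ∉ U → IsEmpty (G.presheaf.stalk x)) : L.essImage G := by
  have hiso : IsIso (adj.counit.app G) := by
    apply isIso_of_coyoneda_map_bijective
    intro T
    have hcomp : (fun g : G ⟶ T => (U.sheafRestrict (C := Type u)).map g) =
        (adj.homEquiv _ T) ∘ (fun g : G ⟶ T => adj.counit.app G ≫ g) := by
      funext g
      show _ = adj.homEquiv _ T (adj.counit.app G ≫ g)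
      rw [Adjunction.homEquiv_apply, Functor.map_comp, ← Category.assoc,
        adj.right_triangle_components, Category.id_comp]
    have hbij : Function.Bijective (fun g : G ⟶ T => (U.sheafRestrict (C := Type u)).map g) :=
      ⟨restrict_map_injective hst, restrict_map_surjective hst⟩
    rw [hcomp] at hbij
    exact (Equiv.comp_bijective _ (adj.homEquiv _ T)).mp hbij
  exact ⟨(U.sheafRestrict (C := Type u)).obj G, ⟨asIso (adj.counit.app G)⟩⟩

end EssImage

end Groth.Agent.Lib.Helper43.OpenShriek
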