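import Groth.Agent.Lib.Helper43.FibGrpdTop
import Mathlib.CategoryTheory.Sites.Over

/-!
# `𝒳/x ≌ C/p(x)` for `p` fibred in groupoids, and the localised topologies
-/

set_option autoImplicit false
universe v₂ u₂ v u

open CategoryTheory Functor

namespace Groth.Agent.Lib.Helper43.OverPost

variable {C : Type u} [Category.{v} C] {𝒳 : Type u₂} [Category.{v₂} 𝒳] (p : 𝒳 ⥤ C)
  (hp : FibCat.IsFibGrpd p) (J : GrothendieckTopology C) (x : 𝒳)

include hp in
theorem faithful_post : (Over.post p : Over x ⥤ Over (p.obj x)).Faithful where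
  map_injective := by
    intro a b m m' h
    have h1 : p.map m.left = p.map m'.left := congrArg (fun t => t.left) h
    haveI := hp.isStronglyCartesian b.hom
    haveI : p.IsHomLift (p.map m.left) m'.left := by rw [h1]; infer_instance
    apply Over.OverMorphism.ext
    apply IsStronglyCartesian.ext p (p.map b.hom) b.hom (p.map m.left)
    rw [Over.w m, Over.w m']

include hp in
lemma exists_lift_over {ya yb : 𝒳} (fa : ya ⟶ x) (fb : yb ⟶ x) (k : p.obj ya ⟶ p.obj yb)
    (hw : k ≫ p.map fb = p.map fa) : ∃ χ : ya ⟶ yb, χ ≫ fb = fa ∧ p.map χ = k := by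
  haveI := hp.isStronglyCartesian fb
  haveI : p.IsHomLift (k ≫ p.map fb) fa := by rw [hw]; infer_instance
  obtain ⟨χ, ⟨hχ1, hχ2⟩, -⟩ :=
    IsStronglyCartesian.universal_property' (p := p) (f := p.map fb) (φ := fb) k fa
  exact ⟨χ, hχ2, (IsHomLift.eq_of_isHomLift p k χ).symm⟩

include hp in
theorem full_post : (Over.post p : Over x ⥤ Over (p.obj x)).Full where
  map_surjective := by
    intro a b m
    obtain ⟨χ, hχ1, hχ2⟩ := exists_lift_over p hp x a.hom b.hom m.left (Over.w m)
    refine ⟨Over.homMk χ hχ1, ?_⟩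
    apply Over.OverMorphism.ext
    exact hχ2

include hp in
theorem essSurj_post : (Over.post p : Over x ⥤ Over (p.obj x)).EssSurj where
  mem_essImage := by
    intro g
    obtain ⟨V, f, rfl⟩ : ∃ (V : C) (f : V ⟶ p.obj x), g = Over.mk f := ⟨g.left, g.hom, rfl⟩
    obtain ⟨y, φ, hφ⟩ := hp.exists_lift (x := x) f
    have hw : p.obj y = V := IsHomLift.domain_eq p f φ
    subst hw
    have hf : f = p.map φ := IsHomLift.eq_of_isHomLift p f φ
    subst hf
    exact ⟨Over.mk φ, ⟨Iso.refl _⟩⟩

include hp in
theorem isEquivalence_post : (Over.post p : Over x ⥤ Over (p.obj x)).IsEquivalence := by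
  haveI := faithful_post p hp x
  haveI := full_post p hp x
  haveI := essSurj_post p hp x
  exact {}

include hp in
theorem mem_over_iff (a : Over x) (S : Sieve a) :
    S ∈ (p.restrictedTopology J).over x a ↔
      S.functorPushforward (Over.post p) ∈ (J.over (p.obj x)) ((Over.post p).obj a) := by
  rw [GrothendieckTopology.mem_over_iff, GrothendieckTopology.mem_over_iff,
    Groth.Agent.Lib.Helper43.FibGrpdTop.mem_restrictedTopology_iff p hp J]
  show ((S.functorPushforward (Over.forget x)).functorPushforward p) ∈ J _ ↔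
    ((S.functorPushforward (Over.post p)).functorPushforward (Over.forget _)) ∈ J _
  rw [← Sieve.functorPushforward_comp, ← Sieve.functorPushforward_comp]
  exact Iff.rfl

end Groth.Agent.Lib.Helper43.OverPost
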