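import Groth.Agent.Lib.Helper43.PosetCodimEmb
import Groth.Agent.Lib.Helper34.Catenary

/-!
# The two formulations of catenary posets agree; duality
-/

set_option autoImplicit false
universe u v

namespace Groth.Agent.Lib.Helper43.PosetCatDual

open Groth.Agent.Lib.Helper43.PosetCodim Groth.Agent.Lib.Helper34

variable {P : Type u} [PartialOrder P] {Q : Type v} [PartialOrder Q]

lemma posetCatenary_iff_catAt : PosetCatenary P ↔ ∀ a b : P, a ≤ b → CatAt a b := by
  constructor
  · rintro ⟨hb, hs⟩ a b hab
    obtain ⟨n, hn⟩ := hb a b hab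
    have hle : cP a b ≤ (n : ℕ∞) := by
      rw [cP_le_iff]
      intro s h1 h2
      rcases eq_or_lt_of_le h2 with e | hlt
      · exact_mod_cast hn s h1 e
      · have := hn (s.snoc b hlt) (by simpa using h1) (by simp)
        simp [RelSeries.snoc] at this
        have h' : s.length ≤ n := by omega
        exact_mod_cast h'
    have hne : cP a b ≠ ⊤ := ne_top_of_le_ne_top (ENat.natCast_ne_top _) hle
    refine ⟨hne, fun s h1 h2 hsat => ?_⟩
    obtain ⟨s0, g1, g2, g3, g4⟩ := exists_sat hab hne
    rw [← g3]
    have := hs s s0 (h1.trans g1.symm) (h2.trans g2.symm) hsat g4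
    exact_mod_cast this
  · intro h
    refine ⟨fun p q hpq => ?_, fun s t h1 h2 hs ht => ?_⟩
    · obtain ⟨n, hn⟩ := ENat.ne_top_iff_exists.mp (h p q hpq).1
      refine ⟨n, fun s h1 h2 => ?_⟩
      have := le_cP s h1 h2.le
      rw [← hn] at this
      exact_mod_cast this
    · have hc := h s.head s.last (LTSeries.head_le_last s)
      have e1 := hc.2 s rfl rfl hs
      have e2 := hc.2 t h1.symm h2.symm ht
      have : (s.length : ℕ∞) = (t.length : ℕ∞) := e1.trans e2.symm
      exact_mod_cast this

/-- reversing a chain along a strictly antitone map -/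
def revMap (s : LTSeries Q) (e : Q → P) (he : StrictAnti e) : LTSeries P :=
  LTSeries.mk s.length (fun i => e (s i.rev))
    (fun _ _ hij => he (s.strictMono (Fin.rev_lt_rev.mpr hij)))

lemma revMap_length (s : LTSeries Q) (e : Q → P) (he : StrictAnti e) :
    (revMap s e he).length = s.length := rfl

lemma revMap_head (s : LTSeries Q) (e : Q → P) (he : StrictAnti e) :
    (revMap s e he).head = e s.last := by
  change e (s (Fin.rev 0)) = e (s (Fin.last _))
  rw [Fin.rev_zero]

lemma revMap_last (s : LTSeries Q) (e : Q → P) (he : StrictAnti e) :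
    (revMap s e he).last = e s.head := by
  change e (s (Fin.rev (Fin.last _))) = e (s 0)
  rw [Fin.rev_last]

lemma revMap_sat (s : LTSeries Q) (e : Q → P) (he : StrictAnti e)
    (hcov : ∀ a b : Q, a ⋖ b → e b ⋖ e a) (hs : Sat s) : Sat (revMap s e he) := by
  intro i
  change e (s (Fin.rev (Fin.castSucc i))) ⋖ e (s (Fin.rev (Fin.succ i)))
  rw [Fin.rev_castSucc, Fin.rev_succ]
  exact hcov _ _ (hs (Fin.rev i))

lemma posetCatenary_of_anti (e : Q → P) (he : StrictAnti e)
    (hcov : ∀ a b : Q, a ⋖ b → e b ⋖ e a) (hP : PosetCatenary P) : PosetCatenary Q := by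
  obtain ⟨hb, hs⟩ := hP
  refine ⟨fun p q hpq => ?_, fun s t h1 h2 hs' ht' => ?_⟩
  · obtain ⟨n, hn⟩ := hb (e q) (e p) (he.antitone hpq)
    refine ⟨n, fun s h1 h2 => ?_⟩
    have := hn (revMap s e he) (by rw [revMap_head, h2]) (by rw [revMap_last, h1])
    exact this
  · have := hs (revMap s e he) (revMap t e he) (by rw [revMap_head, revMap_head, h2])
      (by rw [revMap_last, revMap_last, h1]) (revMap_sat s e he hcov hs')
      (revMap_sat t e he hcov ht')
    exact this

lemma posetCatenary_dual : PosetCatenary Pᵒᵈ ↔ PosetCatenary P := by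
  constructor
  · intro h
    refine posetCatenary_of_anti (OrderDual.toDual : P → Pᵒᵈ) (fun a b hab => ?_) (fun a b hab => ?_) h
    · exact OrderDual.toDual_lt_toDual.mpr hab
    · exact toDual_covBy_toDual_iff.mpr hab
  · intro h
    refine posetCatenary_of_anti (OrderDual.ofDual : Pᵒᵈ → P) (fun a b hab => ?_) (fun a b hab => ?_) h
    · exact OrderDual.ofDual_lt_ofDual.mpr hab
    · exact ofDual_covBy_ofDual_iff.mpr hab

end Groth.Agent.Lib.Helper43.PosetCatDual
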