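import Mathlib.Order.RelSeries
import Mathlib.Order.Cover
import Mathlib.Data.ENat.Lattice

/-!
# Codimension in a poset via chains; saturated chains; catenary posets
-/

set_option autoImplicit false
universe u

namespace Groth.Agent.Lib.Helper43.PosetCodim

variable {P : Type u} [PartialOrder P]

/-- the supremum of lengths of chains starting at `a` and ending below `b` -/
noncomputable def cP (a b : P) : ℕ∞ :=
  ⨆ (s : LTSeries P) (_ : s.head = a ∧ s.last ≤ b), (s.length : ℕ∞)

/-- saturated chains -/
def Sat (s : LTSeries P) : Prop := ∀ i : Fin s.length, s (Fin.castSucc i) ⋖ s (Fin.succ i)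

lemma le_cP (s : LTSeries P) {a b : P} (h1 : s.head = a) (h2 : s.last ≤ b) :
    (s.length : ℕ∞) ≤ cP a b :=
  le_iSup₂_of_le s ⟨h1, h2⟩ le_rfl

lemma cP_le_iff {a b : P} {n : ℕ∞} :
    cP a b ≤ n ↔ ∀ s : LTSeries P, s.head = a → s.last ≤ b → (s.length : ℕ∞) ≤ n := by
  unfold cP
  rw [iSup₂_le_iff]
  exact ⟨fun h s h1 h2 => h s ⟨h1, h2⟩, fun h s hs => h s hs.1 hs.2⟩

lemma length_eq_zero_of_last_le_head (s : LTSeries P) (h : s.last ≤ s.head) : s.length = 0 := by
  by_contra hne
  have h0 : (0 : Fin (s.length + 1)) < Fin.last s.length := by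
    rw [Fin.lt_def]; simp; omega
  have := s.strictMono h0
  exact absurd (lt_of_lt_of_le this h) (lt_irrefl _)

lemma cP_self (a : P) : cP a a = 0 := by
  apply le_antisymm _ bot_le
  rw [cP_le_iff]
  intro s h1 h2
  have := length_eq_zero_of_last_le_head s (h1 ▸ h2)
  simp [this]

lemma exists_length_eq_cP {a b : P} (hab : a ≤ b) (h : cP a b ≠ ⊤) :
    ∃ s : LTSeries P, s.head = a ∧ s.last ≤ b ∧ (s.length : ℕ∞) = cP a b := by
  have e : cP a b = ⨆ (s : {s : LTSeries P // s.head = a ∧ s.last ≤ b}), (s.1.length : ℕ∞) := by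
    unfold cP
    rw [iSup_subtype']
  haveI : Nonempty {s : LTSeries P // s.head = a ∧ s.last ≤ b} :=
    ⟨⟨RelSeries.singleton _ a, by simp, by simpa using hab⟩⟩
  rw [e] at h ⊢
  obtain ⟨s, hs⟩ := ENat.exists_eq_iSup_of_lt_top (lt_top_iff_ne_top.mpr h)
  exact ⟨s.1, s.2.1, s.2.2, hs⟩

/-- inserting an element into a chain -/
lemma exists_insert (s : LTSeries P) (i : Fin s.length) (z : P)
    (h1 : s (Fin.castSucc i) < z) (h2 : z < s (Fin.succ i)) :
    ∃ t : LTSeries P, t.head = s.head ∧ t.last = s.last ∧ t.length = s.length + 1 := by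
  let t1 : LTSeries P := (s.take (Fin.castSucc i)).snoc z (by
    rw [RelSeries.last_take]; exact h1)
  have ht1 : t1.last = z := RelSeries.last_snoc _ _ _
  refine ⟨t1.append (s.drop (Fin.succ i)) (by
    rw [ht1, RelSeries.head_drop]; exact h2), ?_, ?_, ?_⟩
  · rw [RelSeries.head_append]
    simp [t1]
  · rw [RelSeries.last_append, RelSeries.last_drop]
  · simp [t1, RelSeries.snoc]

lemma exists_sat {a b : P} (hab : a ≤ b) (h : cP a b ≠ ⊤) :
    ∃ s : LTSeries P, s.head = a ∧ s.last = b ∧ (s.length : ℕ∞) = cP a b ∧ Sat s := by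
  obtain ⟨s, h1, h2, h3⟩ := exists_length_eq_cP hab h
  have hlast : s.last = b := by
    by_contra hne
    have hlt : s.last < b := lt_of_le_of_ne h2 hne
    have := le_cP (a := a) (b := b) (s.snoc b hlt) (by simpa using h1) (by simp)
    rw [← h3] at this
    simp [RelSeries.snoc] at this
    have h' : s.length + 1 ≤ s.length := by exact_mod_cast this
    omega
  refine ⟨s, h1, hlast, h3, ?_⟩
  intro i
  refine ⟨s.strictMono (Fin.castSucc_lt_succ), ?_⟩
  intro z hz1 hz2
  obtain ⟨t, ht1, ht2, ht3⟩ := exists_insert s i z hz1 hz2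
  have := le_cP t (ht1.trans h1) (ht2.trans hlast).le
  rw [← h3, ht3] at this
  have h' : s.length + 1 ≤ s.length := by exact_mod_cast this
  omega

lemma sat_smash {p q : LTSeries P} (h : p.last = q.head) (hp : Sat p) (hq : Sat q) :
    Sat (RelSeries.smash p q h) := by
  intro i
  change Fin (p.length + q.length) at i
  refine Fin.addCases (motive := fun i => (RelSeries.smash p q h) (Fin.castSucc i) ⋖
    (RelSeries.smash p q h) (Fin.succ i)) ?_ ?_ i
  · intro j
    have e1 := RelSeries.smash_castAdd h j
    have e2 := RelSeries.smash_succ_castAdd h j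
    have := hp j
    rw [← e1, ← e2] at this
    exact this
  · intro j
    have e1 := RelSeries.smash_natAdd h j
    have e2 := RelSeries.smash_succ_natAdd h j
    have := hq j
    rw [← e1, ← e2] at this
    exact this

lemma cP_covBy {a b : P} (h : a ⋖ b) : cP a b = 1 := by
  apply le_antisymm
  · rw [cP_le_iff]
    intro s h1 h2
    by_contra hlt
    have h2' : 2 ≤ s.length := by
      by_contra h'
      apply hlt
      have : s.length ≤ 1 := by omega
      exact_mod_cast this
    -- s 0 = a < s 1 < s 2 ≤ b
    have l1 : s.head < s ⟨1, by omega⟩ := s.strictMono (by rw [Fin.lt_def]; simp)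
    have l2 : s ⟨1, by omega⟩ < s.last := s.strictMono (by rw [Fin.lt_def]; simp; omega)
    exact h.2 (h1 ▸ l1) (lt_of_lt_of_le l2 h2)
  · have := le_cP (a := a) (b := b)
      ((RelSeries.singleton _ a).snoc b (by simpa using h.lt) : LTSeries P) (by simp) (by simp)
    simpa [RelSeries.snoc] using this

lemma sat_eraseLast {s : LTSeries P} (hs : Sat s) : Sat s.eraseLast := by
  intro i
  have hi : i.1 < s.length - 1 := i.2
  have := hs ⟨i.1, by omega⟩
  exact this

/-- additivity ⇒ saturated chains compute codimension -/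
lemma length_eq_cP_of_sat
    (hadd : ∀ a b c : P, a ≤ b → b ≤ c → cP a c = cP a b + cP b c)
    (s : LTSeries P) (hs : Sat s) : (s.length : ℕ∞) = cP s.head s.last := by
  obtain ⟨n, hn⟩ : ∃ n, s.length = n := ⟨_, rfl⟩
  induction n generalizing s with
  | zero =>
    have : s.last = s.head := by
      unfold RelSeries.last RelSeries.head
      congr 1
      ext
      simp [hn]
    rw [this, cP_self, hn]; rfl
  | succ n ih =>
    have hne : s.length ≠ 0 := by omega
    have hlen : s.eraseLast.length = n := by simp [RelSeries.eraseLast]; omega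
    have h1 := ih s.eraseLast (sat_eraseLast hs) hlen
    rw [RelSeries.head_eraseLast] at h1
    have hcov : s.eraseLast.last ⋖ s.last := by
      have := hs ⟨s.length - 1, by omega⟩
      convert this using 2
      · simp [RelSeries.last_eraseLast]
      · unfold RelSeries.last
        congr 1
        ext
        simp
        omega
    rw [hadd s.head s.eraseLast.last s.last (LTSeries.head_le_last s.eraseLast) hcov.le,
      ← h1, cP_covBy hcov, hlen, hn]
    rfl

end Groth.Agent.Lib.Helper43.PosetCodim
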