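import Groth.Agent.Lib.Helper43.PosetCodim

/-!
# Poset codimension and saturated chains along order embeddings with order-connected range
-/

set_option autoImplicit false
universe u v

namespace Groth.Agent.Lib.Helper43.PosetCodim

variable {P : Type u} [PartialOrder P] {Q : Type v} [PartialOrder Q]

/-- the catenary condition at a pair -/
def CatAt (a b : P) : Prop :=
  cP a b ≠ ⊤ ∧ ∀ s : LTSeries P, s.head = a → s.last = b → Sat s → (s.length : ℕ∞) = cP a b

variable (φ : Q ↪o P)

lemma exists_lift (s : LTSeries P) (h : ∀ i, s i ∈ Set.range φ) :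
    ∃ t : LTSeries Q, t.map φ φ.strictMono = s := by
  refine ⟨LTSeries.mk s.length (fun i => (h i).choose) (fun i j hij => ?_), ?_⟩
  · rw [← φ.lt_iff_lt, (h i).choose_spec, (h j).choose_spec]
    exact s.strictMono hij
  · refine RelSeries.ext rfl (funext fun i => ?_)
    exact (h i).choose_spec

variable (hφ : (Set.range φ).OrdConnected)

include hφ in
lemma sat_map_iff (t : LTSeries Q) : Sat (t.map φ φ.strictMono) ↔ Sat t := by
  constructor
  · intro h i
    exact (hφ.apply_covBy_apply_iff φ).mp (h i)
  · intro h i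
    exact (hφ.apply_covBy_apply_iff φ).mpr (h i)

include hφ in
lemma mem_range_of_chain (s : LTSeries P) {a b : Q} (h1 : s.head = φ a) (h2 : s.last ≤ φ b)
    (i : Fin (s.length + 1)) : s i ∈ Set.range φ := by
  refine hφ.out (Set.mem_range_self a) (Set.mem_range_self b) ⟨?_, ?_⟩
  · rw [← h1]; exact LTSeries.head_le s i
  · refine le_trans ?_ h2
    exact s.monotone (Fin.le_last i)

include hφ in
lemma cP_map (a b : Q) : cP (φ a) (φ b) = cP a b := by
  apply le_antisymm
  · rw [cP_le_iff]
    intro s h1 h2
    obtain ⟨t, rfl⟩ := exists_lift φ s (mem_range_of_chain φ hφ s h1 h2)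
    refine le_cP t ?_ ?_
    · exact φ.injective (by simpa using h1)
    · rw [← φ.le_iff_le]; simpa using h2
  · rw [cP_le_iff]
    intro t h1 h2
    refine le_cP (t.map φ φ.strictMono) ?_ ?_
    · simp [h1]
    · simpa using φ.monotone h2

include hφ in
lemma catAt_map_iff (a b : Q) : CatAt (φ a) (φ b) ↔ CatAt a b := by
  unfold CatAt
  rw [cP_map φ hφ]
  refine and_congr Iff.rfl ⟨fun h t h1 h2 ht => ?_, fun h s h1 h2 hs => ?_⟩
  · exact h (t.map φ φ.strictMono) (by simp [h1]) (by simp [h2]) ((sat_map_iff φ hφ t).mpr ht)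
  · obtain ⟨t, rfl⟩ := exists_lift φ s (mem_range_of_chain φ hφ s h1 h2.le)
    refine h t (φ.injective (by simpa using h1)) (φ.injective (by simpa using h2))
      ((sat_map_iff φ hφ t).mp hs)

end Groth.Agent.Lib.Helper43.PosetCodim
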