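import Groth.Agent.Lib.Helper43.PtCodim
import Mathlib.Topology.Sober

/-!
# Posets with a dimension function are catenary; sober spaces with a dimension function
-/

set_option autoImplicit false
universe u

namespace Groth.Agent.Lib.Helper43.PosetDim

open Groth.Agent.Lib.Helper43.PosetCodim

section Poset

variable {P : Type u} [PartialOrder P] (d : P → ℤ) (hd : StrictMono d)
  (hcov : ∀ a b : P, a ⋖ b → d b = d a + 1)

include hcov in
lemma sat_apply (s : LTSeries P) (hs : Sat s) (i : Fin (s.length + 1)) :
    d (s i) = d (s 0) + (i : ℕ) := by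
  induction i using Fin.induction with
  | zero => simp
  | succ i ih =>
    rw [hcov _ _ (hs i), ih]
    simp
    omega

include hcov in
lemma sat_length (s : LTSeries P) (hs : Sat s) : d s.last = d s.head + s.length := by
  have := sat_apply d hcov s hs (Fin.last _)
  simp only [Fin.val_last] at this
  exact this

include hd in
lemma length_le (s : LTSeries P) : (s.length : ℤ) ≤ d s.last - d s.head := by
  have := (s.map d hd).head_add_length_le_int
  simp only [LTSeries.head_map, LTSeries.last_map] at this
  have e : (s.map d hd).length = s.length := rfl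
  rw [e] at this
  omega

include hd in
lemma cP_le {a b : P} : cP a b ≤ ((d b - d a).toNat : ℕ∞) := by
  rw [cP_le_iff]
  intro s h1 h2
  have := length_le d hd s
  have hm : d s.last ≤ d b := hd.monotone h2
  rw [h1] at this
  have : s.length ≤ (d b - d a).toNat := by omega
  exact_mod_cast this

include hd hcov in
lemma cP_eq {a b : P} (hab : a ≤ b) : cP a b = ((d b - d a).toNat : ℕ∞) := by
  have hne : cP a b ≠ ⊤ := ne_top_of_le_ne_top (ENat.natCast_ne_top _) (cP_le d hd)
  obtain ⟨s, h1, h2, h3, h4⟩ := exists_sat hab hne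
  have := sat_length d hcov s h4
  rw [h1, h2] at this
  rw [← h3]
  have : s.length = (d b - d a).toNat := by omega
  exact_mod_cast this

include hd hcov in
lemma sat_length_eq_cP (s : LTSeries P) (hs : Sat s) : (s.length : ℕ∞) = cP s.head s.last := by
  rw [cP_eq d hd hcov (LTSeries.head_le_last s)]
  have := sat_length d hcov s hs
  have : s.length = (d s.last - d s.head).toNat := by omega
  exact_mod_cast this

end Poset

section Sober

open TopologicalSpace

variable {X : Type u} [TopologicalSpace X] [QuasiSober X] [T0Space X]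

/-- generic point of an irreducible closed subset -/
noncomputable def gp (Z : IrreducibleCloseds X) : X := Z.isIrreducible.genericPoint

lemma isGenericPoint_gp (Z : IrreducibleCloseds X) : IsGenericPoint (gp Z) (Z : Set X) :=
  Z.isIrreducible.isGenericPoint_genericPoint Z.isClosed

lemma closure_gp (Z : IrreducibleCloseds X) : closure {gp Z} = (Z : Set X) :=
  isGenericPoint_gp Z

/-- the irreducible closed subset `closure {x}` -/
def cl (x : X) : IrreducibleCloseds X :=
  ⟨closure {x}, isIrreducible_singleton.closure, isClosed_closure⟩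

lemma gp_cl (x : X) : gp (cl x) = x :=
  (isGenericPoint_gp (cl x)).eq (show IsGenericPoint x (closure {x}) from rfl)

lemma cl_gp (Z : IrreducibleCloseds X) : cl (gp Z) = Z :=
  IrreducibleCloseds.ext (closure_gp Z)

lemma cl_le_cl {x y : X} : cl y ≤ cl x ↔ x ⤳ y := by
  rw [specializes_iff_closure_subset]
  exact SetLike.coe_subset_coe.symm

lemma gp_specializes {Z Z' : IrreducibleCloseds X} (h : Z ≤ Z') : gp Z' ⤳ gp Z := by
  rw [← cl_le_cl, cl_gp, cl_gp]
  exact h

variable (δ : X → ℤ) (hδ : PtTop.IsDimensionFunction δ)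

include hδ in
lemma strictMono_gp : StrictMono (fun Z : IrreducibleCloseds X => δ (gp Z)) := by
  intro Z Z' h
  refine hδ.1 _ _ (gp_specializes h.le) ?_
  intro heq
  have : Z' = Z := by rw [← cl_gp Z', ← cl_gp Z, heq]
  exact h.ne' this

include hδ in
lemma covBy_gp (Z Z' : IrreducibleCloseds X) (h : Z ⋖ Z') : δ (gp Z') = δ (gp Z) + 1 := by
  refine hδ.2 _ _ ⟨gp_specializes h.le, ?_, ?_⟩
  · intro heq
    have : Z' = Z := by rw [← cl_gp Z', ← cl_gp Z, heq]
    exact h.lt.ne' this
  · intro z h1 h2
    have l1 : cl z ≤ Z' := by rw [← cl_gp Z']; exact cl_le_cl.mpr h1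
    have l2 : Z ≤ cl z := by rw [← cl_gp Z]; exact cl_le_cl.mpr h2
    rcases eq_or_lt_of_le l2 with e | l2'
    · right
      rw [← gp_cl z, ← e]
    · left
      rcases eq_or_lt_of_le l1 with e | l1'
      · rw [← gp_cl z, e]
      · exact absurd l1' (h.2 l2')

include hδ in
lemma isCatenarySpace : PtTop.IsCatenarySpace X := by
  rw [PtCodim.isCatenarySpace_iff]
  intro T T' hle
  refine ⟨ne_top_of_le_ne_top (ENat.natCast_ne_top _) (cP_le _ (strictMono_gp δ hδ)), ?_⟩
  intro s h1 h2 hs
  have := sat_length_eq_cP _ (strictMono_gp δ hδ) (covBy_gp δ hδ) s hs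
  rw [h1, h2] at this
  exact this

include hδ in
lemma codim_cl {x y : X} (h : x ⤳ y) :
    PtTop.codim (cl y) (closure {x}) = ((δ x - δ y).toNat : ℕ∞) := by
  have := PtCodim.codim_eq (cl y) (cl x)
  rw [show ((cl x : IrreducibleCloseds X) : Set X) = closure {x} from rfl] at this
  rw [this, cP_eq _ (strictMono_gp δ hδ) (covBy_gp δ hδ) (cl_le_cl.mpr h), gp_cl, gp_cl]

end Sober

end Groth.Agent.Lib.Helper43.PosetDim
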