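import Groth.Agent.Lib.Helper43.PosetCodim
import Groth.Prelude.Def_W4stktopologysheavesDim

/-!
# `PtTop.codim` in terms of the poset codimension
-/

set_option autoImplicit false
universe u

namespace Groth.Agent.Lib.Helper43.PtCodim

open TopologicalSpace Groth.Agent.Lib.Helper43.PosetCodim

variable {X : Type u} [TopologicalSpace X]

lemma codim_eq (Y Y' : IrreducibleCloseds X) : PtTop.codim Y (Y' : Set X) = cP Y Y' := by
  simp only [PtTop.codim, cP, SetLike.coe_subset_coe]

lemma isCatenarySpace_iff :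
    PtTop.IsCatenarySpace X ↔
      ∀ T T' : IrreducibleCloseds X, T ≤ T' → cP T T' ≠ ⊤ ∧
        ∀ s : LTSeries (IrreducibleCloseds X), s.head = T → s.last = T' → Sat s →
          (s.length : ℕ∞) = cP T T' := by
  unfold PtTop.IsCatenarySpace
  simp only [codim_eq]
  rfl

lemma isCatenarySpace_iff_additive :
    PtTop.IsCatenarySpace X ↔
      (∀ Y Y' : IrreducibleCloseds X, Y ≤ Y' → cP Y Y' ≠ ⊤) ∧
      (∀ Y Y' Y'' : IrreducibleCloseds X, Y ≤ Y' → Y' ≤ Y'' → cP Y Y'' = cP Y Y' + cP Y' Y'') := by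
  rw [isCatenarySpace_iff]
  constructor
  · intro h
    refine ⟨fun Y Y' hle => (h Y Y' hle).1, fun Y Y' Y'' h1 h2 => ?_⟩
    obtain ⟨s, hs1, hs2, hs3, hs4⟩ := exists_sat h1 (h Y Y' h1).1
    obtain ⟨t, ht1, ht2, ht3, ht4⟩ := exists_sat h2 (h Y' Y'' h2).1
    have hc : s.last = t.head := hs2.trans ht1.symm
    have := (h Y Y'' (h1.trans h2)).2 (RelSeries.smash s t hc)
      (by rw [RelSeries.head_smash]; exact hs1) (by rw [RelSeries.last_smash]; exact ht2)
      (sat_smash hc hs4 ht4)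
    rw [← this, ← hs3, ← ht3]
    simp
  · rintro ⟨hfin, hadd⟩ T T' hle
    refine ⟨hfin T T' hle, fun s h1 h2 hs => ?_⟩
    have := length_eq_cP_of_sat hadd s hs
    rw [h1, h2] at this
    exact this

end Groth.Agent.Lib.Helper43.PtCodim
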