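import Groth.Agent.Lib.Helper43.PosetCodimEmb
import Groth.Agent.Lib.Helper43.PtCodim
import Mathlib.Topology.LocallyClosed
import Mathlib.Topology.Irreducible

/-!
# Catenary spaces: locally closed subspaces and locality
-/

set_option autoImplicit false
universe u v

namespace Groth.Agent.Lib.Helper43.PtCatLocal

open TopologicalSpace Topology Groth.Agent.Lib.Helper43.PosetCodim

variable {X : Type u} [TopologicalSpace X] {Y : Type v} [TopologicalSpace Y]

lemma isCatenarySpace_iff_catAt :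
    PtTop.IsCatenarySpace X ↔ ∀ T T' : IrreducibleCloseds X, T ≤ T' → CatAt T T' :=
  PtCodim.isCatenarySpace_iff

lemma isPreirreducible_of_image {f : Y → X} (hf : IsInducing f) {W : Set Y}
    (h : IsPreirreducible (f '' W)) : IsPreirreducible W := by
  intro U V hU hV ⟨a, haW, haU⟩ ⟨b, hbW, hbV⟩
  obtain ⟨U', hU', rfl⟩ := hf.isOpen_iff.mp hU
  obtain ⟨V', hV', rfl⟩ := hf.isOpen_iff.mp hV
  obtain ⟨z, ⟨w, hw, rfl⟩, hz⟩ := h U' V' hU' hV' ⟨f a, ⟨a, haW, rfl⟩, haU⟩ ⟨f b, ⟨b, hbW, rfl⟩, hbV⟩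
  exact ⟨w, hw, hz⟩

variable {f : Y → X} (hf : IsInducing f)

lemma map_le_map_iff (A B : IrreducibleCloseds Y) :
    IrreducibleCloseds.map f hf.continuous A ≤ IrreducibleCloseds.map f hf.continuous B ↔ A ≤ B := by
  refine ⟨fun hle => ?_, fun hle => IrreducibleCloseds.map_mono hf.continuous hle⟩
  have hle' : closure (f '' (A : Set Y)) ⊆ closure (f '' (B : Set Y)) := hle
  have := Set.preimage_mono (f := f) hle'
  rw [← hf.closure_eq_preimage_closure_image, ← hf.closure_eq_preimage_closure_image,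
    A.isClosed.closure_eq, B.isClosed.closure_eq] at this
  exact this

/-- the order embedding on irreducible closed subsets induced by an inducing map -/
def emb : IrreducibleCloseds Y ↪o IrreducibleCloseds X :=
  OrderEmbedding.ofMapLEIff (IrreducibleCloseds.map f hf.continuous) (map_le_map_iff hf)

lemma coe_emb (A : IrreducibleCloseds Y) : ((emb hf A : IrreducibleCloseds X) : Set X) =
    closure (f '' (A : Set Y)) := rfl

lemma mem_range_emb_iff {O C : Set X} (hO : IsOpen O) (hC : IsClosed C)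
    (hr : Set.range f = O ∩ C) (Z : IrreducibleCloseds X) :
    Z ∈ Set.range (emb hf) ↔ (Z : Set X) ⊆ C ∧ ((Z : Set X) ∩ O).Nonempty := by
  constructor
  · rintro ⟨W, rfl⟩
    have hsub : f '' (W : Set Y) ⊆ O ∩ C := by
      rw [← hr]; exact Set.image_subset_range _ _
    refine ⟨?_, ?_⟩
    · rw [coe_emb]
      exact closure_minimal (hsub.trans Set.inter_subset_right) hC
    · obtain ⟨w, hw⟩ := W.isIrreducible.nonempty
      exact ⟨f w, subset_closure ⟨w, hw, rfl⟩, (hsub ⟨w, hw, rfl⟩).1⟩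
  · rintro ⟨h1, h2⟩
    have himg : f '' (f ⁻¹' (Z : Set X)) = (Z : Set X) ∩ O := by
      rw [Set.image_preimage_eq_inter_range, hr]
      ext x
      constructor
      · rintro ⟨hx, hxO, -⟩; exact ⟨hx, hxO⟩
      · rintro ⟨hx, hxO⟩; exact ⟨hx, hxO, h1 hx⟩
    have hcl : closure ((Z : Set X) ∩ O) = (Z : Set X) := by
      apply subset_antisymm
      · exact closure_minimal Set.inter_subset_left Z.isClosed
      · exact subset_closure_inter_of_isPreirreducible_of_isOpen Z.isIrreducible.isPreirreducible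
          hO h2
    have hpre : IsPreirreducible ((Z : Set X) ∩ O) := by
      rw [← isPreirreducible_iff_closure, hcl]
      exact Z.isIrreducible.isPreirreducible
    have hne : (f ⁻¹' (Z : Set X)).Nonempty := by
      obtain ⟨x, hx⟩ := h2
      rw [← himg] at hx
      obtain ⟨y, hy, -⟩ := hx
      exact ⟨y, hy⟩
    refine ⟨⟨f ⁻¹' (Z : Set X), ⟨hne, isPreirreducible_of_image hf (by rw [himg]; exact hpre)⟩,
      Z.isClosed.preimage hf.continuous⟩, ?_⟩
    apply IrreducibleCloseds.ext
    rw [coe_emb]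
    change closure (f '' (f ⁻¹' (Z : Set X))) = _
    rw [himg, hcl]

lemma ordConnected_range_emb (hlc : IsLocallyClosed (Set.range f)) :
    (Set.range (emb hf)).OrdConnected := by
  obtain ⟨O, C, hO, hC, hr⟩ := hlc
  constructor
  intro Z1 h1 Z2 h2 Z hZ
  rw [mem_range_emb_iff hf hO hC hr] at h1 h2 ⊢
  refine ⟨?_, ?_⟩
  · exact (SetLike.coe_subset_coe.mpr hZ.2).trans h2.1
  · obtain ⟨x, hx, hxO⟩ := h1.2
    exact ⟨x, SetLike.coe_subset_coe.mpr hZ.1 hx, hxO⟩

include hf in
lemma isCatenarySpace_of_inducing (hlc : IsLocallyClosed (Set.range f))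
    (hX : PtTop.IsCatenarySpace X) : PtTop.IsCatenarySpace Y := by
  rw [isCatenarySpace_iff_catAt] at hX ⊢
  intro T T' hle
  rw [← catAt_map_iff (emb hf) (ordConnected_range_emb hf hlc)]
  exact hX _ _ ((emb hf).monotone hle)

lemma isCatenarySpace_subtype (S : Set X) (hS : IsLocallyClosed S)
    (hX : PtTop.IsCatenarySpace X) : PtTop.IsCatenarySpace S :=
  isCatenarySpace_of_inducing (f := Subtype.val) IsInducing.subtypeVal
    (by rw [Subtype.range_coe]; exact hS) hX

lemma isCatenarySpace_of_local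
    (h : ∀ x : X, ∃ U : Opens X, x ∈ U ∧ PtTop.IsCatenarySpace U) : PtTop.IsCatenarySpace X := by
  rw [isCatenarySpace_iff_catAt]
  intro T T' hle
  obtain ⟨x, hx⟩ := T.isIrreducible.nonempty
  obtain ⟨U, hxU, hU⟩ := h x
  have hind : IsInducing (Subtype.val : U → X) := IsInducing.subtypeVal
  have hr : Set.range (Subtype.val : U → X) = (U : Set X) ∩ Set.univ := by
    rw [Subtype.range_coe, Set.inter_univ]
  have hlc : IsLocallyClosed (Set.range (Subtype.val : U → X)) :=
    ⟨U, Set.univ, U.isOpen, isClosed_univ, hr⟩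
  have m1 : T ∈ Set.range (emb hind) := by
    rw [mem_range_emb_iff hind U.isOpen isClosed_univ hr]
    exact ⟨Set.subset_univ _, ⟨x, hx, hxU⟩⟩
  have m2 : T' ∈ Set.range (emb hind) := by
    rw [mem_range_emb_iff hind U.isOpen isClosed_univ hr]
    exact ⟨Set.subset_univ _, ⟨x, SetLike.coe_subset_coe.mpr hle hx, hxU⟩⟩
  obtain ⟨W, rfl⟩ := m1
  obtain ⟨W', rfl⟩ := m2
  rw [catAt_map_iff (emb hind) (ordConnected_range_emb hind hlc)]
  rw [isCatenarySpace_iff_catAt] at hU
  exact hU W W' ((emb hind).le_iff_le.mp hle)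

end Groth.Agent.Lib.Helper43.PtCatLocal
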