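import Groth.Agent.Lib.Helper43.PosetCatDual
import Groth.Agent.Lib.Helper43.PtCatLocal
import Mathlib.AlgebraicGeometry.AffineScheme
import Mathlib.RingTheory.Spectrum.Prime.Topology

/-!
# Catenary schemes and catenary rings
-/

set_option autoImplicit false
universe u v

namespace Groth.Agent.Lib.Helper43.PtCatScheme

open TopologicalSpace Topology AlgebraicGeometry CategoryTheory
open Groth.Agent.Lib.Helper43.PosetCodim Groth.Agent.Lib.Helper34
open Groth.Agent.Lib.Helper43.PosetCatDual Groth.Agent.Lib.Helper43.PtCatLocal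

lemma isCatenarySpace_iff_posetCatenary {X : Type u} [TopologicalSpace X] :
    PtTop.IsCatenarySpace X ↔ PosetCatenary (IrreducibleCloseds X) := by
  rw [isCatenarySpace_iff_catAt, posetCatenary_iff_catAt]

lemma isCatenarySpace_primeSpectrum (R : Type u) [CommRing R] :
    PtTop.IsCatenarySpace (PrimeSpectrum R) ↔ CAlg.IsCatenary R := by
  rw [isCatenarySpace_iff_posetCatenary, isCatenary_iff, ← posetCatenary_dual]
  exact ⟨fun h => h.of_orderIso (PrimeSpectrum.pointsEquivIrreducibleCloseds R),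
    fun h => h.of_orderIso (PrimeSpectrum.pointsEquivIrreducibleCloseds R).symm⟩

lemma isCatenarySpace_of_homeo {X : Type u} [TopologicalSpace X] {Y : Type v} [TopologicalSpace Y]
    (e : X ≃ₜ Y) (h : PtTop.IsCatenarySpace Y) : PtTop.IsCatenarySpace X :=
  isCatenarySpace_of_inducing e.isInducing
    (by rw [e.surjective.range_eq]; exact isClosed_univ.isLocallyClosed) h

lemma isCatenarySpace_affineOpen_iff {S : Scheme.{u}} {U : S.Opens} (hU : IsAffineOpen U) :
    PtTop.IsCatenarySpace U ↔ CAlg.IsCatenary Γ(S, U) := by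
  rw [← isCatenarySpace_primeSpectrum]
  exact ⟨isCatenarySpace_of_homeo (Scheme.homeoOfIso hU.isoSpec).symm,
    isCatenarySpace_of_homeo (Scheme.homeoOfIso hU.isoSpec)⟩

lemma isCatenary_affineOpen {S : Scheme.{u}} (hS : PtTop.IsCatenarySpace S) {U : S.Opens}
    (hU : IsAffineOpen U) : CAlg.IsCatenary Γ(S, U) :=
  (isCatenarySpace_affineOpen_iff hU).mp
    (isCatenarySpace_subtype (U : Set S) U.isOpen.isLocallyClosed hS)

lemma isCatenarySpace_of_affineOpens {S : Scheme.{u}}
    (h : ∀ s : S, ∃ U : S.affineOpens, s ∈ (U : S.Opens) ∧ CAlg.IsCatenary Γ(S, U)) :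
    PtTop.IsCatenarySpace S := by
  apply isCatenarySpace_of_local
  intro x
  obtain ⟨U, hxU, hU⟩ := h x
  exact ⟨U.1, hxU, (isCatenarySpace_affineOpen_iff U.2).mpr hU⟩

lemma exists_affineOpen_mem {S : Scheme.{u}} (s : S) : ∃ U : S.affineOpens, s ∈ (U : S.Opens) := by
  obtain ⟨_, ⟨U, hU, rfl⟩, hsU, -⟩ :=
    S.isBasis_affineOpens.exists_subset_of_mem_open (Set.mem_univ s) isOpen_univ
  exact ⟨⟨U, hU⟩, hsU⟩

end Groth.Agent.Lib.Helper43.PtCatScheme
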