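import Groth.Agent.Lib.Helper43.PtCatScheme

/-!
# A scheme is catenary iff all its local rings are
-/

set_option autoImplicit false
universe u

namespace Groth.Agent.Lib.Helper43.PtCatStalk

open TopologicalSpace Topology AlgebraicGeometry CategoryTheory
open Groth.Agent.Lib.Helper34 Groth.Agent.Lib.Helper43.PtCatScheme

lemma isCatenary_stalk {X : Scheme.{u}} (hX : PtTop.IsCatenarySpace X) (x : X) :
    CAlg.IsCatenary (X.presheaf.stalk x) := by
  obtain ⟨U, hxU⟩ := exists_affineOpen_mem x
  have hA := isCatenary_affineOpen hX U.2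
  letI := TopCat.Presheaf.algebra_section_stalk X.presheaf (U := U.1) ⟨x, hxU⟩
  haveI : IsLocalization (U.2.primeIdealOf ⟨x, hxU⟩).asIdeal.primeCompl (X.presheaf.stalk x) :=
    U.2.isLocalization_stalk ⟨x, hxU⟩
  exact isCatenary_of_isLocalization Γ(X, U.1) (U.2.primeIdealOf ⟨x, hxU⟩).asIdeal.primeCompl
    (X.presheaf.stalk x) hA

lemma isCatenary_affineOpen_of_stalks {X : Scheme.{u}}
    (h : ∀ x : X, CAlg.IsCatenary (X.presheaf.stalk x)) {U : X.Opens} (hU : IsAffineOpen U) :
    CAlg.IsCatenary Γ(X, U) := by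
  rw [isCatenary_iff]
  refine PosetCatenary.of_lowerSets (fun a => ?_)
  refine ⟨{p : PrimeSpectrum Γ(X, U) | Disjoint (a.asIdeal.primeCompl : Set Γ(X, U)) p.asIdeal},
    ?_, ?_, ?_⟩
  · intro p q hqp hp
    exact hp.mono_right hqp
  · change Disjoint (a.asIdeal.primeCompl : Set Γ(X, U)) a.asIdeal
    rw [Set.disjoint_left]
    intro x hx hxa
    exact hx hxa
  · have hy : hU.fromSpec a ∈ U := by
      have : hU.fromSpec a ∈ Set.range hU.fromSpec := Set.mem_range_self a
      rw [hU.range_fromSpec] at this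
      exact this
    have hloc := hU.isLocalization_stalk' a hy
    have hcat := h (hU.fromSpec a)
    rw [isCatenary_iff] at hcat
    letI := TopCat.Presheaf.algebra_section_stalk X.presheaf ⟨hU.fromSpec a, hy⟩
    haveI : IsLocalization a.asIdeal.primeCompl (X.presheaf.stalk (hU.fromSpec a)) := hloc
    exact hcat.of_orderIso
      (IsLocalization.primeSpectrumOrderIso a.asIdeal.primeCompl
        (X.presheaf.stalk (hU.fromSpec a))).symm

lemma isCatenarySpace_iff_stalks (X : Scheme.{u}) :
    PtTop.IsCatenarySpace X ↔ ∀ x : X, CAlg.IsCatenary (X.presheaf.stalk x) := by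
  refine ⟨isCatenary_stalk, fun h => isCatenarySpace_of_affineOpens (fun s => ?_)⟩
  obtain ⟨U, hsU⟩ := exists_affineOpen_mem s
  exact ⟨U, hsU, isCatenary_affineOpen_of_stalks h U.2⟩

end Groth.Agent.Lib.Helper43.PtCatStalk
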