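import Groth.Prelude.Def_SGA4b
import Groth.Agent.Lib.Helper43.LanFlat

/-!
# The inverse image of sheaves of sets on small étale sites is left exact
-/

set_option autoImplicit false
open CategoryTheory Limits Functor AlgebraicGeometry Opposite

namespace Groth.Agent.Lib.Helper43.PullShExact

universe u

variable {X Y : Scheme.{u}} (h : Y ⟶ X)

noncomputable instance preservesFiniteLimits_pullSh : PreservesFiniteLimits (EtDesc.pullSh h) := by
  have : PreservesFiniteLimits ((EtCoh.bc h).op.lan :
      (X.Etaleᵒᵖ ⥤ Type (u + 1)) ⥤ (Y.Etaleᵒᵖ ⥤ Type (u + 1))) :=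
    LanFlat.lan_preservesFiniteLimits.{u + 1} (EtCoh.bc h)
  exact Functor.sheafPullbackConstruction.preservesFiniteLimits (EtCoh.bc h) (Type (u + 1))
    X.smallEtaleTopology Y.smallEtaleTopology

instance preservesMonomorphisms_pullSh : (EtDesc.pullSh h).PreservesMonomorphisms :=
  inferInstance

end Groth.Agent.Lib.Helper43.PullShExact
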