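import Groth.Agent.Lib.Helper43.ShColim

/-!
# Pushforward of sheaves of sets preserves epimorphisms for closed-like maps with finite separated fibres
-/

set_option autoImplicit false
universe u
open CategoryTheory TopologicalSpace Opposite

namespace Groth.Agent.Lib.Helper43.PushEpi

open Groth.Agent.Lib.Helper43.ShColim

variable {X Y : TopCat.{u}}

lemma res_map {F G : X.Sheaf (Type u)} (φ : F ⟶ G) {V W : Opens X} (h : W ≤ V)
    (s : F.1.obj (op V)) : φ.hom.app (op W) (res F h s) = res G h (φ.hom.app (op V) s) :=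
  NatTrans.naturality_apply φ.hom (homOfLE h).op s

lemma subsingleton_of_eq_bot (F : X.Sheaf (Type u)) {W : Opens X} (h : W = ⊥) :
    Subsingleton (F.1.obj (op W)) := by
  have := (Limits.Types.isTerminalEquivUnique _).toFun (TopCat.Sheaf.isTerminalOfEqEmpty F h)
  infer_instance

theorem pushforward_map_epi (π : X ⟶ Y)
    (h1 : ∀ (y : Y) (U : Set X), IsOpen U → π ⁻¹' {y} ⊆ U →
      ∃ V : Set Y, IsOpen V ∧ y ∈ V ∧ π ⁻¹' V ⊆ U)
    (h2 : ∀ y : Y, (π ⁻¹' {y}).Finite ∧ ∃ U : X → Set X,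
      (∀ x ∈ π ⁻¹' {y}, IsOpen (U x) ∧ x ∈ U x) ∧ (π ⁻¹' {y}).PairwiseDisjoint U)
    {F G : X.Sheaf (Type u)} (φ : F ⟶ G) (hφ : Sheaf.IsLocallySurjective φ) :
    Sheaf.IsLocallySurjective ((TopCat.Sheaf.pushforward (Type u) π).map φ) := by
  constructor
  intro V t y hy
  obtain ⟨-, Ux, hUx, hdisj⟩ := h2 y
  -- local lifts around each point of the fibre
  have hloc : ∀ x : {x // x ∈ π ⁻¹' {y}}, ∃ (W : Opens X) (hW : W ≤ (Opens.map π).obj V),
      x.1 ∈ W ∧ (W : Set X) ⊆ Ux x.1 ∧ ∃ s : F.1.obj (op W), φ.hom.app (op W) s = res G hW t := by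
    intro x
    have hxV : x.1 ∈ (Opens.map π).obj V := by
      show π x.1 ∈ V
      have : π x.1 = y := x.2
      rw [this]; exact hy
    obtain ⟨W, g, ⟨s, hs⟩, hxW⟩ := hφ.imageSieve_mem (U := (Opens.map π).obj V) t x.1 hxV
    let O : Opens X := ⟨Ux x.1, (hUx x.1 x.2).1⟩
    refine ⟨W ⊓ O, inf_le_left.trans g.le, ⟨hxW, (hUx x.1 x.2).2⟩, fun z hz => hz.2,
      res F inf_le_left s, ?_⟩
    rw [res_map, show φ.hom.app (op W) s = res G g.le t from hs, res_res]
  choose W hW hxW hWU s hs using hloc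
  -- glue
  have hcompat : ∀ a b, res F (inf_le_left : W a ⊓ W b ≤ W a) (s a) =
      res F (inf_le_right : W a ⊓ W b ≤ W b) (s b) := by
    intro a b
    by_cases hab : a = b
    · subst hab; rfl
    · have hbot : W a ⊓ W b = ⊥ := by
        ext z
        simp only [Opens.coe_inf, Set.mem_inter_iff, SetLike.mem_coe, Opens.coe_bot,
          Set.mem_empty_iff_false, iff_false]
        rintro ⟨hza, hzb⟩
        have hne : a.1 ≠ b.1 := fun h => hab (Subtype.ext h)
        exact Set.disjoint_left.mp (hdisj a.2 b.2 hne) (hWU a hza) (hWU b hzb)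
      have := subsingleton_of_eq_bot F hbot
      exact Subsingleton.elim _ _
  obtain ⟨sg, hsg⟩ := exists_glue (G := F) (U := ⨆ a, W a) W (fun a => le_iSup W a) le_rfl s hcompat
  -- shrink
  obtain ⟨V', hV'o, hyV', hV'⟩ := h1 y ((⨆ a, W a : Opens X) : Set X) (⨆ a, W a : Opens X).2
    (fun x hx => Opens.mem_iSup.mpr ⟨⟨x, hx⟩, hxW ⟨x, hx⟩⟩)
  let V'' : Opens Y := ⟨V', hV'o⟩ ⊓ V
  have hle : (Opens.map π).obj V'' ≤ ⨆ a, W a := fun x hx => hV' hx.1
  refine ⟨V'', homOfLE inf_le_right, ⟨res F hle sg, ?_⟩, ⟨hyV', hy⟩⟩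
  show φ.hom.app (op ((Opens.map π).obj V'')) (res F hle sg) =
    res G (show (Opens.map π).obj V'' ≤ (Opens.map π).obj V from fun x hx => hx.2) t
  apply eq_of_forall_mem
  intro x hx
  obtain ⟨a, hxa⟩ := Opens.mem_iSup.mp (hle hx)
  refine ⟨(Opens.map π).obj V'' ⊓ W a, inf_le_left, ⟨hx, hxa⟩, ?_⟩
  rw [← res_map, res_res, res_res]
  have e1 : res F (inf_le_left.trans hle : (Opens.map π).obj V'' ⊓ W a ≤ ⨆ a, W a) sg =
      res F (inf_le_right : (Opens.map π).obj V'' ⊓ W a ≤ W a) (s a) := by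
    rw [← hsg a, res_res]
  rw [e1, res_map, hs a, res_res]

end Groth.Agent.Lib.Helper43.PushEpi
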