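import Mathlib

/-!
# Quasi-homeomorphisms and sheaves, part 1: a bijection on opens gives an equivalence on sheaves
(helper43, for S5917)
-/

set_option autoImplicit false
open CategoryTheory TopologicalSpace Opposite TopCat

namespace Groth.Agent.Lib.Helper43.QuasiHomeo

universe u

variable {X₀ X : TopCat.{u}} (f : X₀ ⟶ X)

lemma map_inf (U V : Opens X) :
    (Opens.map f).obj (U ⊓ V) = (Opens.map f).obj U ⊓ (Opens.map f).obj V := rfl

lemma le_of_map_le (hf : Function.Injective (fun U : Opens X => (Opens.map f).obj U))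
    {U V : Opens X} (h : (Opens.map f).obj U ≤ (Opens.map f).obj V) : U ≤ V := by
  have : (Opens.map f).obj (U ⊓ V) = (Opens.map f).obj U := by
    rw [map_inf]; exact inf_eq_left.mpr h
  have h2 : U ⊓ V = U := hf this
  exact inf_eq_left.mp h2

lemma isDenseSubsite_of_bijective
    (hf : Function.Bijective (fun U : Opens X => (Opens.map f).obj U)) :
    (Opens.map f).IsDenseSubsite (Opens.grothendieckTopology X)
      (Opens.grothendieckTopology X₀) := by
  haveI : (Opens.map f).Full :=
    ⟨fun {U V} g => ⟨homOfLE (le_of_map_le f hf.1 (leOfHom g)), Subsingleton.elim _ _⟩⟩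
  haveI : (Opens.map f).Faithful := ⟨fun _ => Subsingleton.elim _ _⟩
  refine
    { isCoverDense' := ⟨fun W => ?_⟩
      isLocallyFull' := inferInstance
      isLocallyFaithful' := inferInstance
      functorPushforward_mem_iff := ?_ }
  · obtain ⟨V, hV⟩ := hf.2 W
    intro y hy
    refine ⟨W, 𝟙 _, ⟨⟨V, eqToHom hV.symm, eqToHom hV, Subsingleton.elim _ _⟩⟩, hy⟩
  · intro U S
    constructor
    · intro h
      -- the union of the members of `S`
      let U' : Opens X := sSup {V | ∃ g : V ⟶ U, S g}
      have hU'U : U' ≤ U := sSup_le (fun V ⟨g, _⟩ => leOfHom g)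
      have hle : (Opens.map f).obj U ≤ (Opens.map f).obj U' := by
        intro y hy
        obtain ⟨W, g, ⟨V, g₁, g₂, hg₁, -⟩, hyW⟩ := h y hy
        have hyV : y ∈ (Opens.map f).obj V := leOfHom g₂ hyW
        have hVU' : V ≤ U' := le_sSup ⟨g₁, hg₁⟩
        exact (Opens.map f).monotone hVU' hyV
      have hUU' : U ≤ U' := le_of_map_le f hf.1 hle
      intro x hx
      have hx' : x ∈ U' := hUU' hx
      obtain ⟨V, ⟨g, hg⟩, hxV⟩ := Opens.mem_sSup.mp hx'
      exact ⟨V, g, hg, hxV⟩
    · intro h y hy
      obtain ⟨V, g, hg, hxV⟩ := h (f y) hy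
      exact ⟨(Opens.map f).obj V, (Opens.map f).map g, ⟨V, g, 𝟙 _, hg, by simp⟩, hxV⟩

section

variable (A : Type (u + 1)) [LargeCategory A] {FA : A → A → Type*} {CA : A → Type u}
variable [∀ X Y, FunLike (FA X Y) (CA X) (CA Y)] [ConcreteCategory.{u} A FA]
  [Limits.HasColimits A] [Limits.HasLimits A] [Limits.PreservesLimits (CategoryTheory.forget A)]
  [Limits.PreservesFilteredColimits (CategoryTheory.forget A)]
  [(CategoryTheory.forget A).ReflectsIsomorphisms]

lemma isEquivalence_pushforward_of_bijective
    (hf : Function.Bijective (fun U : Opens X => (Opens.map f).obj U)) :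
    (TopCat.Sheaf.pushforward A f).IsEquivalence := by
  haveI := isDenseSubsite_of_bijective f hf
  have h : ((Opens.map f).sheafPushforwardContinuous A (Opens.grothendieckTopology X)
      (Opens.grothendieckTopology X₀)).IsEquivalence := inferInstance
  exact h

lemma isEquivalence_pullback_of_bijective
    (hf : Function.Bijective (fun U : Opens X => (Opens.map f).obj U)) :
    (TopCat.Sheaf.pullback A f).IsEquivalence := by
  haveI := isEquivalence_pushforward_of_bijective f A hf
  exact (TopCat.Sheaf.pullbackPushforwardAdjunction A f).isEquivalence_left_of_isEquivalence_right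

lemma isEquivalence_pushforward_of_pullback
    (h : (TopCat.Sheaf.pullback A f).IsEquivalence) :
    (TopCat.Sheaf.pushforward A f).IsEquivalence :=
  (TopCat.Sheaf.pullbackPushforwardAdjunction A f).isEquivalence_right_of_isEquivalence_left

end

end Groth.Agent.Lib.Helper43.QuasiHomeo
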