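import Groth.Agent.Lib.Helper43.QuasiHomeo1

/-!
# Quasi-homeomorphisms and sheaves, part 2: an equivalence on sheaves gives a bijection on opens,
for a coefficient category with suitable test sheaves (helper43, for S5917)
-/

set_option autoImplicit false
open CategoryTheory TopologicalSpace Opposite TopCat

namespace Groth.Agent.Lib.Helper43.QuasiHomeo

universe u

variable (A : Type (u + 1)) [LargeCategory A] {FA : A → A → Type*} {CA : A → Type u}
variable [∀ X Y, FunLike (FA X Y) (CA X) (CA Y)] [ConcreteCategory.{u} A FA]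

/-- test sheaves: for every subset `D` of a space a sheaf "supported on `D`" with two natural
sections which agree over an open `W` exactly when `W` is disjoint from `D`. -/
structure TestData where
  H : ∀ (Y : TopCat.{u}) (_ : Set Y), TopCat.Sheaf A Y
  s₁ : ∀ (Y : TopCat.{u}) (D : Set Y) (W : Opens Y), ToType ((H Y D).obj.obj (op W))
  s₀ : ∀ (Y : TopCat.{u}) (D : Set Y) (W : Opens Y), ToType ((H Y D).obj.obj (op W))
  res₁ : ∀ (Y : TopCat.{u}) (D : Set Y) (W W' : Opens Y) (i : W' ⟶ W),
    ((H Y D).obj.map i.op) (s₁ Y D W) = s₁ Y D W'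
  res₀ : ∀ (Y : TopCat.{u}) (D : Set Y) (W W' : Opens Y) (i : W' ⟶ W),
    ((H Y D).obj.map i.op) (s₀ Y D W) = s₀ Y D W'
  triv : ∀ (Y : TopCat.{u}) (D : Set Y) (W : Opens Y), Disjoint (W : Set Y) D →
    Subsingleton (ToType ((H Y D).obj.obj (op W)))
  sep : ∀ (Y : TopCat.{u}) (D : Set Y) (W : Opens Y), s₁ Y D W = s₀ Y D W →
    Disjoint (W : Set Y) D

variable {A} (T : TestData A) {X₀ X : TopCat.{u}} (f : X₀ ⟶ X)

include T in
lemma injective_of_isEquivalence [(TopCat.Sheaf.pushforward A f).IsEquivalence] :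
    Function.Injective (fun U : Opens X => (Opens.map f).obj U) := by
  have key : ∀ U V : Opens X, (Opens.map f).obj U = (Opens.map f).obj V → U ≤ V := by
    intro U V h x hxU
    by_contra hxV
    let G := T.H X {x}
    let H' := (TopCat.Sheaf.pushforward A f).objPreimage G
    let e : (TopCat.Sheaf.pushforward A f).obj H' ≅ G :=
      (TopCat.Sheaf.pushforward A f).objObjPreimageIso G
    have hUV : (Opens.map f).obj (U ⊓ V) = (Opens.map f).obj U := by
      rw [map_inf, ← h, inf_idem]
    let i : U ⊓ V ⟶ U := homOfLE inf_le_left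
    have hiso : IsIso (((TopCat.Sheaf.pushforward A f).obj H').obj.map i.op) := by
      change IsIso (H'.obj.map ((Opens.map f).map i).op)
      haveI : IsIso ((Opens.map f).map i) :=
        ⟨eqToHom hUV.symm, Subsingleton.elim _ _, Subsingleton.elim _ _⟩
      infer_instance
    have hnat := e.hom.hom.naturality i.op
    have hiso2 : IsIso (G.obj.map i.op) := by
      have e1 : G.obj.map i.op = inv (e.hom.hom.app (op U)) ≫
          ((TopCat.Sheaf.pushforward A f).obj H').obj.map i.op ≫ e.hom.hom.app (op (U ⊓ V)) := by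
        rw [hnat, IsIso.inv_hom_id_assoc]
      rw [e1]
      infer_instance
    have hinj : Function.Injective (G.obj.map i.op) :=
      (ConcreteCategory.bijective_of_isIso _).1
    haveI hsub := T.triv X {x} (U ⊓ V) (by
      rw [Set.disjoint_singleton_right]
      exact fun hx => hxV hx.2)
    have h10 : T.s₁ X {x} U = T.s₀ X {x} U := hinj (Subsingleton.elim _ _)
    have hd := T.sep X {x} U h10
    rw [Set.disjoint_singleton_right] at hd
    exact hd hxU
  intro U V h
  exact le_antisymm (key U V h) (key V U h.symm)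

section surj

variable [Limits.HasColimits A] [Limits.HasLimits A]
  [Limits.PreservesLimits (CategoryTheory.forget A)]
  [Limits.PreservesFilteredColimits (CategoryTheory.forget A)]
  [(CategoryTheory.forget A).ReflectsIsomorphisms]

open Classical in
include T in
lemma surjective_of_isEquivalence [(TopCat.Sheaf.pushforward A f).IsEquivalence] :
    Function.Surjective (fun U : Opens X => (Opens.map f).obj U) := by
  intro W
  let U : Opens X := sSup {V | (Opens.map f).obj V ≤ W}
  refine ⟨U, le_antisymm ?_ ?_⟩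
  · intro x₀ hx₀
    obtain ⟨V, hV, hxV⟩ := Opens.mem_sSup.mp (show f x₀ ∈ U from hx₀)
    exact hV hxV
  · intro x₀ hx₀
    by_contra hcon
    have hnb : ∀ V : Opens X, f x₀ ∈ V → ¬ (Opens.map f).obj V ≤ W := by
      intro V hxV hVW
      exact hcon (Opens.mem_sSup.mpr ⟨V, hVW, hxV⟩)
    let D : Set X₀ := (W : Set X₀)ᶜ
    let H := T.H X₀ D
    let G := (TopCat.Sheaf.pushforward A f).obj H
    let Gx : A := TopCat.Presheaf.stalk G.obj (f x₀)
    let Sk : TopCat.Sheaf A X₀ := skyscraperSheaf x₀ Gx
    let ψ₀ : G.obj ⟶ skyscraperPresheaf (f x₀) Gx :=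
      StalkSkyscraperPresheafAdjunctionAuxs.toSkyscraperPresheaf (f x₀) (𝟙 _)
    let ψ : G ⟶ (TopCat.Sheaf.pushforward A f).obj Sk :=
      ObjectProperty.homMk (show G.obj ⟶ ((TopCat.Sheaf.pushforward A f).obj Sk).obj from ψ₀)
    obtain ⟨θ, hθ⟩ := (TopCat.Sheaf.pushforward A f).map_surjective ψ
    -- the two sections over the whole space
    let W' : Opens X₀ := (Opens.map f).obj ⊤
    have hx₀W' : x₀ ∈ W' := _root_.trivial
    let i : W' ⊓ W ⟶ W' := homOfLE inf_le_left
    have hx₀i : x₀ ∈ W' ⊓ W := ⟨hx₀W', hx₀⟩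
    have hSkiso : IsIso (Sk.obj.map i.op) := by
      change IsIso ((skyscraperPresheaf x₀ Gx).map i.op)
      simp only [skyscraperPresheaf_map]
      rw [dif_pos hx₀i]
      exact (eqToIso (by
        simp only [skyscraperPresheaf_obj]
        rw [if_pos hx₀W', if_pos hx₀i])).isIso_hom
    have hSkinj : Function.Injective (Sk.obj.map i.op) :=
      (ConcreteCategory.bijective_of_isIso _).1
    haveI hsub := T.triv X₀ D (W' ⊓ W) (by
      rw [Set.disjoint_left]
      intro y hy hyD
      exact hyD hy.2)
    have hθeq : θ.hom.app (op W') (T.s₁ X₀ D W') = θ.hom.app (op W') (T.s₀ X₀ D W') := by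
      apply hSkinj
      have hnat := θ.hom.naturality i.op
      have h1 := congrArg (fun t => (ConcreteCategory.hom t) (T.s₁ X₀ D W')) hnat
      have h0 := congrArg (fun t => (ConcreteCategory.hom t) (T.s₀ X₀ D W')) hnat
      simp only [ConcreteCategory.comp_apply] at h1 h0
      rw [← h1, ← h0]
      congr 1
      exact Subsingleton.elim _ _
    -- transport to `ψ`
    have hψapp : ψ₀.app (op ⊤) = θ.hom.app (op W') := by
      have := congrArg (fun t => t.hom.app (op (⊤ : Opens X))) hθ
      exact this.symm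
    have hmem : f x₀ ∈ (⊤ : Opens X) := _root_.trivial
    have hψ₀ : ψ₀.app (op ⊤) = TopCat.Presheaf.germ G.obj ⊤ (f x₀) hmem ≫ 𝟙 _ ≫
        eqToHom (if_pos hmem).symm := by
      simp only [ψ₀, StalkSkyscraperPresheafAdjunctionAuxs.toSkyscraperPresheaf_app]
      exact dif_pos hmem
    let t₁ : ToType (G.obj.obj (op (⊤ : Opens X))) := T.s₁ X₀ D W'
    let t₀ : ToType (G.obj.obj (op (⊤ : Opens X))) := T.s₀ X₀ D W'
    have hgerm : TopCat.Presheaf.germ G.obj ⊤ (f x₀) hmem t₁ =
        TopCat.Presheaf.germ G.obj ⊤ (f x₀) hmem t₀ := by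
      have hinj : Function.Injective
          (eqToHom (if_pos hmem).symm :
            Gx ⟶ (if f x₀ ∈ (⊤ : Opens X) then Gx else ⊤_ A)) :=
        (ConcreteCategory.bijective_of_isIso _).1
      apply hinj
      have h := hθeq
      rw [← hψapp, hψ₀, Category.id_comp] at h
      have h2 : (ConcreteCategory.hom (TopCat.Presheaf.germ G.obj ⊤ (f x₀) hmem ≫
          eqToHom (if_pos hmem).symm)) t₁ =
          (ConcreteCategory.hom (TopCat.Presheaf.germ G.obj ⊤ (f x₀) hmem ≫
          eqToHom (if_pos hmem).symm)) t₀ := h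
      rw [ConcreteCategory.comp_apply, ConcreteCategory.comp_apply] at h2
      exact h2
    obtain ⟨V', hxV', iU, iV, hres⟩ :=
      TopCat.Presheaf.germ_eq G.obj (U := ⊤) (V := ⊤) (f x₀) hmem hmem t₁ t₀ hgerm
    have hres' : T.s₁ X₀ D ((Opens.map f).obj V') = T.s₀ X₀ D ((Opens.map f).obj V') := by
      have r1 := T.res₁ X₀ D W' ((Opens.map f).obj V') ((Opens.map f).map iU)
      have r0 := T.res₀ X₀ D W' ((Opens.map f).obj V') ((Opens.map f).map iV)
      rw [← r1, ← r0]
      exact hres
    have hdisj := T.sep X₀ D _ hres'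
    apply hnb V' hxV'
    intro y hy
    by_contra hyW
    exact (Set.disjoint_left.mp hdisj) hy hyW

include T in
lemma bijective_of_isEquivalence [(TopCat.Sheaf.pushforward A f).IsEquivalence] :
    Function.Bijective (fun U : Opens X => (Opens.map f).obj U) :=
  ⟨injective_of_isEquivalence T f, surjective_of_isEquivalence T f⟩

end surj

end Groth.Agent.Lib.Helper43.QuasiHomeo
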