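import Groth.Agent.Lib.Helper43.QuasiHomeo2

/-!
# Quasi-homeomorphisms and sheaves, part 3: test sheaves of sets and of abelian groups
(helper43, for S5917)
-/

set_option autoImplicit false
open CategoryTheory TopologicalSpace Opposite TopCat

namespace Groth.Agent.Lib.Helper43.QuasiHomeo

universe u

/-- the local predicate "vanishes outside `D`" on `ℤ`-valued functions -/
def suppPred (Y : TopCat.{u}) (D : Set Y) : TopCat.LocalPredicate (fun _ : Y => ULift.{u} ℤ) where
  pred {U} s := ∀ x : U, (x : Y) ∉ D → s x = 0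
  res {U V} i s h x hx := h (i x) hx
  locality {U} s h x hx := by
    obtain ⟨V, hxV, i, hV⟩ := h x
    exact hV ⟨x.1, hxV⟩ hx

open Classical in
/-- the indicator function of `D` -/
noncomputable def indic (Y : TopCat.{u}) (D : Set Y) (W : Opens Y) :
    {s : ∀ x : W, ULift.{u} ℤ // (suppPred Y D).pred s} :=
  ⟨fun x => if (x : Y) ∈ D then ⟨1⟩ else 0, fun x hx => by simp [hx]⟩

/-- the zero function -/
def zeroSec (Y : TopCat.{u}) (D : Set Y) (W : Opens Y) :
    {s : ∀ x : W, ULift.{u} ℤ // (suppPred Y D).pred s} :=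
  ⟨fun _ => 0, fun _ _ => rfl⟩

/-- test data for sheaves of sets -/
noncomputable def typeTest : TestData (Type u) where
  H Y D := TopCat.subsheafToTypes (suppPred Y D)
  s₁ Y D W := indic Y D W
  s₀ Y D W := zeroSec Y D W
  res₁ Y D W W' i := by
    apply Subtype.ext
    funext x
    rfl
  res₀ Y D W W' i := by
    apply Subtype.ext
    funext x
    rfl
  triv Y D W h := by
    refine ⟨fun a b => ?_⟩
    apply Subtype.ext
    funext x
    have hx : (x : Y) ∉ D := fun hx => (Set.disjoint_left.1 h) x.2 hx
    exact (a.2 x hx).trans (b.2 x hx).symm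
  sep Y D W h := by
    rw [Set.disjoint_left]
    intro x hxW hxD
    have h1 := congrArg (fun s => s.1 ⟨x, hxW⟩) h
    simp only [indic, zeroSec, hxD, if_true] at h1
    have h2 := congrArg ULift.down h1
    simp at h2

/-- the subgroup of functions vanishing outside `D` -/
def suppSubgroup (Y : TopCat.{u}) (D : Set Y) (W : Opens Y) :
    AddSubgroup (∀ _ : W, ULift.{u} ℤ) where
  carrier := {s | ∀ x : W, (x : Y) ∉ D → s x = 0}
  zero_mem' := fun _ _ => rfl
  add_mem' := by
    intro a b ha hb x hx
    change a x + b x = 0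
    rw [ha x hx, hb x hx, add_zero]
  neg_mem' := by
    intro a ha x hx
    change - a x = 0
    rw [ha x hx, neg_zero]

/-- restriction of functions vanishing outside `D` -/
def suppRes (Y : TopCat.{u}) (D : Set Y) {W W' : Opens Y} (i : W' ⟶ W) :
    suppSubgroup Y D W →+ suppSubgroup Y D W' where
  toFun s := ⟨fun x => s.1 (i x), fun x hx => s.2 (i x) hx⟩
  map_zero' := rfl
  map_add' _ _ := rfl

/-- the presheaf of abelian groups of `ℤ`-valued functions vanishing outside `D` -/
def suppPresheafAb (Y : TopCat.{u}) (D : Set Y) : TopCat.Presheaf AddCommGrpCat.{u} Y where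
  obj W := AddCommGrpCat.of (suppSubgroup Y D W.unop)
  map i := AddCommGrpCat.ofHom (suppRes Y D i.unop)
  map_id _ := rfl
  map_comp _ _ := rfl

lemma suppPresheafAb_isSheaf (Y : TopCat.{u}) (D : Set Y) : (suppPresheafAb Y D).IsSheaf := by
  rw [TopCat.Presheaf.isSheaf_iff_isSheaf_comp (CategoryTheory.forget AddCommGrpCat.{u})]
  refine TopCat.Presheaf.isSheaf_of_iso ?_
    (TopCat.subpresheafToTypes.isSheaf (suppPred Y D))
  exact NatIso.ofComponents (fun W => Iso.refl _) (fun i => rfl)

/-- the sheaf of abelian groups of `ℤ`-valued functions vanishing outside `D` -/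
def suppSheafAb (Y : TopCat.{u}) (D : Set Y) : TopCat.Sheaf AddCommGrpCat.{u} Y :=
  ⟨suppPresheafAb Y D, suppPresheafAb_isSheaf Y D⟩

/-- test data for sheaves of abelian groups -/
noncomputable def abTest : TestData AddCommGrpCat.{u} where
  H Y D := suppSheafAb Y D
  s₁ Y D W := indic Y D W
  s₀ Y D W := zeroSec Y D W
  res₁ Y D W W' i := by
    apply Subtype.ext
    funext x
    rfl
  res₀ Y D W W' i := by
    apply Subtype.ext
    funext x
    rfl
  triv Y D W h := by
    refine ⟨fun a b => ?_⟩
    apply Subtype.ext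
    funext x
    have hx : (x : Y) ∉ D := fun hx => (Set.disjoint_left.1 h) x.2 hx
    exact (a.2 x hx).trans (b.2 x hx).symm
  sep Y D W h := by
    rw [Set.disjoint_left]
    intro x hxW hxD
    have h1 := congrArg (fun s => s.1 ⟨x, hxW⟩) h
    simp only [indic, zeroSec, hxD, if_true] at h1
    have h2 := congrArg ULift.down h1
    simp at h2

end Groth.Agent.Lib.Helper43.QuasiHomeo
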