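import Mathlib
import Groth.Agent.Lib.Helper43.EqRel

/-!
# Quotients of pre-equivalence relations in sheaves of sets and restriction along a morphism

General site-theoretic statement: if `s, t : R ⟶ U` is a pre-equivalence relation (sectionwise) with
coequalizer `π : U ⟶ Q`, `g : U' ⟶ U`, and `s', t' : R' ⟶ U'` is "the restriction" of the relation
along `g` with an epimorphic `π' : U' ⟶ Q'` coequalizing `s', t'`, then any `ψ : Q' ⟶ Q` with
`π' ≫ ψ = g ≫ π` is a monomorphism.
-/

set_option autoImplicit false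
open CategoryTheory CategoryTheory.Limits Opposite

universe v u

namespace Groth.Agent.Lib.Helper43.QuotRestr

variable {C : Type u} [Category.{v} C] {J : GrothendieckTopology C}

section LemmaA

variable {R U Q : Sheaf J (Type (max u v))} (s t : R ⟶ U) (π : U ⟶ Q)

/-- Effectivity: if `π` has the universal property of the coequalizer of a sectionwise
equivalence relation, two sections with the same image under `π` are locally related. -/
lemma locally_rel_of_eq
    (hπ : ∀ {M : Sheaf J (Type (max u v))} (q : U ⟶ M), s ≫ q = t ≫ q → ∃ d : Q ⟶ M, π ≫ d = q)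
    (hrel : ∀ T : Cᵒᵖ, _root_.Equivalence
      (fun a b : U.obj.obj T => ∃ ρ : R.obj.obj T, t.hom.app T ρ = a ∧ s.hom.app T ρ = b))
    {T : Cᵒᵖ} (x y : U.obj.obj T) (hxy : π.hom.app T x = π.hom.app T y) :
    ∃ S : Sieve T.unop, S ∈ J T.unop ∧ ∀ ⦃V : C⦄ (f : V ⟶ T.unop), S f →
      ∃ ρ : R.obj.obj (op V), t.hom.app _ ρ = U.obj.map f.op x ∧ s.hom.app _ ρ = U.obj.map f.op y := by
  let Qp : Cᵒᵖ ⥤ Type (max u v) := Groth.Agent.Lib.Helper43.EqRel.Q t.hom s.hom
  let M : Sheaf J (Type (max u v)) := ⟨J.sheafify Qp, J.sheafify_isSheaf Qp⟩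
  let q : U ⟶ M := ⟨Groth.Agent.Lib.Helper43.EqRel.π t.hom s.hom ≫ J.toSheafify Qp⟩
  have hq : s ≫ q = t ≫ q := by
    apply ObjectProperty.hom_ext
    show s.hom ≫ Groth.Agent.Lib.Helper43.EqRel.π t.hom s.hom ≫ J.toSheafify Qp =
      t.hom ≫ Groth.Agent.Lib.Helper43.EqRel.π t.hom s.hom ≫ J.toSheafify Qp
    rw [← Category.assoc, ← Category.assoc]
    congr 1
    refine NatTrans.ext (funext fun T => ?_)
    exact (Groth.Agent.Lib.Helper43.EqRel.tq_w (t.hom.app T) (s.hom.app T)).symm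
  obtain ⟨d, hd⟩ := hπ q hq
  have h1 : q.hom.app T x = q.hom.app T y := by
    rw [← hd]
    exact congrArg (d.hom.app T) hxy
  have h2 : (J.toSheafify Qp).app T (Quot.mk _ x) = (J.toSheafify Qp).app T (Quot.mk _ y) := h1
  have h3 := Presheaf.equalizerSieve_mem J (J.toSheafify Qp) _ _ h2
  refine ⟨_, h3, ?_⟩
  intro V f hf
  rw [Presheaf.equalizerSieve_apply] at hf
  have h4 : Quot.mk (TypeCat.Rel.ofPair (t.hom.app (op V)) (s.hom.app (op V))) (U.obj.map f.op x) =
      Quot.mk _ (U.obj.map f.op y) := hf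
  rw [Quot.eq, (hrel (op V)).eqvGen_iff] at h4
  exact h4

end LemmaA

section Main

variable [HasSheafify J (Type (max u v))]
variable {R U Q R' U' Q' : Sheaf J (Type (max u v))} (s t : R ⟶ U) (π : U ⟶ Q)
  (s' t' : R' ⟶ U') (π' : U' ⟶ Q') (g : U' ⟶ U) (ψ : Q' ⟶ Q)

/-- the comparison of quotients along a restriction of a pre-equivalence relation is injective
on sections. -/
theorem injective_of_restriction
    (hπ : ∀ {M : Sheaf J (Type (max u v))} (q : U ⟶ M), s ≫ q = t ≫ q → ∃ d : Q ⟶ M, π ≫ d = q)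
    (hrel : ∀ T : Cᵒᵖ, _root_.Equivalence
      (fun a b : U.obj.obj T => ∃ ρ : R.obj.obj T, t.hom.app T ρ = a ∧ s.hom.app T ρ = b))
    [Epi π'] (hπ' : s' ≫ π' = t' ≫ π') (hψ : π' ≫ ψ = g ≫ π)
    (hres : ∀ (T : Cᵒᵖ) (a b : U'.obj.obj T) (ρ : R.obj.obj T),
      t.hom.app T ρ = g.hom.app T a → s.hom.app T ρ = g.hom.app T b →
      ∃ ρ' : R'.obj.obj T, t'.hom.app T ρ' = a ∧ s'.hom.app T ρ' = b)
    (T : Cᵒᵖ) : Function.Injective (ψ.hom.app T) := by
  intro a b hab
  have hsep : Presieve.IsSeparated J Q'.obj :=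
    ((isSheaf_iff_isSheaf_of_type _ _).1 Q'.property).isSeparated
  have hls : Sheaf.IsLocallySurjective π' := (Sheaf.isLocallySurjective_iff_epi π').2 inferInstance
  have hSa := Presheaf.imageSieve_mem J π'.hom a
  have hSb := Presheaf.imageSieve_mem J π'.hom b
  -- the sieve where `a` and `b` agree
  have hE : Presheaf.equalizerSieve (F := Q'.obj) (X := T) a b ∈ J T.unop := by
    refine J.transitive (J.intersection_covering hSa hSb) _ ?_
    intro V f hf
    obtain ⟨⟨a', ha'⟩, ⟨b', hb'⟩⟩ := hf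
    have e1 : π.hom.app _ (g.hom.app _ a') = π.hom.app _ (g.hom.app _ b') := by
      have n1 := congrArg (fun (m : U' ⟶ Q) => m.hom.app (op V) a') hψ
      have n2 := congrArg (fun (m : U' ⟶ Q) => m.hom.app (op V) b') hψ
      dsimp at n1 n2
      rw [← n1, ← n2, ha', hb']
      have m1 := NatTrans.naturality_apply ψ.hom f.op a
      have m2 := NatTrans.naturality_apply ψ.hom f.op b
      rw [m1, m2, hab]
    obtain ⟨S2, hS2, h2⟩ := locally_rel_of_eq s t π hπ hrel _ _ e1
    refine J.superset_covering ?_ hS2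
    intro W h hh
    obtain ⟨ρ, hρt, hρs⟩ := h2 h hh
    rw [← NatTrans.naturality_apply g.hom h.op a'] at hρt
    rw [← NatTrans.naturality_apply g.hom h.op b'] at hρs
    obtain ⟨ρ', hρ't, hρ's⟩ := hres _ _ _ ρ hρt hρs
    show Q'.obj.map (h ≫ f).op a = Q'.obj.map (h ≫ f).op b
    have k1 : Q'.obj.map (h ≫ f).op a = π'.hom.app _ (U'.obj.map h.op a') := by
      rw [op_comp, Q'.obj.map_comp, ConcreteCategory.comp_apply, ← ha',
        NatTrans.naturality_apply π'.hom h.op a']
    have k2 : Q'.obj.map (h ≫ f).op b = π'.hom.app _ (U'.obj.map h.op b') := by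
      rw [op_comp, Q'.obj.map_comp, ConcreteCategory.comp_apply, ← hb',
        NatTrans.naturality_apply π'.hom h.op b']
    rw [k1, k2, ← hρ't, ← hρ's]
    have k3 := congrArg (fun (m : R' ⟶ Q') => m.hom.app (op W) ρ') hπ'
    exact k3.symm
  exact (hsep _ hE).ext (fun V f hf => hf)

end Main

end Groth.Agent.Lib.Helper43.QuotRestr
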