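import Groth.Prelude.Def_AlgSpGpd
import Groth.Agent.Lib.Helper43.QuotRestr

/-!
# Quotient sheaves of restricted pre-equivalence relations / groupoids (`AlgSp.Sp S`)
-/

set_option autoImplicit false
open CategoryTheory CategoryTheory.Limits AlgebraicGeometry Opposite

universe u

namespace Groth.Agent.Lib.Helper43.QuotRestrSp

open Groth.Agent.Lib.Helper43.QuotRestr

variable {S : Scheme.{u}}

/-- sectionwise relation versus relation on `T`-valued points. -/
lemma rel_iff {R U : AlgSp.Sp S} (s t : R ⟶ U) (T : (Over S)ᵒᵖ) (a b : U.obj.obj T) :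
    (∃ ρ : R.obj.obj T, t.hom.app T ρ = a ∧ s.hom.app T ρ = b) ↔
      ∃ r : (AlgSp.yon S).obj T.unop ⟶ R,
        r ≫ t = (AlgSp.J S).uliftYonedaEquiv.symm a ∧ r ≫ s = (AlgSp.J S).uliftYonedaEquiv.symm b := by
  constructor
  · rintro ⟨ρ, rfl, rfl⟩
    refine ⟨(AlgSp.J S).uliftYonedaEquiv.symm ρ, ?_, ?_⟩
    · exact GrothendieckTopology.uliftYonedaEquiv_symm_naturality_right _ _ _ _
    · exact GrothendieckTopology.uliftYonedaEquiv_symm_naturality_right _ _ _ _
  · rintro ⟨r, hr1, hr2⟩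
    refine ⟨(AlgSp.J S).uliftYonedaEquiv r, ?_, ?_⟩
    · have := congrArg (AlgSp.J S).uliftYonedaEquiv hr1
      rw [Equiv.apply_symm_apply] at this
      exact this
    · have := congrArg (AlgSp.J S).uliftYonedaEquiv hr2
      rw [Equiv.apply_symm_apply] at this
      exact this

lemma hrel_of_isPreEqvRelSp {R U : AlgSp.Sp S} (s t : R ⟶ U) (hpre : AlgSp.IsPreEqvRelSp s t)
    (T : (Over S)ᵒᵖ) : _root_.Equivalence
      (fun a b : U.obj.obj T => ∃ ρ : R.obj.obj T, t.hom.app T ρ = a ∧ s.hom.app T ρ = b) := by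
  have h := hpre T.unop
  refine ⟨fun a => ?_, fun {a b} hab => ?_, fun {a b c} hab hbc => ?_⟩
  · exact (rel_iff s t T a a).2 (h.refl _)
  · exact (rel_iff s t T b a).2 (h.symm ((rel_iff s t T a b).1 hab))
  · exact (rel_iff s t T a c).2 (h.trans ((rel_iff s t T a b).1 hab) ((rel_iff s t T b c).1 hbc))

/-- general form on `AlgSp.Sp S`: injectivity of the comparison of quotient sheaves. -/
theorem mono_of_restriction {R U R' U' : AlgSp.Sp S} (s t : R ⟶ U) (hpre : AlgSp.IsPreEqvRelSp s t)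
    (g : U' ⟶ U) (s' t' : R' ⟶ U')
    (hres : ∀ (T : Over S) (a b : (AlgSp.yon S).obj T ⟶ U') (ρ : (AlgSp.yon S).obj T ⟶ R),
      ρ ≫ t = a ≫ g → ρ ≫ s = b ≫ g → ∃ ρ' : (AlgSp.yon S).obj T ⟶ R', ρ' ≫ t' = a ∧ ρ' ≫ s' = b)
    (ψ : AlgSp.quotSp s' t' ⟶ AlgSp.quotSp s t)
    (hψ : AlgSp.quotSpπ s' t' ≫ ψ = g ≫ AlgSp.quotSpπ s t) : Mono ψ := by
  apply Sheaf.mono_of_injective
  intro T
  have : Epi (AlgSp.quotSpπ s' t') :=
    epi_of_isColimit_cofork (c := Cofork.ofπ (AlgSp.quotSpπ s' t') (AlgSp.quotSp_condition s' t'))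
      (AlgSp.quotSpIsCoequalizer s' t')
  refine injective_of_restriction s t (AlgSp.quotSpπ s t) s' t' (AlgSp.quotSpπ s' t') g ψ
    ?_ (hrel_of_isPreEqvRelSp s t hpre) (AlgSp.quotSp_condition s' t') hψ ?_ T
  · intro M q hq
    exact ⟨AlgSp.quotSpDesc q hq, AlgSp.quotSpπ_desc _ _ q hq⟩
  · intro T a b ρ h1 h2
    obtain ⟨ρ', h1', h2'⟩ := hres T.unop ((AlgSp.J S).uliftYonedaEquiv.symm a)
      ((AlgSp.J S).uliftYonedaEquiv.symm b) ((AlgSp.J S).uliftYonedaEquiv.symm ρ)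
      (by
        rw [GrothendieckTopology.uliftYonedaEquiv_symm_naturality_right,
          GrothendieckTopology.uliftYonedaEquiv_symm_naturality_right, h1])
      (by
        rw [GrothendieckTopology.uliftYonedaEquiv_symm_naturality_right,
          GrothendieckTopology.uliftYonedaEquiv_symm_naturality_right, h2])
    refine ⟨(AlgSp.J S).uliftYonedaEquiv ρ', ?_, ?_⟩
    · have := congrArg (AlgSp.J S).uliftYonedaEquiv h1'
      rw [Equiv.apply_symm_apply] at this
      exact this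
    · have := congrArg (AlgSp.J S).uliftYonedaEquiv h2'
      rw [Equiv.apply_symm_apply] at this
      exact this

lemma isIso_of_mono_of_epi_comp {A Q' Q : AlgSp.Sp S} (π' : A ⟶ Q') (ψ : Q' ⟶ Q) (h : A ⟶ Q)
    (e : π' ≫ ψ = h) [Mono ψ] [Epi h] : IsIso ψ := by
  have : Epi (π' ≫ ψ) := by rw [e]; infer_instance
  have : Epi ψ := epi_of_epi π' ψ
  exact isIso_of_mono_of_epi ψ

/-- `S10114`. -/
theorem quot_restr (R U R' U' : AlgSp.Sp S) (s t : R ⟶ U) (hpre : AlgSp.IsPreEqvRelSp s t)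
    (g : U' ⟶ U) (s' t' : R' ⟶ U') (r : R' ⟶ R)
    (hsq : IsPullback (prod.lift t' s') r (prod.map g g) (prod.lift t s))
    (ψ : AlgSp.quotSp s' t' ⟶ AlgSp.quotSp s t)
    (hψ : AlgSp.quotSpπ s' t' ≫ ψ = g ≫ AlgSp.quotSpπ s t) :
    Mono ψ ∧ (Epi g → IsIso ψ) := by
  have hm : Mono ψ := by
    refine mono_of_restriction s t hpre g s' t' ?_ ψ hψ
    intro T a b ρ h1 h2
    have hc : prod.lift a b ≫ prod.map g g = ρ ≫ prod.lift t s := by
      rw [prod.lift_map, prod.comp_lift, h1, h2]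
    refine ⟨hsq.lift (prod.lift a b) ρ hc, ?_, ?_⟩
    · have e1 := hsq.lift_fst (prod.lift a b) ρ hc
      have e2 := congrArg (fun m => m ≫ prod.fst) e1
      rw [Category.assoc, prod.lift_fst, prod.lift_fst] at e2
      exact e2
    · have e1 := hsq.lift_fst (prod.lift a b) ρ hc
      have e2 := congrArg (fun m => m ≫ prod.snd) e1
      rw [Category.assoc, prod.lift_snd, prod.lift_snd] at e2
      exact e2
  refine ⟨hm, fun hg => ?_⟩
  have : Epi (AlgSp.quotSpπ s t) :=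
    epi_of_isColimit_cofork (c := Cofork.ofπ (AlgSp.quotSpπ s t) (AlgSp.quotSp_condition s t))
      (AlgSp.quotSpIsCoequalizer s t)
  exact isIso_of_mono_of_epi_comp (AlgSp.quotSpπ s' t') ψ (g ≫ AlgSp.quotSpπ s t) hψ

/-- a groupoid in sheaves gives a pre-equivalence relation. -/
lemma isPreEqvRelSp_groupoid {B : AlgSp.Sp S} (G : AlgSp.GroupoidSp B) :
    AlgSp.IsPreEqvRelSp G.s G.t := by
  intro T
  refine ⟨fun a => ?_, fun {a b} hab => ?_, fun {a b c} hab hbc => ?_⟩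
  · refine ⟨a ≫ G.e, ?_, ?_⟩
    · rw [Category.assoc, G.e_t, Category.comp_id]
    · rw [Category.assoc, G.e_s, Category.comp_id]
  · obtain ⟨r, rfl, rfl⟩ := hab
    refine ⟨r ≫ G.i, ?_, ?_⟩
    · rw [Category.assoc, G.i_t]
    · rw [Category.assoc, G.i_s]
  · obtain ⟨r1, rfl, hb⟩ := hab
    obtain ⟨r2, hb', rfl⟩ := hbc
    have h : r1 ≫ G.s = r2 ≫ G.t := hb.trans hb'.symm
    exact ⟨pullback.lift r1 r2 h ≫ G.c, G.comp_t r1 r2 h, G.comp_s r1 r2 h⟩

/-- `S10115`. -/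
theorem quot_restr_groupoid {B : AlgSp.Sp S} (G G' : AlgSp.GroupoidSp B)
    (φ : AlgSp.GroupoidSp.Hom G' G) (hφ : φ.IsRestriction) (ψ : G'.quot ⟶ G.quot)
    (hψ : G'.quotπ ≫ ψ = φ.fU ≫ G.quotπ) :
    Mono ψ ∧ (Epi (pullback.snd φ.fU G.t ≫ G.s) → IsIso ψ) := by
  have hm : Mono ψ := by
    refine mono_of_restriction G.s G.t (isPreEqvRelSp_groupoid G) φ.fU G'.s G'.t ?_ ψ hψ
    intro T a b ρ h1 h2
    have hab : a ≫ G'.pU = b ≫ G'.pU := by
      rw [← φ.fU_over, ← Category.assoc, ← h1, ← Category.assoc, ← h2, Category.assoc,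
        Category.assoc, G.t_over, G.s_over]
    have hc : ρ ≫ G.j = pullback.lift a b hab ≫ φ.prodMap := by
      apply pullback.hom_ext
      · rw [Category.assoc, G.j_fst, h1]
        unfold AlgSp.GroupoidSp.Hom.prodMap pullback.map
        rw [Category.assoc, pullback.lift_fst, pullback.lift_fst_assoc]
      · rw [Category.assoc, G.j_snd, h2]
        unfold AlgSp.GroupoidSp.Hom.prodMap pullback.map
        rw [Category.assoc, pullback.lift_snd, pullback.lift_snd_assoc]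
    have hφ' : IsPullback φ.fR G'.j G.j φ.prodMap := hφ
    refine ⟨hφ'.lift ρ (pullback.lift a b hab) hc, ?_, ?_⟩
    · have e1 := hφ'.lift_snd ρ (pullback.lift a b hab) hc
      have e2 := congrArg (fun m => m ≫ pullback.fst G'.pU G'.pU) e1
      rw [Category.assoc, G'.j_fst, pullback.lift_fst] at e2
      exact e2
    · have e1 := hφ'.lift_snd ρ (pullback.lift a b hab) hc
      have e2 := congrArg (fun m => m ≫ pullback.snd G'.pU G'.pU) e1
      rw [Category.assoc, G'.j_snd, pullback.lift_snd] at e2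
      exact e2
  refine ⟨hm, fun hg => ?_⟩
  have : Epi G.quotπ :=
    epi_of_isColimit_cofork (c := Cofork.ofπ (AlgSp.quotSpπ G.s G.t) (AlgSp.quotSp_condition G.s G.t))
      (AlgSp.quotSpIsCoequalizer G.s G.t)
  have e : (pullback.fst φ.fU G.t ≫ G'.quotπ) ≫ ψ =
      (pullback.snd φ.fU G.t ≫ G.s) ≫ G.quotπ := by
    rw [Category.assoc, hψ, ← Category.assoc, pullback.condition, Category.assoc, Category.assoc]
    congr 1
    exact (AlgSp.quotSp_condition G.s G.t).symm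
  have : Epi ((pullback.snd φ.fU G.t ≫ G.s) ≫ G.quotπ) := epi_comp _ _
  exact isIso_of_mono_of_epi_comp _ ψ _ e

end Groth.Agent.Lib.Helper43.QuotRestrSp
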