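import Mathlib

/-!
# The functional equation `F(x + y F(x)) = F(x) F(y)` for rational functions

Core polynomial lemma: over a field `K ⊇ k` with `t ∈ K` transcendental over `k`.
-/

set_option autoImplicit false
open Polynomial

namespace Groth.Agent.Lib.Helper43.RatFE

universe u
variable {k K : Type u} [Field k] [Field K] [Algebra k K]

theorem core (t : K) (ht : Transcendental k t) (P Q : k[X]) (hPQ : IsCoprime P Q)
    (hQm : Q.Monic) (h0 : Q.eval 0 ≠ 0) (h1 : P.eval 0 = Q.eval 0)
    (H : ((P.map (algebraMap k K)).comp (C (aeval t P / aeval t Q) * X + C t)) *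
        (C (aeval t Q) * Q.map (algebraMap k K)) =
      (C (aeval t P) * P.map (algebraMap k K)) *
        ((Q.map (algebraMap k K)).comp (C (aeval t P / aeval t Q) * X + C t))) :
    Q = 1 ∧ P.natDegree ≤ 1 := by
  have hinj : Function.Injective (aeval t : k[X] →ₐ[k] K) := transcendental_iff_injective.mp ht
  have hP0 : P ≠ 0 := by
    rintro rfl
    simp at h1
    exact h0 h1.symm
  have hQ0 : Q ≠ 0 := hQm.ne_zero
  set a : K := aeval t P with ha
  set b : K := aeval t Q with hb
  have ha0 : a ≠ 0 := fun h => hP0 (hinj (by rw [← ha, h, map_zero]))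
  have hb0 : b ≠ 0 := fun h => hQ0 (hinj (by rw [← hb, h, map_zero]))
  set β : K := a / b with hβ
  have hβ0 : β ≠ 0 := div_ne_zero ha0 hb0
  set ℓ : K[X] := C β * X + C t with hℓ
  have hℓdeg : ℓ.natDegree = 1 := natDegree_linear hβ0
  have hℓlc : ℓ.leadingCoeff = β := leadingCoeff_linear hβ0
  set PK := P.map (algebraMap k K) with hPK
  set QK := Q.map (algebraMap k K) with hQK
  have hQKm : QK.Monic := hQm.map _
  have hQK0 : QK ≠ 0 := hQKm.ne_zero
  have hcop : IsCoprime PK QK := hPQ.map (Polynomial.mapRingHom (algebraMap k K))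
  have hdegQ : QK.natDegree = Q.natDegree := natDegree_map _
  have hdegP : PK.natDegree = P.natDegree := natDegree_map _
  -- Step 1
  have hdvd : QK ∣ QK.comp ℓ := by
    have h1 : QK ∣ QK.comp ℓ * (C a * PK) := by
      rw [mul_comm, ← H]
      exact ⟨PK.comp ℓ * C b, by ring⟩
    have hcop' : IsCoprime QK (C a * PK) := by
      exact (isCoprime_mul_unit_left_right (isUnit_C.mpr (isUnit_iff_ne_zero.mpr ha0)) QK PK).mpr
        hcop.symm
    exact hcop'.dvd_of_dvd_mul_right h1
  obtain ⟨S, hS⟩ := hdvd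
  have hcomp0 : QK.comp ℓ ≠ 0 := by
    intro h
    have := natDegree_comp (p := QK) (q := ℓ)
    rcases comp_eq_zero_iff.mp h with h' | ⟨_, h'⟩
    · exact hQK0 h'
    · rw [h'] at hℓdeg
      simp at hℓdeg
  have hS0 : S ≠ 0 := by
    rintro rfl
    rw [mul_zero] at hS
    exact hcomp0 hS
  have hSdeg : S.natDegree = 0 := by
    have h1 : (QK.comp ℓ).natDegree = QK.natDegree := by
      rw [natDegree_comp, hℓdeg, mul_one]
    rw [hS, natDegree_mul hQK0 hS0] at h1
    omega
  obtain ⟨u, rfl⟩ : ∃ u, S = C u := ⟨S.coeff 0, eq_C_of_natDegree_eq_zero hSdeg⟩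
  -- Step 3
  have hu : u = β ^ Q.natDegree := by
    have h1 : (QK.comp ℓ).leadingCoeff = β ^ Q.natDegree := by
      rw [leadingCoeff_comp (by rw [hℓdeg]; exact one_ne_zero), hℓlc, hQKm.leadingCoeff, one_mul,
        hdegQ]
    rw [hS, leadingCoeff_mul, hQKm.leadingCoeff, one_mul, leadingCoeff_C] at h1
    exact h1
  -- Step 4
  have hb' : b = algebraMap k K (Q.eval 0) * β ^ Q.natDegree := by
    have h1 : (QK.comp ℓ).eval 0 = b := by
      rw [eval_comp, hℓ]
      simp only [eval_add, eval_mul, eval_C, eval_X, mul_zero, zero_add]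
      rw [hQK, eval_map, hb, aeval_def]
    rw [hS, eval_mul, eval_C, hQK, eval_map] at h1
    rw [← h1, hu, eval₂_at_zero, coeff_zero_eq_eval_zero]
  -- Step 5
  have hrel : Q ^ (Q.natDegree + 1) = C (Q.eval 0) * P ^ Q.natDegree := by
    apply hinj
    rw [map_pow, map_mul, map_pow, aeval_C, ← ha, ← hb]
    rw [hβ, div_pow] at hb'
    field_simp at hb'
    rw [pow_succ, mul_comm]
    exact hb'
  -- Step 6
  have hm : Q.natDegree = 0 := by
    by_contra hm
    have h1 : Q ∣ C (Q.eval 0) * P ^ Q.natDegree := by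
      rw [← hrel, pow_succ]
      exact Dvd.intro_left _ rfl
    have h2 : IsCoprime Q (P ^ Q.natDegree) := hPQ.symm.pow_right
    have h3 : Q ∣ C (Q.eval 0) := h2.dvd_of_dvd_mul_right h1
    have h4 : IsUnit Q := isUnit_of_dvd_unit h3 (isUnit_C.mpr (isUnit_iff_ne_zero.mpr h0))
    exact hm (natDegree_eq_zero_of_isUnit h4)
  have hQ1 : Q = 1 := eq_one_of_monic_natDegree_zero hQm hm
  refine ⟨hQ1, ?_⟩
  -- Step 7
  have hb1 : b = 1 := by rw [hb, hQ1, map_one]
  have hQK1 : QK = 1 := by rw [hQK, hQ1, Polynomial.map_one]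
  have hβa : β = a := by rw [hβ, hb1, div_one]
  rw [hQK1, hb1] at H
  simp only [map_one, mul_one, one_comp] at H
  have hPK0 : PK ≠ 0 := by
    rw [hPK]
    exact (Polynomial.map_ne_zero_iff (algebraMap k K).injective).mpr hP0
  have hlc : PK.leadingCoeff * β ^ P.natDegree = a * PK.leadingCoeff := by
    have h1 := congrArg leadingCoeff H
    rw [leadingCoeff_comp (by rw [hℓdeg]; exact one_ne_zero), hℓlc, hdegP, leadingCoeff_mul,
      leadingCoeff_C] at h1
    exact h1
  have hlc0 : PK.leadingCoeff ≠ 0 := leadingCoeff_ne_zero.mpr hPK0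
  have hpow : a ^ P.natDegree = a := by
    rw [hβa, mul_comm] at hlc
    exact mul_right_cancel₀ hlc0 hlc
  have hPpow : P ^ P.natDegree = P := by
    apply hinj
    rw [map_pow, ← ha, hpow]
  have hd := congrArg natDegree hPpow
  rw [natDegree_pow] at hd
  by_contra hcon
  push Not at hcon
  have : 2 * P.natDegree ≤ P.natDegree * P.natDegree := Nat.mul_le_mul_right _ hcon
  omega

/-- transport of `RatFunc.eval` along a field homomorphism -/
theorem map_ratFunc_eval {L L' : Type u} [Field L] [Field L'] (θ : L →+* L') (f : k →+* L)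
    (z : L) (F : RatFunc k) :
    θ (RatFunc.eval f z F) = RatFunc.eval (θ.comp f) (θ z) F := by
  unfold RatFunc.eval
  rw [map_div₀, Polynomial.hom_eval₂, Polynomial.hom_eval₂]

theorem eval₂_algebraMap_ratFunc (f' : k →+* RatFunc K)
    (hf' : ∀ c, f' c = algebraMap K[X] (RatFunc K) (C (algebraMap k K c))) (G : k[X]) (ℓ : K[X]) :
    G.eval₂ f' (algebraMap K[X] (RatFunc K) ℓ) =
      algebraMap K[X] (RatFunc K) ((G.map (algebraMap k K)).comp ℓ) := by
  have hf : f' = (algebraMap K[X] (RatFunc K)).comp (C.comp (algebraMap k K)) := by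
    ext c
    exact hf' c
  rw [hf, ← Polynomial.hom_eval₂, Polynomial.comp, Polynomial.eval₂_map]

theorem final (t : K) (ht : Transcendental k t) (F : RatFunc k)
    (h0 : F.denom.eval 0 ≠ 0) (h1 : F.num.eval 0 = F.denom.eval 0)
    (f' : k →+* RatFunc K)
    (hf' : ∀ c, f' c = algebraMap K[X] (RatFunc K) (C (algebraMap k K c)))
    (hFE : RatFunc.eval f' (algebraMap K[X] (RatFunc K) (C t) +
        RatFunc.X * RatFunc.eval f' (algebraMap K[X] (RatFunc K) (C t)) F) F =
      RatFunc.eval f' (algebraMap K[X] (RatFunc K) (C t)) F * RatFunc.eval f' RatFunc.X F) :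
    ∃ a : k, F = 1 + RatFunc.C a * RatFunc.X := by
  have hinj : Function.Injective (aeval t : k[X] →ₐ[k] K) := transcendental_iff_injective.mp ht
  set P := F.num with hP
  set Q := F.denom with hQ
  have hQm : Q.Monic := F.monic_denom
  have hQ0 : Q ≠ 0 := hQm.ne_zero
  have hP0 : P ≠ 0 := by
    intro h
    rw [h] at h1
    simp at h1
    exact h0 h1.symm
  have ha0 : aeval t P ≠ 0 := fun h => hP0 (hinj (by rw [h, map_zero]))
  have hb0 : aeval t Q ≠ 0 := fun h => hQ0 (hinj (by rw [h, map_zero]))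
  have hβ0 : aeval t P / aeval t Q ≠ 0 := div_ne_zero ha0 hb0
  set ι := algebraMap K[X] (RatFunc K) with hι
  have hιinj : Function.Injective ι := RatFunc.algebraMap_injective K
  have e1 : ∀ G : k[X], G.eval₂ f' (ι (C t)) = ι (C (aeval t G)) := by
    intro G
    rw [eval₂_algebraMap_ratFunc f' hf', comp_C, eval_map, aeval_def]
  have e2 : ∀ G : k[X], G.eval₂ f' RatFunc.X = ι (G.map (algebraMap k K)) := by
    intro G
    rw [← RatFunc.algebraMap_X, eval₂_algebraMap_ratFunc f' hf', comp_X]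
  have hℓ : ι (C t) + RatFunc.X * (ι (C (aeval t P)) / ι (C (aeval t Q))) =
      ι (C (aeval t P / aeval t Q) * X + C t) := by
    have hdiv : ι (C (aeval t P)) / ι (C (aeval t Q)) = ι (C (aeval t P / aeval t Q)) :=
      (map_div₀ (ι.comp C) (aeval t P) (aeval t Q)).symm
    rw [hdiv, map_add, map_mul, RatFunc.algebraMap_X]
    ring
  have hℓ0 : (C (aeval t P / aeval t Q) * X + C t : K[X]).natDegree = 1 := natDegree_linear hβ0
  unfold RatFunc.eval at hFE
  rw [← hP, ← hQ, e1, e1, hℓ, eval₂_algebraMap_ratFunc f' hf', eval₂_algebraMap_ratFunc f' hf',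
    e2, e2] at hFE
  have hQK0 : Q.map (algebraMap k K) ≠ 0 :=
    (Polynomial.map_ne_zero_iff (algebraMap k K).injective).mpr hQ0
  have hcomp0 : (Q.map (algebraMap k K)).comp (C (aeval t P / aeval t Q) * X + C t) ≠ 0 := by
    intro h
    rcases comp_eq_zero_iff.mp h with h' | ⟨_, h'⟩
    · exact hQK0 h'
    · rw [h'] at hℓ0
      simp at hℓ0
  have n1 : ι ((Q.map (algebraMap k K)).comp (C (aeval t P / aeval t Q) * X + C t)) ≠ 0 :=
    fun h => hcomp0 (hιinj (by rw [h, map_zero]))
  have n2 : ι (C (aeval t Q)) * ι (Q.map (algebraMap k K)) ≠ 0 := by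
    refine mul_ne_zero (fun h => hb0 ?_) (fun h => hQK0 (hιinj (by rw [h, map_zero])))
    exact C_injective (hιinj (by rw [h, map_zero, map_zero]))
  rw [div_mul_div_comm, div_eq_div_iff n1 n2, ← map_mul, ← map_mul, ← map_mul, ← map_mul] at hFE
  have H := hιinj hFE
  obtain ⟨hQ1, hdeg⟩ := core t ht P Q F.isCoprime_num_denom hQm h0 h1 H
  have hF : F = algebraMap k[X] (RatFunc k) P := by
    have := F.num_div_denom
    rw [← hP, ← hQ, hQ1, map_one, div_one] at this
    exact this.symm
  have hP' := eq_X_add_C_of_natDegree_le_one hdeg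
  have hc0 : P.coeff 0 = 1 := by
    rw [coeff_zero_eq_eval_zero, h1, hQ1, eval_one]
  refine ⟨P.coeff 1, ?_⟩
  calc F = algebraMap k[X] (RatFunc k) P := hF
    _ = algebraMap k[X] (RatFunc k) (C (P.coeff 1) * X + C (P.coeff 0)) := congrArg _ hP'
    _ = 1 + RatFunc.C (P.coeff 1) * RatFunc.X := by
      rw [hc0, map_add, map_mul, RatFunc.algebraMap_C, RatFunc.algebraMap_X, map_one, map_one,
        add_comm]

end Groth.Agent.Lib.Helper43.RatFE
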