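import Groth.Prelude.Def_AlgSpRep
import Mathlib.CategoryTheory.Limits.Types.Filtered
import Mathlib.CategoryTheory.Filtered.Final

/-!
# Relatively limit preserving maps of presheaves: an elementwise criterion
-/

set_option autoImplicit false
universe u

open CategoryTheory CategoryTheory.Limits AlgebraicGeometry Opposite

namespace Groth.Agent.Lib.Helper43.RelLimPres

variable {S : Scheme.{u}}

/-- elementwise form of "the cocone `P(T_i) → P(T)` is a colimit" -/
def LPData (P : AlgSp.PSp S) {I : Type u} [SmallCategory I] (D : I ⥤ Over S) (c : Cone D) : Prop :=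
  (∀ x : P.obj (op c.pt), ∃ (i : I) (xi : P.obj (op (D.obj i))), P.map (c.π.app i).op xi = x) ∧
  (∀ (i : I) (x y : P.obj (op (D.obj i))),
    P.map (c.π.app i).op x = P.map (c.π.app i).op y →
      ∃ (j : I) (f : j ⟶ i), P.map (D.map f).op x = P.map (D.map f).op y)

lemma nonempty_isColimit_iff (P : AlgSp.PSp S) {I : Type u} [SmallCategory I] [IsCofiltered I]
    (D : I ⥤ Over S) (c : Cone D) :
    Nonempty (IsColimit (P.mapCocone c.op)) ↔ LPData P D c := by
  constructor
  · rintro ⟨h⟩
    refine ⟨fun x => ?_, fun i x y hxy => ?_⟩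
    · obtain ⟨i, xi, hxi⟩ := Types.jointly_surjective_of_isColimit h x
      exact ⟨i.unop, xi, hxi⟩
    · obtain ⟨j, f, hf⟩ := (Types.FilteredColimit.isColimit_eq_iff' h (i := op i) x y).1 hxy
      exact ⟨j.unop, f.unop, hf⟩
  · rintro ⟨h1, h2⟩
    refine ⟨Types.FilteredColimit.isColimitOf' _ _ (fun x => ?_) (fun i x y hxy => ?_)⟩
    · obtain ⟨i, xi, hxi⟩ := h1 x
      exact ⟨op i, xi, hxi.symm⟩
    · obtain ⟨j, f, hf⟩ := h2 i.unop x y hxy
      exact ⟨op j, f.op, hf⟩

/-- the "cartesian square" form of relative limit preservation -/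
structure Star {F G : AlgSp.PSp S} (a : F ⟶ G) : Prop where
  surj : ∀ {I : Type u} [SmallCategory I] [IsCofiltered I] (D : I ⥤ Over S) (c : Cone D),
    IsLimit ((Over.forget S).mapCone c) → (∀ i, IsAffine (D.obj i).left) → IsAffine c.pt.left →
    ∀ (x : F.obj (op c.pt)) (i : I) (y : G.obj (op (D.obj i))),
      a.app _ x = G.map (c.π.app i).op y →
      ∃ (j : I) (f : j ⟶ i) (xj : F.obj (op (D.obj j))),
        F.map (c.π.app j).op xj = x ∧ a.app _ xj = G.map (D.map f).op y
  inj : ∀ {I : Type u} [SmallCategory I] [IsCofiltered I] (D : I ⥤ Over S) (c : Cone D),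
    IsLimit ((Over.forget S).mapCone c) → (∀ i, IsAffine (D.obj i).left) → IsAffine c.pt.left →
    ∀ (i : I) (x x' : F.obj (op (D.obj i))), a.app _ x = a.app _ x' →
      F.map (c.π.app i).op x = F.map (c.π.app i).op x' →
      ∃ (j : I) (f : j ⟶ i), F.map (D.map f).op x = F.map (D.map f).op x'

section Elementwise

variable {F G : AlgSp.PSp S}

lemma map_map_apply (F : AlgSp.PSp S) {X Y Z : Over S} (g : X ⟶ Y) (h : Y ⟶ Z)
    (z : F.obj (op Z)) : F.map g.op (F.map h.op z) = F.map (g ≫ h).op z := by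
  rw [op_comp, FunctorToTypes.map_comp_apply]

lemma nat_apply (a : F ⟶ G) {X Y : Over S} (g : X ⟶ Y) (z : F.obj (op Y)) :
    a.app _ (F.map g.op z) = G.map g.op (a.app _ z) :=
  NatTrans.naturality_apply a g.op z

lemma map_injective_of_iso (F : AlgSp.PSp S) {X Y : Over S} (e : X ≅ Y) :
    Function.Injective (F.map e.hom.op) := by
  intro z z' h
  have := congrArg (F.map e.inv.op) h
  rw [map_map_apply, map_map_apply, Iso.inv_hom_id] at this
  simpa using this

end Elementwise

theorem isRelLimitPreserving_of_star {F G : AlgSp.PSp S} (a : F ⟶ G) (h : Star a) :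
    AlgSp.IsRelLimitPreserving a := by
  intro T y I _ _ D c hc hD hpt
  rw [nonempty_isColimit_iff]
  have hc' : IsLimit ((Over.forget S).mapCone ((Over.map T.hom).mapCone c)) := hc
  have hD' : ∀ i, IsAffine ((D ⋙ Over.map T.hom).obj i).left := hD
  have hpt' : IsAffine ((Over.map T.hom).mapCone c).pt.left := hpt
  refine ⟨fun x => ?_, fun i x x' hxx' => ?_⟩
  · obtain ⟨i₀⟩ : Nonempty I := IsCofiltered.nonempty
    have hx : a.app _ x.1 = G.map (((Over.map T.hom).mapCone c).π.app i₀).op
        (G.map (AlgSp.overHom T (D.obj i₀)).op y) := by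
      rw [x.2]
      show G.map (AlgSp.overHom T c.pt).op y = G.map ((Over.map T.hom).map (c.π.app i₀)).op
        (G.map (AlgSp.overHom T (D.obj i₀)).op y)
      rw [map_map_apply, AlgSp.map_comp_overHom]
      rfl
    obtain ⟨j, f, xj, h1, h2⟩ := h.surj (D ⋙ Over.map T.hom) ((Over.map T.hom).mapCone c) hc'
      hD' hpt' x.1 i₀ _ hx
    refine ⟨j, ⟨xj, ?_⟩, Subtype.ext h1⟩
    refine h2.trans ?_
    show G.map ((Over.map T.hom).map (D.map f)).op (G.map (AlgSp.overHom T (D.obj i₀)).op y) = _
    rw [map_map_apply, AlgSp.map_comp_overHom]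
  · have h1 : a.app _ x.1 = a.app _ x'.1 := x.2.trans x'.2.symm
    have h2 : F.map (((Over.map T.hom).mapCone c).π.app i).op x.1 =
        F.map (((Over.map T.hom).mapCone c).π.app i).op x'.1 := congrArg Subtype.val hxx'
    obtain ⟨j, f, hf⟩ := h.inj (D ⋙ Over.map T.hom) ((Over.map T.hom).mapCone c) hc' hD' hpt'
      i x.1 x'.1 h1 h2
    exact ⟨j, f, Subtype.ext hf⟩

section Reindex

variable {I : Type u} [SmallCategory I] (D : I ⥤ Over S) (c : Cone D) (i : I)

/-- the system over `D i` indexed by `Over i` -/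
def sysOver : Over i ⥤ Over (D.obj i).left where
  obj k := Over.mk (D.map k.hom).left
  map {k k'} m := Over.homMk (D.map m.left).left (by
    show (D.map m.left).left ≫ (D.map k'.hom).left = (D.map k.hom).left
    rw [← Over.comp_left, ← D.map_comp, Over.w m])
  map_id k := by
    apply Over.OverMorphism.ext
    show (D.map (𝟙 k.left)).left = 𝟙 _
    rw [D.map_id]; rfl
  map_comp m m' := by
    apply Over.OverMorphism.ext
    show (D.map (m.left ≫ m'.left)).left = (D.map m.left).left ≫ (D.map m'.left).left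
    rw [D.map_comp]; rfl

/-- the cone over `sysOver` -/
def coneOver : Cone (sysOver D i) where
  pt := Over.mk (c.π.app i).left
  π :=
    { app := fun k => Over.homMk (c.π.app k.left).left (by
        show (c.π.app k.left).left ≫ (D.map k.hom).left = (c.π.app i).left
        rw [← Over.comp_left, c.w])
      naturality := by
        intro k k' m
        apply Over.OverMorphism.ext
        show 𝟙 _ ≫ (c.π.app k'.left).left = (c.π.app k.left).left ≫ (D.map m.left).left
        rw [Category.id_comp, ← Over.comp_left, c.w] }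

/-- identification of `D i`-schemes viewed over `S` -/
def epsK (k : Over i) : (Over.map (D.obj i).hom).obj ((sysOver D i).obj k) ≅ D.obj k.left :=
  Over.isoMk (Iso.refl _) (by
    show 𝟙 _ ≫ (D.obj k.left).hom = (D.map k.hom).left ≫ (D.obj i).hom
    rw [Category.id_comp, Over.w])

/-- identification for the cone point -/
def epsPt : (Over.map (D.obj i).hom).obj (coneOver D c i).pt ≅ c.pt :=
  Over.isoMk (Iso.refl _) (by
    show 𝟙 _ ≫ c.pt.hom = (c.π.app i).left ≫ (D.obj i).hom
    rw [Category.id_comp, Over.w]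
    rfl)

lemma E1 (k : Over i) :
    AlgSp.overHom (D.obj i) ((sysOver D i).obj k) = (epsK D i k).hom ≫ D.map k.hom := by
  apply Over.OverMorphism.ext
  show (D.map k.hom).left = 𝟙 _ ≫ (D.map k.hom).left
  rw [Category.id_comp]

lemma E2 : AlgSp.overHom (D.obj i) (coneOver D c i).pt = (epsPt D c i).hom ≫ c.π.app i := by
  apply Over.OverMorphism.ext
  show (c.π.app i).left = 𝟙 _ ≫ (c.π.app i).left
  rw [Category.id_comp]

lemma E3 (k : Over i) :
    (Over.map (D.obj i).hom).map ((coneOver D c i).π.app k) ≫ (epsK D i k).hom =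
      (epsPt D c i).hom ≫ c.π.app k.left := by
  apply Over.OverMorphism.ext
  show (c.π.app k.left).left ≫ 𝟙 _ = 𝟙 _ ≫ (c.π.app k.left).left
  rw [Category.id_comp, Category.comp_id]

lemma E4 {k k' : Over i} (m : k ⟶ k') :
    (Over.map (D.obj i).hom).map ((sysOver D i).map m) ≫ (epsK D i k').hom =
      (epsK D i k).hom ≫ D.map m.left := by
  apply Over.OverMorphism.ext
  show (D.map m.left).left ≫ 𝟙 _ = 𝟙 _ ≫ (D.map m.left).left
  rw [Category.id_comp, Category.comp_id]

variable [IsCofiltered I]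

/-- the reindexed cone is still a limit cone -/
noncomputable def isLimitConeOver (hc : IsLimit ((Over.forget S).mapCone c)) :
    IsLimit ((Over.forget (D.obj i).left).mapCone (coneOver D c i)) :=
  (Functor.Initial.isLimitWhiskerEquiv (Over.forget i) ((Over.forget S).mapCone c)).symm hc

end Reindex

theorem star_of_isRelLimitPreserving {F G : AlgSp.PSp S} (a : F ⟶ G)
    (h : AlgSp.IsRelLimitPreserving a) : Star a where
  surj := by
    intro I _ _ D c hc hD hpt x i y hx
    have hLP := (nonempty_isColimit_iff (AlgSp.fiberFun a (D.obj i) y) (sysOver D i)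
      (coneOver D c i)).1 (h (D.obj i) y (sysOver D i) (coneOver D c i) (isLimitConeOver D c i hc)
        (fun k => hD k.left) hpt)
    have hx' : a.app _ (F.map (epsPt D c i).hom.op x) =
        G.map (AlgSp.overHom (D.obj i) (coneOver D c i).pt).op y := by
      rw [nat_apply, hx, map_map_apply, E2]
    obtain ⟨k, xk, hk⟩ := hLP.1 ⟨F.map (epsPt D c i).hom.op x, hx'⟩
    have hk1 : F.map ((Over.map (D.obj i).hom).map ((coneOver D c i).π.app k)).op xk.1 =
        F.map (epsPt D c i).hom.op x := congrArg Subtype.val hk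
    refine ⟨k.left, k.hom, F.map (epsK D i k).inv.op xk.1, ?_, ?_⟩
    · apply map_injective_of_iso F (epsPt D c i)
      rw [← hk1, map_map_apply, map_map_apply, ← E3, Category.assoc,
        Iso.hom_inv_id, Category.comp_id]
    · rw [nat_apply, xk.2, map_map_apply, E1, ← Category.assoc, Iso.inv_hom_id,
        Category.id_comp]
  inj := by
    intro I _ _ D c hc hD hpt i x x' hxx' hres
    have hLP := (nonempty_isColimit_iff (AlgSp.fiberFun a (D.obj i) (a.app _ x)) (sysOver D i)
      (coneOver D c i)).1 (h (D.obj i) (a.app _ x) (sysOver D i) (coneOver D c i)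
        (isLimitConeOver D c i hc) (fun k => hD k.left) hpt)
    have e0 : AlgSp.overHom (D.obj i) ((sysOver D i).obj (Over.mk (𝟙 i))) =
        (epsK D i (Over.mk (𝟙 i))).hom := by
      rw [E1]
      show _ ≫ D.map (𝟙 i) = _
      rw [D.map_id, Category.comp_id]
    have hx1 : a.app _ (F.map (epsK D i (Over.mk (𝟙 i))).hom.op x) =
        G.map (AlgSp.overHom (D.obj i) ((sysOver D i).obj (Over.mk (𝟙 i)))).op (a.app _ x) := by
      rw [nat_apply, e0]
      rfl
    have hx2 : a.app _ (F.map (epsK D i (Over.mk (𝟙 i))).hom.op x') =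
        G.map (AlgSp.overHom (D.obj i) ((sysOver D i).obj (Over.mk (𝟙 i)))).op (a.app _ x) := by
      rw [nat_apply, e0, hxx']
      rfl
    have key : ∀ z : F.obj (Opposite.op (D.obj i)),
        F.map ((Over.map (D.obj i).hom).map ((coneOver D c i).π.app (Over.mk (𝟙 i)))).op
          (F.map (epsK D i (Over.mk (𝟙 i))).hom.op z) =
        F.map (epsPt D c i).hom.op (F.map (c.π.app i).op z) := by
      intro z
      rw [map_map_apply, map_map_apply, E3]
      rfl
    obtain ⟨k, m, hm⟩ := hLP.2 (Over.mk (𝟙 i))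
      ⟨F.map (epsK D i (Over.mk (𝟙 i))).hom.op x, hx1⟩
      ⟨F.map (epsK D i (Over.mk (𝟙 i))).hom.op x', hx2⟩
      (Subtype.ext (by
        show F.map ((Over.map (D.obj i).hom).map ((coneOver D c i).π.app (Over.mk (𝟙 i)))).op
          (F.map (epsK D i (Over.mk (𝟙 i))).hom.op x) =
          F.map ((Over.map (D.obj i).hom).map ((coneOver D c i).π.app (Over.mk (𝟙 i)))).op
          (F.map (epsK D i (Over.mk (𝟙 i))).hom.op x')
        rw [key, key, hres]))
    have hm1 : F.map ((Over.map (D.obj i).hom).map ((sysOver D i).map m)).op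
        (F.map (epsK D i (Over.mk (𝟙 i))).hom.op x) =
        F.map ((Over.map (D.obj i).hom).map ((sysOver D i).map m)).op
        (F.map (epsK D i (Over.mk (𝟙 i))).hom.op x') := congrArg Subtype.val hm
    refine ⟨k.left, m.left, ?_⟩
    apply map_injective_of_iso F (epsK D i k)
    rw [map_map_apply, map_map_apply, E4] at hm1
    rw [map_map_apply, map_map_apply]
    exact hm1

section Chases

variable {F G H : AlgSp.PSp S}

lemma map_comp_apply' (F : AlgSp.PSp S) {I : Type u} [SmallCategory I] (D : I ⥤ Over S)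
    {i j k : I} (f : j ⟶ i) (g : k ⟶ j) (z : F.obj (op (D.obj i))) :
    F.map (D.map g).op (F.map (D.map f).op z) = F.map (D.map (g ≫ f)).op z := by
  rw [map_map_apply, D.map_comp]

lemma cone_map_apply (F : AlgSp.PSp S) {I : Type u} [SmallCategory I] {D : I ⥤ Over S}
    (c : Cone D) {i j : I} (f : j ⟶ i) (z : F.obj (op (D.obj i))) :
    F.map (c.π.app j).op (F.map (D.map f).op z) = F.map (c.π.app i).op z := by
  rw [map_map_apply, c.w]

lemma nat_cone (a : F ⟶ G) {I : Type u} [SmallCategory I] {D : I ⥤ Over S}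
    (c : Cone D) (j : I) (z : F.obj (op (D.obj j))) :
    a.app (op c.pt) (F.map (c.π.app j).op z) = G.map (c.π.app j).op (a.app _ z) :=
  nat_apply a (c.π.app j) z

theorem star_comp (a : F ⟶ G) (b : G ⟶ H) (ha : Star a) (hb : Star b) : Star (a ≫ b) where
  surj := by
    intro I _ _ D c hc hD hpt x i z hx
    have hx' : b.app _ (a.app _ x) = H.map (c.π.app i).op z := hx
    obtain ⟨j, f, yj, hyj1, hyj2⟩ := hb.surj D c hc hD hpt (a.app _ x) i z hx'
    obtain ⟨k, g, xk, hxk1, hxk2⟩ := ha.surj D c hc hD hpt x j yj hyj1.symm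
    refine ⟨k, g ≫ f, xk, hxk1, ?_⟩
    show b.app _ (a.app _ xk) = _
    rw [hxk2, nat_apply, hyj2, map_comp_apply']
  inj := by
    intro I _ _ D c hc hD hpt i x x' hxx' hres
    have h1 : b.app _ (a.app _ x) = b.app _ (a.app _ x') := hxx'
    have h2 : G.map (c.π.app i).op (a.app _ x) = G.map (c.π.app i).op (a.app _ x') := by
      rw [← nat_cone, ← nat_cone, hres]
    obtain ⟨j, f, hj⟩ := hb.inj D c hc hD hpt i _ _ h1 h2
    have h3 : a.app _ (F.map (D.map f).op x) = a.app _ (F.map (D.map f).op x') := by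
      rw [nat_apply, nat_apply, hj]
    have h4 : F.map (c.π.app j).op (F.map (D.map f).op x) =
        F.map (c.π.app j).op (F.map (D.map f).op x') := by
      rw [cone_map_apply, cone_map_apply, hres]
    obtain ⟨k, g, hk⟩ := ha.inj D c hc hD hpt j _ _ h3 h4
    refine ⟨k, g ≫ f, ?_⟩
    rw [← map_comp_apply', ← map_comp_apply', hk]

theorem star_cancel (a : F ⟶ G) (b : G ⟶ H) (hab : Star (a ≫ b)) (hb : Star b) : Star a where
  surj := by
    intro I _ _ D c hc hD hpt x i y hx
    have hx' : (a ≫ b).app _ x = H.map (c.π.app i).op (b.app _ y) := by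
      show b.app _ (a.app _ x) = _
      rw [hx, nat_apply]
    obtain ⟨j, f, xj, hxj1, hxj2⟩ := hab.surj D c hc hD hpt x i (b.app _ y) hx'
    have hxj2' : b.app _ (a.app _ xj) = H.map (D.map f).op (b.app _ y) := hxj2
    have h1 : b.app _ (a.app _ xj) = b.app _ (G.map (D.map f).op y) := by
      rw [hxj2', nat_apply]
    have h2 : G.map (c.π.app j).op (a.app _ xj) = G.map (c.π.app j).op (G.map (D.map f).op y) := by
      rw [← nat_cone, hxj1, hx, cone_map_apply]
    obtain ⟨k, g, hk⟩ := hb.inj D c hc hD hpt j _ _ h1 h2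
    refine ⟨k, g ≫ f, F.map (D.map g).op xj, ?_, ?_⟩
    · rw [cone_map_apply, hxj1]
    · rw [nat_apply, hk, map_comp_apply']
  inj := by
    intro I _ _ D c hc hD hpt i x x' hxx' hres
    have h1 : (a ≫ b).app _ x = (a ≫ b).app _ x' := by
      show b.app _ (a.app _ x) = b.app _ (a.app _ x')
      rw [hxx']
    exact hab.inj D c hc hD hpt i x x' h1 hres

theorem star_pullback {E P : AlgSp.PSp S} (a : F ⟶ G) (b : H ⟶ G) (c₀ : G ⟶ E) (fst : P ⟶ F)
    (snd : P ⟶ H) (hP : IsPullback fst snd a b) (hc : Star c₀) (hac : Star (a ≫ c₀))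
    (hbc : Star (b ≫ c₀)) : Star (fst ≫ a ≫ c₀) := by
  have hPX : ∀ X : (Over S)ᵒᵖ, IsPullback (fst.app X) (snd.app X) (a.app X) (b.app X) :=
    fun X => hP.map ((evaluation _ _).obj X)
  have hw : ∀ (X : (Over S)ᵒᵖ) (p : P.obj X), a.app X (fst.app X p) = b.app X (snd.app X p) :=
    fun X p => ConcreteCategory.congr_hom (hPX X).w p
  refine ⟨?_, ?_⟩
  · intro I _ _ D c hcl hD hpt p i e hp
    have hp' : c₀.app _ (a.app _ (fst.app _ p)) = E.map (c.π.app i).op e := hp
    obtain ⟨j, f, xj, hxj1, hxj2⟩ := hac.surj D c hcl hD hpt (fst.app _ p) i e hp'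
    have hxj2' : c₀.app _ (a.app _ xj) = E.map (D.map f).op e := hxj2
    have hh : (b ≫ c₀).app _ (snd.app _ p) = E.map (c.π.app j).op (E.map (D.map f).op e) := by
      show c₀.app _ (b.app _ (snd.app _ p)) = _
      rw [← hw, hp', cone_map_apply]
    obtain ⟨k, g, hk, hhk1, hhk2⟩ := hbc.surj D c hcl hD hpt (snd.app _ p) j _ hh
    have hhk2' : c₀.app _ (b.app _ hk) = E.map (D.map g).op (E.map (D.map f).op e) := hhk2
    have h1 : c₀.app _ (a.app _ (F.map (D.map g).op xj)) = c₀.app _ (b.app _ hk) := by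
      rw [nat_apply, nat_apply, hxj2', hhk2']
    have h2 : G.map (c.π.app k).op (a.app _ (F.map (D.map g).op xj)) =
        G.map (c.π.app k).op (b.app _ hk) := by
      rw [← nat_cone, ← nat_cone, cone_map_apply, hxj1, hhk1, hw]
    obtain ⟨l, m, hl⟩ := hc.inj D c hcl hD hpt k _ _ h1 h2
    have hl' : a.app _ (F.map (D.map m).op (F.map (D.map g).op xj)) =
        b.app _ (H.map (D.map m).op hk) :=
      (nat_apply a (D.map m) _).trans (hl.trans (nat_apply b (D.map m) hk).symm)
    obtain ⟨pl, hpl1, hpl2⟩ := Types.exists_of_isPullback (hPX _) _ _ hl'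
    refine ⟨l, m ≫ g ≫ f, pl, ?_, ?_⟩
    · apply Types.ext_of_isPullback (hPX (op c.pt))
      · have : fst.app (op c.pt) (P.map (c.π.app l).op pl) =
            F.map (c.π.app l).op (fst.app _ pl) := nat_cone fst c l pl
        rw [this, hpl1, cone_map_apply, cone_map_apply, hxj1]
      · have : snd.app (op c.pt) (P.map (c.π.app l).op pl) =
            H.map (c.π.app l).op (snd.app _ pl) := nat_cone snd c l pl
        rw [this, hpl2, cone_map_apply, hhk1]
    · show (a ≫ c₀).app _ (fst.app _ pl) = _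
      rw [hpl1, nat_apply (a ≫ c₀), nat_apply (a ≫ c₀), hxj2, map_comp_apply',
        map_comp_apply', Category.assoc]
  · intro I _ _ D c hcl hD hpt i p p' hpp' hres
    have h1 : (a ≫ c₀).app _ (fst.app _ p) = (a ≫ c₀).app _ (fst.app _ p') := hpp'
    have h2 : F.map (c.π.app i).op (fst.app _ p) = F.map (c.π.app i).op (fst.app _ p') := by
      rw [← nat_cone, ← nat_cone, hres]
    obtain ⟨j, f, hj⟩ := hac.inj D c hcl hD hpt i _ _ h1 h2
    have h3 : (b ≫ c₀).app _ (snd.app _ p) = (b ≫ c₀).app _ (snd.app _ p') := by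
      show c₀.app _ (b.app _ (snd.app _ p)) = c₀.app _ (b.app _ (snd.app _ p'))
      rw [← hw, ← hw]
      exact hpp'
    have h4 : H.map (c.π.app i).op (snd.app _ p) = H.map (c.π.app i).op (snd.app _ p') := by
      rw [← nat_cone, ← nat_cone, hres]
    obtain ⟨k, g, hk⟩ := hbc.inj D c hcl hD hpt i _ _ h3 h4
    obtain ⟨l, m, m', -⟩ : ∃ (l : I) (m : l ⟶ j) (m' : l ⟶ k), True :=
      ⟨IsCofiltered.min j k, IsCofiltered.minToLeft j k, IsCofiltered.minToRight j k, trivial⟩
    obtain ⟨l', n, hn⟩ : ∃ (l' : I) (n : l' ⟶ l), n ≫ m ≫ f = n ≫ m' ≫ g :=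
      ⟨IsCofiltered.eq (m ≫ f) (m' ≫ g), IsCofiltered.eqHom (m ≫ f) (m' ≫ g),
        IsCofiltered.eq_condition _ _⟩
    refine ⟨l', n ≫ m ≫ f, ?_⟩
    apply Types.ext_of_isPullback (hPX _)
    · rw [nat_apply, nat_apply, ← Category.assoc, ← map_comp_apply' F D f (n ≫ m),
        ← map_comp_apply' F D f (n ≫ m), hj]
    · rw [nat_apply, nat_apply, hn, ← Category.assoc, ← map_comp_apply' H D g (n ≫ m'),
        ← map_comp_apply' H D g (n ≫ m'), hk]

end Chases

theorem isRelLimitPreserving_iff_star {F G : AlgSp.PSp S} (a : F ⟶ G) :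
    AlgSp.IsRelLimitPreserving a ↔ Star a :=
  ⟨star_of_isRelLimitPreserving a, isRelLimitPreserving_of_star a⟩

theorem isRelLimitPreserving_comp {F G H : AlgSp.PSp S} (a : F ⟶ G) (b : G ⟶ H)
    (ha : AlgSp.IsRelLimitPreserving a) (hb : AlgSp.IsRelLimitPreserving b) :
    AlgSp.IsRelLimitPreserving (a ≫ b) :=
  isRelLimitPreserving_of_star _ (star_comp a b (star_of_isRelLimitPreserving a ha)
    (star_of_isRelLimitPreserving b hb))

theorem isRelLimitPreserving_cancel {F G H : AlgSp.PSp S} (a : F ⟶ G) (b : G ⟶ H)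
    (hab : AlgSp.IsRelLimitPreserving (a ≫ b)) (hb : AlgSp.IsRelLimitPreserving b) :
    AlgSp.IsRelLimitPreserving a :=
  isRelLimitPreserving_of_star _ (star_cancel a b (star_of_isRelLimitPreserving _ hab)
    (star_of_isRelLimitPreserving b hb))

theorem isRelLimitPreserving_pullback {E F G H P : AlgSp.PSp S} (a : F ⟶ G) (b : H ⟶ G)
    (c : G ⟶ E) (fst : P ⟶ F) (snd : P ⟶ H) (hP : IsPullback fst snd a b)
    (hc : AlgSp.IsRelLimitPreserving c) (hac : AlgSp.IsRelLimitPreserving (a ≫ c))
    (hbc : AlgSp.IsRelLimitPreserving (b ≫ c)) :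
    AlgSp.IsRelLimitPreserving (fst ≫ a ≫ c) :=
  isRelLimitPreserving_of_star _ (star_pullback a b c fst snd hP
    (star_of_isRelLimitPreserving _ hc) (star_of_isRelLimitPreserving _ hac)
    (star_of_isRelLimitPreserving _ hbc))

end Groth.Agent.Lib.Helper43.RelLimPres
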