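import Mathlib
import Groth.Prelude.Def_W4sga3iivvp2RelPsh

/-!
# The relative presheaf on `Over S`: separatedness and sheaf condition
-/

set_option autoImplicit false
universe v₁ u₁
open CategoryTheory Opposite

namespace Groth.Agent.Lib.Helper43.RelPsh

variable {C : Type u₁} [Category.{v₁} C] (J : GrothendieckTopology C)
  {S : C} {F : Cᵒᵖ ⥤ Type v₁} (φ : F ⟶ yoneda.obj S)

lemma fam_congr {D : Type*} [Category D] {P : Dᵒᵖ ⥤ Type v₁} {X : D} {R : Presieve X}
    (x : Presieve.FamilyOfElements P R) {Y : D} {f f' : Y ⟶ X} (h : f = f') (hf : R f) :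
    x f hf = x f' (h ▸ hf) := by
  subst h
  rfl

theorem sep_of_sep (hF : Presieve.IsSeparated J F) :
    Presieve.IsSeparated (J.over S) (ShfCat.relPsh φ) := by
  intro T R' hR' fam t₁ t₂ h₁ h₂
  apply Subtype.ext
  refine (hF (Sieve.overEquiv T R') ((J.mem_over_iff R').mp hR')).ext ?_
  intro Y f hf
  rw [Sieve.overEquiv_iff] at hf
  have e1 := h₁ (Over.homMk f : Over.mk (f ≫ T.hom) ⟶ T) hf
  have e2 := h₂ (Over.homMk f : Over.mk (f ≫ T.hom) ⟶ T) hf
  exact congrArg Subtype.val (e1.trans e2.symm)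

theorem sep_of_sep_rel (hS : Presieve.IsSheaf J (yoneda.obj S))
    (hrel : Presieve.IsSeparated (J.over S) (ShfCat.relPsh φ)) : Presieve.IsSeparated J F := by
  intro X R hR fam x y hx hy
  have hφ : φ.app (op X) x = φ.app (op X) y := by
    refine (hS R hR).isSeparatedFor.ext ?_
    intro Y f hf
    have n1 := NatTrans.naturality_apply φ f.op x
    have n2 := NatTrans.naturality_apply φ f.op y
    rw [← n1, ← n2, hx f hf, hy f hf]
  let T : Over S := Over.mk (φ.app (op X) x)
  let x' : (ShfCat.relPsh φ).obj (op T) := ⟨x, rfl⟩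
  let y' : (ShfCat.relPsh φ).obj (op T) := ⟨y, hφ.symm⟩
  have hR' := J.overEquiv_symm_mem_over T R hR
  have : x' = y' := by
    refine (hrel _ hR').ext ?_
    intro T' g hg
    apply Subtype.ext
    rw [Sieve.overEquiv_symm_iff] at hg
    show F.map g.left.op x = F.map g.left.op y
    rw [hx g.left hg, hy g.left hg]
  exact congrArg Subtype.val this

theorem sheaf_of_sheaf (hS : Presieve.IsSheaf J (yoneda.obj S)) (hF : Presieve.IsSheaf J F) :
    Presieve.IsSheaf (J.over S) (ShfCat.relPsh φ) := by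
  have hFsep : Presieve.IsSeparated J F := fun {_} R hR => (hF R hR).isSeparatedFor
  intro T R' hR'
  rw [← Presieve.isSeparatedFor_and_exists_isAmalgamation_iff_isSheafFor]
  refine ⟨sep_of_sep J φ hFsep R' hR', ?_⟩
  intro fam' hfam'
  rw [Presieve.compatible_iff_sieveCompatible] at hfam'
  have hR : Sieve.overEquiv T R' ∈ J T.left := (J.mem_over_iff R').mp hR'
  -- the family in `F`
  let fam : Presieve.FamilyOfElements F (Sieve.overEquiv T R').arrows := fun Y f hf =>
    (fam' (Over.homMk f : Over.mk (f ≫ T.hom) ⟶ T) ((Sieve.overEquiv_iff R' f).mp hf)).1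
  have hfam : fam.Compatible := by
    rw [Presieve.compatible_iff_sieveCompatible]
    intro Y Z f g hf
    let g' : Over.mk ((g ≫ f) ≫ T.hom) ⟶ Over.mk (f ≫ T.hom) :=
      Over.homMk g (by simp)
    have e : (Over.homMk (g ≫ f) : Over.mk ((g ≫ f) ≫ T.hom) ⟶ T) =
        g' ≫ (Over.homMk f : Over.mk (f ≫ T.hom) ⟶ T) := by
      ext
      simp [g']
    have h1 := hfam' (Over.homMk f : Over.mk (f ≫ T.hom) ⟶ T) g'
      ((Sieve.overEquiv_iff R' f).mp hf)
    show (fam' (Over.homMk (g ≫ f) : Over.mk ((g ≫ f) ≫ T.hom) ⟶ T) _).1 =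
      F.map g.op (fam' (Over.homMk f : Over.mk (f ≫ T.hom) ⟶ T) _).1
    rw [fam_congr fam' e, h1]
    rfl
  obtain ⟨x, hx, -⟩ := hF _ hR fam hfam
  have hφx : φ.app (op T.left) x = T.hom := by
    refine (hS _ hR).isSeparatedFor.ext ?_
    intro Y f hf
    have n1 := NatTrans.naturality_apply φ f.op x
    rw [← n1, hx f hf]
    exact (fam' (Over.homMk f : Over.mk (f ≫ T.hom) ⟶ T) ((Sieve.overEquiv_iff R' f).mp hf)).2
  refine ⟨⟨x, hφx⟩, ?_⟩
  intro T' g hg
  apply Subtype.ext
  show F.map g.left.op x = (fam' g hg).1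
  have hgl : (Sieve.overEquiv T R').arrows g.left := by
    rw [Sieve.overEquiv_iff]
    let ι : Over.mk (g.left ≫ T.hom) ⟶ T' := Over.homMk (𝟙 _) (by simp)
    have e : (Over.homMk g.left : Over.mk (g.left ≫ T.hom) ⟶ T) = ι ≫ g := by
      ext
      simp [ι]
    rw [e]
    exact R'.downward_closed hg ι
  rw [hx g.left hgl]
  let ι : Over.mk (g.left ≫ T.hom) ⟶ T' := Over.homMk (𝟙 _) (by simp)
  have e : (Over.homMk g.left : Over.mk (g.left ≫ T.hom) ⟶ T) = ι ≫ g := by
    ext
    simp [ι]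
  show (fam' (Over.homMk g.left : Over.mk (g.left ≫ T.hom) ⟶ T) _).1 = _
  rw [fam_congr fam' e, hfam' g ι hg]
  show F.map (𝟙 _).op (fam' g hg).1 = _
  simp

theorem sheaf_of_sheaf_rel (hS : Presieve.IsSheaf J (yoneda.obj S))
    (hrel : Presieve.IsSheaf (J.over S) (ShfCat.relPsh φ)) : Presieve.IsSheaf J F := by
  have hrelsep : Presieve.IsSeparated (J.over S) (ShfCat.relPsh φ) :=
    fun {_} R hR => (hrel R hR).isSeparatedFor
  have hFsep := sep_of_sep_rel J φ hS hrelsep
  intro X R hR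
  rw [← Presieve.isSeparatedFor_and_exists_isAmalgamation_iff_isSheafFor]
  refine ⟨hFsep R hR, ?_⟩
  intro fam hfam
  obtain ⟨t, ht, -⟩ := hS R hR (Presieve.FamilyOfElements.map fam φ)
    (Presieve.FamilyOfElements.Compatible.map φ hfam)
  rw [Presieve.compatible_iff_sieveCompatible] at hfam
  let T : Over S := Over.mk t
  have hR' := J.overEquiv_symm_mem_over T R hR
  let fam' : Presieve.FamilyOfElements (ShfCat.relPsh φ) ((Sieve.overEquiv T).symm R).arrows :=
    fun T' g hg => ⟨fam g.left ((Sieve.overEquiv_symm_iff R g).mp hg), by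
      have h1 := ht g.left ((Sieve.overEquiv_symm_iff R g).mp hg)
      have h2 : g.left ≫ t = T'.hom := Over.w g
      exact h1.symm.trans h2⟩
  have hfam' : fam'.Compatible := by
    rw [Presieve.compatible_iff_sieveCompatible]
    intro T' T'' g k hg
    apply Subtype.ext
    show fam (k ≫ g).left _ = F.map k.left.op (fam g.left _)
    exact hfam g.left k.left _
  obtain ⟨x', hx', -⟩ := hrel _ hR' fam' hfam'
  refine ⟨x'.1, ?_⟩
  intro Y f hf
  have hg : ((Sieve.overEquiv T).symm R).arrows (Over.homMk f : Over.mk (f ≫ t) ⟶ T) := by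
    rw [Sieve.overEquiv_symm_iff]
    exact hf
  have := congrArg Subtype.val (hx' (Over.homMk f : Over.mk (f ≫ t) ⟶ T) hg)
  exact this

end Groth.Agent.Lib.Helper43.RelPsh
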