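import Mathlib

/-!
# Replete topos from enough weakly contractible objects

* `surjective_π_of_surjective_map`: for a tower `G : ℕᵒᵖ ⥤ Type w` with surjective transition
  maps, every projection of a limit cone is surjective (Mathlib has only the projection to `0`).
* `epi_π_of_enough_wc`: on a site with enough weakly contractible objects, the projections of an
  `ℕᵒᵖ`-limit of sheaves of sets with epimorphic transition maps are epimorphisms.
-/

set_option autoImplicit false
open CategoryTheory CategoryTheory.Limits Opposite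

namespace Groth.Agent.Lib.Helper43.RepleteWC

universe w v u

section Tower

variable {G : ℕᵒᵖ ⥤ Type w}
  (hG : ∀ n, Function.Surjective (G.map (homOfLE (Nat.le_succ n)).op))

/-- inductive choice of preimages, starting at level `n`. -/
noncomputable def pre (n : ℕ) (a : G.obj (op n)) : (k : ℕ) → G.obj (op (n + k))
  | 0 => a
  | k + 1 => (hG (n + k) (pre n a k)).choose

lemma pre_succ (n : ℕ) (a : G.obj (op n)) (k : ℕ) :
    G.map (homOfLE (Nat.le_succ (n + k))).op (pre hG n a (k + 1)) = pre hG n a k :=
  (hG (n + k) (pre hG n a k)).choose_spec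

/-- the compatible family. -/
noncomputable def fam (n : ℕ) (a : G.obj (op n)) (m : ℕ) : G.obj (op m) :=
  G.map (homOfLE (Nat.le_add_left m n)).op (pre hG n a m)

lemma map_map {a b c : ℕ} (h₁ : a ≤ b) (h₂ : b ≤ c) (x : G.obj (op c)) :
    G.map (homOfLE h₁).op (G.map (homOfLE h₂).op x) = G.map (homOfLE (h₁.trans h₂)).op x := by
  have : (homOfLE (h₁.trans h₂)).op = (homOfLE h₂).op ≫ (homOfLE h₁).op := rfl
  rw [this, FunctorToTypes.map_comp_apply]

lemma map_refl {a : ℕ} (h : a ≤ a) (x : G.obj (op a)) :
    G.map (homOfLE h).op x = x := by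
  have : (homOfLE h).op = 𝟙 (op a) := rfl
  rw [this, FunctorToTypes.map_id_apply]

lemma fam_succ (n : ℕ) (a : G.obj (op n)) (p : ℕ) :
    G.map (homOfLE (Nat.le_succ p)).op (fam hG n a (p + 1)) = fam hG n a p := by
  unfold fam
  rw [map_map]
  have : G.map (homOfLE ((Nat.le_succ p).trans (Nat.le_add_left (p + 1) n))).op
      (pre hG n a (p + 1)) =
      G.map (homOfLE (Nat.le_add_left p n)).op
        (G.map (homOfLE (Nat.le_succ (n + p))).op (pre hG n a (p + 1))) := by
    rw [map_map]
  rw [this, pre_succ]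

lemma fam_compat (n : ℕ) (a : G.obj (op n)) {m' m : ℕ} (h : m' ≤ m) :
    G.map (homOfLE h).op (fam hG n a m) = fam hG n a m' := by
  induction h with
  | refl => exact map_refl _ _
  | @step p h ih =>
    have h' : m' ≤ p := h
    rw [← ih, ← fam_succ hG n a p, map_map]

lemma map_pre (n : ℕ) (a : G.obj (op n)) (k : ℕ) :
    G.map (homOfLE (Nat.le_add_right n k)).op (pre hG n a k) = a := by
  induction k with
  | zero => exact map_refl _ _
  | succ k ih =>
    have h1 : G.map (homOfLE (Nat.le_add_right n (k + 1))).op (pre hG n a (k + 1)) =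
        G.map (homOfLE (Nat.le_add_right n k)).op
          (G.map (homOfLE (Nat.le_succ (n + k))).op (pre hG n a (k + 1))) := by
      rw [map_map]
    rw [h1, pre_succ, ih]

lemma fam_self (n : ℕ) (a : G.obj (op n)) : fam hG n a n = a := by
  unfold fam
  exact map_pre hG n a n

include hG in
lemma surjective_π_of_surjective_map {c : Cone G} (hc : IsLimit c) (n : ℕ) :
    Function.Surjective (c.π.app (op n)) := by
  intro a
  have hsec : (fun j : ℕᵒᵖ => fam hG n a j.unop) ∈ G.sections := by
    intro j j' f
    have hle : j'.unop ≤ j.unop := leOfHom f.unop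
    have : f = (homOfLE hle).op := Subsingleton.elim _ _
    rw [this]
    exact fam_compat hG n a hle
  refine ⟨(Types.isLimitEquivSections hc).symm ⟨_, hsec⟩, ?_⟩
  rw [Types.isLimitEquivSections_symm_apply]
  exact fam_self hG n a

end Tower

section Site

variable {C : Type u} [Category.{v} C] (J : GrothendieckTopology C)

theorem epi_π_of_enough_wc
    (hwc : ∀ V : C, ∃ S : Sieve V, S ∈ J V ∧ ∀ ⦃W : C⦄ (f : W ⟶ V), S.arrows f →
      ∃ (U : C) (g : W ⟶ U) (h : U ⟶ V), (∀ (A B : Sheaf J (Type w)) (ψ : A ⟶ B), Epi ψ →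
        Function.Surjective (ψ.hom.app (op U))) ∧ g ≫ h = f)
    (F : ℕᵒᵖ ⥤ Sheaf J (Type w))
    (hF : ∀ n : ℕ, Epi (F.map (homOfLE (Nat.le_succ n)).op))
    (c : Cone F) (hc : IsLimit c) (n : ℕ) :
    Epi (c.π.app (op n)) := by
  haveI : Sheaf.IsLocallySurjective (c.π.app (op n)) := by
    constructor
    intro V s
    obtain ⟨S, hS, hS'⟩ := hwc V
    refine J.superset_covering ?_ hS
    intro W f hf
    obtain ⟨U, g, h, hU, rfl⟩ := hS' f hf
    let E : Sheaf J (Type w) ⥤ Type w :=
      sheafToPresheaf J (Type w) ⋙ (evaluation _ _).obj (op U)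
    have hlim : IsLimit (E.mapCone c) := isLimitOfPreserves E hc
    have hG : ∀ m, Function.Surjective ((F ⋙ E).map (homOfLE (Nat.le_succ m)).op) :=
      fun m => hU _ _ _ (hF m)
    obtain ⟨t, ht⟩ := surjective_π_of_surjective_map hG hlim n
      ((F.obj (op n)).obj.map h.op s)
    refine ⟨c.pt.obj.map g.op t, ?_⟩
    have ht' : (c.π.app (op n)).hom.app (op U) t = (F.obj (op n)).obj.map h.op s := ht
    have hnat := NatTrans.naturality_apply (c.π.app (op n)).hom g.op t
    refine hnat.trans ?_
    rw [ht', op_comp, FunctorToTypes.map_comp_apply]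
  infer_instance

end Site

end Groth.Agent.Lib.Helper43.RepleteWC
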