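import Mathlib

/-!
# Realising a finite residue-field extension on a flat, finitely presented affine neighbourhood

For a scheme `S`, a point `s` and a finite extension `ℓ / κ(s)`, we take an affine open `U ∋ s`,
a presentation `κ(s)[T₁..Tₙ] ↠ ℓ` and map `Spec ℓ → 𝔸ⁿ_U`.
-/

universe u
open CategoryTheory CategoryTheory.Limits AlgebraicGeometry

namespace Groth.Agent.Lib.Helper43.ResExt

variable {S : Scheme.{u}} {U : S.Opens} (hU : IsAffineOpen U) {s : S} (hs : s ∈ U)

/-- evaluation at `s` as a ring hom -/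
noncomputable abbrev ev (U : S.Opens) (s : S) (hs : s ∈ U) : Γ(S, U) →+* S.residueField s :=
  (S.evaluation U s hs).hom

include hU in
lemma ev_frac (c : S.residueField s) :
    ∃ a' a : Γ(S, U), ev U s hs a ≠ 0 ∧ ev U s hs a * c = ev U s hs a' := by
  obtain ⟨z, rfl⟩ := S.residue_surjective s c
  letI := TopCat.Presheaf.algebra_section_stalk S.presheaf (U := U) ⟨s, hs⟩
  haveI : IsLocalization.AtPrime (S.presheaf.stalk s) (hU.primeIdealOf ⟨s, hs⟩).asIdeal :=
    hU.isLocalization_stalk ⟨s, hs⟩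
  obtain ⟨⟨a', m⟩, h⟩ := IsLocalization.surj (hU.primeIdealOf ⟨s, hs⟩).asIdeal.primeCompl z
  have hu : IsUnit (algebraMap Γ(S, U) (S.presheaf.stalk s) m.1) :=
    IsLocalization.map_units _ m
  refine ⟨a', m.1, ?_, ?_⟩
  · have h2 : IsUnit ((S.residue s).hom (algebraMap Γ(S, U) (S.presheaf.stalk s) m.1)) :=
      hu.map _
    exact h2.ne_zero
  · have h3 := congrArg (S.residue s).hom h
    rw [map_mul] at h3
    rw [mul_comm]
    exact h3

include hU in
lemma poly_frac {n : ℕ} (q : MvPolynomial (Fin n) (S.residueField s)) :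
    ∃ (r : MvPolynomial (Fin n) Γ(S, U)) (a : Γ(S, U)), ev U s hs a ≠ 0 ∧
      MvPolynomial.C (ev U s hs a) * q = MvPolynomial.map (ev U s hs) r := by
  induction q using MvPolynomial.induction_on with
  | C c =>
    obtain ⟨a', a, ha, h⟩ := ev_frac hU hs c
    refine ⟨MvPolynomial.C a', a, ha, ?_⟩
    rw [← MvPolynomial.C_mul, h, MvPolynomial.map_C]
  | add p q hp hq =>
    obtain ⟨r1, a1, h1, e1⟩ := hp
    obtain ⟨r2, a2, h2, e2⟩ := hq
    refine ⟨MvPolynomial.C a2 * r1 + MvPolynomial.C a1 * r2, a1 * a2, ?_, ?_⟩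
    · rw [map_mul]; exact mul_ne_zero h1 h2
    · have h3 : MvPolynomial.map (ev U s hs) (MvPolynomial.C a2 * r1 + MvPolynomial.C a1 * r2) =
          MvPolynomial.C (ev U s hs a2) * (MvPolynomial.C (ev U s hs a1) * p) +
            MvPolynomial.C (ev U s hs a1) * (MvPolynomial.C (ev U s hs a2) * q) := by
        rw [e1, e2]; simp
      rw [h3, map_mul, MvPolynomial.C_mul]
      ring
  | mul_X p i hp =>
    obtain ⟨r, a, h, e⟩ := hp
    refine ⟨r * MvPolynomial.X i, a, h, ?_⟩
    rw [map_mul, MvPolynomial.map_X, ← e, mul_assoc]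

theorem main (S : Scheme.{u}) (s : ↥S)
    (ℓ : Type u) [Field ℓ] [Algebra (S.residueField s) ℓ] [Module.Finite (S.residueField s) ℓ] :
    ∃ (U' : Scheme.{u}) (b : U' ⟶ S) (t : Spec (CommRingCat.of ℓ) ⟶ U'),
      IsAffine U' ∧ Flat b ∧ LocallyOfFinitePresentation b ∧ IsPreimmersion t ∧
        t ≫ b = Spec.map (CommRingCat.ofHom (algebraMap (S.residueField s) ℓ)) ≫
          S.fromSpecResidueField s := by
  obtain ⟨_, ⟨U, hU : IsAffineOpen U, rfl⟩, hs, -⟩ :=
    S.isBasis_affineOpens.exists_subset_of_mem_open (Set.mem_univ s) isOpen_univ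
  have hft : Algebra.FiniteType (S.residueField s) ℓ := inferInstance
  obtain ⟨n, g, hg⟩ := Algebra.FiniteType.iff_quotient_mvPolynomial''.mp hft
  let A : CommRingCat.{u} := Γ(S, U)
  let φ : MvPolynomial (Fin n) A →+* ℓ :=
    (g : MvPolynomial (Fin n) (S.residueField s) →+* ℓ).comp (MvPolynomial.map (ev U s hs))
  let cC : A ⟶ CommRingCat.of (MvPolynomial (Fin n) A) :=
    CommRingCat.ofHom (algebraMap A (MvPolynomial (Fin n) A))
  have hflat : Flat (Spec.map cC) := by
    rw [Flat.SpecMap_iff]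
    exact RingHom.flat_algebraMap_iff.mpr inferInstance
  have hfp : LocallyOfFinitePresentation (Spec.map cC) := by
    rw [LocallyOfFinitePresentation.SpecMap_iff]
    exact RingHom.finitePresentation_algebraMap.mpr inferInstance
  refine ⟨Spec (CommRingCat.of (MvPolynomial (Fin n) A)), Spec.map cC ≫ hU.fromSpec,
    Spec.map (CommRingCat.ofHom φ), inferInstance, inferInstance, inferInstance, ?_, ?_⟩
  · refine IsPreimmersion.mk_SpecMap (Topology.IsEmbedding.of_subsingleton _) ?_
    refine RingHom.surjectiveOnStalks_of_exists_div fun x => ?_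
    obtain ⟨q, rfl⟩ := hg x
    obtain ⟨r, a, ha, e⟩ := poly_frac hU hs q
    refine ⟨r, MvPolynomial.C a, ?_, ?_⟩
    · have : φ (MvPolynomial.C a) = algebraMap _ ℓ (ev U s hs a) := by
        change g (MvPolynomial.map (ev U s hs) (MvPolynomial.C a)) = _
        rw [MvPolynomial.map_C, ← MvPolynomial.algebraMap_eq, AlgHom.commutes]
      change IsUnit (φ (MvPolynomial.C a))
      rw [this]
      exact (IsUnit.mk0 _ ha).map _
    · change φ (MvPolynomial.C a) * g q = φ r
      change g (MvPolynomial.map (ev U s hs) (MvPolynomial.C a)) * g q =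
        g (MvPolynomial.map (ev U s hs) r)
      rw [← e, map_mul, MvPolynomial.map_C]
  · rw [← Spec.map_comp_assoc]
    have hcomp : cC ≫ CommRingCat.ofHom φ =
        S.evaluation U s hs ≫ CommRingCat.ofHom (algebraMap (S.residueField s) ℓ) := by
      ext a
      change g (MvPolynomial.map (ev U s hs) (MvPolynomial.C a)) = _
      rw [MvPolynomial.map_C, ← MvPolynomial.algebraMap_eq, AlgHom.commutes]
      rfl
    rw [hcomp, Spec.map_comp_assoc, Scheme.fromSpecResidueField,
      ← hU.fromSpecStalk_eq_fromSpecStalk hs, IsAffineOpen.fromSpecStalk, ← Scheme.germ_residue,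
      Spec.map_comp_assoc]
    rfl

end Groth.Agent.Lib.Helper43.ResExt
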