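import Groth.Prelude.Def_Hyper

/-!
# Coverings between semi-representable objects (formal coproducts)

`Hyper.IsSRCovering` is stable under composition, contains isomorphisms and is stable under
base change.
-/

set_option autoImplicit false
universe u
open CategoryTheory CategoryTheory.Limits

namespace Groth.Agent.Lib.Helper43.SRCov

variable {C : Type u} [SmallCategory C] (J : GrothendieckTopology C)

/-- Membership in the sieve used in `Hyper.IsSRCovering`. -/
lemma mem_iff {K L : FormalCoproduct.{u} C} (f : K ⟶ L) (j : L.I) {W : C} (h : W ⟶ L.obj j) :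
    (Sieve.ofArrows (fun i : {i : K.I // f.f i = j} => K.obj i.1)
      (fun i => f.φ i.1 ≫ eqToHom (congrArg L.obj i.2))).arrows h ↔
    ∃ (i : K.I) (e : f.f i = j) (a : W ⟶ K.obj i), h = a ≫ f.φ i ≫ eqToHom (congrArg L.obj e) := by
  rw [Sieve.mem_ofArrows_iff]
  constructor
  · rintro ⟨⟨i, e⟩, a, ha⟩
    exact ⟨i, e, a, ha⟩
  · rintro ⟨i, e, a, ha⟩
    exact ⟨⟨i, e⟩, a, ha⟩

lemma comp {K L M : FormalCoproduct.{u} C} (f : K ⟶ L) (g : L ⟶ M)
    (hf : Hyper.IsSRCovering J f) (hg : Hyper.IsSRCovering J g) :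
    Hyper.IsSRCovering J (f ≫ g) := by
  intro m
  refine J.transitive (hg m) _ ?_
  intro Y h hh
  rw [mem_iff] at hh
  obtain ⟨l, rfl, a, rfl⟩ := hh
  refine J.superset_covering ?_ (J.pullback_stable a (hf l))
  intro Z k hk
  rw [Sieve.pullback_apply, mem_iff] at hk
  obtain ⟨i, rfl, b, hb⟩ := hk
  rw [Sieve.pullback_apply, mem_iff]
  refine ⟨i, rfl, b, ?_⟩
  simp only [eqToHom_refl, Category.comp_id] at hb ⊢
  rw [← Category.assoc, hb]
  simp

lemma of_iso {K L : FormalCoproduct.{u} C} (e : K ≅ L) : Hyper.IsSRCovering J e.hom := by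
  intro j
  apply J.covering_of_eq_top
  rw [← Sieve.id_mem_iff_eq_top, mem_iff]
  obtain ⟨h₁, h₂⟩ := (FormalCoproduct.hom_ext_iff _ _).1 e.inv_hom_id
  refine ⟨e.inv.f j, congrFun h₁ j, e.inv.φ j, ?_⟩
  have := h₂ j
  simp only [FormalCoproduct.category_comp_φ, FormalCoproduct.category_id_φ, Category.assoc] at this
  exact this.symm

variable [HasPullbacks C]

lemma pullbackCone_fst {K L L' : FormalCoproduct.{u} C} (f : K ⟶ L) (g : L' ⟶ L)
    (hf : Hyper.IsSRCovering J f) :
    Hyper.IsSRCovering J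
      (FormalCoproduct.pullbackCone g f (fun _ ↦ pullback.cone _ _)).fst := by
  intro j'
  refine J.superset_covering ?_ (J.pullback_stable (g.φ j') (hf (g.f j')))
  intro Y h hh
  rw [Sieve.pullback_apply, mem_iff] at hh
  obtain ⟨k, e, b, hb⟩ := hh
  rw [mem_iff]
  have hcond : h ≫ g.φ j' ≫ eqToHom (congrArg L.obj e.symm) = b ≫ f.φ k := by
    rw [← Category.assoc, hb]
    simp
  refine ⟨⟨(j', k), e.symm⟩, rfl, pullback.lift h b hcond, ?_⟩
  have key : pullback.lift h b hcond ≫ pullback.fst _ _ = h := pullback.lift_fst _ _ _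
  exact key.symm.trans (congrArg (pullback.lift h b hcond ≫ ·) (Category.comp_id _).symm)

lemma pullback_fst {K L L' : FormalCoproduct.{u} C} (f : K ⟶ L) (g : L' ⟶ L)
    (hf : Hyper.IsSRCovering J f) [HasPullback g f] :
    Hyper.IsSRCovering J (pullback.fst g f) := by
  have hpb := FormalCoproduct.isPullback g f (fun _ ↦ pullback.cone _ _)
    (fun _ ↦ pullback.isLimit _ _)
  have h2 : pullback.fst g f = (hpb.isoPullback).inv ≫
      (FormalCoproduct.pullbackCone g f (fun _ ↦ pullback.cone _ _)).fst := by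
    rw [Iso.eq_inv_comp]
    exact hpb.isoPullback_hom_fst
  rw [h2]
  exact comp J _ _ (of_iso J hpb.isoPullback.symm) (pullbackCone_fst J f g hf)

end Groth.Agent.Lib.Helper43.SRCov
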