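import Groth.Agent.Lib.Helper43.SRCov
import Mathlib.CategoryTheory.Limits.Types.Colimits
import Mathlib.CategoryTheory.Limits.FunctorCategory.Basic

/-!
# SR-coverings and local surjectivity of the associated presheaf maps
-/

set_option autoImplicit false
set_option linter.deprecated false
universe u
open CategoryTheory CategoryTheory.Limits Opposite

namespace Groth.Agent.Lib.Helper43.SRLoc

variable {C : Type u} [SmallCategory C]

/-- The section of `F(K)` over `V` attached to a morphism `incl V ⟶ K`. -/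
noncomputable def τ (K : FormalCoproduct.{u} C) (V : C) (t : (FormalCoproduct.incl C).obj V ⟶ K) :
    (FormalCoproduct.yoneda.obj K).obj (op V) :=
  (Sigma.ι (fun i => yoneda.obj (K.obj i)) (t.f PUnit.unit)).app (op V) (t.φ PUnit.unit)

lemma τ_map {K L : FormalCoproduct.{u} C} (f : K ⟶ L) (V : C)
    (t : (FormalCoproduct.incl C).obj V ⟶ K) :
    (FormalCoproduct.yoneda.map f).app (op V) (τ K V t) = τ L V (t ≫ f) := by
  unfold τ
  have h : Sigma.ι (fun i => yoneda.obj (K.obj i)) (t.f PUnit.unit) ≫ FormalCoproduct.yoneda.map f =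
      yoneda.map (f.φ (t.f PUnit.unit)) ≫
        Sigma.ι (fun i => yoneda.obj (L.obj i)) (f.f (t.f PUnit.unit)) := by
    simp only [FormalCoproduct.yoneda, FormalCoproduct.eval_obj_map]
    exact Sigma.ι_desc _ _
  have h2 := ConcreteCategory.congr_hom (NatTrans.congr_app h (op V)) (t.φ PUnit.unit)
  exact h2

lemma τ_res (K : FormalCoproduct.{u} C) {V V' : C} (g : V' ⟶ V)
    (t : (FormalCoproduct.incl C).obj V ⟶ K) :
    (FormalCoproduct.yoneda.obj K).map g.op (τ K V t) =
      τ K V' ((FormalCoproduct.incl C).map g ≫ t) := by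
  unfold τ
  exact (NatTrans.naturality_apply (Sigma.ι (fun i => yoneda.obj (K.obj i)) (t.f PUnit.unit))
    g.op (t.φ PUnit.unit)).symm

lemma τ_surjective (K : FormalCoproduct.{u} C) (V : C) : Function.Surjective (τ K V) := by
  intro s
  have hc := isColimitOfPreserves ((evaluation Cᵒᵖ (Type u)).obj (op V))
    (colimit.isColimit (Discrete.functor (fun i => yoneda.obj (K.obj i))))
  obtain ⟨⟨i⟩, b, hb⟩ := Types.jointly_surjective_of_isColimit hc s
  refine ⟨FormalCoproduct.Hom.fromIncl i b, ?_⟩
  exact hb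

/-- The sieve of arrows `g : V ⟶ U` such that `incl g ≫ c` lifts through `f`. -/
def liftSieve {K L : FormalCoproduct.{u} C} (f : K ⟶ L) {U : C}
    (c : (FormalCoproduct.incl C).obj U ⟶ L) : Sieve U where
  arrows V g := ∃ t : (FormalCoproduct.incl C).obj V ⟶ K, t ≫ f = (FormalCoproduct.incl C).map g ≫ c
  downward_closed := by
    rintro V W g ⟨t, ht⟩ h
    exact ⟨(FormalCoproduct.incl C).map h ≫ t, by
      rw [Category.assoc, ht, Functor.map_comp, Category.assoc]⟩

variable (J : GrothendieckTopology C)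

lemma liftSieve_mem {K L : FormalCoproduct.{u} C} (f : K ⟶ L) (hf : Hyper.IsSRCovering J f)
    {U : C} (c : (FormalCoproduct.incl C).obj U ⟶ L) : liftSieve f c ∈ J U := by
  obtain ⟨j, a, rfl⟩ : ∃ j a, c = FormalCoproduct.Hom.fromIncl j a :=
    ⟨_, _, (FormalCoproduct.Hom.fromIncl_asSigma c).symm⟩
  refine J.superset_covering ?_ (J.pullback_stable a (hf j))
  intro V g hg
  rw [Sieve.pullback_apply, SRCov.mem_iff] at hg
  obtain ⟨i, rfl, b, hb⟩ := hg
  refine ⟨FormalCoproduct.Hom.fromIncl i b, ?_⟩
  refine FormalCoproduct.hom_ext rfl ?_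
  intro _
  simp only [eqToHom_refl, Category.comp_id] at hb
  erw [Category.comp_id]
  exact hb.symm

/-- An SR-covering induces a locally surjective map of presheaves. -/
lemma isLocallySurjective {K L : FormalCoproduct.{u} C} (f : K ⟶ L)
    (hf : Hyper.IsSRCovering J f) :
    Presheaf.IsLocallySurjective J (FormalCoproduct.yoneda.map f) := by
  refine ⟨fun {U} s => ?_⟩
  obtain ⟨c, rfl⟩ := τ_surjective L U s
  refine J.superset_covering ?_ (liftSieve_mem J f hf c)
  rintro V g ⟨t, ht⟩
  exact ⟨τ K V t, by rw [τ_map, ht, τ_res]⟩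

end Groth.Agent.Lib.Helper43.SRLoc
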