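import Groth.Agent.Lib.Helper43.PullShExact
import Groth.Prelude.Def_SGA4b

/-!
# Pullback of global sections of étale sheaves of sets: naturality, monomorphisms
-/

set_option autoImplicit false
open CategoryTheory Limits Functor AlgebraicGeometry Opposite

namespace Groth.Agent.Lib.Helper43.SecPull

open Groth.Agent.Lib.Helper43.PullShExact

universe u

variable {X Y : Scheme.{u}} (h : Y ⟶ X)

/-- naturality of `secPull` in the sheaf. -/
lemma secPull_naturality {F G : EtDesc.Sh X} (v : F ⟶ G) (s : EtDesc.sect F (EtCoh.top X)) :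
    ((EtDesc.pullSh h).map v).hom.app (op (EtCoh.top Y)) (EtDesc.secPull h F s) =
      EtDesc.secPull h G (v.hom.app (op (EtCoh.top X)) s) := by
  unfold EtDesc.secPull
  have h1 := ConcreteCategory.congr_hom
    (((EtDesc.pullSh h).map v).hom.naturality (EtCore.bcTopIso h).inv.op)
    (((EtDesc.adjSh h).unit.app F).hom.app (op (EtCoh.top X)) s)
  have e2 := (EtDesc.adjSh h).unit.naturality v
  have h2 := congrArg (fun t : F ⟶ (EtDesc.pushSh h).obj ((EtDesc.pullSh h).obj G) =>
    t.hom.app (op (EtCoh.top X)) s) e2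
  dsimp at h1 h2 ⊢
  refine h1.trans ?_
  exact congrArg (ConcreteCategory.hom
    (((EtDesc.pullSh h).obj G).obj.map (EtCore.bcTopIso h).inv.op)) h2.symm

/-- a monomorphism of sheaves of sets is injective on sections. -/
lemma injective_of_mono {Z : Scheme.{u}} {F G : EtDesc.Sh Z} (v : F ⟶ G) [Mono v]
    (U : Z.Etaleᵒᵖ) : Function.Injective (v.hom.app U) := by
  haveI : Mono v.hom := inferInstance
  haveI : Mono (v.hom.app U) := inferInstance
  exact (mono_iff_injective _).mp inferInstance

/-- a monomorphism of sheaves of sets is, on sections, the equalizer of any pair it equalizes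
universally (regularity of monomorphisms in a topos). -/
lemma exists_of_mono {Z : Scheme.{u}} {F G : EtDesc.Sh Z} (v : F ⟶ G) [Mono v]
    (U : Z.Etaleᵒᵖ) (g : G.obj.obj U)
    (hg : ∀ {P : EtDesc.Sh Z} (a b : G ⟶ P), v ≫ a = v ≫ b → a.hom.app U g = b.hom.app U g) :
    ∃ f : F.obj.obj U, v.hom.app U f = g := by
  let rm := regularMonoOfMono v
  let Γ : EtDesc.Sh Z ⥤ Type (u + 1) :=
    sheafToPresheaf _ _ ⋙ (evaluation _ _).obj U
  have hl := isLimitForkMapOfIsLimit Γ rm.w rm.isLimit
  obtain ⟨f, hf, -⟩ := Types.unique_of_type_equalizer _ _ hl g (hg rm.left rm.right rm.w)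
  exact ⟨f, hf⟩

/-- `S8542`. -/
theorem mem_range_secPull_of_mono
    (hinj : ∀ F : EtDesc.Sh X, Function.Injective (EtDesc.secPull h F))
    {F G : EtDesc.Sh X} (v : F ⟶ G) [Mono v]
    (ξ : EtDesc.sect ((EtDesc.pullSh h).obj F) (EtCoh.top Y))
    (hξ : ((EtDesc.pullSh h).map v).hom.app (op (EtCoh.top Y)) ξ ∈
      Set.range (EtDesc.secPull h G)) :
    ξ ∈ Set.range (EtDesc.secPull h F) := by
  obtain ⟨g, hg⟩ := hξ
  obtain ⟨f, hf⟩ := exists_of_mono v (op (EtCoh.top X)) g (by
    intro P a b hab
    apply hinj P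
    rw [← secPull_naturality h a g, ← secPull_naturality h b g, hg]
    have e := congrArg (fun t => ((EtDesc.pullSh h).map t).hom.app (op (EtCoh.top Y)) ξ) hab
    simpa using e)
  refine ⟨f, ?_⟩
  haveI : Mono ((EtDesc.pullSh h).map v) := inferInstance
  apply injective_of_mono ((EtDesc.pullSh h).map v) (op (EtCoh.top Y))
  rw [secPull_naturality h v f, hf, hg]

end Groth.Agent.Lib.Helper43.SecPull
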