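import Groth.Agent.Lib.Helper43.SecPull
import Groth.Prelude.Def_EtBCD

/-!
# Pullback of global sections and the base change morphism for sheaves of sets
-/

set_option autoImplicit false
open CategoryTheory Limits Functor AlgebraicGeometry Opposite

namespace Groth.Agent.Lib.Helper43.SecPullBC

open Groth.Agent.Lib.Helper43.SecPull

universe u

/-- the components of `pushCompSh` are restriction maps. -/
lemma pushCompSh_hom_app {X Y Z : Scheme.{u}} (f : X ⟶ Y) (g : Z ⟶ X) (G : EtDesc.Sh Z)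
    (U : Y.Etale) :
    ∃ m : (EtCoh.bc (g ≫ f)).obj U ⟶ (EtCoh.bc g).obj ((EtCoh.bc f).obj U),
      (((EtDesc.pushCompSh f g).hom.app G).hom.app (op U)) = G.obj.map m.op :=
  ⟨_, rfl⟩

lemma pushCompSh_inv_app {X Y Z : Scheme.{u}} (f : X ⟶ Y) (g : Z ⟶ X) (G : EtDesc.Sh Z)
    (U : Y.Etale) :
    ∃ m : (EtCoh.bc g).obj ((EtCoh.bc f).obj U) ⟶ (EtCoh.bc (g ≫ f)).obj U,
      (((EtDesc.pushCompSh f g).inv.app G).hom.app (op U)) = G.obj.map m.op :=
  ⟨_, rfl⟩

lemma pushCongrSh_hom_app {X Y : Scheme.{u}} {f f' : X ⟶ Y} (e : f = f') (G : EtDesc.Sh X)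
    (U : Y.Etale) :
    ∃ m : (EtCoh.bc f').obj U ⟶ (EtCoh.bc f).obj U,
      (((EtBC.pushCongrSh e).hom.app G).hom.app (op U)) = G.obj.map m.op :=
  ⟨_, rfl⟩

/-- the key compatibility: `secPull` along the base change `hb` is computed from `secPull` along
`h` and the base change morphism. -/
lemma secPull_eq {X Y Xb Yb : Scheme.{u}}
    (h : Y ⟶ X) (p : Xb ⟶ X) (hb : Yb ⟶ Xb) (pY : Yb ⟶ Y) (w : hb ≫ p = pY ≫ h)
    (Fb : EtDesc.Sh Xb) (s : EtDesc.sect Fb (EtCoh.top Xb)) :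
    EtDesc.secPull hb Fb s =
      ((EtDesc.pullSh hb).obj Fb).obj.map (EtCore.bcTopIso pY).inv.op
        ((EtBC.baseChange0Sh p h pY hb w Fb).hom.app (op (EtCoh.top Y))
          (EtDesc.secPull h ((EtDesc.pushSh p).obj Fb)
            (Fb.obj.map (EtCore.bcTopIso p).hom.op s))) := by
  set G := (EtDesc.pushSh p).obj Fb with hG
  set t : EtDesc.sect G (EtCoh.top X) := Fb.obj.map (EtCore.bcTopIso p).hom.op s with ht
  set α : G ⟶ (EtDesc.pushSh h).obj ((EtDesc.pushSh pY).obj ((EtDesc.pullSh hb).obj Fb)) :=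
    (EtDesc.pushSh p).map ((EtDesc.adjSh hb).unit.app Fb) ≫ (EtDesc.pushCompSh p hb).hom.app _ ≫
      (EtBC.pushCongrSh w).hom.app _ ≫ (EtDesc.pushCompSh h pY).inv.app _ with hα
  set β := EtBC.baseChange0Sh p h pY hb w Fb with hβ
  have hβα : ((EtDesc.adjSh h).homEquiv _ _) β = α := by
    rw [hβ]; unfold EtBC.baseChange0Sh
    exact Equiv.apply_symm_apply _ _
  -- step 1: naturality of β
  have h1 := ConcreteCategory.congr_hom (β.hom.naturality (EtCore.bcTopIso h).inv.op)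
    (((EtDesc.adjSh h).unit.app G).hom.app (op (EtCoh.top X)) t)
  -- step 2: adjunction
  have h2 : β.hom.app (op ((EtCoh.bc h).obj (EtCoh.top X)))
      (((EtDesc.adjSh h).unit.app G).hom.app (op (EtCoh.top X)) t) =
      α.hom.app (op (EtCoh.top X)) t := by
    rw [← hβα, Adjunction.homEquiv_unit]
    rfl
  obtain ⟨m1, e1⟩ := pushCompSh_hom_app p hb ((EtDesc.pullSh hb).obj Fb) (EtCoh.top X)
  obtain ⟨m2, e2⟩ := pushCongrSh_hom_app w ((EtDesc.pullSh hb).obj Fb) (EtCoh.top X)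
  obtain ⟨m3, e3⟩ := pushCompSh_inv_app h pY ((EtDesc.pullSh hb).obj Fb) (EtCoh.top X)
  have h3 : α.hom.app (op (EtCoh.top X)) t =
      ((EtDesc.pullSh hb).obj Fb).obj.map m3.op (((EtDesc.pullSh hb).obj Fb).obj.map m2.op
        (((EtDesc.pullSh hb).obj Fb).obj.map m1.op
          (((EtDesc.adjSh hb).unit.app Fb).hom.app (op ((EtCoh.bc p).obj (EtCoh.top X))) t))) := by
    rw [← e1, ← e2, ← e3]
    rfl
  have h4 := ConcreteCategory.congr_hom
    (((EtDesc.adjSh hb).unit.app Fb).hom.naturality (EtCore.bcTopIso p).hom.op) s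
  unfold EtDesc.secPull
  dsimp only [types_comp_apply] at h1 h4 ⊢
  set H := (EtDesc.pullSh hb).obj Fb with hH
  have key : ∀ {A B C : Yb.Etale} (a : A ⟶ B) (b : B ⟶ C) (x : H.obj.obj (op C)),
      H.obj.map a.op (H.obj.map b.op x) = H.obj.map (a ≫ b).op x := by
    intro A B C a b x
    simp
  have h1' : ((EtDesc.pushSh pY).obj H).obj.map (EtCore.bcTopIso h).inv.op =
    H.obj.map ((EtCoh.bc pY).map (EtCore.bcTopIso h).inv).op := rfl
  have h4' : ((EtDesc.pullSh hb ⋙ EtDesc.pushSh hb).obj Fb).obj.map (EtCore.bcTopIso p).hom.op =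
    H.obj.map ((EtCoh.bc hb).map (EtCore.bcTopIso p).hom).op := rfl
  rw [h1, h2, h3, ht]
  erw [h4]
  rw [h1', h4', key, key]
  erw [key, key, key]
  congr 2
  exact congrArg (fun m => H.obj.map (Quiver.Hom.op m)) ((EtCore.bcTopIsTerminal hb).hom_ext _ _)

lemma bijective_map_iso {C : Type*} [Category C] (P : Cᵒᵖ ⥤ Type (u + 1)) {A B : C} (e : A ≅ B) :
    Function.Bijective (P.map e.hom.op) ∧ Function.Bijective (P.map e.inv.op) := by
  constructor
  · exact (isIso_iff_bijective (P.map e.hom.op)).mp inferInstance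
  · exact (isIso_iff_bijective (P.map e.inv.op)).mp inferInstance

lemma bijective_of_isIso {Z : Scheme.{u}} {F G : EtDesc.Sh Z} (v : F ⟶ G) [IsIso v]
    (U : Z.Etaleᵒᵖ) : Function.Bijective (v.hom.app U) := by
  haveI : IsIso v.hom := (inferInstance : IsIso ((sheafToPresheaf _ _).map v))
  haveI : IsIso (v.hom.app U) := inferInstance
  exact (isIso_iff_bijective _).mp inferInstance

/-- `S8547`. -/
theorem secPull_pullback {X Y Xb Yb : Scheme.{u}}
    (h : Y ⟶ X) (p : Xb ⟶ X) (hb : Yb ⟶ Xb) (pY : Yb ⟶ Y) (w : hb ≫ p = pY ≫ h) :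
    ((∀ F : EtDesc.Sh X, Function.Injective (EtDesc.secPull h F)) →
      (∀ Fb : EtDesc.Sh Xb, Mono (EtBC.baseChange0Sh p h pY hb w Fb)) →
      ∀ Fb : EtDesc.Sh Xb, Function.Injective (EtDesc.secPull hb Fb)) ∧
    ((∀ F : EtDesc.Sh X, Function.Bijective (EtDesc.secPull h F)) →
      (∀ Fb : EtDesc.Sh Xb, IsIso (EtBC.baseChange0Sh p h pY hb w Fb)) →
      ∀ Fb : EtDesc.Sh Xb, Function.Bijective (EtDesc.secPull hb Fb)) := by
  constructor
  · intro hinj hmono Fb
    have := hmono Fb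
    have e : EtDesc.secPull hb Fb =
        (((EtDesc.pullSh hb).obj Fb).obj.map (EtCore.bcTopIso pY).inv.op) ∘
          ((EtBC.baseChange0Sh p h pY hb w Fb).hom.app (op (EtCoh.top Y))) ∘
            (EtDesc.secPull h ((EtDesc.pushSh p).obj Fb)) ∘
              (Fb.obj.map (EtCore.bcTopIso p).hom.op) := by
      funext s
      exact secPull_eq h p hb pY w Fb s
    rw [e]
    exact ((bijective_map_iso _ _).2.injective).comp
      ((Groth.Agent.Lib.Helper43.SecPull.injective_of_mono _ _).comp ((hinj _).comp (bijective_map_iso _ _).1.injective))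
  · intro hbij hiso Fb
    have := hiso Fb
    have e : EtDesc.secPull hb Fb =
        (((EtDesc.pullSh hb).obj Fb).obj.map (EtCore.bcTopIso pY).inv.op) ∘
          ((EtBC.baseChange0Sh p h pY hb w Fb).hom.app (op (EtCoh.top Y))) ∘
            (EtDesc.secPull h ((EtDesc.pushSh p).obj Fb)) ∘
              (Fb.obj.map (EtCore.bcTopIso p).hom.op) := by
      funext s
      exact secPull_eq h p hb pY w Fb s
    rw [e]
    exact ((bijective_map_iso _ _).2).comp
      ((bijective_of_isIso _ _).comp ((hbij _).comp (bijective_map_iso _ _).1))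

end Groth.Agent.Lib.Helper43.SecPullBC
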