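import Mathlib
import Groth.Prelude.Def_SGA4b
import Groth.Agent.Lib.Helper70.StalkPullGerm
import Groth.Agent.Lib.Helper70.StalkConsSet

/-!
# The unit `F ⟶ f_* f^* F` for sheaves of sets is a monomorphism when `f` is surjective
(set-valued analogue of `Helper70.PullSection.mono_unit_of_surjective`).
-/

set_option autoImplicit false
open CategoryTheory CategoryTheory.Limits AlgebraicGeometry Opposite

universe u

namespace Groth.Agent.Lib.Helper43.UnitMonoSet

open Groth.Agent.Lib.Helper70.ClosedImmStalk2 Groth.Agent.Lib.Helper70.StalkPull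
  Groth.Agent.Lib.Helper70.StalkPullGerm Groth.Agent.Lib.Helper70.StalkCons

variable {S T : Scheme.{u}} (F : EtDesc.Sh S) (f : T ⟶ S)

set_option backward.isDefEq.respectTransparency.types false in
/-- germs of the pulled back section -/
theorem germ_pull {Ω : Type u} [Field Ω] [IsSepClosed Ω] (τ : Spec (CommRingCat.of Ω) ⟶ T)
    (V : S.Etale) (v : (Scheme.pointSmallEtale (τ ≫ f)).fiber.obj V) (s : EtDesc.sect F V) :
    (stalkPullIso f τ (Type (u + 1))).inv.app F
      ((Scheme.pointSmallEtale (τ ≫ f)).toPresheafFiber V v F.obj s) =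
    (Scheme.pointSmallEtale τ).toPresheafFiber ((EtCoh.bc f).obj V) (tilde f τ V v)
      ((EtDesc.pullSh f).obj F).obj (((EtDesc.adjSh f).unit.app F).hom.app (op V) s) := by
  have h := germ_stalkPullIso_inv f τ (Type (u + 1)) F V v
  exact ConcreteCategory.congr_hom h s

set_option backward.isDefEq.respectTransparency.types false in
/-- the unit `F ⟶ f_* f^* F` is injective on sections when `f` is surjective. -/
theorem unit_injective [Surjective f] (V : S.Etale) :
    Function.Injective (((EtDesc.adjSh f).unit.app F).hom.app (op V)) := by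
  intro d₁ d₂ hd
  have hsep := ((isSheaf_iff_isSheaf_of_type _ _).1 F.2).isSeparated
  let R : Sieve V :=
    { arrows := fun Y g => F.obj.map g.op d₁ = F.obj.map g.op d₂
      downward_closed := by
        intro Y Z g hg k
        rw [op_comp, F.obj.map_comp, ConcreteCategory.comp_apply, ConcreteCategory.comp_apply, hg] }
  have hR : R ∈ S.smallEtaleTopology V := by
    rw [Groth.Agent.S6632.mem_smallEtaleTopology_iff]
    intro p
    obtain ⟨z, hz⟩ := (inferInstance : Surjective (pullback.fst V.hom f)).surj p
    let V' : T.Etale := (EtCoh.bc f).obj V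
    let z' : V'.left := z
    let τ := geomPt V' z'
    let x := geomPtFiber V' z'
    let v := (tilde f (τ ≫ V'.hom) V).symm x
    have hx : x = tilde f (τ ≫ V'.hom) V v := (Equiv.apply_symm_apply _ _).symm
    have h1 := germ_pull F f (τ ≫ V'.hom) V v d₁
    have h2 := germ_pull F f (τ ≫ V'.hom) V v d₂
    rw [hd] at h1
    have h3 := h1.trans h2.symm
    have h4 : (Scheme.pointSmallEtale ((τ ≫ V'.hom) ≫ f)).toPresheafFiber V v F.obj d₁ =
        (Scheme.pointSmallEtale ((τ ≫ V'.hom) ≫ f)).toPresheafFiber V v F.obj d₂ := by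
      have e1 := ConcreteCategory.congr_hom
        ((stalkPullIso f (τ ≫ V'.hom) (Type (u + 1))).app F).inv_hom_id
        ((Scheme.pointSmallEtale ((τ ≫ V'.hom) ≫ f)).toPresheafFiber V v F.obj d₁)
      have e2 := ConcreteCategory.congr_hom
        ((stalkPullIso f (τ ≫ V'.hom) (Type (u + 1))).app F).inv_hom_id
        ((Scheme.pointSmallEtale ((τ ≫ V'.hom) ≫ f)).toPresheafFiber V v F.obj d₂)
      have e3 := congrArg ((stalkPullIso f (τ ≫ V'.hom) (Type (u + 1))).hom.app F) h3
      exact e1.symm.trans (e3.trans e2)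
    rw [GrothendieckTopology.Point.toPresheafFiber_eq_iff'] at h4
    obtain ⟨Y, g, y, hy, hz'⟩ := h4
    let yl : Spec (CommRingCat.of (SeparableClosure (V'.left.residueField z'))) ⟶ Y.left := y.left
    refine ⟨Y, g, yl.base default, hz', ?_⟩
    have h5 : yl ≫ g.left = v.left := congrArg (fun k => k.left) hy
    have h6 : (v.left : Spec (CommRingCat.of (SeparableClosure (V'.left.residueField z'))) ⟶
        V.left) = τ ≫ pullback.fst V.hom f := rfl
    rw [← Scheme.Hom.comp_apply, h5, h6, Scheme.Hom.comp_apply]
    have h7 : τ.base default = z := geomPt_apply V' z' default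
    rw [h7]
    exact hz
  exact (hsep R hR).ext (fun Y g hg => hg)

/-- the unit `F ⟶ f_* f^* F` is a monomorphism for surjective `f`. -/
theorem mono_unit_of_surjective [Surjective f] : Mono ((EtDesc.adjSh f).unit.app F) := by
  apply Sheaf.mono_of_injective
  intro V
  exact unit_injective F f V.unop

/-- `S3047`. -/
theorem faithful_reflectsIso [Surjective f] :
    (EtDesc.pullSh f).Faithful ∧ (EtDesc.pullSh f).ReflectsIsomorphisms := by
  haveI : ∀ F : EtDesc.Sh S, Mono ((EtDesc.adjSh f).unit.app F) :=
    fun F => mono_unit_of_surjective F f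
  haveI hfa : (EtDesc.pullSh f).Faithful := (EtDesc.adjSh f).faithful_L_of_mono_unit_app
  exact ⟨hfa, inferInstance⟩

end Groth.Agent.Lib.Helper43.UnitMonoSet
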