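import Groth.Agent.Lib.Helper43.SecPullBC
import Groth.Agent.Lib.Helper43.UnitMonoSet

/-!
# Descent of injectivity / bijectivity of `secPull` along a surjective base change
-/

set_option autoImplicit false
open CategoryTheory Limits Functor AlgebraicGeometry Opposite

namespace Groth.Agent.Lib.Helper43.SecPullSurj

open Groth.Agent.Lib.Helper43.SecPull Groth.Agent.Lib.Helper43.SecPullBC

universe u

variable {X Y Xb Yb : Scheme.{u}}
    (h : Y ⟶ X) (p : Xb ⟶ X) (hb : Yb ⟶ Xb) (pY : Yb ⟶ Y) (w : hb ≫ p = pY ≫ h)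

lemma secPull_eq_comp (Fb : EtDesc.Sh Xb) :
    EtDesc.secPull hb Fb =
      (((EtDesc.pullSh hb).obj Fb).obj.map (EtCore.bcTopIso pY).inv.op) ∘
        ((EtBC.baseChange0Sh p h pY hb w Fb).hom.app (op (EtCoh.top Y))) ∘
          (EtDesc.secPull h ((EtDesc.pushSh p).obj Fb)) ∘
            (Fb.obj.map (EtCore.bcTopIso p).hom.op) := by
  funext s
  exact secPull_eq h p hb pY w Fb s

include pY w in
lemma injective_push (Fb : EtDesc.Sh Xb) (hinj : Function.Injective (EtDesc.secPull hb Fb)) :
    Function.Injective (EtDesc.secPull h ((EtDesc.pushSh p).obj Fb)) := by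
  rw [secPull_eq_comp h p hb pY w Fb] at hinj
  have h1 : Function.Injective ((EtDesc.secPull h ((EtDesc.pushSh p).obj Fb)) ∘
      (Fb.obj.map (EtCore.bcTopIso p).hom.op)) :=
    Function.Injective.of_comp (f := (((EtDesc.pullSh hb).obj Fb).obj.map
      (EtCore.bcTopIso pY).inv.op) ∘
        ((EtBC.baseChange0Sh p h pY hb w Fb).hom.app (op (EtCoh.top Y)))) hinj
  exact Function.Injective.of_comp_right h1 (bijective_map_iso _ _).1.surjective

lemma surjective_push (Fb : EtDesc.Sh Xb) (hbij : Function.Bijective (EtDesc.secPull hb Fb))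
    [Mono (EtBC.baseChange0Sh p h pY hb w Fb)] :
    Function.Surjective (EtDesc.secPull h ((EtDesc.pushSh p).obj Fb)) := by
  rw [secPull_eq_comp h p hb pY w Fb] at hbij
  intro y
  have hAβ : Function.Injective ((((EtDesc.pullSh hb).obj Fb).obj.map
      (EtCore.bcTopIso pY).inv.op) ∘
        ((EtBC.baseChange0Sh p h pY hb w Fb).hom.app (op (EtCoh.top Y)))) :=
    ((bijective_map_iso _ _).2.injective).comp
      (Groth.Agent.Lib.Helper43.SecPull.injective_of_mono _ _)
  obtain ⟨x, hx⟩ := hbij.surjective ((((EtDesc.pullSh hb).obj Fb).obj.map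
      (EtCore.bcTopIso pY).inv.op)
        ((EtBC.baseChange0Sh p h pY hb w Fb).hom.app (op (EtCoh.top Y)) y))
  exact ⟨_, hAβ hx⟩

/-- `S3517`. -/
theorem secPull_descent [Surjective p] :
    ((∀ Fb : EtDesc.Sh Xb, Function.Injective (EtDesc.secPull hb Fb)) →
      ∀ F : EtDesc.Sh X, Function.Injective (EtDesc.secPull h F)) ∧
    ((∀ Fb : EtDesc.Sh Xb, Function.Bijective (EtDesc.secPull hb Fb)) →
      (∀ Fb : EtDesc.Sh Xb, Mono (EtBC.baseChange0Sh p h pY hb w Fb)) →
      ∀ F : EtDesc.Sh X, Function.Bijective (EtDesc.secPull h F)) := by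
  have hA : (∀ Fb : EtDesc.Sh Xb, Function.Injective (EtDesc.secPull hb Fb)) →
      ∀ F : EtDesc.Sh X, Function.Injective (EtDesc.secPull h F) := by
    intro hinj F s s' hs
    have := Groth.Agent.Lib.Helper43.UnitMonoSet.mono_unit_of_surjective F p
    apply Groth.Agent.Lib.Helper43.SecPull.injective_of_mono ((EtDesc.adjSh p).unit.app F)
      (op (EtCoh.top X))
    apply injective_push h p hb pY w ((EtDesc.pullSh p).obj F) (hinj _)
    have e1 := secPull_naturality h ((EtDesc.adjSh p).unit.app F) s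
    have e2 := secPull_naturality h ((EtDesc.adjSh p).unit.app F) s'
    exact e1.symm.trans ((congrArg _ hs).trans e2)
  refine ⟨hA, ?_⟩
  intro hbij hmono F
  have hinj := hA (fun Fb => (hbij Fb).injective)
  refine ⟨hinj F, ?_⟩
  intro ξ
  have := Groth.Agent.Lib.Helper43.UnitMonoSet.mono_unit_of_surjective F p
  have := hmono ((EtDesc.pullSh p).obj F)
  have hr := mem_range_secPull_of_mono h hinj ((EtDesc.adjSh p).unit.app F) ξ
    (surjective_push h p hb pY w ((EtDesc.pullSh p).obj F) (hbij _) _)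
  exact hr

end Groth.Agent.Lib.Helper43.SecPullSurj
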