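import Groth.Agent.Lib.Helper43.Conn1
import Groth.Agent.Lib.Helper43.GerbBC
import Groth.Prelude.Def_AlgSt

/-!
# Restriction of sections of a category fibred in groupoids along a 1-connected functor

For `φ : C ⥤ D` whose comma categories `(Y/φ)` are 1-connected (`Conn1`) and `p : F ⥤ D` fibred
in groupoids, restriction of sections `Γ(D, F) ⥤ Γ(C, F)` along `φ` is an equivalence.
-/

set_option autoImplicit false
open CategoryTheory Functor

namespace Groth.Agent.Lib.Helper43.SecRestr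

open Groth.Agent.Lib.Helper43.Conn1 Groth.Agent.Lib.Helper43.FibGrpdFun
  Groth.Agent.Lib.Helper43.GerbComp Groth.Agent.Lib.Helper43.GerbBC

universe v₁ v₂ v₃ u₁ u₂ u₃

variable {C : Type u₁} [Category.{v₁} C] {D : Type u₂} [Category.{v₂} D]
  {F : Type u₃} [Category.{v₃} F] (φ : C ⥤ D) (p : F ⥤ D)

/-- `C` over `D` via `φ`. -/
abbrev 𝒞 : BasedCategory.{v₁, u₁} D := BasedCategory.ofFunctor φ
/-- `F` over `D` via `p`. -/
abbrev ℱ : BasedCategory.{v₃, u₃} D := BasedCategory.ofFunctor p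

/-- the restriction functor on sections -/
abbrev res : (FibCat.selfOver D ⥤ᵇ ℱ p) ⥤ (𝒞 φ ⥤ᵇ ℱ p) :=
  Stk.restr (FibCat.toSelf (𝒞 φ)) (ℱ p)

section Kit

variable (hp : FibCat.IsFibGrpd p)

include hp in
lemma cancel {R S T : D} (g : R ⟶ S) (f : S ⟶ T) {z y x : F} (ψ : y ⟶ x) [p.IsHomLift f ψ]
    (χ₁ χ₂ : z ⟶ y) [p.IsHomLift g χ₁] [p.IsHomLift g χ₂] (h : χ₁ ≫ ψ = χ₂ ≫ ψ) : χ₁ = χ₂ := by
  haveI := sc_of_lift p hp f ψ
  exact IsStronglyCartesian.ext p f ψ g h

lemma lift_s (s : FibCat.selfOver D ⥤ᵇ ℱ p) {Y' Y : D} (b : Y' ⟶ Y) :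
    p.IsHomLift b (s.toFunctor.map b) := by
  haveI : (FibCat.selfOver D).p.IsHomLift b b := by
    show (𝟭 D).IsHomLift ((𝟭 D).map b) b
    infer_instance
  exact (inferInstance : (ℱ p).p.IsHomLift b (s.toFunctor.map b))

lemma lift_t (t : 𝒞 φ ⥤ᵇ ℱ p) {X X' : C} (g : X ⟶ X') :
    p.IsHomLift (φ.map g) (t.toFunctor.map g) := by
  haveI : (𝒞 φ).p.IsHomLift (φ.map g) g := by
    show φ.IsHomLift (φ.map g) g
    infer_instance
  exact (inferInstance : (ℱ p).p.IsHomLift (φ.map g) (t.toFunctor.map g))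

lemma lift_app {𝒜 : BasedCategory D} {s s' : 𝒜 ⥤ᵇ ℱ p} (α : s ⟶ s') (a : 𝒜.obj)
    {Y : D} (h : 𝒜.p.obj a = Y) : p.IsHomLift (𝟙 Y) (α.toNatTrans.app a) := by
  subst h; exact α.isHomLift' a

end Kit

section Faithful

variable (hp : FibCat.IsFibGrpd p) (hne : ∀ Y : D, Nonempty (StructuredArrow Y φ))

include hp hne in
theorem faithful_res : (res φ p).Faithful where
  map_injective {s s'} α β h := by
    apply BasedNatTrans.homCategory.ext
    ext Y
    obtain ⟨i⟩ := hne Y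
    have hα := α.toNatTrans.naturality i.hom
    have hβ := β.toNatTrans.naturality i.hom
    have hX : α.toNatTrans.app (φ.obj i.right) = β.toNatTrans.app (φ.obj i.right) :=
      congrArg (fun γ : (res φ p).obj s ⟶ (res φ p).obj s' => γ.toNatTrans.app i.right) h
    haveI := lift_s p s' i.hom
    haveI : p.IsHomLift (𝟙 Y) (α.toNatTrans.app Y) := lift_app p α Y rfl
    haveI : p.IsHomLift (𝟙 Y) (β.toNatTrans.app Y) := lift_app p β Y rfl
    refine cancel p hp (𝟙 Y) i.hom (s'.toFunctor.map i.hom) _ _ ?_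
    exact hα.symm.trans ((congrArg (fun m => s.toFunctor.map i.hom ≫ m) hX).trans hβ)

end Faithful

section Access

/-- value of a section on an object (clean type) -/
abbrev sObj (s : FibCat.selfOver D ⥤ᵇ ℱ p) (Y : D) : F := s.toFunctor.obj Y

/-- value of a section on a morphism (clean type) -/
abbrev sMap (s : FibCat.selfOver D ⥤ᵇ ℱ p) {Y' Y : D} (b : Y' ⟶ Y) : sObj p s Y' ⟶ sObj p s Y :=
  s.toFunctor.map b

lemma sMap_comp (s : FibCat.selfOver D ⥤ᵇ ℱ p) {Y'' Y' Y : D} (b' : Y'' ⟶ Y') (b : Y' ⟶ Y) :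
    sMap p s (b' ≫ b) = sMap p s b' ≫ sMap p s b := s.toFunctor.map_comp b' b

lemma sMap_id (s : FibCat.selfOver D ⥤ᵇ ℱ p) (Y : D) : sMap p s (𝟙 Y) = 𝟙 _ :=
  s.toFunctor.map_id Y

instance (s : FibCat.selfOver D ⥤ᵇ ℱ p) {Y' Y : D} (b : Y' ⟶ Y) :
    p.IsHomLift b (sMap p s b) := lift_s p s b

variable {s s' : FibCat.selfOver D ⥤ᵇ ℱ p} (γ : (res φ p).obj s ⟶ (res φ p).obj s')

/-- component of a transformation between restricted sections (clean type) -/
def gApp (X : C) : sObj p s (φ.obj X) ⟶ sObj p s' (φ.obj X) := γ.toNatTrans.app X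

instance (X : C) : p.IsHomLift (𝟙 (φ.obj X)) (gApp φ p γ X) := γ.isHomLift' X

lemma gApp_naturality {X X' : C} (g : X ⟶ X') :
    sMap p s (φ.map g) ≫ gApp φ p γ X' = gApp φ p γ X ≫ sMap p s' (φ.map g) :=
  γ.toNatTrans.naturality g

end Access

section Full

variable (hp : FibCat.IsFibGrpd p) (hφ : ∀ Y : D, Conn1.{u₃, v₃} (StructuredArrow Y φ))
  {s s' : FibCat.selfOver D ⥤ᵇ ℱ p} (γ : (res φ p).obj s ⟶ (res φ p).obj s')

include hp in
lemma exists_alphaAt {Y : D} (X : C) (a : Y ⟶ φ.obj X) :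
    ∃ χ : sObj p s Y ⟶ sObj p s' Y, p.IsHomLift (𝟙 Y) χ ∧
      χ ≫ sMap p s' a = sMap p s a ≫ gApp φ p γ X :=
  exists_factor_id p hp a (sMap p s' a) (sMap p s a ≫ gApp φ p γ X)

/-- candidate component at `Y`, computed with `(X, a)`. -/
noncomputable def alphaAt {Y : D} (X : C) (a : Y ⟶ φ.obj X) : sObj p s Y ⟶ sObj p s' Y :=
  (exists_alphaAt φ p hp γ X a).choose

instance alphaAt_lift {Y : D} (X : C) (a : Y ⟶ φ.obj X) :
    p.IsHomLift (𝟙 Y) (alphaAt φ p hp γ X a) :=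
  (exists_alphaAt φ p hp γ X a).choose_spec.1

lemma alphaAt_spec {Y : D} (X : C) (a : Y ⟶ φ.obj X) :
    alphaAt φ p hp γ X a ≫ sMap p s' a = sMap p s a ≫ gApp φ p γ X :=
  (exists_alphaAt φ p hp γ X a).choose_spec.2

lemma alphaAt_eq_of_hom {Y : D} {X X' : C} (a : Y ⟶ φ.obj X) (g : X ⟶ X') :
    alphaAt φ p hp γ X a = alphaAt φ p hp γ X' (a ≫ φ.map g) := by
  refine cancel p hp (𝟙 Y) (a ≫ φ.map g) (sMap p s' (a ≫ φ.map g)) _ _ ?_
  rw [alphaAt_spec, sMap_comp, ← Category.assoc, alphaAt_spec, Category.assoc,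
    ← gApp_naturality, sMap_comp, Category.assoc]

include hφ in
lemma alphaAt_const {Y : D} (i j : StructuredArrow Y φ) :
    alphaAt φ p hp γ i.right i.hom = alphaAt φ p hp γ j.right j.hom := by
  refine (hφ Y).const_of_hom (fun i => alphaAt φ p hp γ i.right i.hom) ?_ i j
  intro i j m
  have h := alphaAt_eq_of_hom φ p hp γ i.hom m.right
  rw [StructuredArrow.w m] at h
  exact h

/-- the component at `Y`. -/
noncomputable def alpha (Y : D) : sObj p s Y ⟶ sObj p s' Y :=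
  alphaAt φ p hp γ (hφ Y).nonempty.some.right (hφ Y).nonempty.some.hom

lemma alpha_eq {Y : D} (X : C) (a : Y ⟶ φ.obj X) :
    alpha φ p hp hφ γ Y = alphaAt φ p hp γ X a :=
  alphaAt_const φ p hp hφ γ _ (StructuredArrow.mk a)

lemma alpha_naturality {Y' Y : D} (b : Y' ⟶ Y) :
    sMap p s b ≫ alpha φ p hp hφ γ Y = alpha φ p hp hφ γ Y' ≫ sMap p s' b := by
  obtain ⟨i⟩ := (hφ Y).nonempty
  rw [alpha_eq φ p hp hφ γ i.right i.hom, alpha_eq φ p hp hφ γ i.right (b ≫ i.hom)]
  refine cancel p hp b i.hom (sMap p s' i.hom) _ _ ?_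
  rw [Category.assoc, alphaAt_spec, Category.assoc, ← sMap_comp, alphaAt_spec,
    ← Category.assoc, ← sMap_comp]

/-- the lifted transformation. -/
noncomputable def alphaTrans : s ⟶ s' where
  toNatTrans :=
    { app := fun Y => alpha φ p hp hφ γ Y
      naturality := fun _ _ b => alpha_naturality φ p hp hφ γ b }
  isHomLift' := fun Y => by
    show p.IsHomLift (𝟙 Y) (alpha φ p hp hφ γ Y)
    exact alphaAt_lift φ p hp γ _ _

lemma alpha_res (X : C) : alpha φ p hp hφ γ (φ.obj X) = gApp φ p γ X := by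
  rw [alpha_eq φ p hp hφ γ X (𝟙 _)]
  have h := alphaAt_spec φ p hp γ X (𝟙 (φ.obj X))
  rw [sMap_id, sMap_id, Category.comp_id, Category.id_comp] at h
  exact h

include hp hφ in
theorem full_res : (res φ p).Full where
  map_surjective {s s'} γ := ⟨alphaTrans φ p hp hφ γ, by
    apply BasedNatTrans.homCategory.ext
    ext X
    exact alpha_res φ p hp hφ γ X⟩

end Full

section EssSurj

variable (hp : FibCat.IsFibGrpd p) (hφ : ∀ Y : D, Conn1.{u₃, v₃} (StructuredArrow Y φ))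
  (t : 𝒞 φ ⥤ᵇ ℱ p)

/-- value of a section over `φ` on an object (clean type) -/
abbrev tObj (X : C) : F := t.toFunctor.obj X

/-- value of a section over `φ` on a morphism (clean type) -/
abbrev tMap {X X' : C} (g : X ⟶ X') : tObj φ p t X ⟶ tObj φ p t X' := t.toFunctor.map g

instance {X X' : C} (g : X ⟶ X') : p.IsHomLift (φ.map g) (tMap φ p t g) := lift_t φ p t g

lemma tObj_over (X : C) : p.obj (tObj φ p t X) = φ.obj X := t.w_obj X

lemma tMap_comp {X X' X'' : C} (g : X ⟶ X') (g' : X' ⟶ X'') :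
    tMap φ p t (g ≫ g') = tMap φ p t g ≫ tMap φ p t g' := t.toFunctor.map_comp g g'

lemma tMap_id (X : C) : tMap φ p t (𝟙 X) = 𝟙 _ := t.toFunctor.map_id X

/-- an object over `Y` with compatible legs to all `t X`, `Y ⟶ φ X`. -/
structure Datum (Y : D) where
  /-- the object -/
  obj : F
  hobj : p.obj obj = Y
  /-- the legs -/
  leg : ∀ (X : C) (_ : Y ⟶ φ.obj X), obj ⟶ tObj φ p t X
  lift : ∀ (X : C) (a : Y ⟶ φ.obj X), p.IsHomLift a (leg X a)
  nat : ∀ {X X' : C} (a : Y ⟶ φ.obj X) (g : X ⟶ X'),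
    leg X a ≫ tMap φ p t g = leg X' (a ≫ φ.map g)

include hp in
lemma isGroupoid_fiber (Y : D) : IsGroupoid (p.Fiber Y) where
  all_isIso {a b} f := by
    haveI : p.IsHomLift (𝟙 Y) f.1 := f.2
    haveI := isIso_of_lift_id p hp Y f.1
    refine ⟨⟨⟨inv f.1, inferInstance⟩, ?_, ?_⟩⟩
    · apply Fiber.hom_ext
      show f.1 ≫ inv f.1 = 𝟙 _
      simp
    · apply Fiber.hom_ext
      show inv f.1 ≫ f.1 = 𝟙 _
      simp

section Pb

variable {Y : D}

include hp in
lemma pbEx (i : StructuredArrow Y φ) :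
    ∃ (y : F) (ℓ : y ⟶ tObj φ p t i.right), p.IsHomLift i.hom ℓ :=
  exists_lift' p hp (tObj_over φ p t i.right) i.hom

/-- chosen pullback of `t X` along `a`. -/
noncomputable def pb (i : StructuredArrow Y φ) : F := (pbEx φ p hp t i).choose

/-- the chosen cartesian arrow -/
noncomputable def pbMap (i : StructuredArrow Y φ) : pb φ p hp t i ⟶ tObj φ p t i.right :=
  (pbEx φ p hp t i).choose_spec.choose

instance pbMap_lift (i : StructuredArrow Y φ) : p.IsHomLift i.hom (pbMap φ p hp t i) :=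
  (pbEx φ p hp t i).choose_spec.choose_spec

lemma lift_pbMap_comp {i j : StructuredArrow Y φ} (m : i ⟶ j) :
    p.IsHomLift j.hom (pbMap φ p hp t i ≫ tMap φ p t m.right) := by
  have h : p.IsHomLift (i.hom ≫ φ.map m.right) (pbMap φ p hp t i ≫ tMap φ p t m.right) :=
    inferInstance
  rwa [StructuredArrow.w m] at h

lemma exists_pbHom {i j : StructuredArrow Y φ} (m : i ⟶ j) :
    ∃ χ : pb φ p hp t i ⟶ pb φ p hp t j, p.IsHomLift (𝟙 Y) χ ∧
      χ ≫ pbMap φ p hp t j = pbMap φ p hp t i ≫ tMap φ p t m.right := by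
  haveI := lift_pbMap_comp φ p hp t m
  exact exists_factor_id p hp j.hom (pbMap φ p hp t j) (pbMap φ p hp t i ≫ tMap φ p t m.right)

/-- induced map between chosen pullbacks -/
noncomputable def pbHom {i j : StructuredArrow Y φ} (m : i ⟶ j) :
    pb φ p hp t i ⟶ pb φ p hp t j := (exists_pbHom φ p hp t m).choose

instance pbHom_lift {i j : StructuredArrow Y φ} (m : i ⟶ j) :
    p.IsHomLift (𝟙 Y) (pbHom φ p hp t m) := (exists_pbHom φ p hp t m).choose_spec.1

lemma pbHom_spec {i j : StructuredArrow Y φ} (m : i ⟶ j) :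
    pbHom φ p hp t m ≫ pbMap φ p hp t j = pbMap φ p hp t i ≫ tMap φ p t m.right :=
  (exists_pbHom φ p hp t m).choose_spec.2

lemma pbHom_id (i : StructuredArrow Y φ) : pbHom φ p hp t (𝟙 i) = 𝟙 _ := by
  haveI : p.IsHomLift (𝟙 Y) (𝟙 (pb φ p hp t i)) :=
    IsHomLift.id (IsHomLift.domain_eq p i.hom (pbMap φ p hp t i))
  refine cancel p hp (𝟙 Y) i.hom (pbMap φ p hp t i) _ _ ?_
  rw [pbHom_spec, StructuredArrow.id_right, tMap_id, Category.comp_id, Category.id_comp]

lemma pbHom_comp {i j k : StructuredArrow Y φ} (m : i ⟶ j) (n : j ⟶ k) :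
    pbHom φ p hp t (m ≫ n) = pbHom φ p hp t m ≫ pbHom φ p hp t n := by
  refine cancel p hp (𝟙 Y) k.hom (pbMap φ p hp t k) _ _ ?_
  rw [pbHom_spec, Category.assoc, pbHom_spec, ← Category.assoc, pbHom_spec, Category.assoc,
    StructuredArrow.comp_right, tMap_comp]

/-- the pullback functor to the fibre -/
noncomputable def pbFun : StructuredArrow Y φ ⥤ p.Fiber Y where
  obj i := ⟨pb φ p hp t i, IsHomLift.domain_eq p i.hom (pbMap φ p hp t i)⟩
  map m := ⟨pbHom φ p hp t m, pbHom_lift φ p hp t m⟩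
  map_id i := Fiber.hom_ext (pbHom_id φ p hp t i)
  map_comp m n := Fiber.hom_ext (pbHom_comp φ p hp t m n)

end Pb

section Theta

variable {Y : D} (c : p.Fiber Y) (θ : (Functor.const (StructuredArrow Y φ)).obj c ≅ pbFun φ p hp t)

/-- components of the trivialisation, clean types -/
noncomputable def thetaApp (i : StructuredArrow Y φ) :
    Fiber.fiberInclusion.obj c ⟶ pb φ p hp t i :=
  Fiber.fiberInclusion.map (θ.hom.app i)

instance thetaApp_lift (i : StructuredArrow Y φ) :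
    p.IsHomLift (𝟙 Y) (thetaApp φ p hp t c θ i) :=
  (θ.hom.app i).2

lemma thetaApp_nat {i j : StructuredArrow Y φ} (m : i ⟶ j) :
    thetaApp φ p hp t c θ j = thetaApp φ p hp t c θ i ≫ pbHom φ p hp t m := by
  have h := θ.hom.naturality m
  have h' := congrArg (fun f => Fiber.fiberInclusion.map f) h
  simp only [Functor.const_obj_obj, Functor.const_obj_map, Category.id_comp,
    Functor.map_comp] at h'
  exact h'

/-- the datum obtained from a trivialisation of the pullback functor. -/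
noncomputable def datumOfIso : Datum φ p t Y where
  obj := Fiber.fiberInclusion.obj c
  hobj := c.2
  leg := fun X a => thetaApp φ p hp t c θ (StructuredArrow.mk a) ≫
    pbMap φ p hp t (StructuredArrow.mk a)
  lift := by
    intro X a
    haveI : p.IsHomLift a (pbMap φ p hp t (StructuredArrow.mk a)) :=
      pbMap_lift φ p hp t (StructuredArrow.mk a)
    infer_instance
  nat := by
    intro X X' a g
    let m : StructuredArrow.mk a ⟶ StructuredArrow.mk (a ≫ φ.map g) :=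
      StructuredArrow.homMk g rfl
    have h1 := thetaApp_nat φ p hp t c θ m
    have h2 : pbHom φ p hp t m ≫ pbMap φ p hp t (StructuredArrow.mk (a ≫ φ.map g)) =
        pbMap φ p hp t (StructuredArrow.mk a) ≫ tMap φ p t g := pbHom_spec φ p hp t m
    rw [h1, Category.assoc, Category.assoc, h2]

end Theta

include hp hφ in
theorem nonempty_datum (Y : D) : Nonempty (Datum φ p t Y) := by
  haveI := isGroupoid_fiber p hp Y
  obtain ⟨c, ⟨θ⟩⟩ := (hφ Y).exists_const (pbFun φ p hp t (Y := Y))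
  exact ⟨datumOfIso φ p hp t c θ⟩

section Build

variable (d : ∀ Y : D, Datum φ p t Y)

instance leg_lift (Y : D) (X : C) (a : Y ⟶ φ.obj X) : p.IsHomLift a ((d Y).leg X a) :=
  (d Y).lift X a

include hp in
lemma exists_mapAt {Y' Y : D} (b : Y' ⟶ Y) (X : C) (a : Y ⟶ φ.obj X) :
    ∃ χ : (d Y').obj ⟶ (d Y).obj, p.IsHomLift b χ ∧
      χ ≫ (d Y).leg X a = (d Y').leg X (b ≫ a) :=
  exists_factor p hp a ((d Y).leg X a) b ((d Y').leg X (b ≫ a))

/-- candidate value on `b`, computed with `(X, a)` -/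
noncomputable def mapAt {Y' Y : D} (b : Y' ⟶ Y) (X : C) (a : Y ⟶ φ.obj X) :
    (d Y').obj ⟶ (d Y).obj := (exists_mapAt φ p hp t d b X a).choose

instance mapAt_lift {Y' Y : D} (b : Y' ⟶ Y) (X : C) (a : Y ⟶ φ.obj X) :
    p.IsHomLift b (mapAt φ p hp t d b X a) := (exists_mapAt φ p hp t d b X a).choose_spec.1

lemma mapAt_spec {Y' Y : D} (b : Y' ⟶ Y) (X : C) (a : Y ⟶ φ.obj X) :
    mapAt φ p hp t d b X a ≫ (d Y).leg X a = (d Y').leg X (b ≫ a) :=
  (exists_mapAt φ p hp t d b X a).choose_spec.2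

lemma mapAt_eq_of_hom {Y' Y : D} (b : Y' ⟶ Y) {X X' : C} (a : Y ⟶ φ.obj X) (g : X ⟶ X') :
    mapAt φ p hp t d b X a = mapAt φ p hp t d b X' (a ≫ φ.map g) := by
  refine cancel p hp b (a ≫ φ.map g) ((d Y).leg X' (a ≫ φ.map g)) _ _ ?_
  calc mapAt φ p hp t d b X a ≫ (d Y).leg X' (a ≫ φ.map g)
      = mapAt φ p hp t d b X a ≫ (d Y).leg X a ≫ tMap φ p t g := by rw [(d Y).nat]
    _ = (d Y').leg X (b ≫ a) ≫ tMap φ p t g := by rw [← Category.assoc, mapAt_spec]
    _ = (d Y').leg X' ((b ≫ a) ≫ φ.map g) := (d Y').nat _ _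
    _ = (d Y').leg X' (b ≫ a ≫ φ.map g) := by rw [Category.assoc]
    _ = mapAt φ p hp t d b X' (a ≫ φ.map g) ≫ (d Y).leg X' (a ≫ φ.map g) :=
        (mapAt_spec φ p hp t d b X' (a ≫ φ.map g)).symm

include hφ in
lemma mapAt_const {Y' Y : D} (b : Y' ⟶ Y) (i j : StructuredArrow Y φ) :
    mapAt φ p hp t d b i.right i.hom = mapAt φ p hp t d b j.right j.hom := by
  refine (hφ Y).const_of_hom (fun i => mapAt φ p hp t d b i.right i.hom) ?_ i j
  intro i j m
  have h := mapAt_eq_of_hom φ p hp t d b i.hom m.right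
  rw [StructuredArrow.w m] at h
  exact h

/-- value of the glued section on a morphism -/
noncomputable def dMap {Y' Y : D} (b : Y' ⟶ Y) : (d Y').obj ⟶ (d Y).obj :=
  mapAt φ p hp t d b (hφ Y).nonempty.some.right (hφ Y).nonempty.some.hom

lemma dMap_eq {Y' Y : D} (b : Y' ⟶ Y) (X : C) (a : Y ⟶ φ.obj X) :
    dMap φ p hp hφ t d b = mapAt φ p hp t d b X a :=
  mapAt_const φ p hp hφ t d b _ (StructuredArrow.mk a)

instance dMap_lift {Y' Y : D} (b : Y' ⟶ Y) : p.IsHomLift b (dMap φ p hp hφ t d b) :=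
  mapAt_lift φ p hp t d b _ _

lemma dMap_spec {Y' Y : D} (b : Y' ⟶ Y) (X : C) (a : Y ⟶ φ.obj X) :
    dMap φ p hp hφ t d b ≫ (d Y).leg X a = (d Y').leg X (b ≫ a) := by
  rw [dMap_eq φ p hp hφ t d b X a, mapAt_spec]

lemma dMap_id (Y : D) : dMap φ p hp hφ t d (𝟙 Y) = 𝟙 _ := by
  obtain ⟨i⟩ := (hφ Y).nonempty
  haveI : p.IsHomLift (𝟙 Y) (𝟙 (d Y).obj) := IsHomLift.id (d Y).hobj
  refine cancel p hp (𝟙 Y) i.hom ((d Y).leg i.right i.hom) _ _ ?_
  rw [dMap_spec, Category.id_comp, Category.id_comp]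

lemma dMap_comp {Y'' Y' Y : D} (b' : Y'' ⟶ Y') (b : Y' ⟶ Y) :
    dMap φ p hp hφ t d (b' ≫ b) = dMap φ p hp hφ t d b' ≫ dMap φ p hp hφ t d b := by
  obtain ⟨i⟩ := (hφ Y).nonempty
  refine cancel p hp (b' ≫ b) i.hom ((d Y).leg i.right i.hom) _ _ ?_
  simp only [dMap_spec, Category.assoc]

/-- the glued section -/
noncomputable def sec : FibCat.selfOver D ⥤ᵇ ℱ p where
  toFunctor :=
    { obj := fun Y => (d Y).obj
      map := fun b => dMap φ p hp hφ t d b
      map_id := fun Y => dMap_id φ p hp hφ t d Y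
      map_comp := fun b' b => dMap_comp φ p hp hφ t d b' b }
  w := by
    refine CategoryTheory.Functor.ext ?_ ?_
    · intro Y
      exact (d Y).hobj
    · intro Y' Y b
      have h := dMap_lift φ p hp hφ t d b
      exact @IsHomLift.fac' _ _ _ _ p _ _ _ _ _ _ h

/-- the component of the comparison isomorphism -/
noncomputable def secApp (X : C) : (d (φ.obj X)).obj ⟶ tObj φ p t X :=
  (d (φ.obj X)).leg X (𝟙 _)

instance secApp_lift (X : C) : p.IsHomLift (𝟙 (φ.obj X)) (secApp φ p t d X) :=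
  (d (φ.obj X)).lift X (𝟙 _)

include hp in
lemma isIso_secApp (X : C) : IsIso (secApp φ p t d X) :=
  isIso_of_lift_id p hp (φ.obj X) (secApp φ p t d X)

lemma secApp_naturality {X X' : C} (g : X ⟶ X') :
    dMap φ p hp hφ t d (φ.map g) ≫ secApp φ p t d X' = secApp φ p t d X ≫ tMap φ p t g := by
  unfold secApp
  rw [dMap_spec, (d (φ.obj X)).nat, Category.comp_id, Category.id_comp]

/-- the glued section restricts to `t`. -/
noncomputable def secIso : (res φ p).obj (sec φ p hp hφ t d) ≅ t :=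
  BasedNatIso.mkNatIso
    (NatIso.ofComponents
      (fun X => @asIso _ _ _ _ (secApp φ p t d X) (isIso_secApp φ p hp t d X))
      (fun g => secApp_naturality φ p hp hφ t d g))
    (fun X => secApp_lift φ p t d X)

end Build

include hp hφ in
theorem essSurj_res : (res φ p).EssSurj where
  mem_essImage t := by
    have hd := nonempty_datum φ p hp hφ t
    choose d _ using fun Y => (hd Y).elim (fun x => (⟨x, trivial⟩ : ∃ _ : Datum φ p t Y, True))
    exact ⟨sec φ p hp hφ t d, ⟨secIso φ p hp hφ t d⟩⟩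

end EssSurj

section Main

variable (hp : FibCat.IsFibGrpd p) (hφ : ∀ Y : D, Conn1.{u₃, v₃} (StructuredArrow Y φ))

include hp hφ in
theorem isEquivalence_res : (res φ p).IsEquivalence := by
  haveI := faithful_res φ p hp (fun Y => (hφ Y).nonempty)
  haveI := full_res φ p hp hφ
  haveI := essSurj_res φ p hp hφ
  exact {}

end Main

end Groth.Agent.Lib.Helper43.SecRestr
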