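import Groth.Agent.Lib.Helper43.SecRestr

/-!
# Restriction of sections over a functor `K : B ⥤ D` along `φ : A ⥤ B`

Relative version of `SecRestr`: for `p : F ⥤ D` fibred in groupoids, `K : B ⥤ D` and
`φ : A ⥤ B` with 1-connected comma categories `(b/φ)`, restriction along `φ` from sections of `F`
over `K` (functors `B ⥤ F` over `D`) to sections over `φ ⋙ K` is an equivalence.
-/

set_option autoImplicit false
open CategoryTheory Functor

namespace Groth.Agent.Lib.Helper43.SecRestr2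

open Groth.Agent.Lib.Helper43.Conn1 Groth.Agent.Lib.Helper43.FibGrpdFun
  Groth.Agent.Lib.Helper43.GerbComp Groth.Agent.Lib.Helper43.GerbBC
  Groth.Agent.Lib.Helper43.SecRestr

universe v₁ v₂ v₃ v₄ u₁ u₂ u₃ u₄

variable {A : Type u₁} [Category.{v₁} A] {B : Type u₂} [Category.{v₂} B]
  {D : Type u₄} [Category.{v₄} D] {F : Type u₃} [Category.{v₃} F]
  (φ : A ⥤ B) (K : B ⥤ D) (p : F ⥤ D)

/-- `B` over `D` via `K`. -/
abbrev ℬ : BasedCategory.{v₂, u₂} D := BasedCategory.ofFunctor K
/-- `A` over `D` via `φ ⋙ K`. -/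
abbrev 𝒜 : BasedCategory.{v₁, u₁} D := BasedCategory.ofFunctor (φ ⋙ K)

/-- `φ` as a functor over `D`. -/
def ιφ : 𝒜 φ K ⥤ᵇ ℬ K where
  toFunctor := φ
  w := rfl

/-- the restriction functor on sections -/
abbrev res : (ℬ K ⥤ᵇ ℱ p) ⥤ (𝒜 φ K ⥤ᵇ ℱ p) := Stk.restr (ιφ φ K) (ℱ p)

section Kit

lemma lift_s (s : ℬ K ⥤ᵇ ℱ p) {b' b : B} (β : b' ⟶ b) :
    p.IsHomLift (K.map β) (s.toFunctor.map β) := by
  haveI : (ℬ K).p.IsHomLift (K.map β) β := by
    show K.IsHomLift (K.map β) β
    infer_instance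
  exact (inferInstance : (ℱ p).p.IsHomLift (K.map β) (s.toFunctor.map β))

lemma lift_t (t : 𝒜 φ K ⥤ᵇ ℱ p) {X X' : A} (g : X ⟶ X') :
    p.IsHomLift (K.map (φ.map g)) (t.toFunctor.map g) := by
  haveI : (𝒜 φ K).p.IsHomLift (K.map (φ.map g)) g := by
    show (φ ⋙ K).IsHomLift ((φ ⋙ K).map g) g
    infer_instance
  exact (inferInstance : (ℱ p).p.IsHomLift (K.map (φ.map g)) (t.toFunctor.map g))

end Kit

section Access

/-- value of a section on an object (clean type) -/
abbrev sObj (s : ℬ K ⥤ᵇ ℱ p) (b : B) : F := s.toFunctor.obj b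

/-- value of a section on a morphism (clean type) -/
abbrev sMap (s : ℬ K ⥤ᵇ ℱ p) {b' b : B} (β : b' ⟶ b) : sObj K p s b' ⟶ sObj K p s b :=
  s.toFunctor.map β

lemma sMap_comp (s : ℬ K ⥤ᵇ ℱ p) {b'' b' b : B} (β' : b'' ⟶ b') (β : b' ⟶ b) :
    sMap K p s (β' ≫ β) = sMap K p s β' ≫ sMap K p s β := s.toFunctor.map_comp β' β

lemma sMap_id (s : ℬ K ⥤ᵇ ℱ p) (b : B) : sMap K p s (𝟙 b) = 𝟙 _ := s.toFunctor.map_id b

instance (s : ℬ K ⥤ᵇ ℱ p) {b' b : B} (β : b' ⟶ b) :
    p.IsHomLift (K.map β) (sMap K p s β) := lift_s K p s β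

lemma sApp_lift {s s' : ℬ K ⥤ᵇ ℱ p} (α : s ⟶ s') (b : B) :
    p.IsHomLift (𝟙 (K.obj b)) (α.toNatTrans.app b) := α.isHomLift' b

variable {s s' : ℬ K ⥤ᵇ ℱ p} (γ : (res φ K p).obj s ⟶ (res φ K p).obj s')

/-- component of a transformation between restricted sections (clean type) -/
def gApp (X : A) : sObj K p s (φ.obj X) ⟶ sObj K p s' (φ.obj X) := γ.toNatTrans.app X

instance (X : A) : p.IsHomLift (𝟙 (K.obj (φ.obj X))) (gApp φ K p γ X) := γ.isHomLift' X

lemma gApp_naturality {X X' : A} (g : X ⟶ X') :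
    sMap K p s (φ.map g) ≫ gApp φ K p γ X' = gApp φ K p γ X ≫ sMap K p s' (φ.map g) :=
  γ.toNatTrans.naturality g

end Access

section Faithful

variable (hp : FibCat.IsFibGrpd p) (hne : ∀ b : B, Nonempty (StructuredArrow b φ))

include hp hne in
theorem faithful_res : (res φ K p).Faithful where
  map_injective {s s'} α β h := by
    apply BasedNatTrans.homCategory.ext
    ext b
    obtain ⟨i⟩ := hne b
    have hα := α.toNatTrans.naturality i.hom
    have hβ := β.toNatTrans.naturality i.hom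
    have hX : α.toNatTrans.app (φ.obj i.right) = β.toNatTrans.app (φ.obj i.right) :=
      congrArg (fun γ : (res φ K p).obj s ⟶ (res φ K p).obj s' => γ.toNatTrans.app i.right) h
    haveI := lift_s K p s' i.hom
    haveI : p.IsHomLift (𝟙 (K.obj b)) (α.toNatTrans.app b) := sApp_lift K p α b
    haveI : p.IsHomLift (𝟙 (K.obj b)) (β.toNatTrans.app b) := sApp_lift K p β b
    refine cancel p hp (𝟙 (K.obj b)) (K.map i.hom) (s'.toFunctor.map i.hom) _ _ ?_
    exact hα.symm.trans ((congrArg (fun m => s.toFunctor.map i.hom ≫ m) hX).trans hβ)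

end Faithful

section Full

variable (hp : FibCat.IsFibGrpd p) (hφ : ∀ b : B, Conn1.{u₃, v₃} (StructuredArrow b φ))
  {s s' : ℬ K ⥤ᵇ ℱ p} (γ : (res φ K p).obj s ⟶ (res φ K p).obj s')

include hp in
lemma exists_alphaAt {b : B} (X : A) (a : b ⟶ φ.obj X) :
    ∃ χ : sObj K p s b ⟶ sObj K p s' b, p.IsHomLift (𝟙 (K.obj b)) χ ∧
      χ ≫ sMap K p s' a = sMap K p s a ≫ gApp φ K p γ X :=
  exists_factor_id p hp (K.map a) (sMap K p s' a) (sMap K p s a ≫ gApp φ K p γ X)

/-- candidate component at `b`, computed with `(X, a)`. -/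
noncomputable def alphaAt {b : B} (X : A) (a : b ⟶ φ.obj X) : sObj K p s b ⟶ sObj K p s' b :=
  (exists_alphaAt φ K p hp γ X a).choose

instance alphaAt_lift {b : B} (X : A) (a : b ⟶ φ.obj X) :
    p.IsHomLift (𝟙 (K.obj b)) (alphaAt φ K p hp γ X a) :=
  (exists_alphaAt φ K p hp γ X a).choose_spec.1

lemma alphaAt_spec {b : B} (X : A) (a : b ⟶ φ.obj X) :
    alphaAt φ K p hp γ X a ≫ sMap K p s' a = sMap K p s a ≫ gApp φ K p γ X :=
  (exists_alphaAt φ K p hp γ X a).choose_spec.2

lemma alphaAt_eq_of_hom {b : B} {X X' : A} (a : b ⟶ φ.obj X) (g : X ⟶ X') :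
    alphaAt φ K p hp γ X a = alphaAt φ K p hp γ X' (a ≫ φ.map g) := by
  refine cancel p hp (𝟙 (K.obj b)) (K.map (a ≫ φ.map g)) (sMap K p s' (a ≫ φ.map g)) _ _ ?_
  rw [alphaAt_spec, sMap_comp, ← Category.assoc, alphaAt_spec, Category.assoc,
    ← gApp_naturality, sMap_comp, Category.assoc]

include hφ in
lemma alphaAt_const {b : B} (i j : StructuredArrow b φ) :
    alphaAt φ K p hp γ i.right i.hom = alphaAt φ K p hp γ j.right j.hom := by
  refine (hφ b).const_of_hom (fun i => alphaAt φ K p hp γ i.right i.hom) ?_ i j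
  intro i j m
  have h := alphaAt_eq_of_hom φ K p hp γ i.hom m.right
  rw [StructuredArrow.w m] at h
  exact h

/-- the component at `b`. -/
noncomputable def alpha (b : B) : sObj K p s b ⟶ sObj K p s' b :=
  alphaAt φ K p hp γ (hφ b).nonempty.some.right (hφ b).nonempty.some.hom

lemma alpha_eq {b : B} (X : A) (a : b ⟶ φ.obj X) :
    alpha φ K p hp hφ γ b = alphaAt φ K p hp γ X a :=
  alphaAt_const φ K p hp hφ γ _ (StructuredArrow.mk a)

lemma alpha_naturality {b' b : B} (β : b' ⟶ b) :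
    sMap K p s β ≫ alpha φ K p hp hφ γ b = alpha φ K p hp hφ γ b' ≫ sMap K p s' β := by
  obtain ⟨i⟩ := (hφ b).nonempty
  rw [alpha_eq φ K p hp hφ γ i.right i.hom, alpha_eq φ K p hp hφ γ i.right (β ≫ i.hom)]
  refine cancel p hp (K.map β) (K.map i.hom) (sMap K p s' i.hom) _ _ ?_
  rw [Category.assoc, alphaAt_spec, Category.assoc, ← sMap_comp, alphaAt_spec,
    ← Category.assoc, ← sMap_comp]

/-- the lifted transformation. -/
noncomputable def alphaTrans : s ⟶ s' where
  toNatTrans :=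
    { app := fun b => alpha φ K p hp hφ γ b
      naturality := fun _ _ β => alpha_naturality φ K p hp hφ γ β }
  isHomLift' := fun b => by
    show p.IsHomLift (𝟙 (K.obj b)) (alpha φ K p hp hφ γ b)
    exact alphaAt_lift φ K p hp γ _ _

lemma alpha_res (X : A) : alpha φ K p hp hφ γ (φ.obj X) = gApp φ K p γ X := by
  rw [alpha_eq φ K p hp hφ γ X (𝟙 _)]
  have h := alphaAt_spec φ K p hp γ X (𝟙 (φ.obj X))
  rw [sMap_id, sMap_id, Category.comp_id, Category.id_comp] at h
  exact h

include hp hφ in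
theorem full_res : (res φ K p).Full where
  map_surjective {s s'} γ := ⟨alphaTrans φ K p hp hφ γ, by
    apply BasedNatTrans.homCategory.ext
    ext X
    exact alpha_res φ K p hp hφ γ X⟩

end Full

section EssSurj

variable (hp : FibCat.IsFibGrpd p) (hφ : ∀ b : B, Conn1.{u₃, v₃} (StructuredArrow b φ))
  (t : 𝒜 φ K ⥤ᵇ ℱ p)

/-- value of a section over `φ ⋙ K` on an object (clean type) -/
abbrev tObj (X : A) : F := t.toFunctor.obj X

/-- value of a section over `φ ⋙ K` on a morphism (clean type) -/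
abbrev tMap {X X' : A} (g : X ⟶ X') : tObj φ K p t X ⟶ tObj φ K p t X' := t.toFunctor.map g

instance {X X' : A} (g : X ⟶ X') : p.IsHomLift (K.map (φ.map g)) (tMap φ K p t g) :=
  lift_t φ K p t g

lemma tObj_over (X : A) : p.obj (tObj φ K p t X) = K.obj (φ.obj X) := t.w_obj X

lemma tMap_comp {X X' X'' : A} (g : X ⟶ X') (g' : X' ⟶ X'') :
    tMap φ K p t (g ≫ g') = tMap φ K p t g ≫ tMap φ K p t g' := t.toFunctor.map_comp g g'

lemma tMap_id (X : A) : tMap φ K p t (𝟙 X) = 𝟙 _ := t.toFunctor.map_id X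

/-- an object over `K b` with compatible legs to all `t X`, `b ⟶ φ X`. -/
structure Datum (b : B) where
  /-- the object -/
  obj : F
  hobj : p.obj obj = K.obj b
  /-- the legs -/
  leg : ∀ (X : A) (_ : b ⟶ φ.obj X), obj ⟶ tObj φ K p t X
  lift : ∀ (X : A) (a : b ⟶ φ.obj X), p.IsHomLift (K.map a) (leg X a)
  nat : ∀ {X X' : A} (a : b ⟶ φ.obj X) (g : X ⟶ X'),
    leg X a ≫ tMap φ K p t g = leg X' (a ≫ φ.map g)

section Pb

variable {b : B}

include hp in
lemma pbEx (i : StructuredArrow b φ) :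
    ∃ (y : F) (ℓ : y ⟶ tObj φ K p t i.right), p.IsHomLift (K.map i.hom) ℓ :=
  exists_lift' p hp (tObj_over φ K p t i.right) (K.map i.hom)

/-- chosen pullback of `t X` along `K a`. -/
noncomputable def pb (i : StructuredArrow b φ) : F := (pbEx φ K p hp t i).choose

/-- the chosen cartesian arrow -/
noncomputable def pbMap (i : StructuredArrow b φ) : pb φ K p hp t i ⟶ tObj φ K p t i.right :=
  (pbEx φ K p hp t i).choose_spec.choose

instance pbMap_lift (i : StructuredArrow b φ) :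
    p.IsHomLift (K.map i.hom) (pbMap φ K p hp t i) :=
  (pbEx φ K p hp t i).choose_spec.choose_spec

lemma lift_pbMap_comp {i j : StructuredArrow b φ} (m : i ⟶ j) :
    p.IsHomLift (K.map j.hom) (pbMap φ K p hp t i ≫ tMap φ K p t m.right) := by
  have h : p.IsHomLift (K.map i.hom ≫ K.map (φ.map m.right))
      (pbMap φ K p hp t i ≫ tMap φ K p t m.right) := inferInstance
  rwa [← K.map_comp, StructuredArrow.w m] at h

lemma exists_pbHom {i j : StructuredArrow b φ} (m : i ⟶ j) :
    ∃ χ : pb φ K p hp t i ⟶ pb φ K p hp t j, p.IsHomLift (𝟙 (K.obj b)) χ ∧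
      χ ≫ pbMap φ K p hp t j = pbMap φ K p hp t i ≫ tMap φ K p t m.right := by
  haveI := lift_pbMap_comp φ K p hp t m
  exact exists_factor_id p hp (K.map j.hom) (pbMap φ K p hp t j)
    (pbMap φ K p hp t i ≫ tMap φ K p t m.right)

/-- induced map between chosen pullbacks -/
noncomputable def pbHom {i j : StructuredArrow b φ} (m : i ⟶ j) :
    pb φ K p hp t i ⟶ pb φ K p hp t j := (exists_pbHom φ K p hp t m).choose

instance pbHom_lift {i j : StructuredArrow b φ} (m : i ⟶ j) :
    p.IsHomLift (𝟙 (K.obj b)) (pbHom φ K p hp t m) := (exists_pbHom φ K p hp t m).choose_spec.1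

lemma pbHom_spec {i j : StructuredArrow b φ} (m : i ⟶ j) :
    pbHom φ K p hp t m ≫ pbMap φ K p hp t j = pbMap φ K p hp t i ≫ tMap φ K p t m.right :=
  (exists_pbHom φ K p hp t m).choose_spec.2

lemma pbHom_id (i : StructuredArrow b φ) : pbHom φ K p hp t (𝟙 i) = 𝟙 _ := by
  haveI : p.IsHomLift (𝟙 (K.obj b)) (𝟙 (pb φ K p hp t i)) :=
    IsHomLift.id (IsHomLift.domain_eq p (K.map i.hom) (pbMap φ K p hp t i))
  refine cancel p hp (𝟙 (K.obj b)) (K.map i.hom) (pbMap φ K p hp t i) _ _ ?_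
  rw [pbHom_spec, StructuredArrow.id_right, tMap_id, Category.comp_id, Category.id_comp]

lemma pbHom_comp {i j k : StructuredArrow b φ} (m : i ⟶ j) (n : j ⟶ k) :
    pbHom φ K p hp t (m ≫ n) = pbHom φ K p hp t m ≫ pbHom φ K p hp t n := by
  refine cancel p hp (𝟙 (K.obj b)) (K.map k.hom) (pbMap φ K p hp t k) _ _ ?_
  rw [pbHom_spec, Category.assoc, pbHom_spec, ← Category.assoc, pbHom_spec, Category.assoc,
    StructuredArrow.comp_right, tMap_comp]

/-- the pullback functor to the fibre -/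
noncomputable def pbFun : StructuredArrow b φ ⥤ p.Fiber (K.obj b) where
  obj i := ⟨pb φ K p hp t i, IsHomLift.domain_eq p (K.map i.hom) (pbMap φ K p hp t i)⟩
  map m := ⟨pbHom φ K p hp t m, pbHom_lift φ K p hp t m⟩
  map_id i := Fiber.hom_ext (pbHom_id φ K p hp t i)
  map_comp m n := Fiber.hom_ext (pbHom_comp φ K p hp t m n)

end Pb

section Theta

variable {b : B} (c : p.Fiber (K.obj b))
  (θ : (Functor.const (StructuredArrow b φ)).obj c ≅ pbFun φ K p hp t)

/-- components of the trivialisation, clean types -/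
noncomputable def thetaApp (i : StructuredArrow b φ) :
    Fiber.fiberInclusion.obj c ⟶ pb φ K p hp t i :=
  Fiber.fiberInclusion.map (θ.hom.app i)

instance thetaApp_lift (i : StructuredArrow b φ) :
    p.IsHomLift (𝟙 (K.obj b)) (thetaApp φ K p hp t c θ i) :=
  (θ.hom.app i).2

lemma thetaApp_nat {i j : StructuredArrow b φ} (m : i ⟶ j) :
    thetaApp φ K p hp t c θ j = thetaApp φ K p hp t c θ i ≫ pbHom φ K p hp t m := by
  have h := θ.hom.naturality m
  have h' := congrArg (fun f => Fiber.fiberInclusion.map f) h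
  simp only [Functor.const_obj_obj, Functor.const_obj_map, Category.id_comp,
    Functor.map_comp] at h'
  exact h'

/-- the datum obtained from a trivialisation of the pullback functor. -/
noncomputable def datumOfIso : Datum φ K p t b where
  obj := Fiber.fiberInclusion.obj c
  hobj := c.2
  leg := fun X a => thetaApp φ K p hp t c θ (StructuredArrow.mk a) ≫
    pbMap φ K p hp t (StructuredArrow.mk a)
  lift := by
    intro X a
    haveI : p.IsHomLift (K.map a) (pbMap φ K p hp t (StructuredArrow.mk a)) :=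
      pbMap_lift φ K p hp t (StructuredArrow.mk a)
    infer_instance
  nat := by
    intro X X' a g
    let m : StructuredArrow.mk a ⟶ StructuredArrow.mk (a ≫ φ.map g) :=
      StructuredArrow.homMk g rfl
    have h1 := thetaApp_nat φ K p hp t c θ m
    have h2 : pbHom φ K p hp t m ≫ pbMap φ K p hp t (StructuredArrow.mk (a ≫ φ.map g)) =
        pbMap φ K p hp t (StructuredArrow.mk a) ≫ tMap φ K p t g := pbHom_spec φ K p hp t m
    rw [h1, Category.assoc, Category.assoc, h2]

end Theta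

include hp hφ in
theorem nonempty_datum (b : B) : Nonempty (Datum φ K p t b) := by
  haveI := isGroupoid_fiber p hp (K.obj b)
  obtain ⟨c, ⟨θ⟩⟩ := (hφ b).exists_const (pbFun φ K p hp t (b := b))
  exact ⟨datumOfIso φ K p hp t c θ⟩

section Build

variable (d : ∀ b : B, Datum φ K p t b)

instance leg_lift (b : B) (X : A) (a : b ⟶ φ.obj X) : p.IsHomLift (K.map a) ((d b).leg X a) :=
  (d b).lift X a

include hp in
lemma exists_mapAt {b' b : B} (β : b' ⟶ b) (X : A) (a : b ⟶ φ.obj X) :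
    ∃ χ : (d b').obj ⟶ (d b).obj, p.IsHomLift (K.map β) χ ∧
      χ ≫ (d b).leg X a = (d b').leg X (β ≫ a) := by
  haveI : p.IsHomLift (K.map β ≫ K.map a) ((d b').leg X (β ≫ a)) := by
    rw [← K.map_comp]; infer_instance
  exact exists_factor p hp (K.map a) ((d b).leg X a) (K.map β) ((d b').leg X (β ≫ a))

/-- candidate value on `β`, computed with `(X, a)` -/
noncomputable def mapAt {b' b : B} (β : b' ⟶ b) (X : A) (a : b ⟶ φ.obj X) :
    (d b').obj ⟶ (d b).obj := (exists_mapAt φ K p hp t d β X a).choose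

instance mapAt_lift {b' b : B} (β : b' ⟶ b) (X : A) (a : b ⟶ φ.obj X) :
    p.IsHomLift (K.map β) (mapAt φ K p hp t d β X a) :=
  (exists_mapAt φ K p hp t d β X a).choose_spec.1

lemma mapAt_spec {b' b : B} (β : b' ⟶ b) (X : A) (a : b ⟶ φ.obj X) :
    mapAt φ K p hp t d β X a ≫ (d b).leg X a = (d b').leg X (β ≫ a) :=
  (exists_mapAt φ K p hp t d β X a).choose_spec.2

lemma mapAt_eq_of_hom {b' b : B} (β : b' ⟶ b) {X X' : A} (a : b ⟶ φ.obj X) (g : X ⟶ X') :
    mapAt φ K p hp t d β X a = mapAt φ K p hp t d β X' (a ≫ φ.map g) := by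
  refine cancel p hp (K.map β) (K.map (a ≫ φ.map g)) ((d b).leg X' (a ≫ φ.map g)) _ _ ?_
  calc mapAt φ K p hp t d β X a ≫ (d b).leg X' (a ≫ φ.map g)
      = mapAt φ K p hp t d β X a ≫ (d b).leg X a ≫ tMap φ K p t g := by rw [(d b).nat]
    _ = (d b').leg X (β ≫ a) ≫ tMap φ K p t g := by rw [← Category.assoc, mapAt_spec]
    _ = (d b').leg X' ((β ≫ a) ≫ φ.map g) := (d b').nat _ _
    _ = (d b').leg X' (β ≫ a ≫ φ.map g) := by rw [Category.assoc]
    _ = mapAt φ K p hp t d β X' (a ≫ φ.map g) ≫ (d b).leg X' (a ≫ φ.map g) :=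
        (mapAt_spec φ K p hp t d β X' (a ≫ φ.map g)).symm

include hφ in
lemma mapAt_const {b' b : B} (β : b' ⟶ b) (i j : StructuredArrow b φ) :
    mapAt φ K p hp t d β i.right i.hom = mapAt φ K p hp t d β j.right j.hom := by
  refine (hφ b).const_of_hom (fun i => mapAt φ K p hp t d β i.right i.hom) ?_ i j
  intro i j m
  have h := mapAt_eq_of_hom φ K p hp t d β i.hom m.right
  rw [StructuredArrow.w m] at h
  exact h

/-- value of the glued section on a morphism -/
noncomputable def dMap {b' b : B} (β : b' ⟶ b) : (d b').obj ⟶ (d b).obj :=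
  mapAt φ K p hp t d β (hφ b).nonempty.some.right (hφ b).nonempty.some.hom

lemma dMap_eq {b' b : B} (β : b' ⟶ b) (X : A) (a : b ⟶ φ.obj X) :
    dMap φ K p hp hφ t d β = mapAt φ K p hp t d β X a :=
  mapAt_const φ K p hp hφ t d β _ (StructuredArrow.mk a)

instance dMap_lift {b' b : B} (β : b' ⟶ b) :
    p.IsHomLift (K.map β) (dMap φ K p hp hφ t d β) :=
  mapAt_lift φ K p hp t d β _ _

lemma dMap_spec {b' b : B} (β : b' ⟶ b) (X : A) (a : b ⟶ φ.obj X) :
    dMap φ K p hp hφ t d β ≫ (d b).leg X a = (d b').leg X (β ≫ a) := by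
  rw [dMap_eq φ K p hp hφ t d β X a, mapAt_spec]

lemma dMap_id (b : B) : dMap φ K p hp hφ t d (𝟙 b) = 𝟙 _ := by
  obtain ⟨i⟩ := (hφ b).nonempty
  haveI : p.IsHomLift (𝟙 (K.obj b)) (𝟙 (d b).obj) := IsHomLift.id (d b).hobj
  haveI : p.IsHomLift (𝟙 (K.obj b)) (dMap φ K p hp hφ t d (𝟙 b)) := by
    have h := dMap_lift φ K p hp hφ t d (𝟙 b)
    rwa [K.map_id] at h
  refine cancel p hp (𝟙 (K.obj b)) (K.map i.hom) ((d b).leg i.right i.hom) _ _ ?_
  rw [dMap_spec, Category.id_comp, Category.id_comp]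

lemma dMap_comp {b'' b' b : B} (β' : b'' ⟶ b') (β : b' ⟶ b) :
    dMap φ K p hp hφ t d (β' ≫ β) = dMap φ K p hp hφ t d β' ≫ dMap φ K p hp hφ t d β := by
  obtain ⟨i⟩ := (hφ b).nonempty
  haveI : p.IsHomLift (K.map β' ≫ K.map β) (dMap φ K p hp hφ t d (β' ≫ β)) := by
    have h := dMap_lift φ K p hp hφ t d (β' ≫ β)
    rwa [K.map_comp] at h
  refine cancel p hp (K.map β' ≫ K.map β) (K.map i.hom) ((d b).leg i.right i.hom) _ _ ?_
  simp only [dMap_spec, Category.assoc]

/-- the glued section -/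
noncomputable def sec : ℬ K ⥤ᵇ ℱ p where
  toFunctor :=
    { obj := fun b => (d b).obj
      map := fun β => dMap φ K p hp hφ t d β
      map_id := fun b => dMap_id φ K p hp hφ t d b
      map_comp := fun β' β => dMap_comp φ K p hp hφ t d β' β }
  w := by
    refine CategoryTheory.Functor.ext ?_ ?_
    · intro b
      exact (d b).hobj
    · intro b' b β
      have h := dMap_lift φ K p hp hφ t d β
      exact @IsHomLift.fac' _ _ _ _ p _ _ _ _ _ _ h

/-- the component of the comparison isomorphism -/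
noncomputable def secApp (X : A) : (d (φ.obj X)).obj ⟶ tObj φ K p t X :=
  (d (φ.obj X)).leg X (𝟙 _)

lemma secApp_lift (X : A) : p.IsHomLift (𝟙 (K.obj (φ.obj X))) (secApp φ K p t d X) := by
  have h := (d (φ.obj X)).lift X (𝟙 _)
  rwa [K.map_id] at h

include hp in
lemma isIso_secApp (X : A) : IsIso (secApp φ K p t d X) := by
  haveI := secApp_lift φ K p t d X
  exact isIso_of_lift_id p hp (K.obj (φ.obj X)) (secApp φ K p t d X)

lemma secApp_naturality {X X' : A} (g : X ⟶ X') :
    dMap φ K p hp hφ t d (φ.map g) ≫ secApp φ K p t d X' =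
      secApp φ K p t d X ≫ tMap φ K p t g := by
  unfold secApp
  rw [dMap_spec, (d (φ.obj X)).nat, Category.comp_id, Category.id_comp]

/-- the glued section restricts to `t`. -/
noncomputable def secIso : (res φ K p).obj (sec φ K p hp hφ t d) ≅ t :=
  BasedNatIso.mkNatIso
    (NatIso.ofComponents
      (fun X => @asIso _ _ _ _ (secApp φ K p t d X) (isIso_secApp φ K p hp t d X))
      (fun g => secApp_naturality φ K p hp hφ t d g))
    (fun X => secApp_lift φ K p t d X)

end Build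

include hp hφ in
theorem essSurj_res : (res φ K p).EssSurj where
  mem_essImage t := by
    have hd := nonempty_datum φ K p hp hφ t
    choose d _ using fun b => (hd b).elim (fun x => (⟨x, trivial⟩ : ∃ _ : Datum φ K p t b, True))
    exact ⟨sec φ K p hp hφ t d, ⟨secIso φ K p hp hφ t d⟩⟩

end EssSurj

section Main

variable (hp : FibCat.IsFibGrpd p) (hφ : ∀ b : B, Conn1.{u₃, v₃} (StructuredArrow b φ))

include hp hφ in
theorem isEquivalence_res : (res φ K p).IsEquivalence := by
  haveI := faithful_res φ K p hp (fun b => (hφ b).nonempty)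
  haveI := full_res φ K p hp hφ
  haveI := essSurj_res φ K p hp hφ
  exact {}

end Main

end Groth.Agent.Lib.Helper43.SecRestr2
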