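import Groth.Prelude.Def_W4stktopologysheavesBas
import Mathlib.Topology.Bases
import Mathlib.Topology.Sets.Opens

/-!
# Sheaves on a basis: separatedness, cofinal systems of coverings, stalks
-/

set_option autoImplicit false
universe u
open TopologicalSpace ShB

namespace Groth.Agent.Lib.Helper43.ShBLib

variable {X : Type u} [TopologicalSpace X] {B : Set (Opens X)}

lemma exists_basis_nbhd (hB : Opens.IsBasis B) {U : Opens X} {x : X} (hx : x ∈ U) :
    ∃ V : B, x ∈ (V : Opens X) ∧ (V : Opens X) ≤ U := by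
  obtain ⟨V, hV, hxV, hVU⟩ := Opens.isBasis_iff_nbhd.mp hB hx
  exact ⟨⟨V, hV⟩, hxV, hVU⟩

/-- Separatedness in pointwise form: locally equal sections are equal. -/
def Sep (F : Pre B) : Prop :=
  ∀ (U : B) (t t' : F.obj U),
    (∀ x ∈ (U : Opens X), ∃ (V : B) (hV : (V : Opens X) ≤ U), x ∈ (V : Opens X) ∧
      F.res hV t = F.res hV t') → t = t'

/-- Strong compatibility: agreement on every member of `B` inside `V i ⊓ V j`. -/
def Compat (F : Pre B) (c : Cover B) (s : ∀ i, F.obj (c.V i)) : Prop :=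
  ∀ i j (D : B) (h1 : (D : Opens X) ≤ c.V i) (h2 : (D : Opens X) ≤ c.V j),
    F.res h1 (s i) = F.res h2 (s j)

/-- Gluing for strongly compatible families. -/
def WeakGlue (F : Pre B) (c : Cover B) : Prop :=
  ∀ s, Compat F c s → ∃! t : F.obj c.U, ∀ i, F.res (c.V_le i) t = s i

lemma compat_of_W (hB : Opens.IsBasis B) (F : Pre B) (hS : Sep F) (c : Cover B)
    (s : ∀ i, F.obj (c.V i))
    (hs : ∀ i j k, F.res (c.W_le_left i j k) (s i) = F.res (c.W_le_right i j k) (s j)) :
    Compat F c s := by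
  intro i j D h1 h2
  apply hS D
  intro x hx
  have hx' : x ∈ (c.V i : Opens X) ⊓ c.V j := ⟨h1 hx, h2 hx⟩
  obtain ⟨k, hk⟩ := Opens.mem_iSup.mp (c.W_cover i j hx')
  obtain ⟨E, hxE, hE⟩ := exists_basis_nbhd hB
    (show x ∈ (D : Opens X) ⊓ c.W i j k from ⟨hx, hk⟩)
  refine ⟨E, hE.trans inf_le_left, hxE, ?_⟩
  rw [F.res_comp, F.res_comp]
  have hEW : (E : Opens X) ≤ c.W i j k := hE.trans inf_le_right
  calc F.res _ (s i) = F.res hEW (F.res (c.W_le_left i j k) (s i)) := (F.res_comp _ _ _).symm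
    _ = F.res hEW (F.res (c.W_le_right i j k) (s j)) := by rw [hs]
    _ = _ := F.res_comp _ _ _

section Cofinal

variable (hB : Opens.IsBasis B) (F : Pre B) (C : ∀ U : B, Set (Cover B))
  (hCU : ∀ U, ∀ c ∈ C U, c.U = U)
  (hC : ∀ (U : B) (ι : Type u) (V : ι → B), (∀ i, (V i : Opens X) ≤ (U : Opens X)) →
      (U : Opens X) ≤ ⨆ i, (V i : Opens X) →
      ∃ c ∈ C U, ∀ i' : c.ι, ∃ i, (c.V i' : Opens X) ≤ (V i : Opens X))
  (hW : ∀ U, ∀ c ∈ C U, WeakGlue F c)

include hCU hC hW in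
lemma sep_of_cofinal : Sep F := by
  intro U t t' hloc
  let ι := {V : B // ∃ hV : (V : Opens X) ≤ U, F.res hV t = F.res hV t'}
  obtain ⟨c, hc, href⟩ := hC U ι (fun i => i.1) (fun i => i.2.1) (by
    intro x hx
    obtain ⟨V, hV, hxV, hEq⟩ := hloc x hx
    exact Opens.mem_iSup.mpr ⟨⟨V, hV, hEq⟩, hxV⟩)
  have hU : c.U = U := hCU U c hc
  have hle : (c.U : Opens X) ≤ U := by rw [hU]
  have hge : (U : Opens X) ≤ c.U := by rw [hU]
  obtain ⟨t0, -, huniq⟩ := hW U c hc (fun i' => F.res ((c.V_le i').trans hle) t) (by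
    intro i j D h1 h2
    rw [F.res_comp, F.res_comp])
  have h1 : F.res hle t = t0 := huniq _ (fun i' => F.res_comp _ _ _)
  have h2 : F.res hle t' = t0 := huniq _ (fun i' => by
    obtain ⟨i, hi⟩ := href i'
    obtain ⟨hV, hEq⟩ := i.2
    rw [F.res_comp]
    calc F.res _ t' = F.res hi (F.res hV t') := (F.res_comp _ _ _).symm
      _ = F.res hi (F.res hV t) := by rw [hEq]
      _ = _ := F.res_comp _ _ _)
  calc t = F.res hge (F.res hle t) := by rw [F.res_comp, F.res_id]
    _ = F.res hge (F.res hle t') := by rw [h1, h2]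
    _ = t' := by rw [F.res_comp, F.res_id]

include hB hCU hC hW in
/-- A presheaf on a basis satisfying the (weak) gluing condition for a cofinal system of coverings
is a sheaf on the basis. -/
theorem isSheaf_of_cofinal : IsSheaf F := by
  have hS : Sep F := sep_of_cofinal F C hCU hC hW
  intro c s hs
  have hcompat := compat_of_W hB F hS c s hs
  have huniq : ∀ t t' : F.obj c.U, (∀ i, F.res (c.V_le i) t = s i) →
      (∀ i, F.res (c.V_le i) t' = s i) → t = t' := by
    intro t t' ht ht'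
    apply hS
    intro x hx
    obtain ⟨i, hi⟩ := Opens.mem_iSup.mp (c.V_cover hx)
    exact ⟨c.V i, c.V_le i, hi, (ht i).trans (ht' i).symm⟩
  obtain ⟨c', hc', href⟩ := hC c.U c.ι c.V c.V_le c.V_cover
  choose α hα using href
  have hU : c'.U = c.U := hCU _ _ hc'
  have hle : (c'.U : Opens X) ≤ c.U := by rw [hU]
  have hge : (c.U : Opens X) ≤ c'.U := by rw [hU]
  obtain ⟨t0, ht0, -⟩ := hW c.U c' hc' (fun i' => F.res (hα i') (s (α i'))) (by
    intro i' j' D h1 h2
    rw [F.res_comp, F.res_comp]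
    exact hcompat _ _ D _ _)
  have hmain : ∀ i, F.res (c.V_le i) (F.res hge t0) = s i := by
    intro i
    apply hS
    intro x hx
    have hxU' : x ∈ (c'.U : Opens X) := hge (c.V_le i hx)
    obtain ⟨i', hi'⟩ := Opens.mem_iSup.mp (c'.V_cover hxU')
    obtain ⟨E, hxE, hE⟩ := exists_basis_nbhd hB
      (show x ∈ (c.V i : Opens X) ⊓ c'.V i' from ⟨hx, hi'⟩)
    refine ⟨E, hE.trans inf_le_left, hxE, ?_⟩
    rw [F.res_comp, F.res_comp]
    have hEV' : (E : Opens X) ≤ c'.V i' := hE.trans inf_le_right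
    calc F.res _ t0 = F.res hEV' (F.res (c'.V_le i') t0) := (F.res_comp _ _ _).symm
      _ = F.res hEV' (F.res (hα i') (s (α i'))) := by rw [ht0 i']
      _ = F.res (hEV'.trans (hα i')) (s (α i')) := F.res_comp _ _ _
      _ = F.res _ (s i) := hcompat _ _ E _ _
  exact ⟨F.res hge t0, hmain, fun t' ht' => huniq t' _ ht' hmain⟩

end Cofinal

/-- The covering datum attached to a family of members of `B` covering `U`, with all members of
`B` inside the pairwise intersections. -/
def coverOfFamily (hB : Opens.IsBasis B) (U : B) (ι : Type u) (V : ι → B)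
    (hle : ∀ i, (V i : Opens X) ≤ (U : Opens X)) (hcov : (U : Opens X) ≤ ⨆ i, (V i : Opens X)) :
    Cover B where
  U := U
  ι := ι
  V := V
  V_le := hle
  V_cover := hcov
  κ i j := {E : B // (E : Opens X) ≤ (V i : Opens X) ⊓ V j}
  W _ _ k := k.1
  W_le_left _ _ k := k.2.trans inf_le_left
  W_le_right _ _ k := k.2.trans inf_le_right
  W_cover i j := by
    intro x hx
    obtain ⟨E, hxE, hE⟩ := exists_basis_nbhd hB hx
    exact Opens.mem_iSup.mpr ⟨⟨E, hE⟩, hxE⟩

lemma weakGlue_of_gluesUniquely (F : Pre B) (c : Cover B) (h : GluesUniquely F c) :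
    WeakGlue F c :=
  fun s hs => h s (fun i j k => hs i j _ _ _)

/-- A sheaf on a basis is separated. -/
lemma sep_of_isSheaf (hB : Opens.IsBasis B) (F : Pre B) (hF : IsSheaf F) : Sep F := by
  refine sep_of_cofinal F (fun U => {c | c.U = U}) (fun U c hc => hc) ?_ ?_
  · intro U ι V hle hcov
    exact ⟨coverOfFamily hB U ι V hle hcov, rfl, fun i' => ⟨i', le_rfl⟩⟩
  · intro U c _
    exact weakGlue_of_gluesUniquely F c (hF c)

/-- Gluing along an arbitrary family of members of `B` covering `U`, for strongly compatible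
sections. -/
lemma exists_glue (hB : Opens.IsBasis B) (F : Pre B) (hF : IsSheaf F) (U : B) (ι : Type u)
    (V : ι → B) (hle : ∀ i, (V i : Opens X) ≤ (U : Opens X))
    (hcov : (U : Opens X) ≤ ⨆ i, (V i : Opens X)) (s : ∀ i, F.obj (V i))
    (hs : ∀ i j (D : B) (h1 : (D : Opens X) ≤ V i) (h2 : (D : Opens X) ≤ V j),
      F.res h1 (s i) = F.res h2 (s j)) :
    ∃! t : F.obj U, ∀ i, F.res (hle i) t = s i :=
  hF (coverOfFamily hB U ι V hle hcov) s (fun i j k => hs i j _ _ _)

section Stalk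

lemma stalkRel_equivalence (hB : Opens.IsBasis B) (F : Pre B) (x : X) :
    Equivalence (StalkRel F x) where
  refl a := ⟨a.1.1, a.1.2, le_rfl, le_rfl, rfl⟩
  symm := by
    rintro a b ⟨W, hx, ha, hb, h⟩
    exact ⟨W, hx, hb, ha, h.symm⟩
  trans := by
    rintro a b c ⟨W, hx, ha, hb, h⟩ ⟨W', hx', hb', hc, h'⟩
    obtain ⟨E, hxE, hE⟩ := exists_basis_nbhd hB (show x ∈ (W : Opens X) ⊓ W' from ⟨hx, hx'⟩)
    refine ⟨E, hxE, (hE.trans inf_le_left).trans ha, (hE.trans inf_le_right).trans hc, ?_⟩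
    calc F.res _ a.2 = F.res (hE.trans inf_le_left) (F.res ha a.2) := (F.res_comp _ _ _).symm
      _ = F.res (hE.trans inf_le_left) (F.res hb b.2) := by rw [h]
      _ = F.res (hE.trans inf_le_right) (F.res hb' b.2) := by rw [F.res_comp, F.res_comp]
      _ = F.res (hE.trans inf_le_right) (F.res hc c.2) := by rw [h']
      _ = _ := F.res_comp _ _ _

lemma germ_eq_iff (hB : Opens.IsBasis B) (F : Pre B) {U V : B} (x : X)
    (hxU : x ∈ (U : Opens X)) (hxV : x ∈ (V : Opens X)) (s : F.obj U) (t : F.obj V) :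
    germ F x hxU s = germ F x hxV t ↔
      ∃ (W : B) (_ : x ∈ (W : Opens X)) (ha : (W : Opens X) ≤ U) (hb : (W : Opens X) ≤ V),
        F.res ha s = F.res hb t := by
  have h : germ F x hxU s = germ F x hxV t ↔
      StalkRel F x ⟨⟨U, hxU⟩, s⟩ ⟨⟨V, hxV⟩, t⟩ := by
    constructor
    · intro h
      exact (stalkRel_equivalence hB F x).eqvGen_iff.mp (Quot.eqvGen_exact h)
    · intro h
      exact Quot.sound h
  rw [h]
  rfl

lemma germ_res (F : Pre B) {U V : B} (h : (V : Opens X) ≤ U) (x : X) (hx : x ∈ (V : Opens X))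
    (s : F.obj U) : germ F x hx (F.res h s) = germ F x (h hx) s := by
  apply Quot.sound
  exact ⟨V, hx, le_rfl, h, by rw [F.res_id]⟩

end Stalk

end Groth.Agent.Lib.Helper43.ShBLib
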