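import Groth.Agent.Lib.Helper43.ShB
import Mathlib.Topology.Sheaves.SheafCondition.UniqueGluing
import Mathlib.CategoryTheory.Functor.ReflectsIso.Basic

/-!
# Extension of a sheaf on a basis to a sheaf on the space
-/

set_option autoImplicit false
set_option linter.deprecated false
universe u
open TopologicalSpace ShB CategoryTheory Opposite

namespace Groth.Agent.Lib.Helper43.ShBLib

variable {X : Type u} [TopologicalSpace X] {B : Set (Opens X)}

/-- Sections of the extension over `U`: compatible families over the members of `B` inside `U`. -/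
@[ext]
structure ExtObj (F : Pre B) (U : Opens X) : Type u where
  sec : ∀ (V : B), (V : Opens X) ≤ U → F.obj V
  compat : ∀ (V W : B) (hV : (V : Opens X) ≤ U) (hW : (W : Opens X) ≤ U)
    (h : (W : Opens X) ≤ V), F.res h (sec V hV) = sec W hW

def ExtObj.restrict {F : Pre B} {U U' : Opens X} (h : U' ≤ U) (s : ExtObj F U) : ExtObj F U' :=
  ⟨fun V hV => s.sec V (hV.trans h), fun V W _ _ hh => s.compat V W _ _ hh⟩

/-- The extension presheaf. -/
def extPre (F : Pre B) : (Opens X)ᵒᵖ ⥤ Type u where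
  obj U := ExtObj F U.unop
  map f := ↾(ExtObj.restrict f.unop.le)
  map_id U := by
    apply ConcreteCategory.hom_ext
    intro s
    rfl
  map_comp f g := by
    apply ConcreteCategory.hom_ext
    intro s
    rfl

lemma extPre_map_sec (F : Pre B) {U U' : (Opens X)ᵒᵖ} (f : U ⟶ U') (s : (extPre F).obj U)
    (V : B) (hV : (V : Opens X) ≤ U'.unop) :
    ((extPre F).map f s).sec V hV = s.sec V (hV.trans f.unop.le) := rfl

section Glue

variable (hB : Opens.IsBasis B) (F : Pre B) (hF : IsSheaf F)
  {ι : Type u} (U : ι → Opens X) (sf : ∀ i, ExtObj F (U i))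
  (hsf : ∀ i j (D : B) (h1 : (D : Opens X) ≤ U i) (h2 : (D : Opens X) ≤ U j),
    (sf i).sec D h1 = (sf j).sec D h2)

include hB hF hsf in
lemma exists_glueSec (V : B) (hV : (V : Opens X) ≤ iSup U) :
    ∃! t : F.obj V, ∀ (i : ι) (E : B) (hEV : (E : Opens X) ≤ V) (hEU : (E : Opens X) ≤ U i),
      F.res hEV t = (sf i).sec E hEU := by
  have := exists_glue hB F hF V (Σ i : ι, {E : B // (E : Opens X) ≤ (V : Opens X) ⊓ U i})
    (fun p => p.2.1) (fun p => p.2.2.trans inf_le_left) (by
      intro x hx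
      obtain ⟨i, hi⟩ := Opens.mem_iSup.mp (hV hx)
      obtain ⟨E, hxE, hE⟩ := exists_basis_nbhd hB (show x ∈ (V : Opens X) ⊓ U i from ⟨hx, hi⟩)
      exact Opens.mem_iSup.mpr ⟨⟨i, E, hE⟩, hxE⟩)
    (fun p => (sf p.1).sec p.2.1 (p.2.2.trans inf_le_right)) (by
      rintro ⟨i, E, hE⟩ ⟨j, E', hE'⟩ D h1 h2
      dsimp only at h1 h2 ⊢
      rw [(sf i).compat E D _ (h1.trans (hE.trans inf_le_right)) h1,
        (sf j).compat E' D _ (h2.trans (hE'.trans inf_le_right)) h2]
      exact hsf i j D _ _)
  obtain ⟨t, ht, huniq⟩ := this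
  refine ⟨t, fun i E hEV hEU => ht ⟨i, E, le_inf hEV hEU⟩, fun t' ht' => huniq t' ?_⟩
  rintro ⟨i, E, hE⟩
  exact ht' i E _ _

end Glue

/-- The extension presheaf of a sheaf on a basis is a sheaf. -/
theorem extPre_isSheaf (hB : Opens.IsBasis B) (F : Pre B) (hF : IsSheaf F) :
    TopCat.Presheaf.IsSheaf (X := TopCat.of X) (extPre F) := by
  apply TopCat.Presheaf.isSheaf_of_isSheafUniqueGluing_types
  intro ι U sf hcompat
  have hsf : ∀ i j (D : B) (h1 : (D : Opens X) ≤ U i) (h2 : (D : Opens X) ≤ U j),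
      (sf i).sec D h1 = (sf j).sec D h2 := by
    intro i j D h1 h2
    have := congrArg (fun s : ExtObj F (U i ⊓ U j) => s.sec D (le_inf h1 h2)) (hcompat i j)
    exact this
  have hg := fun (V : B) (hV : (V : Opens X) ≤ iSup U) => exists_glueSec hB F hF U sf hsf V hV
  choose g hg1 hg2 using hg
  let s : ExtObj F (iSup U) := ⟨g, by
    intro V W hV hW h
    apply hg2 W hW
    intro i E hEW hEU
    rw [F.res_comp]
    exact hg1 V hV i E _ hEU⟩
  refine ⟨s, ?_, ?_⟩
  · intro i
    apply ExtObj.ext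
    funext V hV
    have := hg1 V (hV.trans (le_iSup U i)) i V le_rfl hV
    rw [F.res_id] at this
    exact this
  · intro s' hs'
    apply ExtObj.ext
    funext V hV
    apply hg2 V hV
    intro i E hEV hEU
    rw [s'.compat V E hV (hEU.trans (le_iSup U i)) hEV]
    have := congrArg (fun s : ExtObj F (U i) => s.sec E hEU) (hs' i)
    exact this

/-- The extension sheaf. -/
def extSheaf (hB : Opens.IsBasis B) (F : Pre B) (hF : IsSheaf F) :
    TopCat.Sheaf (Type u) (TopCat.of X) :=
  ⟨extPre F, extPre_isSheaf hB F hF⟩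

/-- The restriction of the extension to the basis is the original presheaf. -/
def extIso (F : Pre B) : Iso (restrict B (extPre F)) F where
  hom :=
    { app := fun U s => ExtObj.sec s U le_rfl
      natural := fun {U V} h s => ExtObj.compat s U V _ _ h }
  inv :=
    { app := fun U t => (⟨fun V hV => F.res hV t, fun V W hV hW h => F.res_comp _ _ _⟩ :
        ExtObj F U)
      natural := fun {U V} h t => by
        apply ExtObj.ext
        funext W hW
        exact (F.res_comp _ _ _).symm }
  hom_inv U s := by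
    apply ExtObj.ext
    funext V hV
    exact ExtObj.compat s U V _ _ hV
  inv_hom U t := F.res_id U t

section Compare

variable (hB : Opens.IsBasis B) (F : Pre B)
  (G : TopCat.Sheaf (Type u) (TopCat.of X)) (e : Iso (restrict B G.presheaf) F)

lemma map_map (G : (Opens X)ᵒᵖ ⥤ Type u) {U V W : Opens X} (h₁ : V ≤ U) (h₂ : W ≤ V) (h₃ : W ≤ U)
    (s : G.obj (op U)) :
    G.map (homOfLE h₂).op (G.map (homOfLE h₁).op s) = G.map (homOfLE h₃).op s := by
  rw [← FunctorToTypes.map_comp_apply, ← op_comp, homOfLE_comp]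

/-- The comparison map from a sheaf whose restriction to `B` is `F` to the extension of `F`. -/
def ψ : G.presheaf ⟶ extPre F where
  app U := ↾(fun s => (⟨fun V hV => e.hom.app V (G.presheaf.map (homOfLE hV).op s), by
    intro V W hV hW h
    rw [e.hom.natural h]
    congr 1
    exact map_map G.presheaf hV h hW s⟩ : ExtObj F U.unop))
  naturality U U' f := by
    apply ConcreteCategory.hom_ext
    intro s
    apply ExtObj.ext
    funext V hV
    show e.hom.app V (G.presheaf.map (homOfLE hV).op (G.presheaf.map f s)) =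
      e.hom.app V (G.presheaf.map (homOfLE (hV.trans f.unop.le)).op s)
    congr 1
    exact map_map G.presheaf f.unop.le hV _ s

lemma ψ_sec (U : (Opens X)ᵒᵖ) (s : G.presheaf.obj U) (V : B) (hV : (V : Opens X) ≤ U.unop) :
    ((ψ F G e).app U s).sec V hV = e.hom.app V (G.presheaf.map (homOfLE hV).op s) := rfl

lemma map_map' (G : (Opens X)ᵒᵖ ⥤ Type u) {U V W : (Opens X)ᵒᵖ} (f : U ⟶ V) (g : V ⟶ W)
    (k : U ⟶ W) (s : G.obj U) : G.map g (G.map f s) = G.map k s := by
  rw [← FunctorToTypes.map_comp_apply]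
  exact congrArg (fun m => G.map m s) (Quiver.Hom.unop_inj (Subsingleton.elim _ _))

include hB in
lemma ψ_injective (U : (Opens X)ᵒᵖ) : Function.Injective ((ψ F G e).app U) := by
  intro s s' h
  refine TopCat.Sheaf.eq_of_locally_eq' G
    (fun V : {V : B // (V : Opens X) ≤ U.unop} => (V.1 : Opens X)) U.unop
    (fun V => homOfLE V.2) ?_ s s' ?_
  · intro x hx
    obtain ⟨V, hxV, hV⟩ := exists_basis_nbhd hB hx
    exact Opens.mem_iSup.mpr ⟨⟨V, hV⟩, hxV⟩
  · rintro ⟨V, hV⟩
    have h1 : e.hom.app V (G.presheaf.map (homOfLE hV).op s) =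
        e.hom.app V (G.presheaf.map (homOfLE hV).op s') :=
      congrArg (fun t : ExtObj F U.unop => t.sec V hV) h
    have h2 := congrArg (e.inv.app V) h1
    rw [e.hom_inv, e.hom_inv] at h2
    exact h2

include hB in
lemma ψ_surjective (U : (Opens X)ᵒᵖ) : Function.Surjective ((ψ F G e).app U) := by
  intro t
  have hres : ∀ (V E : B) (hV : (V : Opens X) ≤ U.unop) (hE : (E : Opens X) ≤ V),
      G.presheaf.map (homOfLE hE).op (e.inv.app V (t.sec V hV)) =
        e.inv.app E (t.sec E (hE.trans hV)) := by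
    intro V E hV hE
    have := e.inv.natural hE (t.sec V hV)
    rw [t.compat V E hV (hE.trans hV) hE] at this
    exact this
  obtain ⟨s, hs, -⟩ := TopCat.Sheaf.existsUnique_gluing' G
    (fun V : {V : B // (V : Opens X) ≤ U.unop} => (V.1 : Opens X)) U.unop
    (fun V => homOfLE V.2) (by
      intro x hx
      obtain ⟨V, hxV, hV⟩ := exists_basis_nbhd hB hx
      exact Opens.mem_iSup.mpr ⟨⟨V, hV⟩, hxV⟩)
    (fun V => e.inv.app V.1 (t.sec V.1 V.2)) (by
      rintro ⟨V, hV⟩ ⟨V', hV'⟩
      refine TopCat.Sheaf.eq_of_locally_eq' G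
        (fun E : {E : B // (E : Opens X) ≤ (V : Opens X) ⊓ V'} => (E.1 : Opens X))
        ((V : Opens X) ⊓ V') (fun E => homOfLE E.2) ?_ _ _ ?_
      · intro x hx
        obtain ⟨E, hxE, hE⟩ := exists_basis_nbhd hB hx
        exact Opens.mem_iSup.mpr ⟨⟨E, hE⟩, hxE⟩
      · rintro ⟨E, hE⟩
        dsimp only
        rw [map_map' G.presheaf _ _ (homOfLE (hE.trans inf_le_left)).op,
          map_map' G.presheaf _ _ (homOfLE (hE.trans inf_le_right)).op]
        rw [hres V E hV, hres V' E hV'])
  refine ⟨s, ?_⟩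
  apply ExtObj.ext
  funext V hV
  rw [ψ_sec]
  have := hs ⟨V, hV⟩
  dsimp only at this
  rw [this, e.inv_hom]

end Compare

end Groth.Agent.Lib.Helper43.ShBLib
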