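import Mathlib

/-!
# Morphisms into a sheaf of sets are determined by (and can be built from) a basis
-/

set_option autoImplicit false
universe u
open CategoryTheory TopologicalSpace Opposite

namespace Groth.Agent.Lib.Helper43.ShBHom

theorem existsUnique_hom_of_basis {Y : TopCat.{u}} (G : Y.Presheaf (Type u))
    (H : Y.Sheaf (Type u)) {BY : Set (Opens Y)} (hBY : Opens.IsBasis BY)
    (α : ∀ V : BY, G.obj (op V.1) → H.1.obj (op V.1))
    (hα : ∀ (V V' : BY) (h : V'.1 ≤ V.1) (s : G.obj (op V.1)),
      H.1.map (homOfLE h).op (α V s) = α V' (G.map (homOfLE h).op s)) :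
    ∃! ψ : G ⟶ H.1, ∀ (V : BY) (s : G.obj (op V.1)), ψ.app (op V.1) s = α V s := by
  let B : BY → Opens Y := Subtype.val
  have hB : Opens.IsBasis (Set.range B) := by
    rw [Subtype.range_coe]
    exact hBY
  let α' : (inducedFunctor B).op ⋙ G ⟶ (inducedFunctor B).op ⋙ H.1 :=
    { app := fun V => ↾(α V.unop)
      naturality := by
        intro V V' g
        ext s
        have h : (unop V').1 ≤ (unop V).1 := leOfHom g.unop.hom
        have hg : g.unop.hom = homOfLE h := Subsingleton.elim _ _
        show α V'.unop (G.map (g.unop.hom).op s) = H.1.map (g.unop.hom).op (α V.unop s)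
        rw [hg]
        exact (hα _ _ h s).symm }
  refine ⟨TopCat.Sheaf.restrictHomEquivHom G H hB α', ?_, ?_⟩
  · intro V s
    exact ConcreteCategory.congr_hom (TopCat.Sheaf.extend_hom_app G H hB α' V) s
  · intro ψ hψ
    refine TopCat.Sheaf.hom_ext G H hB ?_
    intro V
    rw [TopCat.Sheaf.extend_hom_app]
    ext s
    exact hψ V s

end Groth.Agent.Lib.Helper43.ShBHom
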