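import Mathlib

/-!
# Combinatorics for the standard simplicial homotopy `(f x₀, …, f xᵢ, g xᵢ, …, g xₙ)`
-/

set_option autoImplicit false

namespace Groth.Agent.Lib.Helper43.SimpHtpyFin

/-- index function of `h j` -/
def θ {n : ℕ} (j : Fin (n + 1)) : Fin (n + 2) → Fin (n + 1) := Fin.predAbove j

/-- choice function of `h j`: `true` (first map) on positions `≤ j` -/
def c {n : ℕ} (j : Fin (n + 1)) : Fin (n + 2) → Bool := fun b => decide (b.val ≤ j.val)

lemma val_succAbove {n : ℕ} (i : Fin (n + 1)) (b : Fin n) :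
    (i.succAbove b).val = if b.val < i.val then b.val else b.val + 1 := by
  unfold Fin.succAbove
  split_ifs <;> simp_all [Fin.lt_def]

lemma val_predAbove {n : ℕ} (j : Fin n) (b : Fin (n + 1)) :
    (j.predAbove b).val = if j.val < b.val then b.val - 1 else b.val := by
  by_cases h : j.castSucc < b
  · rw [Fin.predAbove_of_castSucc_lt _ _ h]
    have h' : j.val < b.val := h
    simp [h']
  · rw [Fin.predAbove_of_le_castSucc _ _ (not_lt.mp h)]
    have h' : ¬ j.val < b.val := h
    simp [h']

macro "fin_crunch" : tactic =>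
  `(tactic| (
    simp only [θ, c, Fin.ext_iff, val_succAbove, val_predAbove, Fin.lt_def, Fin.le_def,
      Fin.val_castSucc, Fin.val_succ, Fin.val_last, Fin.val_zero,
      decide_eq_decide, decide_eq_true_eq, decide_eq_false_iff_not] at *
    split_ifs <;> omega))

lemma id1 {n : ℕ} (b : Fin (n + 1)) :
    θ (0 : Fin (n + 1)) (Fin.succAbove (0 : Fin (n + 2)) b) = b ∧
      c (0 : Fin (n + 1)) (Fin.succAbove (0 : Fin (n + 2)) b) = false := by
  constructor <;> fin_crunch

lemma id2 {n : ℕ} (b : Fin (n + 1)) :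
    θ (Fin.last n) (Fin.succAbove (Fin.last (n + 1)) b) = b ∧
      c (Fin.last n) (Fin.succAbove (Fin.last (n + 1)) b) = true := by
  constructor <;> fin_crunch

lemma id3 {n : ℕ} (i : Fin (n + 2)) (j : Fin (n + 1)) (hij : i ≤ j.castSucc) (b : Fin (n + 2)) :
    θ j.succ (Fin.succAbove i.castSucc b) = Fin.succAbove i (θ j b) ∧
      c j.succ (Fin.succAbove i.castSucc b) = c j b := by
  constructor <;> fin_crunch

lemma id4 {n : ℕ} (j : Fin (n + 1)) (b : Fin (n + 2)) :
    θ j.succ (Fin.succAbove j.castSucc.succ b) = θ j.castSucc (Fin.succAbove j.castSucc.succ b) ∧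
      c j.succ (Fin.succAbove j.castSucc.succ b) = c j.castSucc (Fin.succAbove j.castSucc.succ b) := by
  constructor <;> fin_crunch

lemma id5 {n : ℕ} (i : Fin (n + 2)) (j : Fin (n + 1)) (hji : j.castSucc < i) (b : Fin (n + 2)) :
    θ j.castSucc (Fin.succAbove i.succ b) = Fin.succAbove i (θ j b) ∧
      c j.castSucc (Fin.succAbove i.succ b) = c j b := by
  constructor <;> fin_crunch

lemma id6 {n : ℕ} (i j : Fin (n + 1)) (hij : i ≤ j) (b : Fin (n + 3)) :
    θ j (Fin.predAbove i.castSucc b) = Fin.predAbove i (θ j.succ b) ∧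
      c j (Fin.predAbove i.castSucc b) = c j.succ b := by
  constructor <;> fin_crunch

lemma id7 {n : ℕ} (i j : Fin (n + 1)) (hji : j ≤ i) (b : Fin (n + 3)) :
    θ j (Fin.predAbove i.succ b) = Fin.predAbove i (θ j.castSucc b) ∧
      c j (Fin.predAbove i.succ b) = c j.castSucc b := by
  constructor <;> fin_crunch

end Groth.Agent.Lib.Helper43.SimpHtpyFin
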