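import Mathlib.CategoryTheory.Sites.EpiMono
import Mathlib.CategoryTheory.Sites.Abelian
import Mathlib.CategoryTheory.Sites.Limits
import Mathlib.CategoryTheory.Sites.LocallySurjective
import Mathlib.Algebra.Homology.ShortComplex.Ab
import Mathlib.Algebra.Homology.ShortComplex.ExactFunctor
import Mathlib.Algebra.Category.Grp.Abelian
import Mathlib.Algebra.Category.Grp.Limits
import Mathlib.Algebra.Category.Grp.FilteredColimits

/-!
# Exactness of a complex of abelian sheaves on a site, in terms of local lifting of sections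
-/

set_option autoImplicit false
universe w v u

open CategoryTheory CategoryTheory.Limits Opposite

namespace Groth.Agent.Lib.Helper43.SiteExact

variable {C : Type u} [Category.{v} C] (J : GrothendieckTopology C)
  [HasSheafify J AddCommGrpCat.{w}] [J.WEqualsLocallyBijective AddCommGrpCat.{w}]

/-- the sections functor over `U` -/
abbrev Γ (U : C) : Sheaf J AddCommGrpCat.{w} ⥤ AddCommGrpCat.{w} :=
  sheafToPresheaf J AddCommGrpCat.{w} ⋙ (evaluation Cᵒᵖ AddCommGrpCat.{w}).obj (op U)

variable {J} (S : ShortComplex (Sheaf J AddCommGrpCat.{w}))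

/-- the kernel short complex -/
noncomputable def kerSC : ShortComplex (Sheaf J AddCommGrpCat.{w}) :=
  ShortComplex.mk (kernel.ι S.g) S.g (kernel.condition _)

lemma kerSC_exact : (kerSC S).Exact :=
  ShortComplex.exact_of_f_is_kernel _ (kernelIsKernel S.g)

instance : Mono (kerSC S).f := inferInstanceAs (Mono (kernel.ι S.g))

lemma exists_ker (U : C) (s : S.X₂.obj.obj (op U)) (hs : S.g.hom.app (op U) s = 0) :
    ∃ z : (kernel S.g).obj.obj (op U), (kernel.ι S.g).hom.app (op U) z = s := by
  have := (kerSC_exact S).map_of_mono_of_preservesKernel (Γ J U) inferInstance inferInstance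
  rw [ShortComplex.ab_exact_iff] at this
  exact this s hs

lemma ι_injective (U : C) : Function.Injective ((kernel.ι S.g).hom.app (op U)) := by
  have : Mono ((Γ J U).map (kernel.ι S.g)) := inferInstance
  exact (AddCommGrpCat.mono_iff_injective _).mp this

/-- the canonical map to the kernel -/
noncomputable def k : S.X₁ ⟶ kernel S.g := kernel.lift S.g S.f S.zero

lemma k_ι : k S ≫ kernel.ι S.g = S.f := kernel.lift_ι _ _ _

lemma k_ι_apply (W : C) (t : S.X₁.obj.obj (op W)) :
    (kernel.ι S.g).hom.app (op W) ((k S).hom.app (op W) t) = S.f.hom.app (op W) t := by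
  have := congrArg (fun φ => φ.hom.app (op W)) (k_ι S)
  exact ConcreteCategory.congr_hom this t

lemma ι_g_apply (W : C) (z : (kernel S.g).obj.obj (op W)) :
    S.g.hom.app (op W) ((kernel.ι S.g).hom.app (op W) z) = 0 := by
  have := congrArg (fun φ => φ.hom.app (op W)) (kernel.condition S.g)
  exact ConcreteCategory.congr_hom this z

lemma exact_iff_isLocallySurjective : S.Exact ↔ Sheaf.IsLocallySurjective (k S) := by
  rw [S.exact_iff_epi_kernel_lift]
  exact (Sheaf.isLocallySurjective_iff_epi' (φ := k S)).symm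

lemma exact_iff_locally :
    S.Exact ↔ ∀ (V : C) (s : S.X₂.obj.obj (op V)), S.g.hom.app (op V) s = 0 →
      ∃ R ∈ J V, ∀ ⦃W : C⦄ (f : W ⟶ V), R f →
        ∃ t : S.X₁.obj.obj (op W), S.f.hom.app (op W) t = S.X₂.obj.map f.op s := by
  rw [exact_iff_isLocallySurjective]
  constructor
  · intro h V s hs
    obtain ⟨z, hz⟩ := exists_ker S V s hs
    refine ⟨Presheaf.imageSieve (k S).hom z, Presheaf.imageSieve_mem J (k S).hom z, ?_⟩
    rintro W f ⟨t, ht⟩
    refine ⟨t, ?_⟩
    rw [← k_ι_apply, ht, ← hz]
    exact NatTrans.naturality_apply (kernel.ι S.g).hom f.op z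
  · intro h
    refine ⟨fun {V} z => ?_⟩
    obtain ⟨R, hR, hR'⟩ := h V ((kernel.ι S.g).hom.app (op V) z) (ι_g_apply S V z)
    refine J.superset_covering ?_ hR
    intro W f hf
    obtain ⟨t, ht⟩ := hR' f hf
    refine ⟨t, ?_⟩
    apply ι_injective S W
    rw [k_ι_apply, ht]
    exact (NatTrans.naturality_apply (kernel.ι S.g).hom f.op z).symm

end Groth.Agent.Lib.Helper43.SiteExact
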