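import Mathlib

/-!
# Beck–Chevalley isomorphism on slice categories for a pullback square
-/

set_option autoImplicit false
open CategoryTheory CategoryTheory.Limits

namespace Groth.Agent.Lib.Helper43.SliceBC

universe v u
variable {C : Type u} [Category.{v} C] [HasPullbacks C] {S T S' T' : C}
  {f : T ⟶ S} {g : S' ⟶ S} {g' : T' ⟶ T} {f' : T' ⟶ S'} (hsq : IsPullback g' f' f g)

include hsq in
/-- `V ×_{S'} T'` is a pullback of `V ⟶ S' ⟶ S` and `f` -/
lemma isPullback_paste (V : Over S') :
    IsPullback (pullback.fst V.hom f') (pullback.snd V.hom f' ≫ g') (V.hom ≫ g) f :=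
  ((IsPullback.of_hasPullback V.hom f').flip.paste_horiz hsq).flip

/-- the component isomorphism -/
noncomputable def compIso (V : Over S') : pullback V.hom f' ≅ pullback (V.hom ≫ g) f :=
  (isPullback_paste hsq V).isoPullback

@[reassoc (attr := simp)]
lemma compIso_hom_fst (V : Over S') :
    (compIso hsq V).hom ≫ pullback.fst (V.hom ≫ g) f = pullback.fst V.hom f' :=
  (isPullback_paste hsq V).isoPullback_hom_fst

@[reassoc (attr := simp)]
lemma compIso_hom_snd (V : Over S') :
    (compIso hsq V).hom ≫ pullback.snd (V.hom ≫ g) f = pullback.snd V.hom f' ≫ g' :=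
  (isPullback_paste hsq V).isoPullback_hom_snd

/-- Beck–Chevalley: base change along `f'` then forget along `g'` is forget along `g` then base
change along `f`. -/
noncomputable def iso : Over.pullback f' ⋙ Over.map g' ≅ Over.map g ⋙ Over.pullback f :=
  NatIso.ofComponents
    (fun V => Over.isoMk (compIso hsq V) (by simp))
    (by
      intro V V' φ
      ext
      dsimp
      apply pullback.hom_ext
      · simp only [Category.assoc, Over.pullback_map_left, Over.isoMk_hom_left, Over.map_map_left,
          pullback.lift_fst]
        refine Eq.trans ?_ (congrArg (fun k => (compIso hsq V).hom ≫ k)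
          (pullback.lift_fst _ _ _).symm)
        rw [compIso_hom_fst hsq V', pullback.lift_fst]
        exact (compIso_hom_fst_assoc hsq V _).symm
      · simp only [Category.assoc, Over.pullback_map_left, Over.isoMk_hom_left, Over.map_map_left,
          pullback.lift_snd_assoc]
        refine Eq.trans ?_ (congrArg (fun k => (compIso hsq V).hom ≫ k)
          (pullback.lift_snd _ _ _).symm)
        rw [compIso_hom_snd hsq V', pullback.lift_snd_assoc]
        exact (compIso_hom_snd hsq V).symm)

end Groth.Agent.Lib.Helper43.SliceBC
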