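import Groth.Prelude.Def_W4stktopologysheavesDim

/-!
# The soberification `PtTop.Sob X`
-/

set_option autoImplicit false
universe u
open TopologicalSpace Topology Set

namespace Groth.Agent.Lib.Helper43.Sober

open PtTop

variable {X : Type u} [TopologicalSpace X]

/-- the underlying irreducible closed set of a point of the soberification -/
def ic (Z : Sob X) : IrreducibleCloseds X := Z

/-- the set of irreducible closed subsets meeting `U` -/
def SU (U : Set X) : Set (Sob X) := {Z : IrreducibleCloseds X | ((Z : Set X) ∩ U).Nonempty}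

lemma mem_SU {U : Set X} {Z : Sob X} :
    Z ∈ SU U ↔ ((ic Z : Set X) ∩ U).Nonempty := Iff.rfl

lemma isOpen_SU {U : Set X} (hU : IsOpen U) : IsOpen (SU U) :=
  GenerateOpen.basic _ ⟨⟨U, hU⟩, rfl⟩

lemma SU_inter {U V : Set X} (hU : IsOpen U) (hV : IsOpen V) : SU U ∩ SU V = SU (U ∩ V) := by
  ext Z
  constructor
  · rintro ⟨h1, h2⟩
    exact (ic Z).2.2 U V hU hV h1 h2
  · rintro ⟨x, hxZ, hxU, hxV⟩
    exact ⟨⟨x, hxZ, hxU⟩, ⟨x, hxZ, hxV⟩⟩

lemma SU_univ : SU (univ : Set X) = univ := by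
  ext Z
  simp only [mem_univ, iff_true]
  obtain ⟨x, hx⟩ := (ic Z).2.1
  exact ⟨x, hx, trivial⟩

lemma SU_iUnion {ι : Type*} (U : ι → Set X) : SU (⋃ i, U i) = ⋃ i, SU (U i) := by
  ext Z
  simp only [mem_SU, inter_iUnion, nonempty_iUnion, mem_iUnion]

lemma SU_mono {U V : Set X} (h : U ⊆ V) : SU U ⊆ SU V := by
  rintro Z ⟨x, hxZ, hxU⟩
  exact ⟨x, hxZ, h hxU⟩

theorem isOpen_iff (S : Set (Sob X)) : IsOpen S ↔ ∃ U : Set X, IsOpen U ∧ S = SU U := by
  constructor
  · intro h
    change GenerateOpen _ S at h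
    induction h with
    | basic s hs =>
      obtain ⟨U, rfl⟩ := hs
      exact ⟨U.1, U.2, rfl⟩
    | univ => exact ⟨univ, isOpen_univ, SU_univ.symm⟩
    | inter s t _ _ hs ht =>
      obtain ⟨U, hU, rfl⟩ := hs
      obtain ⟨V, hV, rfl⟩ := ht
      exact ⟨U ∩ V, hU.inter hV, SU_inter hU hV⟩
    | sUnion 𝒮 _ ih =>
      choose U hU hSU using ih
      refine ⟨⋃ (s : 𝒮), U s.1 s.2, isOpen_iUnion fun s => hU s.1 s.2, ?_⟩
      rw [SU_iUnion, sUnion_eq_iUnion]
      congr 1
      funext s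
      exact hSU s.1 s.2
  · rintro ⟨U, hU, rfl⟩
    exact isOpen_SU hU

lemma preimage_SU {U : Set X} (hU : IsOpen U) : toSob X ⁻¹' SU U = U := by
  ext x
  constructor
  · rintro ⟨y, hy, hyU⟩
    have hy' : y ∈ closure ({x} : Set X) := hy
    obtain ⟨z, hzU, hz⟩ := mem_closure_iff.mp hy' U hU hyU
    rw [mem_singleton_iff] at hz
    exact hz ▸ hzU
  · intro hx
    exact ⟨x, subset_closure (mem_singleton x), hx⟩

theorem continuous_toSob : Continuous (toSob X) := by
  rw [continuous_def]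
  intro S hS
  obtain ⟨U, hU, rfl⟩ := (isOpen_iff S).mp hS
  rw [preimage_SU hU]
  exact hU

/-- closed sets of `Sob X` -/
lemma isClosed_iff (T : Set (Sob X)) :
    IsClosed T ↔ ∃ F : Set X, IsClosed F ∧ T = {Z : Sob X | (ic Z : Set X) ⊆ F} := by
  rw [← isOpen_compl_iff, isOpen_iff]
  constructor
  · rintro ⟨U, hU, h⟩
    refine ⟨Uᶜ, hU.isClosed_compl, ?_⟩
    ext Z
    have : Z ∈ T ↔ Z ∉ SU U := by rw [← h]; simp
    rw [this, mem_SU, not_nonempty_iff_eq_empty, mem_ofPred_eq, ← disjoint_iff_inter_eq_empty,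
      subset_compl_iff_disjoint_right]
  · rintro ⟨F, hF, rfl⟩
    refine ⟨Fᶜ, hF.isOpen_compl, ?_⟩
    ext Z
    rw [mem_compl_iff, mem_ofPred_eq, mem_SU, ← not_iff_not, not_not, not_nonempty_iff_eq_empty,
      ← disjoint_iff_inter_eq_empty, ← subset_compl_iff_disjoint_right, compl_compl]

theorem t0Space : T0Space (Sob X) := by
  rw [t0Space_iff_inseparable]
  intro Z Z' h
  rw [inseparable_iff_forall_isOpen] at h
  have key : ∀ Z Z' : Sob X, (∀ s, IsOpen s → (Z ∈ s ↔ Z' ∈ s)) →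
      (ic Z : Set X) ⊆ (ic Z' : Set X) := by
    intro Z Z' h z hz
    by_contra hz'
    have hU : IsOpen ((ic Z' : Set X)ᶜ) :=
      (ic Z').3.isOpen_compl
    have h1 : Z ∈ SU ((ic Z' : Set X)ᶜ) := ⟨z, hz, hz'⟩
    obtain ⟨w, hw, hw'⟩ := (h _ (isOpen_SU hU)).mp h1
    exact hw' hw
  exact IrreducibleCloseds.ext (Subset.antisymm (key Z Z' h) (key Z' Z fun s hs => (h s hs).symm))

theorem quasiSober : QuasiSober (Sob X) := by
  constructor
  intro T hirr hcl
  obtain ⟨F, hF, rfl⟩ := (isClosed_iff T).mp hcl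
  set T : Set (Sob X) := {Z : Sob X | (ic Z : Set X) ⊆ F} with hT
  let F₀ : Set X := closure (⋃ Z ∈ T, (ic Z : Set X))
  have hF₀F : F₀ ⊆ F := closure_minimal (iUnion₂_subset fun Z hZ => hZ) hF
  have hsub : ∀ Z ∈ T, (ic Z : Set X) ⊆ F₀ := fun Z hZ =>
    (subset_biUnion_of_mem (u := fun Z : Sob X => (ic Z : Set X)) hZ).trans
      subset_closure
  have hirr₀ : IsIrreducible F₀ := by
    constructor
    · obtain ⟨Z₀, hZ₀⟩ := hirr.1
      obtain ⟨x, hx⟩ := (ic Z₀).2.1
      exact ⟨x, hsub Z₀ hZ₀ hx⟩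
    · rw [isPreirreducible_iff_isClosed_union_isClosed]
      intro A B hA hB hAB
      have hCA : IsClosed {Z : Sob X | (ic Z : Set X) ⊆ A} :=
        (isClosed_iff _).mpr ⟨A, hA, rfl⟩
      have hCB : IsClosed {Z : Sob X | (ic Z : Set X) ⊆ B} :=
        (isClosed_iff _).mpr ⟨B, hB, rfl⟩
      have hcov : T ⊆ {Z : Sob X | (ic Z : Set X) ⊆ A} ∪
          {Z : Sob X | (ic Z : Set X) ⊆ B} := by
        intro Z hZ
        have hZAB : (ic Z : Set X) ⊆ A ∪ B := (hsub Z hZ).trans hAB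
        exact (isPreirreducible_iff_isClosed_union_isClosed.mp (ic Z).2.2)
          A B hA hB hZAB
      rcases (isPreirreducible_iff_isClosed_union_isClosed.mp hirr.2) _ _ hCA hCB hcov with h | h
      · left
        exact closure_minimal (iUnion₂_subset fun Z hZ => h hZ) hA
      · right
        exact closure_minimal (iUnion₂_subset fun Z hZ => h hZ) hB
  let Zs : Sob X := (⟨F₀, hirr₀, isClosed_closure⟩ : IrreducibleCloseds X)
  refine ⟨Zs, ?_⟩
  show closure {Zs} = T
  apply Subset.antisymm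
  · apply closure_minimal _ hcl
    rw [singleton_subset_iff]
    exact hF₀F
  · intro Z hZ
    rw [mem_closure_iff]
    intro O hO hZO
    obtain ⟨V, hV, rfl⟩ := (isOpen_iff O).mp hO
    obtain ⟨x, hxZ, hxV⟩ := hZO
    exact ⟨Zs, ⟨x, hsub Z hZ hxZ, hxV⟩, rfl⟩

theorem bijOn : Set.BijOn (fun U' : Set (Sob X) => toSob X ⁻¹' U') {U' | IsOpen U'}
    {U : Set X | IsOpen U} := by
  refine ⟨?_, ?_, ?_⟩
  · intro U' hU'
    exact continuous_toSob.isOpen_preimage U' hU'
  · intro U' hU' V' hV' h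
    obtain ⟨U, hU, rfl⟩ := (isOpen_iff U').mp hU'
    obtain ⟨V, hV, rfl⟩ := (isOpen_iff V').mp hV'
    simp only [preimage_SU hU, preimage_SU hV] at h
    rw [h]
  · intro U hU
    exact ⟨SU U, isOpen_SU hU, preimage_SU hU⟩

theorem exists_factor (Y : Type u) [TopologicalSpace Y] [QuasiSober Y] [T0Space Y] (f : X → Y)
    (hf : Continuous f) : ∃ g : Sob X → Y, Continuous g ∧ g ∘ toSob X = f := by
  have hirr : ∀ Z : Sob X, IsIrreducible (f '' (ic Z : Set X)) := fun Z =>
    (ic Z).2.image f hf.continuousOn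
  refine ⟨fun Z => (hirr Z).genericPoint, ?_, ?_⟩
  · rw [continuous_def]
    intro V hV
    have : (fun Z => (hirr Z).genericPoint) ⁻¹' V = SU (f ⁻¹' V) := by
      ext Z
      rw [mem_preimage, (hirr Z).isGenericPoint_genericPoint_closure.mem_open_set_iff hV,
        closure_inter_open_nonempty_iff hV, mem_SU]
      constructor
      · rintro ⟨_, ⟨x, hx, rfl⟩, hxV⟩
        exact ⟨x, hx, hxV⟩
      · rintro ⟨x, hx, hxV⟩
        exact ⟨f x, ⟨x, hx, rfl⟩, hxV⟩
    rw [this]
    exact isOpen_SU (hV.preimage hf)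
  · funext x
    show (hirr (toSob X x)).genericPoint = f x
    apply (hirr (toSob X x)).isGenericPoint_genericPoint_closure.eq
    show closure {f x} = closure (f '' closure {x})
    apply Subset.antisymm
    · apply closure_mono
      rw [singleton_subset_iff]
      exact ⟨x, subset_closure (mem_singleton x), rfl⟩
    · apply closure_minimal _ isClosed_closure
      refine (image_closure_subset_closure_image hf).trans ?_
      rw [image_singleton]

end Groth.Agent.Lib.Helper43.Sober
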