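import Mathlib
import Groth.Agent.Lib.Helper43.Sober

/-!
# Compactness, spectrality and Noetherianity pass to the soberification
-/

set_option autoImplicit false
universe u
open TopologicalSpace Topology Set

namespace Groth.Agent.Lib.Helper43.Sober

open PtTop

variable {X : Type u} [TopologicalSpace X]

lemma SU_subset_iff {U V : Set X} (hU : IsOpen U) (hV : IsOpen V) : SU U ⊆ SU V ↔ U ⊆ V := by
  constructor
  · intro h
    have := preimage_mono (f := toSob X) h
    rwa [preimage_SU hU, preimage_SU hV] at this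
  · exact SU_mono

theorem isCompact_SU_iff {U : Set X} (hU : IsOpen U) : IsCompact (SU U) ↔ IsCompact U := by
  constructor
  · intro h
    rw [isCompact_iff_finite_subcover]
    intro ι W hW hcov
    have h1 : SU U ⊆ ⋃ i, SU (W i) := by
      rw [← SU_iUnion]
      exact SU_mono hcov
    obtain ⟨t, ht⟩ := h.elim_finite_subcover (fun i => SU (W i)) (fun i => isOpen_SU (hW i)) h1
    refine ⟨t, ?_⟩
    have h2 : SU U ⊆ SU (⋃ i : t, W i.1) := by
      rw [SU_iUnion]
      intro Z hZ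
      obtain ⟨i, hi, hZi⟩ := mem_iUnion₂.mp (ht hZ)
      exact mem_iUnion.mpr ⟨⟨i, hi⟩, hZi⟩
    have h3 := (SU_subset_iff hU (isOpen_iUnion fun i : t => hW i.1)).mp h2
    intro x hx
    obtain ⟨i, hi⟩ := mem_iUnion.mp (h3 hx)
    exact mem_iUnion₂.mpr ⟨i.1, i.2, hi⟩
  · intro h
    rw [isCompact_iff_finite_subcover]
    intro ι V hV hcov
    have hW : ∀ i, ∃ W : Set X, IsOpen W ∧ V i = SU W := fun i => (isOpen_iff (V i)).mp (hV i)
    choose W hWo hVW using hW
    have h1 : U ⊆ ⋃ i, W i := by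
      rw [← SU_subset_iff hU (isOpen_iUnion hWo), SU_iUnion]
      simpa only [← hVW] using hcov
    obtain ⟨t, ht⟩ := h.elim_finite_subcover W hWo h1
    refine ⟨t, ?_⟩
    intro Z hZ
    obtain ⟨x, hxZ, hxU⟩ := hZ
    obtain ⟨i, hi, hxi⟩ := mem_iUnion₂.mp (ht hxU)
    refine mem_iUnion₂.mpr ⟨i, hi, ?_⟩
    rw [hVW]
    exact ⟨x, hxZ, hxi⟩

theorem compactSpace [CompactSpace X] : CompactSpace (Sob X) := by
  rw [← isCompact_univ_iff, ← SU_univ, isCompact_SU_iff isOpen_univ]
  exact isCompact_univ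

theorem quasiSeparatedSpace [QuasiSeparatedSpace X] : QuasiSeparatedSpace (Sob X) := by
  constructor
  intro U' V' hU' hU'c hV' hV'c
  obtain ⟨U, hU, rfl⟩ := (isOpen_iff U').mp hU'
  obtain ⟨V, hV, rfl⟩ := (isOpen_iff V').mp hV'
  rw [SU_inter hU hV, isCompact_SU_iff (hU.inter hV)]
  exact QuasiSeparatedSpace.inter_isCompact U V hU ((isCompact_SU_iff hU).mp hU'c) hV
    ((isCompact_SU_iff hV).mp hV'c)

theorem prespectralSpace [PrespectralSpace X] : PrespectralSpace (Sob X) := by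
  constructor
  apply isTopologicalBasis_of_isOpen_of_nhds
  · rintro B ⟨hB, -⟩
    exact hB
  · intro Z O hZO hO
    obtain ⟨W, hW, rfl⟩ := (isOpen_iff O).mp hO
    obtain ⟨x, hxZ, hxW⟩ := hZO
    obtain ⟨B, ⟨hBo, hBc⟩, hxB, hBW⟩ :=
      (PrespectralSpace.isTopologicalBasis (X := X)).exists_subset_of_mem_open hxW hW
    exact ⟨SU B, ⟨isOpen_SU hBo, (isCompact_SU_iff hBo).mpr hBc⟩, ⟨x, hxZ, hxB⟩, SU_mono hBW⟩

theorem spectralSpace [CompactSpace X] [PrespectralSpace X] [QuasiSeparatedSpace X] :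
    SpectralSpace (Sob X) where
  __ := t0Space
  __ := compactSpace
  __ := quasiSober
  __ := quasiSeparatedSpace
  __ := prespectralSpace

theorem noetherianSpace [NoetherianSpace X] : NoetherianSpace (Sob X) := by
  rw [noetherianSpace_iff_opens]
  intro O
  obtain ⟨U, hU, hOU⟩ := (isOpen_iff (O : Set (Sob X))).mp O.2
  rw [hOU, isCompact_SU_iff hU]
  exact NoetherianSpace.isCompact U

end Groth.Agent.Lib.Helper43.Sober
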