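import Groth.Agent.Lib.Helper43.FibSec
import Groth.Agent.Lib.Helper43.Conn1Init
import Groth.Agent.Lib.Helper43.OverPost

/-!
# A stack over a stack is a stack for the inherited topology

For `q : E ⥤ B`, `p : B ⥤ C` fibred in groupoids with `B` and `E` stacks over `(C, J)`, the
category `E` over `B` is a stack for the topology on `B` inherited from `J`.
-/

set_option autoImplicit false
open CategoryTheory Functor

namespace Groth.Agent.Lib.Helper43.StkOver

open Groth.Agent.Lib.Helper43.Conn1 Groth.Agent.Lib.Helper43.Conn1Init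
  Groth.Agent.Lib.Helper43.SecRestr Groth.Agent.Lib.Helper43.FibSec

universe v₃ v₄ v₅ u₃ u₄ u₅ v u

variable {C : Type u} [Category.{v} C] {B : Type u₃} [Category.{v₃} B] (p : B ⥤ C)
  (hp : FibCat.IsFibGrpd p) {y : B} (S : Sieve y)

/-- the functor from a sieve of `B` to its image sieve in `C`. -/
def φS : S.arrows.category ⥤ (S.functorPushforward p).arrows.category :=
  ObjectProperty.lift _ (ObjectProperty.ι _ ⋙ Over.post p)
    (fun a => ⟨a.obj.left, a.obj.hom, 𝟙 _, a.property, (Category.id_comp _).symm⟩)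

include hp in
lemma faithful_φS : (φS p S).Faithful := by
  haveI := OverPost.faithful_post p hp y
  unfold φS
  infer_instance

include hp in
lemma full_φS : (φS p S).Full := by
  haveI := OverPost.full_post p hp y
  unfold φS
  infer_instance

include hp in
lemma essSurj_φS : (φS p S).EssSurj where
  mem_essImage := by
    intro b
    obtain ⟨bo, hb⟩ := b
    obtain ⟨V, f, rfl⟩ : ∃ (V : C) (f : V ⟶ p.obj y), bo = Over.mk f := ⟨bo.left, bo.hom, rfl⟩
    obtain ⟨Z, g, h, hg, hf⟩ := hb
    obtain ⟨z', h', hh'⟩ := hp.exists_lift (x := Z) h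
    have hw : p.obj z' = V := IsHomLift.domain_eq p h h'
    subst hw
    have hh : h = p.map h' := IsHomLift.eq_of_isHomLift p h h'
    subst hh
    have hf' : f = p.map (h' ≫ g) := by rw [p.map_comp]; exact hf
    subst hf'
    exact ⟨⟨Over.mk (h' ≫ g), S.downward_closed hg h'⟩, ⟨Iso.refl _⟩⟩

section ResOver

variable {F : Type u₄} [Category.{v₄} F] (P : F ⥤ C) (hP : FibCat.IsFibGrpd P)

include hp hP in
/-- sections of a stack `F` over `C` along `B/y ⥤ C` restrict equivalently to a sieve of `B`
whose image in `C` is a sieve along which `F` satisfies descent. -/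
theorem isEquivalence_res_over
    (hst : Stk.IsStackFor (S.functorPushforward p) (BasedCategory.ofFunctor P)) :
    (SecRestr2.res (ObjectProperty.ι _ : S.arrows.category ⥤ Over y)
      (Over.forget y ⋙ p) P).IsEquivalence := by
  haveI := OverPost.faithful_post p hp y
  haveI := OverPost.full_post p hp y
  haveI := OverPost.essSurj_post p hp y
  haveI := faithful_φS p hp S
  haveI := full_φS p hp S
  haveI := essSurj_φS p hp S
  haveI e1 : (SecRestr2.res (Over.post p : Over y ⥤ Over (p.obj y)) (Over.forget (p.obj y))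
      P).IsEquivalence :=
    SecRestr2.isEquivalence_res _ _ P hP (fun b => conn1_structuredArrow_of_equiv _ b)
  haveI e2 : (SecRestr2.res (φS p S) (S.functorPushforward p).arrows.diagram P).IsEquivalence :=
    SecRestr2.isEquivalence_res _ _ P hP (fun b => conn1_structuredArrow_of_equiv _ b)
  haveI e0 : (Stk.resSieve (S.functorPushforward p) (BasedCategory.ofFunctor P)).IsEquivalence :=
    hst
  let F₁ : (FibCat.overCat (p.obj y) ⥤ᵇ BasedCategory.ofFunctor P) ⥤
      (SecRestr2.ℬ (Over.forget y ⋙ p) ⥤ᵇ ℱ P) :=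
    SecRestr2.res (Over.post p : Over y ⥤ Over (p.obj y)) (Over.forget (p.obj y)) P
  let F₂ : (SecRestr2.ℬ (Over.forget y ⋙ p) ⥤ᵇ ℱ P) ⥤
      (SecRestr2.𝒜 (ObjectProperty.ι _ : S.arrows.category ⥤ Over y) (Over.forget y ⋙ p) ⥤ᵇ
        ℱ P) :=
    SecRestr2.res (ObjectProperty.ι _ : S.arrows.category ⥤ Over y) (Over.forget y ⋙ p) P
  let G₁ : (FibCat.overCat (p.obj y) ⥤ᵇ BasedCategory.ofFunctor P) ⥤
      (Stk.sieveCat (S.functorPushforward p) ⥤ᵇ BasedCategory.ofFunctor P) :=
    Stk.resSieve (S.functorPushforward p) (BasedCategory.ofFunctor P)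
  let G₂ : (Stk.sieveCat (S.functorPushforward p) ⥤ᵇ BasedCategory.ofFunctor P) ⥤
      (SecRestr2.𝒜 (ObjectProperty.ι _ : S.arrows.category ⥤ Over y) (Over.forget y ⋙ p) ⥤ᵇ
        ℱ P) :=
    SecRestr2.res (φS p S) (S.functorPushforward p).arrows.diagram P
  haveI : F₁.IsEquivalence := e1
  haveI : G₁.IsEquivalence := e0
  haveI : G₂.IsEquivalence := e2
  let iso : G₁ ⋙ G₂ ≅ F₁ ⋙ F₂ := NatIso.ofComponents (fun G => Iso.refl _) (by
    intro G G' α
    apply BasedNatTrans.ext
    apply NatTrans.ext
    funext a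
    refine (Category.comp_id _).trans (Eq.trans ?_ (Category.id_comp _).symm)
    rfl)
  haveI : (F₁ ⋙ F₂).IsEquivalence := Functor.isEquivalence_of_iso iso
  exact Functor.isEquivalence_of_comp_left F₁ F₂

end ResOver

section Main

variable {E : Type u₄} [Category.{v₄} E] (q : E ⥤ B) (J : GrothendieckTopology C)

include hp in
/-- a stack over a stack is a stack for the inherited topology. -/
theorem isStack_over (hq : FibCat.IsFibGrpd q)
    (hB : Stk.IsStack J (BasedCategory.ofFunctor p))
    (hE : Stk.IsStack J (BasedCategory.ofFunctor (q ⋙ p))) :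
    Stk.IsStack (p.restrictedTopology J) (BasedCategory.ofFunctor q) := by
  refine ⟨hq, ?_⟩
  intro y S hS
  rw [FibGrpdTop.mem_restrictedTopology_iff p hp J] at hS
  haveI hTot : (resTot (ObjectProperty.ι _ : S.arrows.category ⥤ Over y) (Over.forget y ⋙ p)
      p q).IsEquivalence :=
    isEquivalence_res_over p hp S (q ⋙ p) hE.1 (hE.2 _ hS)
  haveI hBas : (resBas (ObjectProperty.ι _ : S.arrows.category ⥤ Over y) (Over.forget y ⋙ p)
      p).IsEquivalence :=
    isEquivalence_res_over p hp S p hp (hB.2 _ hS)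
  exact FibSec.isEquivalence_resFib (ObjectProperty.ι _ : S.arrows.category ⥤ Over y)
    (Over.forget y ⋙ p) p q (Over.forget y) rfl hq

end Main

end Groth.Agent.Lib.Helper43.StkOver
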