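import Groth.Agent.Lib.Helper43.CatPbFib
import Groth.Agent.Lib.Helper43.FibSec
import Groth.Agent.Lib.Helper43.CommaWeakProd
import Groth.Agent.Lib.Helper43.StkOver

/-!
# Base change of a stack along a cover-preserving functor preserving pullbacks
-/

set_option autoImplicit false
open CategoryTheory Functor Limits

namespace Groth.Agent.Lib.Helper43.StkBC

open Groth.Agent.Lib.Helper43.FibGrpdFun Groth.Agent.Lib.Helper43.GerbComp
  Groth.Agent.Lib.Helper43.GerbBC Groth.Agent.Lib.Helper43.SecRestr
  Groth.Agent.Lib.Helper43.CatPbFib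

universe v₁ v₂ v₃ u₁ u₂ u₃ v u

variable {C : Type u} [Category.{v} C] {D : Type u₂} [Category.{v₂} D]
  {E : Type u₃} [Category.{v₃} E] (u : C ⥤ D) (p : E ⥤ D)
  {A : Type u₁} [Category.{v₁} A] (k : A ⥤ C)

/-- sections of `E` over `D` along `k ⋙ u`. -/
abbrev Src := SecRestr2.ℬ (k ⋙ u) ⥤ᵇ ℱ p
/-- sections of `C ×_D E` over `C` along `k`. -/
abbrev Tgt := SecRestr2.ℬ k ⥤ᵇ ℱ (CategoricalPullback.π₁ u p)

section Phi

variable (s : Src u p k)

/-- value (clean type) -/
abbrev sO (a : A) : E := s.toFunctor.obj a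
/-- value on morphisms (clean type) -/
abbrev sM {a a₁ : A} (m : a ⟶ a₁) : sO u p k s a ⟶ sO u p k s a₁ := s.toFunctor.map m

lemma sO_over (a : A) : p.obj (sO u p k s a) = u.obj (k.obj a) := s.w_obj a

instance sM_lift {a a₁ : A} (m : a ⟶ a₁) : p.IsHomLift (u.map (k.map m)) (sM u p k s m) :=
  SecRestr2.lift_s (k ⋙ u) p s m

/-- object part of `Φ s`. -/
def phiObj (a : A) : CategoricalPullback u p :=
  ⟨k.obj a, sO u p k s a, eqToIso (sO_over u p k s a).symm⟩

/-- morphism part of `Φ s`. -/
def phiMap {a a₁ : A} (m : a ⟶ a₁) : phiObj u p k s a ⟶ phiObj u p k s a₁ :=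
  mkHom u p (z₁ := phiObj u p k s a) (z₀ := phiObj u p k s a₁) (k.map m) (sM u p k s m) (by
    show u.map (k.map m) ≫ eqToHom (sO_over u p k s a₁).symm =
      eqToHom (sO_over u p k s a).symm ≫ p.map (sM u p k s m)
    rw [IsHomLift.fac' p (u.map (k.map m)) (sM u p k s m)]
    simp)

/-- `Φ s` as a functor. -/
def phiFun : A ⥤ CategoricalPullback u p where
  obj a := phiObj u p k s a
  map m := phiMap u p k s m
  map_id a := by
    apply CategoricalPullback.hom_ext
    · exact k.map_id a
    · exact s.toFunctor.map_id a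
  map_comp m n := by
    apply CategoricalPullback.hom_ext
    · exact k.map_comp m n
    · exact s.toFunctor.map_comp m n

/-- `Φ s` as a section. -/
def phiSec : Tgt u p k where
  toFunctor := phiFun u p k s
  w := rfl

end Phi

/-- component of `Φ α`. -/
def phiApp {s s' : Src u p k} (α : s ⟶ s') (a : A) : phiObj u p k s a ⟶ phiObj u p k s' a :=
  mkHom u p (z₁ := phiObj u p k s a) (z₀ := phiObj u p k s' a) (𝟙 (k.obj a))
    (α.toNatTrans.app a) (by
      have h : p.IsHomLift (𝟙 (u.obj (k.obj a))) (α.toNatTrans.app a) := α.isHomLift' a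
      show u.map (𝟙 (k.obj a)) ≫ eqToHom (sO_over u p k s' a).symm =
        eqToHom (sO_over u p k s a).symm ≫ p.map (α.toNatTrans.app a)
      rw [@IsHomLift.fac' _ _ _ _ p _ _ _ _ _ _ h]
      simp)

/-- the comparison functor on sections. -/
def Phi : Src u p k ⥤ Tgt u p k where
  obj s := phiSec u p k s
  map {s s'} α :=
    { toNatTrans :=
        { app := fun a => phiApp u p k α a
          naturality := by
            intro a a₁ m
            apply CategoricalPullback.hom_ext
            · show k.map m ≫ 𝟙 _ = 𝟙 _ ≫ k.map m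
              rw [Category.comp_id, Category.id_comp]
            · exact α.toNatTrans.naturality m }
      isHomLift' := by
        intro a
        exact isHomLift_fst u p (phiApp u p k α a) }
  map_id s := by
    apply BasedNatTrans.homCategory.ext
    ext a
    apply CategoricalPullback.hom_ext <;> rfl
  map_comp α β := by
    apply BasedNatTrans.homCategory.ext
    ext a
    apply CategoricalPullback.hom_ext
    · show 𝟙 _ = 𝟙 _ ≫ 𝟙 _
      rw [Category.comp_id]
    · rfl

lemma phi_map_app_snd {s s' : Src u p k} (α : s ⟶ s') (a : A) :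
    (((Phi u p k).map α).toNatTrans.app a).snd = α.toNatTrans.app a := rfl

instance faithful_Phi : (Phi u p k).Faithful where
  map_injective {s s'} α α' h := by
    apply BasedNatTrans.homCategory.ext
    apply NatTrans.ext
    funext (a : A)
    have h1 := congrArg (fun δ : (Phi u p k).obj s ⟶ (Phi u p k).obj s' =>
      (δ.toNatTrans.app a).snd) h
    exact h1

lemma lift_of_w {c : C} {x y : E} (hx : p.obj x = u.obj c) (hy : p.obj y = u.obj c)
    (f : c ⟶ c) (g : x ⟶ y) (hf : f = 𝟙 c)
    (hw : u.map f ≫ eqToHom hy.symm = eqToHom hx.symm ≫ p.map g) :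
    p.IsHomLift (𝟙 (u.obj c)) g := by
  subst hf
  rw [u.map_id, Category.id_comp] at hw
  refine IsHomLift.of_fac' p _ _ hx hy ?_
  rw [Category.id_comp]
  have := congrArg (fun t => eqToHom hx ≫ t) hw
  simpa using this.symm

/-- the second component of a 2-morphism between images of `Φ` lies over an identity. -/
lemma snd_lift {s s' : Src u p k} (γ : (Phi u p k).obj s ⟶ (Phi u p k).obj s') (a : A) :
    p.IsHomLift (𝟙 (u.obj (k.obj a)))
      ((γ.toNatTrans.app a).snd : sO u p k s a ⟶ sO u p k s' a) := by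
  have h1 : (CategoricalPullback.π₁ u p).IsHomLift (𝟙 (k.obj a)) (γ.toNatTrans.app a) :=
    γ.isHomLift' a
  have hf : (γ.toNatTrans.app a).fst = 𝟙 (k.obj a) :=
    fst_eq_of_isHomLift u p (z₁ := phiObj u p k s a) (z₀ := phiObj u p k s' a) (𝟙 (k.obj a))
      (γ.toNatTrans.app a) h1
  have hw := hom_w' u p (z₁ := phiObj u p k s a) (z₀ := phiObj u p k s' a) (γ.toNatTrans.app a)
  exact lift_of_w u p (sO_over u p k s a) (sO_over u p k s' a) (γ.toNatTrans.app a).fst
    (γ.toNatTrans.app a).snd hf hw

instance full_Phi : (Phi u p k).Full where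
  map_surjective {s s'} γ := by
    refine ⟨{ toNatTrans :=
                { app := fun a => (γ.toNatTrans.app a).snd
                  naturality := by
                    intro a a₁ m
                    exact congrArg (fun t => t.snd) (γ.toNatTrans.naturality m) }
              isHomLift' := fun a => snd_lift u p k γ a }, ?_⟩
    apply BasedNatTrans.homCategory.ext
    apply NatTrans.ext
    funext (a : A)
    have h1 : (CategoricalPullback.π₁ u p).IsHomLift (𝟙 (k.obj a)) (γ.toNatTrans.app a) :=
      γ.isHomLift' a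
    have hf : (γ.toNatTrans.app a).fst = 𝟙 (k.obj a) :=
      fst_eq_of_isHomLift u p (z₁ := phiObj u p k s a) (z₀ := phiObj u p k s' a) (𝟙 (k.obj a))
        (γ.toNatTrans.app a) h1
    apply CategoricalPullback.hom_ext
    · exact hf.symm
    · rfl

section EssSurj

variable (hp : FibCat.IsFibGrpd p) (T : Tgt u p k)

/-- value of the section of the pullback (clean type) -/
abbrev tO (a : A) : CategoricalPullback u p := T.toFunctor.obj a
/-- value on morphisms (clean type) -/
abbrev tM {a a₁ : A} (m : a ⟶ a₁) : tO u p k T a ⟶ tO u p k T a₁ := T.toFunctor.map m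

lemma tO_fst (a : A) : (tO u p k T a).fst = k.obj a := T.w_obj a

instance tM_lift {a a₁ : A} (m : a ⟶ a₁) :
    (CategoricalPullback.π₁ u p).IsHomLift (k.map m) (tM u p k T m) :=
  SecRestr2.lift_s k (CategoricalPullback.π₁ u p) T m

lemma tM_fst {a a₁ : A} (m : a ⟶ a₁) :
    (tM u p k T m).fst = eqToHom (tO_fst u p k T a) ≫ k.map m ≫ eqToHom (tO_fst u p k T a₁).symm :=
  IsHomLift.fac' (CategoricalPullback.π₁ u p) (k.map m) (tM u p k T m)

/-- the comparison `u (k a) ⟶ p (T a).snd`. -/
def beta (a : A) : u.obj (k.obj a) ⟶ p.obj (tO u p k T a).snd :=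
  eqToHom (congrArg u.obj (tO_fst u p k T a).symm) ≫ (iso' u p (tO u p k T a)).hom

lemma beta_nat_aux {c c₁ : C} {z z₁ : CategoricalPullback u p} (hc : z.fst = c)
    (hc₁ : z₁.fst = c₁) (f : c ⟶ c₁) (m : z ⟶ z₁)
    (hm : m.fst = eqToHom hc ≫ f ≫ eqToHom hc₁.symm) :
    u.map f ≫ (eqToHom (congrArg u.obj hc₁.symm) ≫ (iso' u p z₁).hom) =
      (eqToHom (congrArg u.obj hc.symm) ≫ (iso' u p z).hom) ≫ p.map m.snd := by
  subst hc hc₁
  simp only [eqToHom_refl, Category.id_comp, Category.comp_id] at hm ⊢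
  rw [← hm]
  exact hom_w' u p m

lemma beta_nat {a a₁ : A} (m : a ⟶ a₁) :
    u.map (k.map m) ≫ beta u p k T a₁ = beta u p k T a ≫ p.map (tM u p k T m).snd :=
  beta_nat_aux u p (tO_fst u p k T a) (tO_fst u p k T a₁) (k.map m) (tM u p k T m)
    (tM_fst u p k T m)

include hp in
lemma nEx (a : A) : ∃ (y : E) (χ : y ⟶ (tO u p k T a).snd), p.IsHomLift (beta u p k T a) χ :=
  hp.exists_lift (beta u p k T a)

/-- chosen pullback -/
noncomputable def nO (a : A) : E := (nEx u p k hp T a).choose

/-- chosen cartesian arrow -/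
noncomputable def nL (a : A) : nO u p k hp T a ⟶ (tO u p k T a).snd :=
  (nEx u p k hp T a).choose_spec.choose

instance nL_lift (a : A) : p.IsHomLift (beta u p k T a) (nL u p k hp T a) :=
  (nEx u p k hp T a).choose_spec.choose_spec

lemma exists_nM {a a₁ : A} (m : a ⟶ a₁) :
    ∃ χ : nO u p k hp T a ⟶ nO u p k hp T a₁, p.IsHomLift (u.map (k.map m)) χ ∧
      χ ≫ nL u p k hp T a₁ = nL u p k hp T a ≫ (tM u p k T m).snd := by
  haveI : p.IsHomLift (u.map (k.map m) ≫ beta u p k T a₁)
      (nL u p k hp T a ≫ (tM u p k T m).snd) := by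
    rw [beta_nat]; infer_instance
  exact exists_factor p hp (beta u p k T a₁) (nL u p k hp T a₁) (u.map (k.map m))
    (nL u p k hp T a ≫ (tM u p k T m).snd)

/-- transported section on morphisms -/
noncomputable def nM {a a₁ : A} (m : a ⟶ a₁) : nO u p k hp T a ⟶ nO u p k hp T a₁ :=
  (exists_nM u p k hp T m).choose

instance nM_lift {a a₁ : A} (m : a ⟶ a₁) :
    p.IsHomLift (u.map (k.map m)) (nM u p k hp T m) := (exists_nM u p k hp T m).choose_spec.1

lemma nM_spec {a a₁ : A} (m : a ⟶ a₁) :
    nM u p k hp T m ≫ nL u p k hp T a₁ = nL u p k hp T a ≫ (tM u p k T m).snd :=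
  (exists_nM u p k hp T m).choose_spec.2

lemma nO_over (a : A) : p.obj (nO u p k hp T a) = u.obj (k.obj a) :=
  IsHomLift.domain_eq p (beta u p k T a) (nL u p k hp T a)

lemma nM_id (a : A) : nM u p k hp T (𝟙 a) = 𝟙 _ := by
  haveI : p.IsHomLift (𝟙 (u.obj (k.obj a))) (𝟙 (nO u p k hp T a)) :=
    IsHomLift.id (nO_over u p k hp T a)
  haveI : p.IsHomLift (𝟙 (u.obj (k.obj a))) (nM u p k hp T (𝟙 a)) := by
    have h := nM_lift u p k hp T (𝟙 a)
    rwa [k.map_id, u.map_id] at h
  refine cancel p hp (𝟙 (u.obj (k.obj a))) (beta u p k T a) (nL u p k hp T a) _ _ ?_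
  rw [nM_spec, Category.id_comp]
  have e : (tM u p k T (𝟙 a)).snd = 𝟙 _ := by
    have := T.toFunctor.map_id a
    exact congrArg (fun t => t.snd) this
  rw [e, Category.comp_id]

lemma nM_comp {a a₁ a₂ : A} (m : a ⟶ a₁) (n : a₁ ⟶ a₂) :
    nM u p k hp T (m ≫ n) = nM u p k hp T m ≫ nM u p k hp T n := by
  haveI : p.IsHomLift (u.map (k.map m) ≫ u.map (k.map n)) (nM u p k hp T (m ≫ n)) := by
    have h := nM_lift u p k hp T (m ≫ n)
    rwa [k.map_comp, u.map_comp] at h
  refine cancel p hp (u.map (k.map m) ≫ u.map (k.map n)) (beta u p k T a₂)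
    (nL u p k hp T a₂) _ _ ?_
  have e : (tM u p k T (m ≫ n)).snd = (tM u p k T m).snd ≫ (tM u p k T n).snd := by
    have := T.toFunctor.map_comp m n
    exact congrArg (fun t => t.snd) this
  rw [nM_spec, Category.assoc, nM_spec, ← Category.assoc, nM_spec, Category.assoc, e]

/-- the transported strict section. -/
noncomputable def strictSec : Src u p k where
  toFunctor :=
    { obj := fun a => nO u p k hp T a
      map := fun m => nM u p k hp T m
      map_id := fun a => nM_id u p k hp T a
      map_comp := fun m n => nM_comp u p k hp T m n }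
  w := by
    refine CategoryTheory.Functor.ext ?_ ?_
    · intro a
      exact nO_over u p k hp T a
    · intro a a₁ m
      have h := nM_lift u p k hp T m
      exact @IsHomLift.fac' _ _ _ _ p _ _ _ _ _ _ h

lemma comp_w_aux {c : C} {z : CategoricalPullback u p} (hc : z.fst = c) {y : E}
    (χ : y ⟶ z.snd)
    (h : p.IsHomLift (eqToHom (congrArg u.obj hc.symm) ≫ (iso' u p z).hom) χ)
    (hy : p.obj y = u.obj c) :
    u.map (eqToHom hc.symm) ≫ (iso' u p z).hom = eqToHom hy.symm ≫ p.map χ := by
  subst hc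
  have hf := @IsHomLift.fac' _ _ _ _ p _ _ _ _ _ _ h
  rw [hf]
  simp

/-- component of the comparison `Φ (strictSec) ⟶ T`. -/
noncomputable def cmpApp (a : A) : phiObj u p k (strictSec u p k hp T) a ⟶ tO u p k T a :=
  mkHom u p (z₁ := phiObj u p k (strictSec u p k hp T) a) (z₀ := tO u p k T a)
    (eqToHom (tO_fst u p k T a).symm) (nL u p k hp T a)
    (comp_w_aux u p (tO_fst u p k T a) (nL u p k hp T a) (nL_lift u p k hp T a)
      (nO_over u p k hp T a))

/-- the comparison `Φ (strictSec) ⟶ T`. -/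
noncomputable def cmp : (Phi u p k).obj (strictSec u p k hp T) ⟶ T where
  toNatTrans :=
    { app := fun a => cmpApp u p k hp T a
      naturality := by
        intro a a₁ m
        apply CategoricalPullback.hom_ext
        · show k.map m ≫ eqToHom (tO_fst u p k T a₁).symm =
            eqToHom (tO_fst u p k T a).symm ≫ (tM u p k T m).fst
          rw [tM_fst]
          simp
        · exact nM_spec u p k hp T m }
  isHomLift' := by
    intro a
    refine IsHomLift.of_fac' (CategoricalPullback.π₁ u p) _ _ rfl (tO_fst u p k T a) ?_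
    show eqToHom (tO_fst u p k T a).symm = _
    simp
    rfl

include hp in
theorem essSurj_Phi : (Phi u p k).EssSurj where
  mem_essImage T := by
    have hπ := isFibGrpd_π₁ u p hp
    exact ⟨strictSec u p k hp T,
      ⟨@asIso _ _ _ _ (cmp u p k hp T)
        (FibSec.isIso_hom (CategoricalPullback.π₁ u p) hπ (cmp u p k hp T))⟩⟩

include hp in
theorem isEquivalence_Phi : (Phi u p k).IsEquivalence := by
  haveI := essSurj_Phi u p k hp
  exact {}

end EssSurj

section Main

open Groth.Agent.Lib.Helper43.Conn1 Groth.Agent.Lib.Helper43.Conn1Init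
  Groth.Agent.Lib.Helper43.CommaWeakProd Groth.Agent.Lib.Helper43.StkOver

variable [HasPullbacks C] [PreservesLimitsOfShape WalkingCospan u] {U : C} (R : Sieve U)

lemma nonempty_comma_post (b : Over (u.obj U)) :
    Nonempty (StructuredArrow b (Over.post u : Over U ⥤ Over (u.obj U))) :=
  ⟨StructuredArrow.mk (Y := Over.mk (𝟙 U)) (Over.homMk b.hom (by
    show b.hom ≫ u.map (𝟙 U) = b.hom
    rw [u.map_id, Category.comp_id]))⟩

lemma nonempty_comma_φS (b : (R.functorPushforward u).arrows.category) :
    Nonempty (StructuredArrow b (φS u R)) := by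
  obtain ⟨Z, f, h, hf, e⟩ := b.property
  exact ⟨StructuredArrow.mk (Y := (⟨Over.mk f, hf⟩ : R.arrows.category))
    (ObjectProperty.homMk (Over.homMk h (by
      show h ≫ u.map f = b.obj.hom
      exact e.symm)))⟩

lemma conn1_comma_post (b : Over (u.obj U)) :
    Conn1.{u₃, v₃} (StructuredArrow b (Over.post u : Over U ⥤ Over (u.obj U))) :=
  conn1_of_weakProd (nonempty_comma_post u b)
    (weakProd_structuredArrow (wpd_post u (⊤ : Sieve U)) (fun _ => trivial) b)

lemma conn1_comma_φS (b : (R.functorPushforward u).arrows.category) :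
    Conn1.{u₃, v₃} (StructuredArrow b (φS u R)) :=
  conn1_of_weakProd (nonempty_comma_φS u R b)
    (weakProd_structuredArrow_lift _ _ (wpd_post u R) b)

variable (hp : FibCat.IsFibGrpd p)

include hp in
/-- restriction of strict sections of `E` along `u`, from `C/U` to the sieve `R`, is an
equivalence as soon as `E` satisfies descent along the image sieve. -/
theorem isEquivalence_res_src
    (hst : Stk.IsStackFor (R.functorPushforward u) (BasedCategory.ofFunctor p)) :
    (SecRestr2.res (ObjectProperty.ι _ : R.arrows.category ⥤ Over U)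
      (Over.forget U ⋙ u) p).IsEquivalence := by
  haveI e1 : (SecRestr2.res (Over.post u : Over U ⥤ Over (u.obj U)) (Over.forget (u.obj U))
      p).IsEquivalence :=
    SecRestr2.isEquivalence_res _ _ p hp (fun b => conn1_comma_post u b)
  haveI e2 : (SecRestr2.res (φS u R) (R.functorPushforward u).arrows.diagram p).IsEquivalence :=
    SecRestr2.isEquivalence_res _ _ p hp (fun b => conn1_comma_φS u R b)
  haveI e0 : (Stk.resSieve (R.functorPushforward u) (BasedCategory.ofFunctor p)).IsEquivalence :=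
    hst
  let F₁ : (FibCat.overCat (u.obj U) ⥤ᵇ BasedCategory.ofFunctor p) ⥤
      (SecRestr2.ℬ (Over.forget U ⋙ u) ⥤ᵇ ℱ p) :=
    SecRestr2.res (Over.post u : Over U ⥤ Over (u.obj U)) (Over.forget (u.obj U)) p
  let F₂ : (SecRestr2.ℬ (Over.forget U ⋙ u) ⥤ᵇ ℱ p) ⥤
      (SecRestr2.𝒜 (ObjectProperty.ι _ : R.arrows.category ⥤ Over U) (Over.forget U ⋙ u) ⥤ᵇ
        ℱ p) :=
    SecRestr2.res (ObjectProperty.ι _ : R.arrows.category ⥤ Over U) (Over.forget U ⋙ u) p
  let G₁ : (FibCat.overCat (u.obj U) ⥤ᵇ BasedCategory.ofFunctor p) ⥤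
      (Stk.sieveCat (R.functorPushforward u) ⥤ᵇ BasedCategory.ofFunctor p) :=
    Stk.resSieve (R.functorPushforward u) (BasedCategory.ofFunctor p)
  let G₂ : (Stk.sieveCat (R.functorPushforward u) ⥤ᵇ BasedCategory.ofFunctor p) ⥤
      (SecRestr2.𝒜 (ObjectProperty.ι _ : R.arrows.category ⥤ Over U) (Over.forget U ⋙ u) ⥤ᵇ
        ℱ p) :=
    SecRestr2.res (φS u R) (R.functorPushforward u).arrows.diagram p
  haveI : F₁.IsEquivalence := e1
  haveI : G₁.IsEquivalence := e0
  haveI : G₂.IsEquivalence := e2
  let iso : G₁ ⋙ G₂ ≅ F₁ ⋙ F₂ := NatIso.ofComponents (fun G => Iso.refl _) (by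
    intro G G' α
    apply BasedNatTrans.ext
    apply NatTrans.ext
    funext a
    refine (Category.comp_id _).trans (Eq.trans ?_ (Category.id_comp _).symm)
    rfl)
  haveI : (F₁ ⋙ F₂).IsEquivalence := Functor.isEquivalence_of_iso iso
  exact Functor.isEquivalence_of_comp_left F₁ F₂

include hp in
theorem isStackFor_π₁
    (hst : Stk.IsStackFor (R.functorPushforward u) (BasedCategory.ofFunctor p)) :
    Stk.IsStackFor R (BasedCategory.ofFunctor (CategoricalPullback.π₁ u p)) := by
  haveI hM := isEquivalence_res_src u p R hp hst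
  haveI := isEquivalence_Phi u p (Over.forget U) hp
  haveI := isEquivalence_Phi u p
    ((ObjectProperty.ι _ : R.arrows.category ⥤ Over U) ⋙ Over.forget U) hp
  let M : Src u p (Over.forget U) ⥤
      Src u p ((ObjectProperty.ι _ : R.arrows.category ⥤ Over U) ⋙ Over.forget U) :=
    SecRestr2.res (ObjectProperty.ι _ : R.arrows.category ⥤ Over U) (Over.forget U ⋙ u) p
  let Bt : Tgt u p (Over.forget U) ⥤
      Tgt u p ((ObjectProperty.ι _ : R.arrows.category ⥤ Over U) ⋙ Over.forget U) :=
    Stk.resSieve R (BasedCategory.ofFunctor (CategoricalPullback.π₁ u p))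
  haveI : M.IsEquivalence := hM
  let iso : M ⋙ Phi u p ((ObjectProperty.ι _ : R.arrows.category ⥤ Over U) ⋙ Over.forget U) ≅
      Phi u p (Over.forget U) ⋙ Bt := NatIso.ofComponents (fun G => Iso.refl _) (by
    intro G G' α
    apply BasedNatTrans.ext
    apply NatTrans.ext
    funext a
    refine (Category.comp_id _).trans (Eq.trans ?_ (Category.id_comp _).symm)
    rfl)
  haveI : (Phi u p (Over.forget U) ⋙ Bt).IsEquivalence := Functor.isEquivalence_of_iso iso
  exact Functor.isEquivalence_of_comp_left (Phi u p (Over.forget U)) Bt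

/-- base change of a stack along a cover-preserving functor preserving pullbacks. -/
theorem isStack_π₁ (J : GrothendieckTopology C) (K : GrothendieckTopology D)
    (hu : CoverPreserving J K u) (hS : Stk.IsStack K (BasedCategory.ofFunctor p)) :
    Stk.IsStack J (BasedCategory.ofFunctor (CategoricalPullback.π₁ u p)) := by
  refine ⟨isFibGrpd_π₁ u p hS.1, ?_⟩
  intro U R hR
  exact isStackFor_π₁ u p R hS.1 (hS.2 _ (hu.cover_preserve hR))

end Main

end Groth.Agent.Lib.Helper43.StkBC
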