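import Groth.Agent.Lib.Helper43.StkOver

/-!
# A stack over a stack is a stack over the base (composition)

For `q : E ⥤ B`, `p : B ⥤ C` with `B` a stack over `(C, J)` and `E` a stack over `B` for the
inherited topology, `E` is a stack over `(C, J)` through `q ⋙ p`.
-/

set_option autoImplicit false
open CategoryTheory Functor

namespace Groth.Agent.Lib.Helper43.StkComp

open Groth.Agent.Lib.Helper43.Conn1 Groth.Agent.Lib.Helper43.Conn1Init
  Groth.Agent.Lib.Helper43.SecRestr Groth.Agent.Lib.Helper43.FibSec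
  Groth.Agent.Lib.Helper43.GerbComp Groth.Agent.Lib.Helper43.GerbBC

universe v₃ v₄ u₃ u₄ v u

variable {C : Type u} [Category.{v} C] {B : Type u₃} [Category.{v₃} B] (p : B ⥤ C)
  (hp : FibCat.IsFibGrpd p) {U : C} (H : FibCat.overCat U ⥤ᵇ BasedCategory.ofFunctor p)

lemma eq_of_lifts {R S : C} {a b : B} (f f' : R ⟶ S) (φ : a ⟶ b) [p.IsHomLift f φ]
    [p.IsHomLift f' φ] : f = f' :=
  (IsHomLift.fac p f φ).trans (IsHomLift.fac p f' φ).symm

/-- value of the section on an object (clean type) -/
abbrev hO (a : Over U) : B := H.toFunctor.obj a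
/-- value of the section on a morphism (clean type) -/
abbrev hM {a a' : Over U} (g : a ⟶ a') : hO p H a ⟶ hO p H a' := H.toFunctor.map g

instance hM_lift {a a' : Over U} (g : a ⟶ a') : p.IsHomLift g.left (hM p H g) :=
  SecRestr2.lift_s (Over.forget U) p H g

lemma hM_comp {a a' a'' : Over U} (g : a ⟶ a') (g' : a' ⟶ a'') :
    hM p H (g ≫ g') = hM p H g ≫ hM p H g' := H.toFunctor.map_comp g g'

lemma hM_id (a : Over U) : hM p H (𝟙 a) = 𝟙 _ := H.toFunctor.map_id a

lemma hO_over (a : Over U) : p.obj (hO p H a) = a.left := H.w_obj a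

/-- the value of the section on the identity of `U`. -/
abbrev yH : B := hO p H (Over.mk (𝟙 U))

lemma yH_over : p.obj (yH p H) = U := hO_over p H (Over.mk (𝟙 U))

/-- the map to the terminal object of the slice. -/
def toTop (a : Over U) : a ⟶ Over.mk (𝟙 U) := Over.homMk a.hom

lemma comp_toTop {a a' : Over U} (g : a ⟶ a') : g ≫ toTop a' = toTop a := by
  apply Over.OverMorphism.ext
  simp [toTop]

instance toTop_lift (a : Over U) : p.IsHomLift a.hom (hM p H (toTop a)) :=
  hM_lift p H (toTop a)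

/-- the functor `C/U ⥤ B/y` induced by a section `H` of `B` over `C/U`, `y = H(id_U)`. -/
def hHat : Over U ⥤ Over (yH p H) where
  obj a := Over.mk (hM p H (toTop a))
  map {a a'} g := Over.homMk (hM p H g) (by
    show hM p H g ≫ hM p H (toTop a') = hM p H (toTop a)
    rw [← hM_comp, comp_toTop])
  map_id a := by
    apply Over.OverMorphism.ext
    exact hM_id p H a
  map_comp g g' := by
    apply Over.OverMorphism.ext
    exact hM_comp p H g g'

lemma hHat_w {a a' : Over U} (ψ : (hHat p H).obj a ⟶ (hHat p H).obj a') :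
    ψ.left ≫ hM p H (toTop a') = hM p H (toTop a) := Over.w ψ

lemma faithful_hHat : (hHat p H).Faithful where
  map_injective {a a'} g g' h := by
    have h1 : hM p H g = hM p H g' := congrArg (fun t => t.left) h
    haveI : p.IsHomLift g'.left (hM p H g) := by rw [h1]; infer_instance
    exact Over.OverMorphism.ext (eq_of_lifts p g.left g'.left (hM p H g))

include hp in
lemma full_hHat : (hHat p H).Full where
  map_surjective {a a'} ψ := by
    have ea : p.obj (hO p H a) = a.left := hO_over p H a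
    have ea' : p.obj (hO p H a') = a'.left := hO_over p H a'
    let ψ₀ : hO p H a ⟶ hO p H a' := ψ.left
    have hψ₀ : ψ₀ ≫ hM p H (toTop a') = hM p H (toTop a) := hHat_w p H ψ
    let g₀ : a.left ⟶ a'.left := eqToHom ea.symm ≫ p.map ψ₀ ≫ eqToHom ea'
    haveI : p.IsHomLift g₀ ψ₀ := IsHomLift.of_fac p _ _ ea ea' rfl
    have hw : g₀ ≫ a'.hom = a.hom := by
      haveI : p.IsHomLift (g₀ ≫ a'.hom) (hM p H (toTop a)) := by
        rw [← hψ₀]; infer_instance
      exact eq_of_lifts p _ _ (hM p H (toTop a))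
    let g : a ⟶ a' := Over.homMk g₀ hw
    refine ⟨g, ?_⟩
    apply Over.OverMorphism.ext
    show hM p H g = ψ₀
    haveI : p.IsHomLift g₀ (hM p H g) := hM_lift p H g
    refine cancel p hp g₀ a'.hom (hM p H (toTop a')) _ _ ?_
    rw [← hM_comp, comp_toTop]; exact hψ₀.symm

include hp in
lemma nonempty_iso_hHat (b : Over (yH p H)) :
    Nonempty ((hHat p H).obj (Over.mk (p.map b.hom ≫ eqToHom (yH_over p H))) ≅ b) := by
  let f : p.obj b.left ⟶ U := p.map b.hom ≫ eqToHom (yH_over p H)
  haveI hf : p.IsHomLift f b.hom := inferInstance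
  haveI : p.IsHomLift f (hM p H (toTop (Over.mk f))) := toTop_lift p H (Over.mk f)
  obtain ⟨χ, hχl, hχ⟩ := exists_factor_id p hp f (hM p H (toTop (Over.mk f))) b.hom
  haveI := hχl
  haveI : IsIso χ := isIso_of_lift_id p hp (p.obj b.left) χ
  let e : b.left ≅ hO p H (Over.mk f) := asIso χ
  exact ⟨(Over.isoMk (f := b) (g := (hHat p H).obj (Over.mk f)) e hχ).symm⟩

include hp in
lemma essSurj_hHat : (hHat p H).EssSurj where
  mem_essImage b := by
    obtain ⟨e⟩ := nonempty_iso_hHat p hp H b
    exact ⟨_, ⟨e⟩⟩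

section SievePart

variable (R : Sieve U)

/-- the sieve on `y = H(id_U)` of the arrows lying over arrows of `R`. -/
def SH : Sieve (yH p H) := Sieve.functorPullback p (R.pullback (eqToHom (yH_over p H)))

lemma SH_iff {z : B} (m : z ⟶ yH p H) :
    (SH p H R).arrows m ↔ R (p.map m ≫ eqToHom (yH_over p H)) := Iff.rfl

lemma SH_of_lift {z : B} {V : C} (m : z ⟶ yH p H) (f : V ⟶ U) [p.IsHomLift f m] (hf : R f) :
    (SH p H R).arrows m := by
  rw [SH_iff, IsHomLift.fac' p f m]
  simp only [Category.assoc, eqToHom_trans, eqToHom_refl, Category.comp_id]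
  exact R.downward_closed hf _

/-- the restriction of `hHat` to the sieves. -/
def hHatR : R.arrows.category ⥤ (SH p H R).arrows.category :=
  ObjectProperty.lift _ (ObjectProperty.ι _ ⋙ hHat p H)
    (fun a => SH_of_lift p H R (hM p H (toTop a.obj)) a.obj.hom a.property)

lemma faithful_hHatR : (hHatR p H R).Faithful := by
  haveI := faithful_hHat p H
  unfold hHatR
  infer_instance

include hp in
lemma full_hHatR : (hHatR p H R).Full := by
  haveI := full_hHat p hp H
  unfold hHatR
  infer_instance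

include hp in
lemma essSurj_hHatR : (hHatR p H R).EssSurj where
  mem_essImage b := by
    obtain ⟨e⟩ := nonempty_iso_hHat p hp H b.obj
    exact ⟨⟨Over.mk (p.map b.obj.hom ≫ eqToHom (yH_over p H)), b.property⟩,
      ⟨ObjectProperty.isoMk _ e⟩⟩

include hp in
lemma SH_mem (J : GrothendieckTopology C) (hR : R ∈ J U) :
    SH p H R ∈ p.restrictedTopology J (yH p H) := by
  rw [FibGrpdTop.mem_restrictedTopology_iff p hp J]
  refine J.superset_covering ?_ (J.pullback_stable (eqToHom (yH_over p H)) hR)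
  intro V f' hf'
  obtain ⟨z, m, hm⟩ := hp.exists_lift (x := yH p H) f'
  have hw : p.obj z = V := IsHomLift.domain_eq p f' m
  subst hw
  have hf : f' = p.map m := IsHomLift.eq_of_isHomLift p f' m
  subst hf
  exact ⟨z, m, 𝟙 _, hf', (Category.id_comp _).symm⟩

end SievePart

section Main

variable {E : Type u₄} [Category.{v₄} E] (q : E ⥤ B) (J : GrothendieckTopology C)

include hp in
theorem isEquivalence_resFib_of_stack (R : Sieve U) (hR : R ∈ J U)
    (hE : Stk.IsStack (p.restrictedTopology J) (BasedCategory.ofFunctor q)) :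
    (resFib (ObjectProperty.ι _ : R.arrows.category ⥤ Over U) q H.toFunctor).IsEquivalence := by
  haveI := faithful_hHat p H
  haveI := full_hHat p hp H
  haveI := essSurj_hHat p hp H
  haveI := faithful_hHatR p H R
  haveI := full_hHatR p hp H R
  haveI := essSurj_hHatR p hp H R
  haveI e1 : (SecRestr2.res (hHat p H) (Over.forget (yH p H)) q).IsEquivalence :=
    SecRestr2.isEquivalence_res _ _ q hE.1 (fun b => conn1_structuredArrow_of_equiv _ b)
  haveI e2 : (SecRestr2.res (hHatR p H R) (SH p H R).arrows.diagram q).IsEquivalence :=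
    SecRestr2.isEquivalence_res _ _ q hE.1 (fun b => conn1_structuredArrow_of_equiv _ b)
  haveI e0 : (Stk.resSieve (SH p H R) (BasedCategory.ofFunctor q)).IsEquivalence :=
    hE.2 _ (SH_mem p hp H R J hR)
  let F₁ : (FibCat.overCat (yH p H) ⥤ᵇ BasedCategory.ofFunctor q) ⥤
      (SecRestr2.ℬ H.toFunctor ⥤ᵇ ℱ q) :=
    SecRestr2.res (hHat p H) (Over.forget (yH p H)) q
  let F₂ : (SecRestr2.ℬ H.toFunctor ⥤ᵇ ℱ q) ⥤
      (SecRestr2.𝒜 (ObjectProperty.ι _ : R.arrows.category ⥤ Over U) H.toFunctor ⥤ᵇ ℱ q) :=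
    resFib (ObjectProperty.ι _ : R.arrows.category ⥤ Over U) q H.toFunctor
  let G₁ : (FibCat.overCat (yH p H) ⥤ᵇ BasedCategory.ofFunctor q) ⥤
      (Stk.sieveCat (SH p H R) ⥤ᵇ BasedCategory.ofFunctor q) :=
    Stk.resSieve (SH p H R) (BasedCategory.ofFunctor q)
  let G₂ : (Stk.sieveCat (SH p H R) ⥤ᵇ BasedCategory.ofFunctor q) ⥤
      (SecRestr2.𝒜 (ObjectProperty.ι _ : R.arrows.category ⥤ Over U) H.toFunctor ⥤ᵇ ℱ q) :=
    SecRestr2.res (hHatR p H R) (SH p H R).arrows.diagram q
  haveI : F₁.IsEquivalence := e1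
  haveI : G₁.IsEquivalence := e0
  haveI : G₂.IsEquivalence := e2
  let iso : G₁ ⋙ G₂ ≅ F₁ ⋙ F₂ := NatIso.ofComponents (fun G => Iso.refl _) (by
    intro G G' α
    apply BasedNatTrans.ext
    apply NatTrans.ext
    funext a
    refine (Category.comp_id _).trans (Eq.trans ?_ (Category.id_comp _).symm)
    rfl)
  haveI : (F₁ ⋙ F₂).IsEquivalence := Functor.isEquivalence_of_iso iso
  exact Functor.isEquivalence_of_comp_left F₁ F₂

include hp in
/-- a stack over a stack (for the inherited topology) is a stack over the base. -/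
theorem isStack_comp (hB : Stk.IsStack J (BasedCategory.ofFunctor p))
    (hE : Stk.IsStack (p.restrictedTopology J) (BasedCategory.ofFunctor q)) :
    Stk.IsStack J (BasedCategory.ofFunctor (q ⋙ p)) := by
  refine ⟨FibGrpdComp.isFibGrpd_comp q p hE.1 hp, ?_⟩
  intro U R hR
  haveI hBas : (resBas (ObjectProperty.ι _ : R.arrows.category ⥤ Over U) (Over.forget U)
      p).IsEquivalence := hB.2 R hR
  exact FibSec.isEquivalence_resTot (ObjectProperty.ι _ : R.arrows.category ⥤ Over U)
    (Over.forget U) p q hp hE.1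
    (fun K hK => isEquivalence_resFib_of_stack p hp
      (⟨K, hK⟩ : FibCat.overCat U ⥤ᵇ BasedCategory.ofFunctor p) q J R hR hE)

end Main

end Groth.Agent.Lib.Helper43.StkComp
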