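import Groth.Agent.Lib.Helper43.StkComp

/-!
# A criterion for a category fibred in groupoids to be a stack, via 2-fibre products over `C/U`
-/

set_option autoImplicit false
open CategoryTheory Functor

namespace Groth.Agent.Lib.Helper43.StkFp

open Groth.Agent.Lib.Helper43.SecRestr Groth.Agent.Lib.Helper43.FibSec

universe v₂ v₃ u₂ u₃ v u

variable {C : Type u} [Category.{v} C]

theorem isFibGrpd_overForget (U : C) : FibCat.IsFibGrpd (Over.forget U) where
  exists_lift := by
    intro a V f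
    obtain ⟨f, rfl⟩ : ∃ f₀ : V ⟶ a.left, f₀ = f := ⟨f, rfl⟩
    let m : Over.mk (f ≫ a.hom) ⟶ a := Over.homMk f (by simp)
    exact ⟨Over.mk (f ≫ a.hom), m, CategoryTheory.IsHomLift.map (Over.forget U) m⟩
  isStronglyCartesian := by
    intro a₁ a₀ m
    refine ⟨?_⟩
    intro a₂ h m' hm'
    obtain ⟨h, rfl⟩ : ∃ h₀ : a₂.left ⟶ a₁.left, h₀ = h := ⟨h, rfl⟩
    have hl : m'.left = h ≫ m.left :=
      (@IsHomLift.eq_of_isHomLift _ _ _ _ (Over.forget U) _ _ (h ≫ m.left) m' hm').symm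
    have hw : h ≫ a₁.hom = a₂.hom := by
      rw [← Over.w m, ← Category.assoc, ← hl, Over.w m']
    let n : a₂ ⟶ a₁ := Over.homMk h hw
    refine ⟨n, ⟨?_, ?_⟩, ?_⟩
    · exact CategoryTheory.IsHomLift.map (Over.forget U) n
    · apply Over.OverMorphism.ext
      exact hl.symm
    · rintro χ' ⟨hχ', -⟩
      apply Over.OverMorphism.ext
      exact (@IsHomLift.eq_of_isHomLift _ _ _ _ (Over.forget U) _ _ h χ' hχ').symm

theorem restrictedTopology_overForget (J : GrothendieckTopology C) (U : C) :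
    (Over.forget U).restrictedTopology J = J.over U := by
  ext a S
  rw [FibGrpdTop.mem_restrictedTopology_iff (Over.forget U) (isFibGrpd_overForget U) J,
    GrothendieckTopology.mem_over_iff]
  rfl

section Pairs

variable {𝒮 : BasedCategory.{v₂, u₂} C} {𝒯 : BasedCategory.{v₃, u₃} C} (F : 𝒮 ⥤ᵇ 𝒯) {U : C}
  (y : FibCat.overCat U ⥤ᵇ 𝒯) {𝒜 : BasedCategory.{v, max u v} C} (jb : 𝒜 ⥤ᵇ FibCat.overCat U)

/-- the first projection of the 2-fibre product `(C/U) ×_𝒯 𝒮`, as a plain functor to `C/U`. -/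
abbrev Pf : (FibCat.fp y F).obj ⥤ Over U := (FibCat.fpFst y F).toFunctor

/-- sections of `(C/U) ×_𝒯 𝒮` over `C/U` along `jb`. -/
abbrev SecP := (BasedCategory.ofFunctor jb.toFunctor : BasedCategory.{v, max u v} (Over U)) ⥤ᵇ
  (BasedCategory.ofFunctor (Pf F y))

variable {F y jb}

/-- the section of the fibre product defined by `x : 𝒜 ⟶ 𝒮` and `θ : jb ⋙ y ≅ x ⋙ F`. -/
def pairSec (x : 𝒜 ⥤ᵇ 𝒮) (θ : BasedFunctor.comp jb y ≅ BasedFunctor.comp x F) : SecP F y jb where
  toFunctor := (FibCat.fpLift jb x θ).toFunctor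
  w := rfl

/-- component of the morphism of sections defined by `α : x ⟶ x'` compatible with `θ`, `θ'`. -/
def pairHomApp {x x' : 𝒜 ⥤ᵇ 𝒮} {θ : BasedFunctor.comp jb y ≅ BasedFunctor.comp x F}
    {θ' : BasedFunctor.comp jb y ≅ BasedFunctor.comp x' F} (α : x ⟶ x')
    (h : ∀ a : 𝒜.obj, θ.hom.toNatTrans.app a ≫ F.toFunctor.map (α.toNatTrans.app a) =
      θ'.hom.toNatTrans.app a) (a : 𝒜.obj) :
    (pairSec x θ).toFunctor.obj a ⟶ (pairSec x' θ').toFunctor.obj a :=
  ObjectProperty.homMk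
    { fst := 𝟙 (jb.toFunctor.obj a)
      snd := α.toNatTrans.app a
      w := by
        show y.toFunctor.map (𝟙 (jb.toFunctor.obj a)) ≫ θ'.hom.toNatTrans.app a =
          θ.hom.toNatTrans.app a ≫ F.toFunctor.map (α.toNatTrans.app a)
        rw [y.toFunctor.map_id, Category.id_comp, h] }

lemma pairHomApp_lift {x x' : 𝒜 ⥤ᵇ 𝒮} {θ : BasedFunctor.comp jb y ≅ BasedFunctor.comp x F}
    {θ' : BasedFunctor.comp jb y ≅ BasedFunctor.comp x' F} (α : x ⟶ x')
    (h : ∀ a : 𝒜.obj, θ.hom.toNatTrans.app a ≫ F.toFunctor.map (α.toNatTrans.app a) =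
      θ'.hom.toNatTrans.app a) (a : 𝒜.obj) :
    (Pf F y).IsHomLift (𝟙 (jb.toFunctor.obj a)) (pairHomApp α h a) :=
  CategoryTheory.IsHomLift.map (Pf F y) (pairHomApp α h a)

/-- the morphism of sections defined by `α : x ⟶ x'` compatible with `θ`, `θ'`. -/
def pairHom {x x' : 𝒜 ⥤ᵇ 𝒮} {θ : BasedFunctor.comp jb y ≅ BasedFunctor.comp x F}
    {θ' : BasedFunctor.comp jb y ≅ BasedFunctor.comp x' F} (α : x ⟶ x')
    (h : ∀ a : 𝒜.obj, θ.hom.toNatTrans.app a ≫ F.toFunctor.map (α.toNatTrans.app a) =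
      θ'.hom.toNatTrans.app a) : pairSec x θ ⟶ pairSec x' θ' where
  toNatTrans :=
    { app := fun a => pairHomApp α h a
      naturality := by
        intro a b m
        apply ObjectProperty.hom_ext
        apply CategoryTheory.Limits.CategoricalPullback.hom_ext
        · exact (Category.comp_id _).trans (Category.id_comp _).symm
        · exact α.toNatTrans.naturality m }
  isHomLift' := fun a => pairHomApp_lift α h a

variable (F y jb)

/-- the second projection on sections: a section `a ↦ (jb a, x a, θ a)` goes to `x`. -/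
def sndFun : SecP F y jb ⥤ (𝒜 ⥤ᵇ 𝒮) where
  obj G :=
    { toFunctor := G.toFunctor ⋙ (FibCat.fpSnd y F).toFunctor
      w := by
        have h1 : (FibCat.fpSnd y F).toFunctor ⋙ 𝒮.p = Pf F y ⋙ Over.forget U :=
          (FibCat.fpSnd y F).w
        have h2 : G.toFunctor ⋙ Pf F y = jb.toFunctor := G.w
        have h3 : jb.toFunctor ⋙ Over.forget U = 𝒜.p := jb.w
        exact (congrArg (fun X : (FibCat.fp y F).obj ⥤ C => G.toFunctor ⋙ X) h1).trans
          ((congrArg (fun X : 𝒜.obj ⥤ Over U => X ⋙ Over.forget U) h2).trans h3) }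
  map {G G'} α :=
    { toNatTrans := Functor.whiskerRight α.toNatTrans (FibCat.fpSnd y F).toFunctor
      isHomLift' := by
        intro a
        have h1 : (Pf F y).IsHomLift (𝟙 (jb.toFunctor.obj a)) (α.toNatTrans.app a) :=
          α.isHomLift' a
        have h2 : (Over.forget U).IsHomLift (𝟙 (𝒜.p.obj a)) (𝟙 (jb.toFunctor.obj a)) :=
          IsHomLift.id (jb.w_obj a)
        have h3 : (FibCat.fp y F).p.IsHomLift (𝟙 (𝒜.p.obj a)) (α.toNatTrans.app a) :=
          FibSec.lift_comp (Over.forget U) (Pf F y) _ _ _ h1 h2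
        exact (inferInstance : 𝒮.p.IsHomLift (𝟙 (𝒜.p.obj a))
          ((FibCat.fpSnd y F).toFunctor.map (α.toNatTrans.app a))) }
  map_id G := by
    apply BasedNatTrans.homCategory.ext
    ext a
    exact (FibCat.fpSnd y F).toFunctor.map_id _
  map_comp α β := by
    apply BasedNatTrans.homCategory.ext
    ext a
    exact (FibCat.fpSnd y F).toFunctor.map_comp _ _

variable {F y jb}

lemma sndFun_pairSec (x : 𝒜 ⥤ᵇ 𝒮) (θ : BasedFunctor.comp jb y ≅ BasedFunctor.comp x F) :
    (sndFun F y jb).obj (pairSec x θ) = x := rfl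

lemma sndFun_pairHom_app {x x' : 𝒜 ⥤ᵇ 𝒮} {θ : BasedFunctor.comp jb y ≅ BasedFunctor.comp x F}
    {θ' : BasedFunctor.comp jb y ≅ BasedFunctor.comp x' F} (α : x ⟶ x')
    (h : ∀ a : 𝒜.obj, θ.hom.toNatTrans.app a ≫ F.toFunctor.map (α.toNatTrans.app a) =
      θ'.hom.toNatTrans.app a) (a : 𝒜.obj) :
    ((sndFun F y jb).map (pairHom α h)).toNatTrans.app a = α.toNatTrans.app a := rfl

end Pairs

section Main

variable {𝒮 𝒯 : BasedCategory.{v, max u v} C} (F : 𝒮 ⥤ᵇ 𝒯) {U : C} (R : Sieve U)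
  (y : FibCat.overCat U ⥤ᵇ 𝒯)

/-- the identity of `C/U` -/
abbrev jU : FibCat.overCat U ⥤ᵇ FibCat.overCat U := BasedFunctor.id (FibCat.overCat U)

/-- the inclusion of the sieve -/
abbrev jR : Stk.sieveCat R ⥤ᵇ FibCat.overCat U :=
  BasedFunctor.comp (Stk.sieveIncl R) (BasedFunctor.id (FibCat.overCat U))

/-- restriction of sections of the fibre product to the sieve -/
abbrev resP : SecP F y (jU (U := U)) ⥤ SecP F y (jR R) :=
  resFib (ObjectProperty.ι _ : R.arrows.category ⥤ Over U) (Pf F y)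
    (BasedFunctor.id (FibCat.overCat U)).toFunctor

lemma resP_pairSec (x : FibCat.overCat U ⥤ᵇ 𝒮)
    (θ : BasedFunctor.comp (jU (U := U)) y ≅ BasedFunctor.comp x F) :
    (resP F R y).obj (pairSec x θ) =
      pairSec (jb := jR R) (BasedFunctor.comp (Stk.sieveIncl R) x)
        ((Stk.resSieve R 𝒯).mapIso θ) := rfl

theorem faithful_resS [F.toFunctor.Faithful] [(Stk.resSieve R 𝒯).Faithful] :
    (Stk.resSieve R 𝒮).Faithful where
  map_injective {x x'} α α' h := by
    have h1 : (Stk.resSieve R 𝒯).map (BasedCategory.whiskerRight α F) =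
        (Stk.resSieve R 𝒯).map (BasedCategory.whiskerRight α' F) := by
      apply BasedNatTrans.homCategory.ext
      ext a
      exact congrArg (fun γ : (Stk.resSieve R 𝒮).obj x ⟶ (Stk.resSieve R 𝒮).obj x' =>
        F.toFunctor.map (γ.toNatTrans.app a)) h
    have h2 := (Stk.resSieve R 𝒯).map_injective h1
    apply BasedNatTrans.homCategory.ext
    ext a
    apply F.toFunctor.map_injective
    exact congrArg (fun γ : BasedFunctor.comp x F ⟶ BasedFunctor.comp x' F =>
      γ.toNatTrans.app a) h2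

theorem full_resS (h𝒯 : FibCat.IsFibGrpd 𝒯.p) [(Stk.resSieve R 𝒯).Full]
    (hP : ∀ y : FibCat.overCat U ⥤ᵇ 𝒯, (resP F R y).Full) :
    (Stk.resSieve R 𝒮).Full where
  map_surjective {x x'} γ := by
    let Fγ : (Stk.resSieve R 𝒯).obj (BasedFunctor.comp x F) ⟶
        (Stk.resSieve R 𝒯).obj (BasedFunctor.comp x' F) := BasedCategory.whiskerRight γ F
    obtain ⟨β, hβ⟩ := (Stk.resSieve R 𝒯).map_surjective Fγ
    have hβa : ∀ a : (Stk.sieveCat R).obj, β.toNatTrans.app ((Stk.sieveIncl R).toFunctor.obj a) =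
        F.toFunctor.map (γ.toNatTrans.app a) := fun a =>
      congrArg (fun ε : (Stk.resSieve R 𝒯).obj (BasedFunctor.comp x F) ⟶
        (Stk.resSieve R 𝒯).obj (BasedFunctor.comp x' F) => ε.toNatTrans.app a) hβ
    let y : FibCat.overCat U ⥤ᵇ 𝒯 := BasedFunctor.comp x F
    let β' : BasedFunctor.comp (jU (U := U)) y ⟶ BasedFunctor.comp x' F := β
    haveI : IsIso β' := FibSec.isIso_hom 𝒯.p h𝒯 β'
    let θ : BasedFunctor.comp (jU (U := U)) y ≅ BasedFunctor.comp x F := Iso.refl _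
    let θ' : BasedFunctor.comp (jU (U := U)) y ≅ BasedFunctor.comp x' F := asIso β'
    let γt : (resP F R y).obj (pairSec x θ) ⟶ (resP F R y).obj (pairSec x' θ') :=
      pairHom (jb := jR R) (x := BasedFunctor.comp (Stk.sieveIncl R) x)
        (x' := BasedFunctor.comp (Stk.sieveIncl R) x')
        (θ := (Stk.resSieve R 𝒯).mapIso θ)
        (θ' := (Stk.resSieve R 𝒯).mapIso θ') γ (by
          intro a
          refine (Category.id_comp _).trans ?_
          exact (hβa a).symm)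
    have := hP y
    obtain ⟨δ, hδ⟩ := (resP F R y).map_surjective γt
    refine ⟨(sndFun F y (jU (U := U))).map δ, ?_⟩
    apply BasedNatTrans.homCategory.ext
    ext a
    exact congrArg (fun ε : (resP F R y).obj (pairSec x θ) ⟶ (resP F R y).obj (pairSec x' θ') =>
      (ε.toNatTrans.app a).hom.snd) hδ

theorem essSurj_resS [(Stk.resSieve R 𝒯).EssSurj]
    (hP : ∀ y : FibCat.overCat U ⥤ᵇ 𝒯, (resP F R y).EssSurj) :
    (Stk.resSieve R 𝒮).EssSurj where
  mem_essImage t := by
    let y : FibCat.overCat U ⥤ᵇ 𝒯 := (Stk.resSieve R 𝒯).objPreimage (BasedFunctor.comp t F)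
    let ε : (Stk.resSieve R 𝒯).obj y ≅ BasedFunctor.comp t F :=
      (Stk.resSieve R 𝒯).objObjPreimageIso (BasedFunctor.comp t F)
    let T : SecP F y (jR R) := pairSec (jb := jR R) t ε
    have := hP y
    let G : SecP F y (jU (U := U)) := (resP F R y).objPreimage T
    let e : (resP F R y).obj G ≅ T := (resP F R y).objObjPreimageIso T
    exact ⟨(sndFun F y (jU (U := U))).obj G, ⟨(sndFun F y (jR R)).mapIso e⟩⟩

end Main

/-- A category fibred in groupoids with a faithful functor to a stack all of whose 2-fibre products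
with slices `C/U` are stacks over `C/U` is a stack. -/
theorem isStack_of_fp (J : GrothendieckTopology C) {𝒮 𝒯 : BasedCategory.{v, max u v} C}
    (h𝒮 : FibCat.IsFibGrpd 𝒮.p) (h𝒯 : Stk.IsStack J 𝒯) (F : 𝒮 ⥤ᵇ 𝒯) [F.toFunctor.Faithful]
    (h3 : ∀ (U : C) (y : FibCat.overCat U ⥤ᵇ 𝒯),
      Stk.IsStack (J.over U) (BasedCategory.ofFunctor
        ((FibCat.fpFst y F).toFunctor : (FibCat.fp y F).obj ⥤ Over U))) :
    Stk.IsStack J 𝒮 := by
  refine ⟨h𝒮, fun U R hR => ?_⟩
  haveI hT : (Stk.resSieve R 𝒯).IsEquivalence := h𝒯.2 R hR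
  have hP : ∀ y : FibCat.overCat U ⥤ᵇ 𝒯, (resP F R y).IsEquivalence := by
    intro y
    have hE := h3 U y
    rw [← restrictedTopology_overForget J U] at hE
    exact StkComp.isEquivalence_resFib_of_stack (Over.forget U) (isFibGrpd_overForget U)
      (BasedFunctor.id (FibCat.overCat U)) (Pf F y) J R hR hE
  haveI := faithful_resS F R
  haveI := full_resS F R h𝒯.1 (fun y => by haveI := hP y; infer_instance)
  haveI := essSurj_resS F R (fun y => by haveI := hP y; infer_instance)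
  show (Stk.resSieve R 𝒮).IsEquivalence
  exact {}

end Groth.Agent.Lib.Helper43.StkFp
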