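import Groth.Prelude.Def_StGerb
import Groth.Agent.Lib.Helper80.FibCat5

/-!
# Gluing vertical endomorphisms in a stack in groupoids (helper43)

For a category fibred in groupoids `𝒮` over `C` and an object `y`, vertical endomorphisms of `y`
(`V y`, morphisms of the fibre) can be transferred along any morphism `ψ : z ⟶ y` (`tr`), and, when
`𝒮` satisfies `Stk.IsStackFor T 𝒮` for a sieve `T` on `p y`, they satisfy separation (`sep`) and
gluing (`glue`) along the morphisms into `y` lying over `T`.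
-/

set_option autoImplicit false

universe v₂ u₂ v u

open CategoryTheory CategoryTheory.Functor Opposite

namespace Groth.Agent.Lib.Helper43.StkGlue

open Groth.Agent.Lib.Helper80

variable {C : Type u} [Category.{v} C] {𝒮 : BasedCategory.{v₂, u₂} C}

/-- Vertical endomorphisms of `x`: endomorphisms in the fibre category. -/
abbrev V (x : 𝒮.obj) := (Gerb.fib x ⟶ Gerb.fib x)

/-- The underlying morphism of a vertical endomorphism. -/
def V.hom {x : 𝒮.obj} (α : V x) : x ⟶ x := α.1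

instance V.hom_isHomLift {x : 𝒮.obj} (α : V x) : 𝒮.p.IsHomLift (𝟙 (𝒮.p.obj x)) α.hom := α.2

/-- A vertical endomorphism from a morphism lying over the identity. -/
def V.mk {x : 𝒮.obj} (f : x ⟶ x) [h : 𝒮.p.IsHomLift (𝟙 (𝒮.p.obj x)) f] : V x := ⟨f, h⟩

@[simp] lemma V.mk_hom {x : 𝒮.obj} (f : x ⟶ x) [𝒮.p.IsHomLift (𝟙 (𝒮.p.obj x)) f] :
    (V.mk f).hom = f := rfl

@[simp] lemma V.comp_hom {x : 𝒮.obj} (α β : V x) : V.hom (α ≫ β) = α.hom ≫ β.hom := rfl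

@[simp] lemma V.id_hom (x : 𝒮.obj) : V.hom (𝟙 (Gerb.fib x) : V x) = 𝟙 x := rfl

lemma V.ext' {x : 𝒮.obj} {α β : V x} (h : α.hom = β.hom) : α = β := Subtype.ext h

lemma map_V {x : 𝒮.obj} (β : V x) : 𝒮.p.map β.hom = 𝟙 _ :=
  (IsHomLift.eq_of_isHomLift 𝒮.p (𝟙 _) β.hom).symm

lemma isHomLift_id_of_eq {A B : C} (h : A = B) {a b : 𝒮.obj} (φ : a ⟶ b)
    [𝒮.p.IsHomLift (𝟙 A) φ] : 𝒮.p.IsHomLift (𝟙 B) φ := by
  subst h; infer_instance

variable (hp : FibCat.IsFibGrpd 𝒮.p)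

section Tr

include hp

omit hp in
lemma isHomLift_comp_V {z x : 𝒮.obj} (ψ : z ⟶ x) (α : V x) :
    𝒮.p.IsHomLift (𝒮.p.map ψ) (ψ ≫ α.hom) := by
  infer_instance

lemma exists_tr {z x : 𝒮.obj} (ψ : z ⟶ x) (α : V x) :
    ∃ β : V z, β.hom ≫ ψ = ψ ≫ α.hom := by
  have := hp.isStronglyCartesian ψ
  have := isHomLift_comp_V ψ α
  exact ⟨V.mk (IsCartesian.map 𝒮.p (𝒮.p.map ψ) ψ (ψ ≫ α.hom)),
    IsCartesian.fac 𝒮.p (𝒮.p.map ψ) ψ (ψ ≫ α.hom)⟩

lemma cancel_V {z x : 𝒮.obj} (ψ : z ⟶ x) (β β' : V z) (h : β.hom ≫ ψ = β'.hom ≫ ψ) : β = β' := by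
  have := hp.isStronglyCartesian ψ
  exact V.ext' (IsCartesian.ext 𝒮.p (𝒮.p.map ψ) ψ β.hom β'.hom h)

lemma cancel_lift {z' z x : 𝒮.obj} (ψ : z ⟶ x) (m m' : z' ⟶ z) (hm : 𝒮.p.map m = 𝒮.p.map m')
    (h : m ≫ ψ = m' ≫ ψ) : m = m' := by
  have := hp.isStronglyCartesian ψ
  have : 𝒮.p.IsHomLift (𝒮.p.map m) m' := by rw [hm]; infer_instance
  exact IsStronglyCartesian.ext 𝒮.p (𝒮.p.map ψ) ψ (𝒮.p.map m) h

/-- Transfer of a vertical endomorphism of `x` along `ψ : z ⟶ x`. -/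
noncomputable def tr {z x : 𝒮.obj} (ψ : z ⟶ x) (α : V x) : V z := (exists_tr hp ψ α).choose

lemma tr_spec {z x : 𝒮.obj} (ψ : z ⟶ x) (α : V x) : (tr hp ψ α).hom ≫ ψ = ψ ≫ α.hom :=
  (exists_tr hp ψ α).choose_spec

lemma tr_unique {z x : 𝒮.obj} (ψ : z ⟶ x) (α : V x) (β : V z) (h : β.hom ≫ ψ = ψ ≫ α.hom) :
    β = tr hp ψ α :=
  cancel_V hp ψ _ _ (h.trans (tr_spec hp ψ α).symm)

lemma tr_comp {z' z x : 𝒮.obj} (ψ₀ : z' ⟶ z) (ψ : z ⟶ x) (α : V x) :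
    (tr hp (ψ₀ ≫ ψ) α).hom ≫ ψ₀ = ψ₀ ≫ (tr hp ψ α).hom := by
  apply cancel_lift hp ψ
  · rw [Functor.map_comp, Functor.map_comp, map_V, map_V, Category.id_comp, Category.comp_id]
  · simp only [Category.assoc, tr_spec]

lemma tr_eq_of_map_eq (hcomm : ∀ (z : 𝒮.obj) (a b : V z), a ≫ b = b ≫ a)
    {z x : 𝒮.obj} {ψ ψ' : z ⟶ x} (h : 𝒮.p.map ψ = 𝒮.p.map ψ') (α : V x) :
    tr hp ψ α = tr hp ψ' α := by
  have := hp.isStronglyCartesian ψ
  have : 𝒮.p.IsHomLift (𝒮.p.map ψ) ψ' := by rw [h]; infer_instance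
  let ε : V z := V.mk (IsCartesian.map 𝒮.p (𝒮.p.map ψ) ψ ψ')
  have hε : ε.hom ≫ ψ = ψ' := IsCartesian.fac 𝒮.p (𝒮.p.map ψ) ψ ψ'
  apply tr_unique
  have hc : (tr hp ψ α).hom ≫ ε.hom = ε.hom ≫ (tr hp ψ α).hom :=
    congrArg V.hom (hcomm z (tr hp ψ α) ε)
  rw [← hε, ← Category.assoc, hc, Category.assoc, tr_spec, Category.assoc]

end Tr

section Glue

include hp

variable (y : 𝒮.obj)

/-- The Yoneda section attached to `y`. -/
noncomputable def sec : FibCat.overCat (𝒮.p.obj y) ⥤ᵇ 𝒮 :=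
  haveI := IsFibGrpd.isFibered 𝒮.p hp
  yonedaFunctor y rfl

/-- The cartesian leg `sec(a) ⟶ y` over `a.hom`. -/
noncomputable def leg (a : Over (𝒮.p.obj y)) : (sec hp y).obj a ⟶ y :=
  haveI := IsFibGrpd.isFibered 𝒮.p hp
  IsPreFibered.pullbackMap rfl a.hom

instance leg_isHomLift (a : Over (𝒮.p.obj y)) : 𝒮.p.IsHomLift a.hom (leg hp y a) := by
  have := IsFibGrpd.isFibered 𝒮.p hp
  unfold leg sec
  have h : 𝒮.p.IsCartesian a.hom (IsPreFibered.pullbackMap (p := 𝒮.p) (a := y) rfl a.hom) :=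
    inferInstance
  exact h.toIsHomLift

lemma sec_map_leg {a a' : Over (𝒮.p.obj y)} (w : a ⟶ a') :
    (sec hp y).map w ≫ leg hp y a' = leg hp y a := by
  have := IsFibGrpd.isFibered 𝒮.p hp
  unfold leg sec
  exact yonedaFunctor_map_fac y rfl w

lemma isIso_leg_id : IsIso (leg hp y (Over.mk (𝟙 _))) := by
  have h : 𝒮.p.IsHomLift (𝟙 (𝒮.p.obj y)) (leg hp y (Over.mk (𝟙 _))) :=
    leg_isHomLift hp y (Over.mk (𝟙 _))
  exact IsFibGrpd.isIso_of_base_isIso 𝒮.p hp (𝟙 (𝒮.p.obj y)) _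

lemma leg_eq (a : Over (𝒮.p.obj y)) :
    leg hp y a = (sec hp y).map (toId _ a) ≫ leg hp y (Over.mk (𝟙 _)) :=
  (sec_map_leg hp y (toId _ a)).symm

lemma exists_ofNat (Γ : sec hp y ⟶ sec hp y) :
    ∃ α : V y, ∀ a, Γ.toNatTrans.app a ≫ leg hp y a = leg hp y a ≫ α.hom := by
  have hi := isIso_leg_id hp y
  have h0 : 𝒮.p.IsHomLift (𝟙 (𝒮.p.obj y)) (leg hp y (Over.mk (𝟙 _))) :=
    leg_isHomLift hp y (Over.mk (𝟙 _))
  have h1 : 𝒮.p.IsHomLift (𝟙 (𝒮.p.obj y)) (inv (leg hp y (Over.mk (𝟙 _)))) := inferInstance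
  have h2 : 𝒮.p.IsHomLift (𝟙 (𝒮.p.obj y)) (Γ.toNatTrans.app (Over.mk (𝟙 _))) :=
    app_isHomLift_left Γ (Over.mk (𝟙 _))
  refine ⟨V.mk (inv (leg hp y (Over.mk (𝟙 _))) ≫ Γ.toNatTrans.app (Over.mk (𝟙 _)) ≫
    leg hp y (Over.mk (𝟙 _))), fun a => ?_⟩
  have e := Γ.toNatTrans.naturality (toId _ a)
  rw [leg_eq hp y a, ← Category.assoc, ← e]
  simp only [Category.assoc, V.mk_hom, IsIso.hom_inv_id_assoc]

lemma exists_toNat (α : V y) :
    ∃ Γ : sec hp y ⟶ sec hp y, ∀ a, Γ.toNatTrans.app a ≫ leg hp y a = leg hp y a ≫ α.hom := by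
  have hi := isIso_leg_id hp y
  have h0 : 𝒮.p.IsHomLift (𝟙 (𝒮.p.obj y)) (leg hp y (Over.mk (𝟙 _))) :=
    leg_isHomLift hp y (Over.mk (𝟙 _))
  have h1 : 𝒮.p.IsHomLift (𝟙 (𝒮.p.obj y)) (inv (leg hp y (Over.mk (𝟙 _)))) := inferInstance
  have hm : 𝒮.p.IsHomLift (𝟙 (𝒮.p.obj y))
      (leg hp y (Over.mk (𝟙 _)) ≫ α.hom ≫ inv (leg hp y (Over.mk (𝟙 _)))) := inferInstance
  have hH : ∀ X : Over (𝒮.p.obj y),
      𝒮.p.IsStronglyCartesian X.hom ((sec hp y).map (toId _ X)) := by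
    intro X
    have := map_toId_isHomLift (sec hp y) X
    exact IsFibGrpd.isStronglyCartesian' 𝒮.p hp _ _
  obtain ⟨Γ, hΓ⟩ := evalAtId_full_aux (sec hp y) (sec hp y) hH
    (leg hp y (Over.mk (𝟙 _)) ≫ α.hom ≫ inv (leg hp y (Over.mk (𝟙 _))))
  refine ⟨Γ, fun a => ?_⟩
  have e := Γ.toNatTrans.naturality (toId _ a)
  rw [leg_eq hp y a, ← Category.assoc, ← e, hΓ]
  simp only [Category.assoc, IsIso.inv_hom_id, Category.comp_id]

variable {y}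

omit hp in
lemma T_of_lift (T : Sieve (𝒮.p.obj y)) {z : 𝒮.obj} (φ : z ⟶ y) {W : C} (f : W ⟶ 𝒮.p.obj y)
    [𝒮.p.IsHomLift f φ] (hf : T f) : T (𝒮.p.map φ) := by
  rw [IsHomLift.fac' 𝒮.p f φ]
  simpa using T.downward_closed hf (eqToHom (IsHomLift.domain_eq 𝒮.p f φ))

variable (y)

/-- Separation: two vertical endomorphisms of `y` which agree after precomposition with every
morphism into `y` lying over the sieve `T` are equal. -/
theorem sep (T : Sieve (𝒮.p.obj y)) [(Stk.resSieve T 𝒮).Faithful] (α α' : V y)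
    (h : ∀ {z : 𝒮.obj} (φ : z ⟶ y), T (𝒮.p.map φ) → φ ≫ α.hom = φ ≫ α'.hom) : α = α' := by
  obtain ⟨Γ, hΓ⟩ := exists_toNat hp y α
  obtain ⟨Γ', hΓ'⟩ := exists_toNat hp y α'
  have key : (Stk.resSieve T 𝒮).map Γ = (Stk.resSieve T 𝒮).map Γ' := by
    apply BasedNatTrans.ext
    ext a
    change Γ.toNatTrans.app a.obj = Γ'.toNatTrans.app a.obj
    have := IsFibGrpd.isStronglyCartesian' 𝒮.p hp a.obj.hom (leg hp y a.obj)
    have := app_isHomLift_left Γ a.obj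
    have := app_isHomLift_left Γ' a.obj
    apply IsCartesian.ext 𝒮.p a.obj.hom (leg hp y a.obj)
    rw [hΓ, hΓ']
    exact h _ (T_of_lift T (leg hp y a.obj) a.obj.hom a.property)
  have hΓΓ' : Γ = Γ' := (Stk.resSieve T 𝒮).map_injective key
  have hi := isIso_leg_id hp y
  apply V.ext'
  have e1 := hΓ (Over.mk (𝟙 _))
  have e2 := hΓ' (Over.mk (𝟙 _))
  rw [hΓΓ'] at e1
  exact (cancel_epi (leg hp y (Over.mk (𝟙 _)))).1 (e1.symm.trans e2)

/-- Gluing: a natural family of vertical endomorphisms of the sources of the morphisms into `y`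
lying over the sieve `T` comes from a vertical endomorphism of `y`. -/
theorem glue (T : Sieve (𝒮.p.obj y)) [(Stk.resSieve T 𝒮).Full]
    (β : ∀ {z : 𝒮.obj} (φ : z ⟶ y), T (𝒮.p.map φ) → V z)
    (hβ : ∀ {z' z : 𝒮.obj} (ψ : z' ⟶ z) (φ : z ⟶ y) (h : T (𝒮.p.map φ))
      (h' : T (𝒮.p.map (ψ ≫ φ))), (β (ψ ≫ φ) h').hom ≫ ψ = ψ ≫ (β φ h).hom) :
    ∃ α : V y, ∀ {z : 𝒮.obj} (φ : z ⟶ y) (h : T (𝒮.p.map φ)), (β φ h).hom ≫ φ = φ ≫ α.hom := by
  have β_congr : ∀ {z : 𝒮.obj} {φ φ' : z ⟶ y} (e : φ = φ') (h : T (𝒮.p.map φ))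
      (h' : T (𝒮.p.map φ')), β φ h = β φ' h' := by
    intro z φ φ' e h h'
    subst e
    rfl
  have hT : ∀ a : (Stk.sieveCat T).obj, T (𝒮.p.map (leg hp y a.obj)) := fun a =>
    T_of_lift T (leg hp y a.obj) a.obj.hom a.property
  let γ : (Stk.resSieve T 𝒮).obj (sec hp y) ⟶ (Stk.resSieve T 𝒮).obj (sec hp y) :=
    { toNatTrans :=
        { app := fun a => (β (leg hp y a.obj) (hT a)).hom
          naturality := fun a a' m => by
            change (sec hp y).map m.hom ≫ (β (leg hp y a'.obj) (hT a')).hom =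
              (β (leg hp y a.obj) (hT a)).hom ≫ (sec hp y).map m.hom
            have e := sec_map_leg hp y m.hom
            have h' : T (𝒮.p.map ((sec hp y).map m.hom ≫ leg hp y a'.obj)) := by
              rw [e]; exact hT a
            rw [← hβ ((sec hp y).map m.hom) (leg hp y a'.obj) (hT a') h',
              β_congr e h' (hT a)] }
      isHomLift' := fun a => by
        exact isHomLift_id_of_eq ((sec hp y).w_obj a.obj) (β (leg hp y a.obj) (hT a)).hom }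
  obtain ⟨Γ, hΓ⟩ := (Stk.resSieve T 𝒮).map_surjective γ
  obtain ⟨α, hα⟩ := exists_ofNat hp y Γ
  refine ⟨α, fun {z} φ h => ?_⟩
  let a : Over (𝒮.p.obj y) := Over.mk (𝒮.p.map φ)
  have hc := IsFibGrpd.isStronglyCartesian' 𝒮.p hp a.hom (leg hp y a)
  have hφ : 𝒮.p.IsHomLift a.hom φ := (inferInstance : 𝒮.p.IsHomLift (𝒮.p.map φ) φ)
  let ψ : z ⟶ (sec hp y).obj a := IsCartesian.map 𝒮.p a.hom (leg hp y a) φ
  have hψ : ψ ≫ leg hp y a = φ := IsCartesian.fac 𝒮.p a.hom (leg hp y a) φ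
  have hΓa : Γ.toNatTrans.app a = (β (leg hp y a) (hT ⟨a, h⟩)).hom :=
    congrArg (fun t => t.toNatTrans.app (⟨a, h⟩ : (Stk.sieveCat T).obj)) hΓ
  have h2 : T (𝒮.p.map (ψ ≫ leg hp y a)) := by rw [hψ]; exact h
  rw [β_congr hψ.symm h h2]
  conv_lhs => rw [← hψ]
  rw [← Category.assoc, hβ ψ (leg hp y a) (hT ⟨a, h⟩) h2, Category.assoc, ← hΓa, hα a,
    ← Category.assoc, hψ]

end Glue

end Groth.Agent.Lib.Helper43.StkGlue
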