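import Groth.Prelude.Def_AlgSt
import Groth.Prelude.Def_FibCat2

/-!
# Refinement of sieves and the stack condition

If `S ≤ R` are sieves on `U`, restriction `Fun_C(R, 𝒳) ⥤ Fun_C(S, 𝒳)` is fully faithful as soon as
for every `f ∈ R` restriction `Fun_C(C/V, 𝒳) ⥤ Fun_C(f^*S, 𝒳)` is fully faithful.
-/

set_option autoImplicit false
universe v₂ u₂ v u

open CategoryTheory

namespace Groth.Agent.Lib.Helper43.StkRefine

variable {C : Type u} [Category.{v} C] {U : C}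

section Basic

variable (R : Sieve U)

/-- objects of the sieve category -/
abbrev mkObj {V : C} (f : V ⟶ U) (hf : R f) : (Stk.sieveCat R).obj := ⟨Over.mk f, hf⟩

/-- morphisms of the sieve category -/
def mkHom {V W : C} {f : V ⟶ U} (hf : R f) {f' : W ⟶ U} (hf' : R f') (g : W ⟶ V)
    (e : g ≫ f = f') : mkObj R f' hf' ⟶ mkObj R f hf :=
  ObjectProperty.homMk (Over.homMk g e)

lemma hom_ext' {a b : (Stk.sieveCat R).obj} (m m' : a ⟶ b) (h : m.hom.left = m'.hom.left) :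
    m = m' :=
  ObjectProperty.hom_ext _ (Over.OverMorphism.ext h)

/-- `C/V ⥤ R`, `g ↦ g ≫ f` -/
def cFun {V : C} (f : V ⟶ U) (hf : R f) : FibCat.overCat V ⥤ᵇ Stk.sieveCat R where
  toFunctor :=
    { obj := fun g => mkObj R (g.hom ≫ f) (R.downward_closed hf g.hom)
      map := fun {g g'} m => mkHom R _ _ m.left (by rw [← Category.assoc, Over.w m])
      map_id := fun g => hom_ext' R _ _ rfl
      map_comp := fun m m' => hom_ext' R _ _ rfl }
  w := rfl

/-- `f^*S ⥤ S`, `g ↦ g ≫ f` -/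
def kFun {V : C} (f : V ⟶ U) : Stk.sieveCat (R.pullback f) ⥤ᵇ Stk.sieveCat R where
  toFunctor :=
    { obj := fun g => mkObj R (g.obj.hom ≫ f) g.property
      map := fun {g g'} m => mkHom R _ _ m.hom.left (by rw [← Category.assoc, Over.w m.hom])
      map_id := fun g => hom_ext' R _ _ rfl
      map_comp := fun m m' => hom_ext' R _ _ rfl }
  w := rfl

end Basic

/-- the inclusion of a smaller sieve -/
def inclSR {S R : Sieve U} (hSR : S ≤ R) : Stk.sieveCat S ⥤ᵇ Stk.sieveCat R where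
  toFunctor :=
    { obj := fun s => ⟨s.obj, hSR _ s.property⟩
      map := fun m => ObjectProperty.homMk m.hom
      map_id := fun s => rfl
      map_comp := fun m m' => rfl }
  w := rfl

lemma comp_cancel_aux {D : Type*} [Category D] {a b c d : D} (A : a ⟶ b) (B : b ⟶ c)
    (E : c ⟶ d) (B' : a ⟶ d) (A' : d ⟶ c) (nat : A ≫ B = B' ≫ A') (e2 : A' ≫ E = 𝟙 d) :
    A ≫ B ≫ E = B' := by
  rw [← Category.assoc, nat, Category.assoc, e2, Category.comp_id]

lemma nat_aux {D : Type*} [Category D] {a' a c c' x x' d d' : D} {M : a' ⟶ a} {Ua : a ⟶ c}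
    {Ba : c ⟶ c'} {U'a : c' ⟶ d} {Ua' : a' ⟶ x} {Ba' : x ⟶ x'} {U'a' : x' ⟶ d'} {M' : d' ⟶ d}
    {y y' : D} {T : x ⟶ y} {Bx : y ⟶ y'} {T' : y' ⟶ x'} {N : y ⟶ c} {N' : y' ⟶ c'}
    (hconj : Ba' = T ≫ Bx ≫ T') (nat : N ≫ Ba = Bx ≫ N') (E1 : M ≫ Ua = Ua' ≫ T ≫ N)
    (E2 : N' ≫ U'a = T' ≫ U'a' ≫ M') :
    M ≫ Ua ≫ Ba ≫ U'a = (Ua' ≫ Ba' ≫ U'a') ≫ M' := by
  subst hconj
  calc M ≫ Ua ≫ Ba ≫ U'a = (M ≫ Ua) ≫ Ba ≫ U'a := by simp
    _ = (Ua' ≫ T ≫ N) ≫ Ba ≫ U'a := by rw [E1]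
    _ = Ua' ≫ T ≫ (N ≫ Ba) ≫ U'a := by simp
    _ = Ua' ≫ T ≫ (Bx ≫ N') ≫ U'a := by rw [nat]
    _ = Ua' ≫ T ≫ Bx ≫ (N' ≫ U'a) := by simp
    _ = Ua' ≫ T ≫ Bx ≫ (T' ≫ U'a' ≫ M') := by rw [E2]
    _ = _ := by simp

section Main

variable {S R : Sieve U} (hSR : S ≤ R) {𝒳 : BasedCategory.{v₂, u₂} C}
  {G G' : Stk.sieveCat R ⥤ᵇ 𝒳}

lemma map_eq (G : Stk.sieveCat R ⥤ᵇ 𝒳) {a b : (Stk.sieveCat R).obj} (m m' : a ⟶ b)
    (h : m.hom.left = m'.hom.left) : G.map m = G.map m' := by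
  rw [hom_ext' R m m' h]

lemma map_comp_eq (G : Stk.sieveCat R ⥤ᵇ 𝒳) {a b b' c : (Stk.sieveCat R).obj} (m : a ⟶ b)
    (n : b ⟶ c) (m' : a ⟶ b') (n' : b' ⟶ c)
    (h : m.hom.left ≫ n.hom.left = m'.hom.left ≫ n'.hom.left) :
    G.map m ≫ G.map n = G.map m' ≫ G.map n' := by
  rw [← G.map_comp, ← G.map_comp]
  exact map_eq G _ _ h

/-- pullback of `α` along `kFun` -/
def alphaAt (α : (Stk.restr (inclSR hSR) 𝒳).obj G ⟶ (Stk.restr (inclSR hSR) 𝒳).obj G')
    {V : C} (f : V ⟶ U) (hf : R f) :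
    (Stk.resSieve (S.pullback f) 𝒳).obj (BasedFunctor.comp (cFun R f hf) G) ⟶
      (Stk.resSieve (S.pullback f) 𝒳).obj (BasedFunctor.comp (cFun R f hf) G') where
  toNatTrans :=
    { app := fun g => α.toNatTrans.app ((kFun S f).obj g)
      naturality := fun g g' m => α.toNatTrans.naturality ((kFun S f).map m) }
  isHomLift' := fun g => α.isHomLift' ((kFun S f).obj g)

/-- the comparison morphism `c_{f'}(g) ⟶ c_f(g ≫ h₀)` -/
def theta {V V' : C} (f : V ⟶ U) (hf : R f) (h₀ : V' ⟶ V) (f' : V' ⟶ U) (hf' : R f')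
    (e : h₀ ≫ f = f') (g : Over V') :
    (cFun R f' hf').obj g ⟶ (cFun R f hf).obj (Over.mk (g.hom ≫ h₀)) :=
  mkHom R _ _ (𝟙 _) (by
    show 𝟙 _ ≫ (g.hom ≫ h₀) ≫ f = g.hom ≫ f'
    rw [Category.id_comp, Category.assoc, e])

/-- the comparison morphism `c_f(g ≫ h₀) ⟶ c_{f'}(g)` -/
def theta' {V V' : C} (f : V ⟶ U) (hf : R f) (h₀ : V' ⟶ V) (f' : V' ⟶ U) (hf' : R f')
    (e : h₀ ≫ f = f') (g : Over V') :
    (cFun R f hf).obj (Over.mk (g.hom ≫ h₀)) ⟶ (cFun R f' hf').obj g :=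
  mkHom R _ _ (𝟙 _) (by
    show 𝟙 _ ≫ g.hom ≫ f' = (g.hom ≫ h₀) ≫ f
    rw [Category.id_comp, Category.assoc, e])

lemma isHomLift_of_eq {a b : (Stk.sieveCat R).obj} (m : a ⟶ b) (φ : a.obj.left ⟶ b.obj.left)
    (h : m.hom.left = φ) : (Stk.sieveCat R).p.IsHomLift φ m := by
  subst h
  exact (inferInstance : (Stk.sieveCat R).p.IsHomLift ((Stk.sieveCat R).p.map m) m)

lemma isHomLift_id_comp3 {a b c d : 𝒳.obj} (X : C) (A : a ⟶ b) (B : b ⟶ c) (D : c ⟶ d)
    (h1 : 𝒳.p.IsHomLift (𝟙 X) A) (h2 : 𝒳.p.IsHomLift (𝟙 X) B) (h3 : 𝒳.p.IsHomLift (𝟙 X) D) :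
    𝒳.p.IsHomLift (𝟙 X) (A ≫ B ≫ D) := by
  have : 𝒳.p.IsHomLift (𝟙 X) (B ≫ D) := inferInstance
  infer_instance

/-- components of a transformation `c ⋙ G ⟶ c ⋙ G'`, with clean types -/
def appAt {𝒟 : BasedCategory.{v, max u v} C} {c : 𝒟 ⥤ᵇ Stk.sieveCat R}
    (β : BasedFunctor.comp c G ⟶ BasedFunctor.comp c G') (x : 𝒟.obj) :
    G.obj (c.obj x) ⟶ G'.obj (c.obj x) := β.toNatTrans.app x

lemma appAt_naturality {𝒟 : BasedCategory.{v, max u v} C} {c : 𝒟 ⥤ᵇ Stk.sieveCat R}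
    (β : BasedFunctor.comp c G ⟶ BasedFunctor.comp c G') {x y : 𝒟.obj} (m : x ⟶ y) :
    G.map (c.map m) ≫ appAt β y = appAt β x ≫ G'.map (c.map m) :=
  β.toNatTrans.naturality m

lemma appAt_isHomLift {𝒟 : BasedCategory.{v, max u v} C} {c : 𝒟 ⥤ᵇ Stk.sieveCat R}
    (β : BasedFunctor.comp c G ⟶ BasedFunctor.comp c G') (x : 𝒟.obj) :
    𝒳.p.IsHomLift (𝟙 (𝒟.p.obj x)) (appAt β x) := β.isHomLift' x

/-- conjugation of a transformation `c_f ⋙ G ⟶ c_f ⋙ G'` to `c_{f'}` where `f' = h₀ ≫ f` -/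
def conj {V V' : C} (f : V ⟶ U) (hf : R f) (h₀ : V' ⟶ V) (f' : V' ⟶ U) (hf' : R f')
    (e : h₀ ≫ f = f')
    (β : BasedFunctor.comp (cFun R f hf) G ⟶ BasedFunctor.comp (cFun R f hf) G') :
    BasedFunctor.comp (cFun R f' hf') G ⟶ BasedFunctor.comp (cFun R f' hf') G' where
  toNatTrans :=
    { app := fun g => G.map (theta f hf h₀ f' hf' e g) ≫
        appAt β (Over.mk (g.hom ≫ h₀)) ≫ G'.map (theta' f hf h₀ f' hf' e g)
      naturality := by
        intro g g' m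
        obtain ⟨mt, hmt⟩ : ∃ mt : Over.mk (g.hom ≫ h₀) ⟶ Over.mk (g'.hom ≫ h₀),
            mt.left = m.left := ⟨Over.homMk m.left (by simp), rfl⟩
        have nat : G.map ((cFun R f hf).map mt) ≫ appAt β (Over.mk (g'.hom ≫ h₀)) =
            appAt β (Over.mk (g.hom ≫ h₀)) ≫ G'.map ((cFun R f hf).map mt) :=
          appAt_naturality β mt
        have e1 : G.map ((cFun R f' hf').map m) ≫ G.map (theta f hf h₀ f' hf' e g') =
            G.map (theta f hf h₀ f' hf' e g) ≫ G.map ((cFun R f hf).map mt) :=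
          map_comp_eq G _ _ _ _ (by
            show m.left ≫ 𝟙 _ = 𝟙 _ ≫ mt.left
            rw [hmt]; simp)
        have e2 : G'.map ((cFun R f hf).map mt) ≫ G'.map (theta' f hf h₀ f' hf' e g') =
            G'.map (theta' f hf h₀ f' hf' e g) ≫ G'.map ((cFun R f' hf').map m) :=
          map_comp_eq G' _ _ _ _ (by
            show mt.left ≫ 𝟙 _ = 𝟙 _ ≫ m.left
            rw [hmt]; simp)
        show G.map ((cFun R f' hf').map m) ≫ G.map (theta f hf h₀ f' hf' e g') ≫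
            appAt β (Over.mk (g'.hom ≫ h₀)) ≫ G'.map (theta' f hf h₀ f' hf' e g') =
          (G.map (theta f hf h₀ f' hf' e g) ≫
            appAt β (Over.mk (g.hom ≫ h₀)) ≫ G'.map (theta' f hf h₀ f' hf' e g)) ≫
            G'.map ((cFun R f' hf').map m)
        rw [← Category.assoc, e1]
        simp only [Category.assoc]
        rw [← e2, reassoc_of% nat] }
  isHomLift' := by
    intro g
    have h1 : 𝒳.p.IsHomLift (𝟙 g.left) (G.map (theta f hf h₀ f' hf' e g)) := by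
      have : (Stk.sieveCat R).p.IsHomLift (𝟙 g.left) (theta f hf h₀ f' hf' e g) :=
        isHomLift_of_eq (theta f hf h₀ f' hf' e g) (𝟙 g.left) rfl
      infer_instance
    have h3 : 𝒳.p.IsHomLift (𝟙 g.left) (G'.map (theta' f hf h₀ f' hf' e g)) := by
      have : (Stk.sieveCat R).p.IsHomLift (𝟙 g.left) (theta' f hf h₀ f' hf' e g) :=
        isHomLift_of_eq (theta' f hf h₀ f' hf' e g) (𝟙 g.left) rfl
      infer_instance
    have h2 : 𝒳.p.IsHomLift (𝟙 g.left) (appAt β (Over.mk (g.hom ≫ h₀))) :=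
      appAt_isHomLift β (Over.mk (g.hom ≫ h₀))
    exact isHomLift_id_comp3 g.left _ _ _ h1 h2 h3

variable (hR : ∀ ⦃V : C⦄ (f : V ⟶ U), R f → Stk.IsPrestackFor (S.pullback f) 𝒳)

include hR in
lemma exists_betaAt (α : (Stk.restr (inclSR hSR) 𝒳).obj G ⟶ (Stk.restr (inclSR hSR) 𝒳).obj G')
    {V : C} (f : V ⟶ U) (hf : R f) :
    ∃ β : BasedFunctor.comp (cFun R f hf) G ⟶ BasedFunctor.comp (cFun R f hf) G',
      (Stk.resSieve (S.pullback f) 𝒳).map β = alphaAt hSR α f hf := by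
  haveI := (hR f hf).1
  exact (Stk.resSieve (S.pullback f) 𝒳).map_surjective (alphaAt hSR α f hf)

/-- the chosen extension over `f` -/
noncomputable def betaAt
    (α : (Stk.restr (inclSR hSR) 𝒳).obj G ⟶ (Stk.restr (inclSR hSR) 𝒳).obj G')
    {V : C} (f : V ⟶ U) (hf : R f) :
    BasedFunctor.comp (cFun R f hf) G ⟶ BasedFunctor.comp (cFun R f hf) G' :=
  (exists_betaAt hSR hR α f hf).choose

lemma betaAt_spec
    (α : (Stk.restr (inclSR hSR) 𝒳).obj G ⟶ (Stk.restr (inclSR hSR) 𝒳).obj G')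
    {V : C} (f : V ⟶ U) (hf : R f) :
    (Stk.resSieve (S.pullback f) 𝒳).map (betaAt hSR hR α f hf) = alphaAt hSR α f hf :=
  (exists_betaAt hSR hR α f hf).choose_spec

/-- components of `α` with clean types -/
def alphaApp (α : (Stk.restr (inclSR hSR) 𝒳).obj G ⟶ (Stk.restr (inclSR hSR) 𝒳).obj G')
    (s : (Stk.sieveCat S).obj) : G.obj ((inclSR hSR).obj s) ⟶ G'.obj ((inclSR hSR).obj s) :=
  α.toNatTrans.app s

lemma alphaApp_naturality
    (α : (Stk.restr (inclSR hSR) 𝒳).obj G ⟶ (Stk.restr (inclSR hSR) 𝒳).obj G')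
    {s t : (Stk.sieveCat S).obj} (m : s ⟶ t) :
    G.map ((inclSR hSR).map m) ≫ alphaApp hSR α t = alphaApp hSR α s ≫ G'.map ((inclSR hSR).map m) :=
  α.toNatTrans.naturality m

lemma betaAt_app
    (α : (Stk.restr (inclSR hSR) 𝒳).obj G ⟶ (Stk.restr (inclSR hSR) 𝒳).obj G')
    {V : C} (f : V ⟶ U) (hf : R f) {W : C} (g₀ : W ⟶ V) (hg : S (g₀ ≫ f)) :
    appAt (betaAt hSR hR α f hf) (Over.mk g₀) = alphaApp hSR α (mkObj S (g₀ ≫ f) hg) := by
  have h := betaAt_spec hSR hR α f hf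
  have h2 := congrArg (fun t => t.toNatTrans.app (⟨Over.mk g₀, hg⟩ :
    (Stk.sieveCat (S.pullback f)).obj)) h
  exact h2

include hR in
lemma conj_betaAt
    (α : (Stk.restr (inclSR hSR) 𝒳).obj G ⟶ (Stk.restr (inclSR hSR) 𝒳).obj G')
    {V V' : C} (f : V ⟶ U) (hf : R f) (h₀ : V' ⟶ V) (f' : V' ⟶ U) (hf' : R f')
    (e : h₀ ≫ f = f') :
    conj f hf h₀ f' hf' e (betaAt hSR hR α f hf) = betaAt hSR hR α f' hf' := by
  haveI := (hR f' hf').2
  apply (Stk.resSieve (S.pullback f') 𝒳).map_injective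
  rw [betaAt_spec]
  apply BasedNatTrans.ext
  apply NatTrans.ext
  funext g
  have hg' : S ((g.obj.hom ≫ h₀) ≫ f) := by
    have := g.property
    rw [Category.assoc, e]; exact this
  let θS : mkObj S (g.obj.hom ≫ f') g.property ⟶ mkObj S ((g.obj.hom ≫ h₀) ≫ f) hg' :=
    mkHom S _ _ (𝟙 _) (by rw [Category.id_comp, Category.assoc, e])
  have nat := alphaApp_naturality hSR α θS
  have e1 : G.map ((inclSR hSR).map θS) = G.map (theta f hf h₀ f' hf' e g.obj) :=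
    map_eq G _ _ rfl
  have e2 : G'.map ((inclSR hSR).map θS) ≫ G'.map (theta' f hf h₀ f' hf' e g.obj) = 𝟙 _ := by
    rw [← G'.map_comp, ← G'.map_id]
    exact map_eq G' _ _ (by show 𝟙 _ ≫ 𝟙 _ = 𝟙 _; simp)
  show G.map (theta f hf h₀ f' hf' e g.obj) ≫
      appAt (betaAt hSR hR α f hf) (Over.mk (g.obj.hom ≫ h₀)) ≫
      G'.map (theta' f hf h₀ f' hf' e g.obj) =
    alphaApp hSR α (mkObj S (g.obj.hom ≫ f') g.property)
  rw [betaAt_app hSR hR α f hf (g.obj.hom ≫ h₀) hg', ← e1]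
  exact comp_cancel_aux _ _ _ _ _ nat e2

/-- `a ⟶ c_a(𝟙)` -/
def uHom (a : (Stk.sieveCat R).obj) :
    a ⟶ (cFun R a.obj.hom a.property).obj (Over.mk (𝟙 a.obj.left)) :=
  ObjectProperty.homMk (Over.homMk (𝟙 _) (by simp [cFun]))

/-- `c_a(𝟙) ⟶ a` -/
def uHom' (a : (Stk.sieveCat R).obj) :
    (cFun R a.obj.hom a.property).obj (Over.mk (𝟙 a.obj.left)) ⟶ a :=
  ObjectProperty.homMk (Over.homMk (𝟙 _) (by simp [cFun]))

/-- the glued transformation -/
noncomputable def beta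
    (α : (Stk.restr (inclSR hSR) 𝒳).obj G ⟶ (Stk.restr (inclSR hSR) 𝒳).obj G') : G ⟶ G' where
  toNatTrans :=
    { app := fun a => G.map (uHom a) ≫
        appAt (betaAt hSR hR α a.obj.hom a.property) (Over.mk (𝟙 a.obj.left)) ≫ G'.map (uHom' a)
      naturality := by
        intro a' a m
        have e : m.hom.left ≫ a.obj.hom = a'.obj.hom := Over.w m.hom
        have hconj : appAt (betaAt hSR hR α a'.obj.hom a'.property) (Over.mk (𝟙 a'.obj.left)) =
            G.map (theta a.obj.hom a.property m.hom.left a'.obj.hom a'.property e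
              (Over.mk (𝟙 a'.obj.left))) ≫
            appAt (betaAt hSR hR α a.obj.hom a.property)
              (Over.mk ((Over.mk (𝟙 a'.obj.left)).hom ≫ m.hom.left)) ≫
            G'.map (theta' a.obj.hom a.property m.hom.left a'.obj.hom a'.property e
              (Over.mk (𝟙 a'.obj.left))) := by
          rw [← conj_betaAt hSR hR α a.obj.hom a.property m.hom.left a'.obj.hom a'.property e]
          rfl
        obtain ⟨n, hn⟩ : ∃ n : Over.mk ((Over.mk (𝟙 a'.obj.left)).hom ≫ m.hom.left) ⟶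
            Over.mk (𝟙 a.obj.left), n.left = m.hom.left :=
          ⟨Over.homMk m.hom.left (by simp), rfl⟩
        have nat := appAt_naturality (betaAt hSR hR α a.obj.hom a.property) n
        have E1 : G.map m ≫ G.map (uHom a) = G.map (uHom a') ≫
            G.map (theta a.obj.hom a.property m.hom.left a'.obj.hom a'.property e
              (Over.mk (𝟙 a'.obj.left))) ≫ G.map ((cFun R a.obj.hom a.property).map n) := by
          rw [← G.map_comp, ← G.map_comp, ← G.map_comp]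
          exact map_eq G _ _ (by
            show m.hom.left ≫ 𝟙 _ = 𝟙 _ ≫ 𝟙 _ ≫ n.left
            rw [hn]; simp)
        have E2 : G'.map ((cFun R a.obj.hom a.property).map n) ≫ G'.map (uHom' a) =
            G'.map (theta' a.obj.hom a.property m.hom.left a'.obj.hom a'.property e
              (Over.mk (𝟙 a'.obj.left))) ≫ G'.map (uHom' a') ≫ G'.map m := by
          rw [← G'.map_comp, ← G'.map_comp, ← G'.map_comp]
          exact map_eq G' _ _ (by
            show n.left ≫ 𝟙 _ = 𝟙 _ ≫ 𝟙 _ ≫ m.hom.left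
            rw [hn]; simp)
        exact nat_aux hconj nat E1 E2 }
  isHomLift' := by
    intro a
    have h1 : 𝒳.p.IsHomLift (𝟙 a.obj.left) (G.map (uHom a)) := by
      have : (Stk.sieveCat R).p.IsHomLift (𝟙 a.obj.left) (uHom a) :=
        isHomLift_of_eq (uHom a) (𝟙 a.obj.left) rfl
      infer_instance
    have h3 : 𝒳.p.IsHomLift (𝟙 a.obj.left) (G'.map (uHom' a)) := by
      have : (Stk.sieveCat R).p.IsHomLift (𝟙 a.obj.left) (uHom' a) :=
        isHomLift_of_eq (uHom' a) (𝟙 a.obj.left) rfl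
      infer_instance
    have h2 : 𝒳.p.IsHomLift (𝟙 a.obj.left)
        (appAt (betaAt hSR hR α a.obj.hom a.property) (Over.mk (𝟙 a.obj.left))) :=
      appAt_isHomLift (betaAt hSR hR α a.obj.hom a.property) (Over.mk (𝟙 a.obj.left))
    exact isHomLift_id_comp3 a.obj.left _ _ _ h1 h2 h3

include hR in
lemma restr_beta
    (α : (Stk.restr (inclSR hSR) 𝒳).obj G ⟶ (Stk.restr (inclSR hSR) 𝒳).obj G') :
    (Stk.restr (inclSR hSR) 𝒳).map (beta hSR hR α) = α := by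
  apply BasedNatTrans.ext
  apply NatTrans.ext
  funext s
  have hg : S (𝟙 s.obj.left ≫ s.obj.hom) := by rw [Category.id_comp]; exact s.property
  let uS : s ⟶ mkObj S (𝟙 s.obj.left ≫ s.obj.hom) hg :=
    ObjectProperty.homMk (Over.homMk (𝟙 _) (by simp))
  have nat := alphaApp_naturality hSR α uS
  have e1 : G.map ((inclSR hSR).map uS) = G.map (uHom ((inclSR hSR).obj s)) :=
    map_eq G _ _ rfl
  have e2 : G'.map ((inclSR hSR).map uS) ≫ G'.map (uHom' ((inclSR hSR).obj s)) = 𝟙 _ := by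
    rw [← G'.map_comp, ← G'.map_id]
    exact map_eq G' _ _ (by show 𝟙 _ ≫ 𝟙 _ = 𝟙 _; simp)
  show G.map (uHom ((inclSR hSR).obj s)) ≫
      appAt (betaAt hSR hR α s.obj.hom (hSR _ s.property)) (Over.mk (𝟙 s.obj.left)) ≫
      G'.map (uHom' ((inclSR hSR).obj s)) = alphaApp hSR α s
  rw [betaAt_app hSR hR α s.obj.hom (hSR _ s.property) (𝟙 s.obj.left) hg, ← e1]
  exact comp_cancel_aux _ _ _ _ _ nat e2

include hR in
theorem full_restr_inclSR : (Stk.restr (inclSR hSR) 𝒳 : (Stk.sieveCat R ⥤ᵇ 𝒳) ⥤ _).Full where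
  map_surjective := fun α => ⟨beta hSR hR α, restr_beta hSR hR α⟩

include hR in
theorem faithful_restr_inclSR :
    (Stk.restr (inclSR hSR) 𝒳 : (Stk.sieveCat R ⥤ᵇ 𝒳) ⥤ _).Faithful where
  map_injective := by
    intro G G' β β' h
    apply BasedNatTrans.ext
    apply NatTrans.ext
    funext a
    haveI := (hR a.obj.hom a.property).2
    have hw : BasedCategory.whiskerLeft (cFun R a.obj.hom a.property) β =
        BasedCategory.whiskerLeft (cFun R a.obj.hom a.property) β' := by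
      apply (Stk.resSieve (S.pullback a.obj.hom) 𝒳).map_injective
      apply BasedNatTrans.ext
      apply NatTrans.ext
      funext g
      exact congrArg (fun t => t.toNatTrans.app ((kFun S a.obj.hom).obj g)) h
    have h1 : β.toNatTrans.app ((cFun R a.obj.hom a.property).obj (Over.mk (𝟙 a.obj.left))) =
        β'.toNatTrans.app ((cFun R a.obj.hom a.property).obj (Over.mk (𝟙 a.obj.left))) :=
      congrArg (fun t => t.toNatTrans.app (Over.mk (𝟙 a.obj.left))) hw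
    have n1 := β.toNatTrans.naturality (uHom a)
    have n2 := β'.toNatTrans.naturality (uHom a)
    have hiso : G'.map (uHom a) ≫ G'.map (uHom' a) = 𝟙 _ := by
      rw [← G'.map_comp, ← G'.map_id]
      exact map_eq G' _ _ (by show 𝟙 _ ≫ 𝟙 _ = 𝟙 _; simp)
    calc β.toNatTrans.app a = β.toNatTrans.app a ≫ G'.map (uHom a) ≫ G'.map (uHom' a) := by
          rw [hiso, Category.comp_id]
      _ = (G.map (uHom a) ≫ β.toNatTrans.app _) ≫ G'.map (uHom' a) := by
          rw [n1, Category.assoc]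
      _ = (G.map (uHom a) ≫ β'.toNatTrans.app _) ≫ G'.map (uHom' a) := by rw [h1]
      _ = β'.toNatTrans.app a ≫ G'.map (uHom a) ≫ G'.map (uHom' a) := by
          rw [n2, Category.assoc]
      _ = β'.toNatTrans.app a := by rw [hiso, Category.comp_id]

/-- `Res_R ⋙ Res_{S,R} ≅ Res_S` -/
def resIso : Stk.resSieve R 𝒳 ⋙ Stk.restr (inclSR hSR) 𝒳 ≅ Stk.resSieve S 𝒳 :=
  NatIso.ofComponents (fun H => Iso.refl _) (by
    intro H H' γ
    apply BasedNatTrans.ext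
    apply NatTrans.ext
    funext s
    refine (Category.comp_id _).trans (Eq.trans ?_ (Category.id_comp _).symm)
    rfl)

include hSR hR in
theorem isStackFor_of_le (hS : Stk.IsStackFor S 𝒳) : Stk.IsStackFor R 𝒳 := by
  unfold Stk.IsStackFor at *
  haveI := hS
  haveI := full_restr_inclSR hSR hR
  haveI := faithful_restr_inclSR hSR hR
  haveI : (Stk.resSieve R 𝒳 ⋙ Stk.restr (inclSR hSR) 𝒳).IsEquivalence :=
    Functor.isEquivalence_of_iso (resIso hSR (𝒳 := 𝒳)).symm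
  haveI : (Stk.resSieve R 𝒳).Faithful :=
    Functor.Faithful.of_comp (Stk.resSieve R 𝒳) (Stk.restr (inclSR hSR) 𝒳)
  haveI : (Stk.resSieve R 𝒳).Full :=
    Functor.Full.of_comp_faithful (Stk.resSieve R 𝒳) (Stk.restr (inclSR hSR) 𝒳)
  haveI : (Stk.resSieve R 𝒳).EssSurj := ⟨fun Gs => by
    let H := (Stk.resSieve R 𝒳 ⋙ Stk.restr (inclSR hSR) 𝒳).objPreimage
      ((Stk.restr (inclSR hSR) 𝒳).obj Gs)
    let i : (Stk.restr (inclSR hSR) 𝒳).obj ((Stk.resSieve R 𝒳).obj H) ≅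
        (Stk.restr (inclSR hSR) 𝒳).obj Gs :=
      (Stk.resSieve R 𝒳 ⋙ Stk.restr (inclSR hSR) 𝒳).objObjPreimageIso _
    exact ⟨H, ⟨(Stk.restr (inclSR hSR) 𝒳).preimageIso i⟩⟩⟩
  exact {}

end Main

end Groth.Agent.Lib.Helper43.StkRefine
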