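import Groth.Agent.Lib.Helper43.SubQuot

/-!
# Subgroup objects as subobjects, and the subgroup correspondence for quotients (helper43)
-/

set_option autoImplicit false
open CategoryTheory CategoryTheory.Limits MonoidalCategory CartesianMonoidalCategory MonObj
universe w v u v₁ u₁

namespace Groth.Agent.Lib.Helper43.SubGrp

open Groth.Agent.Lib.Helper8 Groth.Agent.Lib.Helper43.GrpQuot Groth.Agent.Lib.Helper43.SubQuot

section Mono

variable {E : Type u} [Category.{v} E] [CartesianMonoidalCategory E] {K G : E} [GrpObj G]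
  (i : K ⟶ G) [Mono i]

/-- a group structure on the source of a monomorphism into a group object whose generalized
elements are closed under the group operations -/
@[instance_reducible]
noncomputable def grpOfMono (e : 𝟙_ E ⟶ K) (he : e ≫ i = η[G])
    (m : K ⊗ K ⟶ K) (hm : m ≫ i = (fst K K ≫ i) * (snd K K ≫ i))
    (j : K ⟶ K) (hj : j ≫ i = (i : K ⟶ G)⁻¹) : GrpObj K where
  one := e
  mul := m
  one_mul := by
    rw [← cancel_mono i, Category.assoc, hm, MonObj.comp_mul, whiskerRight_fst_assoc,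
      whiskerRight_snd_assoc, he, leftUnitor_hom]
    have : fst (𝟙_ E) K ≫ η[G] = 1 := by
      rw [Hom.one_def]; congr 1; exact toUnit_unique _ _
    rw [this, _root_.one_mul]
  mul_one := by
    rw [← cancel_mono i, Category.assoc, hm, MonObj.comp_mul, whiskerLeft_fst_assoc,
      whiskerLeft_snd_assoc, he, rightUnitor_hom]
    have : snd K (𝟙_ E) ≫ η[G] = 1 := by
      rw [Hom.one_def]; congr 1; exact toUnit_unique _ _
    rw [this, _root_.mul_one]
  mul_assoc := by
    rw [← cancel_mono i]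
    simp only [Category.assoc, hm, MonObj.comp_mul, whiskerRight_fst_assoc,
      whiskerRight_snd_assoc, whiskerLeft_fst_assoc, whiskerLeft_snd_assoc,
      associator_hom_fst_assoc, associator_hom_snd_fst_assoc, associator_hom_snd_snd_assoc,
      _root_.mul_assoc]
  inv := j
  left_inv := by
    rw [← cancel_mono i]
    simp only [Category.assoc, hm, MonObj.comp_mul, lift_fst_assoc, lift_snd_assoc, hj,
      Category.id_comp, inv_mul_cancel, he]
    rw [Hom.one_def]
  right_inv := by
    rw [← cancel_mono i]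
    simp only [Category.assoc, hm, MonObj.comp_mul, lift_fst_assoc, lift_snd_assoc, hj,
      Category.id_comp, mul_inv_cancel, he]
    rw [Hom.one_def]

lemma isMonHom_grpOfMono (e : 𝟙_ E ⟶ K) (he : e ≫ i = η[G])
    (m : K ⊗ K ⟶ K) (hm : m ≫ i = (fst K K ≫ i) * (snd K K ≫ i))
    (j : K ⟶ K) (hj : j ≫ i = (i : K ⟶ G)⁻¹) :
    @IsMonHom E _ _ K G (grpOfMono i e he m hm j hj).toMonObj _ i :=
  letI := grpOfMono i e he m hm j hj
  { one_hom := he
    mul_hom := by
      show m ≫ i = (i ⊗ₘ i) ≫ μ[G]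
      rw [hm, comp_μ, tensorHom_fst, tensorHom_snd] }

end Mono

section SubgrpPred

variable {E : Type u} [Category.{v} E] [CartesianMonoidalCategory E] {G : E} [GrpObj G]

/-- the generalized elements of a subobject form a subgroup -/
def IsSubgrp (K : Subobject G) : Prop :=
  (∀ W : E, K.Factors (1 : W ⟶ G)) ∧
  (∀ (W : E) (a b : W ⟶ G), K.Factors a → K.Factors b → K.Factors (a * b)) ∧
  (∀ (W : E) (a : W ⟶ G), K.Factors a → K.Factors a⁻¹)

lemma isSubgrp_of_str (K : Subobject G) (str : GrpObj (K : E))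
    (h : @IsMonHom E _ _ (K : E) G str.toMonObj _ K.arrow) : IsSubgrp K := by
  refine ⟨fun W => ?_, fun W a b ha hb => ?_, fun W a ha => ?_⟩
  · have : (1 : W ⟶ G) = (1 : W ⟶ (K : E)) ≫ K.arrow := (MonObj.one_comp K.arrow).symm
    rw [this]
    exact Subobject.factors_comp_arrow _
  · have : a * b = (K.factorThru a ha * K.factorThru b hb) ≫ K.arrow := by
      rw [MonObj.mul_comp, Subobject.factorThru_arrow, Subobject.factorThru_arrow]
    rw [this]
    exact Subobject.factors_comp_arrow _
  · have : a⁻¹ = (K.factorThru a ha)⁻¹ ≫ K.arrow := by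
      rw [GrpObj.inv_comp, Subobject.factorThru_arrow]
    rw [this]
    exact Subobject.factors_comp_arrow _

lemma exists_str_of_isSubgrp (K : Subobject G) (h : IsSubgrp K) :
    ∃ str : GrpObj (K : E), @IsMonHom E _ _ (K : E) G str.toMonObj _ K.arrow := by
  obtain ⟨h₁, h₂, h₃⟩ := h
  have he : K.factorThru (1 : 𝟙_ E ⟶ G) (h₁ _) ≫ K.arrow = η[G] := by
    rw [Subobject.factorThru_arrow, Hom.one_def]
    have : toUnit (𝟙_ E) = 𝟙 _ := toUnit_unique _ _
    rw [this, Category.id_comp]
  have hm := Subobject.factorThru_arrow K _ (h₂ _ (fst (K : E) (K : E) ≫ K.arrow)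
    (snd (K : E) (K : E) ≫ K.arrow) (Subobject.factors_comp_arrow _)
    (Subobject.factors_comp_arrow _))
  have hj := Subobject.factorThru_arrow K _ (h₃ _ K.arrow K.factors_self)
  exact ⟨grpOfMono K.arrow _ he _ hm _ hj, isMonHom_grpOfMono K.arrow _ he _ hm _ hj⟩

lemma isSubgrp_iff (K : Subobject G) :
    (∃ str : GrpObj (K : E), @IsMonHom E _ _ (K : E) G str.toMonObj _ K.arrow) ↔ IsSubgrp K :=
  ⟨fun ⟨str, h⟩ => isSubgrp_of_str K str h, exists_str_of_isSubgrp K⟩

end SubgrpPred

section Correspondence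

variable {E : Type u} [Category.{v} E] [CartesianMonoidalCategory E] [HasPullbacks E] [Exact E]
  {G H : E} [GrpObj G] [GrpObj H] (u : H ⟶ G) [IsMonHom u] [Mono u]
  [HasCoequalizer (fst G H) ((G ◁ u) ≫ μ[G])] [hQ : GrpObj (Q u)] [IsMonHom (π u)]

lemma u_π : u ≫ π u = 1 := by
  have : (1 : H ⟶ G) ≫ π u = u ≫ π u := by
    rw [rel_iff]
    exact ⟨𝟙 H, by rw [Category.id_comp, _root_.one_mul]⟩
  rw [← this, MonObj.one_comp]

lemma isSubgrp_pullback (K' : Subobject (Q u)) (h : IsSubgrp K') :
    IsSubgrp ((Subobject.pullback (π u)).obj K') := by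
  obtain ⟨h₁, h₂, h₃⟩ := h
  refine ⟨fun W => ?_, fun W a b ha hb => ?_, fun W a ha => ?_⟩
  · rw [factors_pullback_iff, MonObj.one_comp]
    exact h₁ W
  · rw [factors_pullback_iff] at ha hb ⊢
    rw [MonObj.mul_comp]
    exact h₂ W _ _ ha hb
  · rw [factors_pullback_iff] at ha ⊢
    rw [GrpObj.inv_comp]
    exact h₃ W _ ha

lemma mk_le_pullback (K' : Subobject (Q u)) (h : IsSubgrp K') :
    Subobject.mk u ≤ (Subobject.pullback (π u)).obj K' := by
  have hf : ((Subobject.pullback (π u)).obj K').Factors u := by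
    rw [factors_pullback_iff, u_π]
    exact h.1 H
  exact Subobject.mk_le_of_comm (Subobject.factorThru _ u hf) (Subobject.factorThru_arrow _ _ _)

lemma isSubgrp_of_pullback (K' : Subobject (Q u))
    (h : IsSubgrp ((Subobject.pullback (π u)).obj K')) : IsSubgrp K' := by
  obtain ⟨h₁, h₂, h₃⟩ := h
  refine ⟨fun W => ?_, fun W x y hx hy => ?_, fun W x hx => ?_⟩
  · have := h₁ W
    rw [factors_pullback_iff, MonObj.one_comp] at this
    exact this
  · obtain ⟨W₁, c₁, a, hc₁, ha⟩ := exists_lift (π u) x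
    obtain ⟨W₂, c₂, b, hc₂, hb⟩ := exists_lift (π u) (c₁ ≫ y)
    have hc : Epi (c₂ ≫ c₁) := epi_comp' hc₂ hc₁
    apply factors_of_epi_comp (c₂ ≫ c₁)
    have hfa : ((Subobject.pullback (π u)).obj K').Factors (c₂ ≫ a) := by
      rw [factors_pullback_iff, Category.assoc, ← ha, ← Category.assoc]
      exact Subobject.factors_of_factors_right _ hx
    have hfb : ((Subobject.pullback (π u)).obj K').Factors b := by
      rw [factors_pullback_iff, ← hb, ← Category.assoc]
      exact Subobject.factors_of_factors_right _ hy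
    have := h₂ W₂ _ _ hfa hfb
    rw [factors_pullback_iff, MonObj.mul_comp, Category.assoc, ← ha, ← hb] at this
    rw [MonObj.comp_mul, Category.assoc, Category.assoc]
    exact this
  · obtain ⟨W₁, c₁, a, hc₁, ha⟩ := exists_lift (π u) x
    apply factors_of_epi_comp c₁
    have hfa : ((Subobject.pullback (π u)).obj K').Factors a := by
      rw [factors_pullback_iff, ← ha]
      exact Subobject.factors_of_factors_right _ hx
    have := h₃ W₁ _ hfa
    rw [factors_pullback_iff, GrpObj.inv_comp, ← ha] at this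
    rw [GrpObj.comp_inv]
    exact this

lemma factors_comp_u (K : Subobject G) (hK : Subobject.mk u ≤ K) {W : E} (h : W ⟶ H) :
    K.Factors (h ≫ u) := by
  apply Subobject.factors_of_le _ hK
  rw [Subobject.mk_factors_iff]
  exact ⟨h, rfl⟩

lemma stable_of_le (K : Subobject G) (hK : Subobject.mk u ≤ K) (hs : IsSubgrp K) :
    (Subobject.pullback (fst G H)).obj K = (Subobject.pullback ((G ◁ u) ≫ μ[G])).obj K := by
  obtain ⟨h₁, h₂, h₃⟩ := hs
  apply le_antisymm
  · rw [le_iff_forall_factors]
    intro W x hx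
    rw [factors_pullback_iff] at hx ⊢
    rw [comp_p₂, ← Category.assoc x]
    exact h₂ W _ _ hx (factors_comp_u u K hK _)
  · rw [le_iff_forall_factors]
    intro W x hx
    rw [factors_pullback_iff] at hx ⊢
    rw [comp_p₂, ← Category.assoc x] at hx
    have := h₂ W _ _ hx (h₃ W _ (factors_comp_u u K hK (x ≫ snd G H)))
    rw [mul_inv_cancel_right] at this
    exact this

lemma exists_subgrp_pullback_eq (K : Subobject G) (hK : Subobject.mk u ≤ K) (hs : IsSubgrp K) :
    ∃ K' : Subobject (Q u), IsSubgrp K' ∧ (Subobject.pullback (π u)).obj K' = K := by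
  obtain ⟨K', hK'⟩ := exists_pullback_eq (isKernelPair_π u) K (stable_of_le u K hK hs)
  refine ⟨K', isSubgrp_of_pullback u K' ?_, hK'⟩
  rw [hK']
  exact hs

/-- the subgroup correspondence -/
lemma bijOn_pullback :
    Set.BijOn (Subobject.pullback (π u)).obj {K' : Subobject (Q u) | IsSubgrp K'}
      {K : Subobject G | Subobject.mk u ≤ K ∧ IsSubgrp K} := by
  refine ⟨fun K' hK' => ⟨mk_le_pullback u K' hK', isSubgrp_pullback u K' hK'⟩,
    fun A _ A' _ h => pullback_injective (π u) h, fun K hK => ?_⟩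
  obtain ⟨K', h₁, h₂⟩ := exists_subgrp_pullback_eq u K hK.1 hK.2
  exact ⟨K', h₁, h₂⟩

omit [HasPullbacks E] [Exact E] in
lemma exists_eq_comp_arrow_iff {X W : E} (P : Subobject X) (f : W ⟶ X) :
    (∃ k : W ⟶ (P : E), f = k ≫ P.arrow) ↔ P.Factors f := by
  constructor
  · rintro ⟨k, rfl⟩
    exact Subobject.factors_comp_arrow _
  · intro h
    exact ⟨P.factorThru f h, (Subobject.factorThru_arrow _ _ _).symm⟩

/-- normal subgroups correspond to normal subgroups -/
lemma normal_iff (K' : Subobject (Q u)) :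
    (∀ (Y : E) (g : Y ⟶ Q u) (k : Y ⟶ (K' : E)),
        ∃ k' : Y ⟶ (K' : E), g * (k ≫ K'.arrow) * g⁻¹ = k' ≫ K'.arrow) ↔
      (∀ (Y : E) (g : Y ⟶ G) (k : Y ⟶ ((Subobject.pullback (π u)).obj K' : E)),
        ∃ k' : Y ⟶ ((Subobject.pullback (π u)).obj K' : E),
          g * (k ≫ ((Subobject.pullback (π u)).obj K').arrow) * g⁻¹ =
            k' ≫ ((Subobject.pullback (π u)).obj K').arrow) := by
  constructor
  · intro h Y g k
    rw [exists_eq_comp_arrow_iff, factors_pullback_iff, MonObj.mul_comp, MonObj.mul_comp,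
      GrpObj.inv_comp, Category.assoc, ← (Subobject.isPullback (π u) K').w, ← Category.assoc,
      ← exists_eq_comp_arrow_iff]
    exact h Y (g ≫ π u) (k ≫ Subobject.pullbackπ (π u) K')
  · intro h Y g k
    rw [exists_eq_comp_arrow_iff]
    obtain ⟨W₁, c₁, a, hc₁, ha⟩ := exists_lift (π u) g
    obtain ⟨W₂, c₂, b, hc₂, hb⟩ := exists_lift (π u) (c₁ ≫ k ≫ K'.arrow)
    have hc : Epi (c₂ ≫ c₁) := epi_comp' hc₂ hc₁
    apply factors_of_epi_comp (c₂ ≫ c₁)
    have hfb : ((Subobject.pullback (π u)).obj K').Factors b := by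
      rw [factors_pullback_iff, ← hb, ← Category.assoc, ← Category.assoc]
      exact Subobject.factors_comp_arrow _
    have := h W₂ (c₂ ≫ a) (Subobject.factorThru _ b hfb)
    rw [exists_eq_comp_arrow_iff, Subobject.factorThru_arrow, factors_pullback_iff,
      MonObj.mul_comp, MonObj.mul_comp, GrpObj.inv_comp, Category.assoc, ← ha, ← hb] at this
    rw [MonObj.comp_mul, MonObj.comp_mul, GrpObj.comp_inv, Category.assoc, Category.assoc]
    exact this

end Correspondence

end Groth.Agent.Lib.Helper43.SubGrp
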