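import Groth.Agent.Lib.Helper43.GrpQuot
import Mathlib.CategoryTheory.Subobject.FactorThru
import Mathlib.CategoryTheory.Subobject.Basic

/-!
# Subobjects and quotients by equivalence relations in exact categories (helper43)
-/

set_option autoImplicit false
open CategoryTheory CategoryTheory.Limits
universe w v u v₁ u₁

namespace Groth.Agent.Lib.Helper43.SubQuot

open Groth.Agent.Lib.Helper8 Groth.Agent.Lib.Helper43.GrpQuot

variable {E : Type u} [Category.{v} E] [HasPullbacks E]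

lemma factors_pullback_iff {X Y W : E} (f : X ⟶ Y) (y : Subobject Y) (x : W ⟶ X) :
    ((Subobject.pullback f).obj y).Factors x ↔ y.Factors (x ≫ f) := by
  have sq := Subobject.isPullback f y
  constructor
  · intro h
    have e : x ≫ f = (((Subobject.pullback f).obj y).factorThru x h ≫
        Subobject.pullbackπ f y) ≫ y.arrow := by
      rw [Category.assoc, sq.w, ← Category.assoc, Subobject.factorThru_arrow]
    rw [e]
    exact Subobject.factors_comp_arrow _
  · intro h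
    have e : x = sq.lift (y.factorThru (x ≫ f) h) x (Subobject.factorThru_arrow _ _ _) ≫
        ((Subobject.pullback f).obj y).arrow := (sq.lift_snd _ _ _).symm
    rw [e]
    exact Subobject.factors_comp_arrow _

omit [HasPullbacks E] in
lemma mk_factors_iff' {X Y Z : E} (f : Y ⟶ X) [Mono f] (g : Z ⟶ X) :
    (Subobject.mk f).Factors g ↔ ∃ k : Z ⟶ Y, k ≫ f = g := by
  rw [Subobject.mk_factors_iff]
  exact Iff.rfl

lemma le_iff_forall_factors {X : E} (A A' : Subobject X) :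
    A ≤ A' ↔ ∀ {W : E} (x : W ⟶ X), A.Factors x → A'.Factors x := by
  constructor
  · intro h W x hx
    exact Subobject.factors_of_le x h hx
  · intro h
    exact Subobject.le_of_factors (h A.arrow A.factors_self)

variable [Exact E]

/-- factoring through a subobject can be checked locally -/
lemma factors_of_epi_comp {W' W X : E} (c : W' ⟶ W) [Epi c] (A : Subobject X) (x : W ⟶ X)
    (h : A.Factors (c ≫ x)) : A.Factors x := by
  have hg : A.factorThru (c ≫ x) h ≫ A.arrow = c ≫ x := Subobject.factorThru_arrow _ _ _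
  obtain ⟨d, hd⟩ := exists_desc c (A.factorThru (c ≫ x) h) (by
    intro T g₁ g₂ hg₁₂
    rw [← cancel_mono A.arrow, Category.assoc, Category.assoc, hg, reassoc_of% hg₁₂])
  have e : x = d ≫ A.arrow := by
    rw [← cancel_epi c, ← Category.assoc, hd, hg]
  rw [e]
  exact Subobject.factors_comp_arrow _

/-- inverse image along an epimorphism reflects the order of subobjects -/
lemma le_of_pullback_le {X B : E} (π : X ⟶ B) [Epi π] (A A' : Subobject B)
    (h : (Subobject.pullback π).obj A ≤ (Subobject.pullback π).obj A') : A ≤ A' := by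
  rw [le_iff_forall_factors]
  intro W x hx
  obtain ⟨W', c, a, hc, hca⟩ := exists_lift π x
  apply factors_of_epi_comp c
  rw [hca, ← factors_pullback_iff]
  apply Subobject.factors_of_le a h
  rw [factors_pullback_iff, ← hca]
  exact Subobject.factors_of_factors_right c hx

lemma pullback_injective {X B : E} (π : X ⟶ B) [Epi π] :
    Function.Injective (Subobject.pullback π).obj := by
  intro A A' h
  exact le_antisymm (le_of_pullback_le π A A' h.le) (le_of_pullback_le π A' A h.ge)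

/-- epi–mono factorisation in an exact category -/
lemma exists_image {Y B : E} (f : Y ⟶ B) :
    ∃ (A : E) (q : Y ⟶ A) (m : A ⟶ B), Epi q ∧ Mono m ∧ q ≫ m = f := by
  have hk : IsKernelPair f (pullback.fst f f) (pullback.snd f f) := IsPullback.of_hasPullback f f
  obtain ⟨e⟩ := Exact.effective _ _
    (hk.equivalenceRelation f _ _ (pullback.isLimit (pullback.snd f f) (pullback.fst f f)))
  have hq : Epi e.π := inferInstance
  obtain ⟨m, hm⟩ := exists_desc e.π f (by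
    intro T g₁ g₂ hg
    obtain ⟨t, ht₁, ht₂⟩ := e.isKernelPair.exists_lift g₁ g₂ hg
    rw [← ht₁, ← ht₂, Category.assoc, Category.assoc, pullback.condition])
  refine ⟨e.B, e.π, m, hq, ⟨?_⟩, hm⟩
  intro W a₁ a₂ ha
  obtain ⟨W₁, c₁, y₁, hc₁, hy₁⟩ := exists_lift e.π a₁
  obtain ⟨W₂, c₂, y₂, hc₂, hy₂⟩ := exists_lift e.π (c₁ ≫ a₂)
  have hc : Epi (c₂ ≫ c₁) := epi_comp' hc₂ hc₁
  rw [← cancel_epi (c₂ ≫ c₁), Category.assoc, Category.assoc, hy₁, hy₂]
  have h₁ : (c₂ ≫ y₁) ≫ f = y₂ ≫ f := by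
    rw [← hm, Category.assoc, ← reassoc_of% hy₁, ← reassoc_of% hy₂, ha]
  obtain ⟨t, ht₁, ht₂⟩ := hk.exists_lift (c₂ ≫ y₁) y₂ h₁
  rw [← ht₂, ← Category.assoc, ← ht₁, Category.assoc, Category.assoc, e.isKernelPair.w]

/-- subobjects of `X` stable under an equivalence relation come from the quotient -/
lemma exists_pullback_eq {R X B : E} {p₁ p₂ : R ⟶ X} {π : X ⟶ B} [Epi π]
    (hk : IsKernelPair π p₁ p₂) (Y : Subobject X)
    (hY : (Subobject.pullback p₁).obj Y = (Subobject.pullback p₂).obj Y) :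
    ∃ A : Subobject B, (Subobject.pullback π).obj A = Y := by
  obtain ⟨A, q, m, hq, hm, hqm⟩ := exists_image (Y.arrow ≫ π)
  refine ⟨Subobject.mk m, le_antisymm ?_ ?_⟩
  · rw [le_iff_forall_factors]
    intro W x hx
    rw [factors_pullback_iff, Subobject.mk_factors_iff] at hx
    obtain ⟨a, ha⟩ : ∃ a : W ⟶ A, a ≫ m = x ≫ π := hx
    obtain ⟨W', c, y, hc, hy⟩ := exists_lift q a
    apply factors_of_epi_comp c
    have h₁ : (y ≫ Y.arrow) ≫ π = (c ≫ x) ≫ π := by
      rw [Category.assoc, ← hqm, ← reassoc_of% hy, ha, Category.assoc]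
    obtain ⟨r, hr₁, hr₂⟩ := hk.exists_lift (y ≫ Y.arrow) (c ≫ x) h₁
    rw [← hr₂, ← factors_pullback_iff, ← hY, factors_pullback_iff, hr₁]
    exact Subobject.factors_comp_arrow _
  · rw [le_iff_forall_factors]
    intro W x hx
    rw [factors_pullback_iff, Subobject.mk_factors_iff]
    refine ⟨Y.factorThru x hx ≫ q, ?_⟩
    show (Y.factorThru x hx ≫ q) ≫ m = x ≫ π
    rw [Category.assoc, hqm, ← Category.assoc, Subobject.factorThru_arrow]

/-- the range of inverse image along the quotient map -/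
lemma range_pullback {R X B : E} {p₁ p₂ : R ⟶ X} {π : X ⟶ B} [Epi π]
    (hk : IsKernelPair π p₁ p₂) :
    Set.range (Subobject.pullback π).obj =
      {Y : Subobject X | (Subobject.pullback p₁).obj Y = (Subobject.pullback p₂).obj Y} := by
  ext Y
  constructor
  · rintro ⟨A, rfl⟩
    show (Subobject.pullback p₁).obj _ = (Subobject.pullback p₂).obj _
    rw [← Subobject.pullback_comp, ← Subobject.pullback_comp, hk.w]
  · intro hY
    exact exists_pullback_eq hk Y hY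

/-- the quotient of a subobject by the induced relation embeds in the quotient -/
lemma mono_of_induced {R X Y B : E} {p₁ p₂ : R ⟶ X} {π : X ⟶ B} (hk : IsKernelPair π p₁ p₂)
    (ι : Y ⟶ X)
    [HasCoequalizer (pullback.fst (pullback.fst p₁ ι ≫ p₂) ι ≫ pullback.snd p₁ ι)
      (pullback.snd (pullback.fst p₁ ι ≫ p₂) ι)]
    (g : coequalizer (pullback.fst (pullback.fst p₁ ι ≫ p₂) ι ≫ pullback.snd p₁ ι)
      (pullback.snd (pullback.fst p₁ ι ≫ p₂) ι) ⟶ B)
    (hg : coequalizer.π _ _ ≫ g = ι ≫ π) : Mono g := by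
  constructor
  intro W a₁ a₂ ha
  set f₁ := pullback.fst (pullback.fst p₁ ι ≫ p₂) ι ≫ pullback.snd p₁ ι with hf₁
  set f₂ := pullback.snd (pullback.fst p₁ ι ≫ p₂) ι with hf₂
  have hg' : coequalizer.π f₁ f₂ ≫ g = ι ≫ π := hg
  obtain ⟨W₁, c₁, y₁, hc₁, hy₁⟩ := exists_lift (coequalizer.π f₁ f₂) a₁
  obtain ⟨W₂, c₂, y₂, hc₂, hy₂⟩ := exists_lift (coequalizer.π f₁ f₂) (c₁ ≫ a₂)
  have hc : Epi (c₂ ≫ c₁) := epi_comp' hc₂ hc₁
  rw [← cancel_epi (c₂ ≫ c₁), Category.assoc, Category.assoc, hy₁, hy₂]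
  have h₁ : ((c₂ ≫ y₁) ≫ ι) ≫ π = (y₂ ≫ ι) ≫ π := by
    calc ((c₂ ≫ y₁) ≫ ι) ≫ π = c₂ ≫ (y₁ ≫ coequalizer.π f₁ f₂) ≫ g := by
          simp only [Category.assoc, hg']
      _ = (c₂ ≫ c₁ ≫ a₂) ≫ g := by rw [← hy₁]; simp only [Category.assoc, ha]
      _ = (y₂ ≫ ι) ≫ π := by rw [hy₂]; simp only [Category.assoc, hg']
  obtain ⟨r, hr₁, hr₂⟩ := hk.exists_lift ((c₂ ≫ y₁) ≫ ι) (y₂ ≫ ι) h₁
  have hs : pullback.lift r (c₂ ≫ y₁) hr₁ ≫ pullback.fst p₁ ι ≫ p₂ = y₂ ≫ ι := by
    rw [pullback.lift_fst_assoc, hr₂]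
  have e₁ : pullback.lift (pullback.lift r (c₂ ≫ y₁) hr₁) y₂ hs ≫ f₁ = c₂ ≫ y₁ := by
    rw [hf₁, pullback.lift_fst_assoc, pullback.lift_snd]
  have e₂ : pullback.lift (pullback.lift r (c₂ ≫ y₁) hr₁) y₂ hs ≫ f₂ = y₂ :=
    pullback.lift_snd _ _ _
  calc c₂ ≫ y₁ ≫ coequalizer.π f₁ f₂
      = (pullback.lift (pullback.lift r (c₂ ≫ y₁) hr₁) y₂ hs ≫ f₁) ≫ coequalizer.π f₁ f₂ := by
        rw [e₁, Category.assoc]
    _ = (pullback.lift (pullback.lift r (c₂ ≫ y₁) hr₁) y₂ hs ≫ f₂) ≫ coequalizer.π f₁ f₂ := by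
        rw [Category.assoc, coequalizer.condition, Category.assoc]
    _ = y₂ ≫ coequalizer.π f₁ f₂ := by rw [e₂]

section Points

open MonoidalCategory CartesianMonoidalCategory

variable [CartesianMonoidalCategory E] {R X B : E} {p₁ p₂ : R ⟶ X} {π : X ⟶ B} [Epi π]
  (hk : IsKernelPair π p₁ p₂) (Y : E)

include hk in
/-- a stable subobject of `X × Y` which is a "torsor" over `Y` is the graph of a point of `X/R` -/
lemma existsUnique_of_sub {Z : E} (ι : Z ⟶ X ⊗ Y) [Mono ι]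
    (hst : ∀ (W : E) (r : W ⟶ R) (y : W ⟶ Y),
      (∃ z : W ⟶ Z, z ≫ ι = lift (r ≫ p₁) y) ↔ (∃ z : W ⟶ Z, z ≫ ι = lift (r ≫ p₂) y))
    (hcov : Epi (ι ≫ snd X Y))
    (hfib : ∀ (W : E) (z₁ z₂ : W ⟶ Z), z₁ ≫ ι ≫ snd X Y = z₂ ≫ ι ≫ snd X Y →
      ∃ r : W ⟶ R, r ≫ p₁ = z₁ ≫ ι ≫ fst X Y ∧ r ≫ p₂ = z₂ ≫ ι ≫ fst X Y) :
    ∃! f : Y ⟶ B, IsPullback (ι ≫ fst X Y) (ι ≫ snd X Y) π f := by
  obtain ⟨f, hf⟩ := exists_desc (ι ≫ snd X Y) (ι ≫ fst X Y ≫ π) (by
    intro W g₁ g₂ hg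
    obtain ⟨r, hr₁, hr₂⟩ := hfib W g₁ g₂ (by simpa using hg)
    rw [← Category.assoc, ← Category.assoc, ← Category.assoc, ← Category.assoc,
      Category.assoc g₁, Category.assoc g₂, ← hr₁, ← hr₂, Category.assoc, Category.assoc, hk.w])
  have hw : (ι ≫ fst X Y) ≫ π = (ι ≫ snd X Y) ≫ f := by
    rw [hf, Category.assoc]
  refine ⟨f, ?_, ?_⟩
  · apply isPullback_of_existsUnique hw
    intro W a b hab
    have hex : ∃ k : W ⟶ Z, k ≫ ι = lift a b := by
      rw [← mk_factors_iff']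
      obtain ⟨W', c, z, hc, hz⟩ := exists_lift (ι ≫ snd X Y) b
      apply factors_of_epi_comp c
      rw [mk_factors_iff']
      have h₁ : (z ≫ ι ≫ fst X Y) ≫ π = (c ≫ a) ≫ π := by
        calc (z ≫ ι ≫ fst X Y) ≫ π = z ≫ (ι ≫ fst X Y) ≫ π := by simp only [Category.assoc]
          _ = z ≫ (ι ≫ snd X Y) ≫ f := by rw [hw]
          _ = (c ≫ b) ≫ f := by rw [hz]; simp only [Category.assoc]
          _ = (c ≫ a) ≫ π := by rw [Category.assoc, ← hab, Category.assoc]
      obtain ⟨r, hr₁, hr₂⟩ := hk.exists_lift _ _ h₁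
      have h₂ : z ≫ ι = lift (r ≫ p₁) (c ≫ b) := by
        apply CartesianMonoidalCategory.hom_ext
        · rw [lift_fst, hr₁, Category.assoc]
        · rw [lift_snd, hz, Category.assoc]
      obtain ⟨z', hz'⟩ := (hst W' r (c ≫ b)).1 ⟨z, h₂⟩
      refine ⟨z', ?_⟩
      rw [hz', hr₂, comp_lift]
    obtain ⟨k, hk'⟩ := hex
    refine ⟨k, ⟨?_, ?_⟩, ?_⟩
    · rw [← Category.assoc, hk', lift_fst]
    · rw [← Category.assoc, hk', lift_snd]
    · rintro m ⟨hm₁, hm₂⟩
      rw [← cancel_mono ι, hk']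
      apply CartesianMonoidalCategory.hom_ext
      · rw [lift_fst, Category.assoc, hm₁]
      · rw [lift_snd, Category.assoc, hm₂]
  · intro f' hf'
    rw [← cancel_epi (ι ≫ snd X Y), ← hf'.w, hw]

include hk in
/-- every point of `X/R` has a graph -/
lemma exists_sub_of_point (f : Y ⟶ B) :
    ∃ (Z : E) (ι : Z ⟶ X ⊗ Y), Mono ι ∧
      (∀ (W : E) (r : W ⟶ R) (y : W ⟶ Y),
        (∃ z : W ⟶ Z, z ≫ ι = lift (r ≫ p₁) y) ↔ (∃ z : W ⟶ Z, z ≫ ι = lift (r ≫ p₂) y)) ∧
      Epi (ι ≫ snd X Y) ∧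
      (∀ (W : E) (z₁ z₂ : W ⟶ Z), z₁ ≫ ι ≫ snd X Y = z₂ ≫ ι ≫ snd X Y →
        ∃ r : W ⟶ R, r ≫ p₁ = z₁ ≫ ι ≫ fst X Y ∧ r ≫ p₂ = z₂ ≫ ι ≫ fst X Y) ∧
      IsPullback (ι ≫ fst X Y) (ι ≫ snd X Y) π f := by
  have key : ∀ (W : E) (a : W ⟶ X) (y : W ⟶ Y),
      (∃ z : W ⟶ pullback π f, z ≫ lift (pullback.fst π f) (pullback.snd π f) = lift a y) ↔
        a ≫ π = y ≫ f := by
    intro W a y
    constructor
    · rintro ⟨z, hz⟩
      have h₁ : z ≫ pullback.fst π f = a := by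
        have := congrArg (fun t => t ≫ fst X Y) hz
        simpa using this
      have h₂ : z ≫ pullback.snd π f = y := by
        have := congrArg (fun t => t ≫ snd X Y) hz
        simpa using this
      rw [← h₁, ← h₂, Category.assoc, Category.assoc, pullback.condition]
    · intro h
      refine ⟨pullback.lift a y h, ?_⟩
      rw [comp_lift, pullback.lift_fst, pullback.lift_snd]
  refine ⟨pullback π f, lift (pullback.fst π f) (pullback.snd π f), ⟨?_⟩, ?_, ?_, ?_, ?_⟩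
  · intro W a b hab
    apply pullback.hom_ext
    · have := congrArg (fun t => t ≫ fst X Y) hab
      simpa using this
    · have := congrArg (fun t => t ≫ snd X Y) hab
      simpa using this
  · intro W r y
    rw [key, key, Category.assoc, Category.assoc, hk.w]
  · rw [lift_snd]
    exact ((Exact.uee_of_epi π).pullback_snd f).epi
  · intro W z₁ z₂ hz
    simp only [lift_snd, lift_fst] at hz ⊢
    exact hk.exists_lift _ _ (by
      rw [Category.assoc, Category.assoc, pullback.condition, reassoc_of% hz])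
  · rw [lift_fst, lift_snd]
    exact IsPullback.of_hasPullback π f

end Points

end Groth.Agent.Lib.Helper43.SubQuot
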