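import Mathlib

/-!
# Extension by empty/zero from a subterminal object: the unit `F ⟶ j^* j_! F` is an isomorphism

For `U : C` with at most one morphism from every object, `Over.forget U` is fully faithful;
`j^* = (Over.forget U).sheafPushforwardContinuous` has a right adjoint `j_*` (cocontinuous
pushforward, a right Kan extension) whose counit is an isomorphism; by the adjoint triple lemma the
unit of any left adjoint `j_! ⊣ j^*` is an isomorphism.
-/

set_option autoImplicit false
open CategoryTheory CategoryTheory.Limits Opposite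

namespace Groth.Agent.Lib.Helper43.SubtermUnit

universe w' w v u

variable {C : Type u} [Category.{v} C] (J : GrothendieckTopology C) (U : C)

lemma full_forget (hU : ∀ V : C, Subsingleton (V ⟶ U)) : (Over.forget U).Full where
  map_surjective {_ _} f := ⟨Over.homMk f ((hU _).elim _ _), rfl⟩

variable (A : Type w) [Category.{w'} A]
  [∀ (F : (Over U)ᵒᵖ ⥤ A), (Over.forget U).op.HasPointwiseRightKanExtension F]

lemma isIso_ran_counit_app (hU : ∀ V : C, Subsingleton (V ⟶ U)) (F : (Over U)ᵒᵖ ⥤ A) :
    IsIso (((Over.forget U).op.ranAdjunction A).counit.app F) := by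
  haveI := full_forget U hU
  haveI : (Over.forget U).op.Full := inferInstance
  haveI : (Over.forget U).op.Faithful := inferInstance
  have := Functor.reflective' (L := (Over.forget U).op) (H := A)
  infer_instance

/-- the counit `j^* j_* ⟶ 𝟭` is an isomorphism. -/
lemma isIso_counit (hU : ∀ V : C, Subsingleton (V ⟶ U)) :
    IsIso ((Over.forget U).sheafAdjunctionCocontinuous A (J.over U) J).counit := by
  haveI := full_forget U hU
  haveI : ∀ F : Sheaf (J.over U) A,
      IsIso (((Over.forget U).sheafAdjunctionCocontinuous A (J.over U) J).counit.app F) := by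
    intro F
    haveI : IsIso ((sheafToPresheaf _ _).map
        (((Over.forget U).sheafAdjunctionCocontinuous A (J.over U) J).counit.app F)) := by
      show IsIso (((Over.forget U).sheafAdjunctionCocontinuous A (J.over U) J).counit.app F).hom
      rw [Functor.sheafAdjunctionCocontinuous_counit_app_hom]
      exact isIso_ran_counit_app U A hU F.obj
    exact isIso_of_reflects_iso _ (sheafToPresheaf _ _)
  exact NatIso.isIso_of_isIso_app _

/-- the unit of any adjunction `L ⊣ j^*` is an isomorphism. -/
lemma isIso_unit (hU : ∀ V : C, Subsingleton (V ⟶ U))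
    {L : Sheaf (J.over U) A ⥤ Sheaf J A}
    (adj : L ⊣ (Over.forget U).sheafPushforwardContinuous A (J.over U) J) :
    IsIso adj.unit := by
  let t : Adjunction.Triple L ((Over.forget U).sheafPushforwardContinuous A (J.over U) J)
      ((Over.forget U).sheafPushforwardCocontinuous A (J.over U) J) :=
    ⟨adj, (Over.forget U).sheafAdjunctionCocontinuous A (J.over U) J⟩
  exact t.isIso_unit_iff_isIso_counit.2 (isIso_counit J U A hU)

lemma isIso_unit_app (hU : ∀ V : C, Subsingleton (V ⟶ U))
    {L : Sheaf (J.over U) A ⥤ Sheaf J A}
    (adj : L ⊣ (Over.forget U).sheafPushforwardContinuous A (J.over U) J)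
    (F : Sheaf (J.over U) A) :
    IsIso (adj.unit.app F) := by
  haveI := isIso_unit J U A hU adj
  infer_instance

/-- sections of `ψ` over `X` are a retract-conjugate of sections of `j_! ψ` over `forget X`. -/
lemma surjective_of_unit (hU : ∀ V : C, Subsingleton (V ⟶ U))
    [∀ (F : (Over U)ᵒᵖ ⥤ Type w), (Over.forget U).op.HasPointwiseRightKanExtension F]
    {L : Sheaf (J.over U) (Type w) ⥤ Sheaf J (Type w)}
    (adj : L ⊣ (Over.forget U).sheafPushforwardContinuous (Type w) (J.over U) J)
    {A B : Sheaf (J.over U) (Type w)} (ψ : A ⟶ B) (X : (Over U)ᵒᵖ)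
    (h : Function.Surjective ((L.map ψ).hom.app (op X.unop.left))) :
    Function.Surjective (ψ.hom.app X) := by
  haveI hA := isIso_unit_app J U (Type w) hU adj A
  haveI hB := isIso_unit_app J U (Type w) hU adj B
  have hnat := adj.unit.naturality ψ
  intro b
  obtain ⟨y, hy⟩ := h ((adj.unit.app B).hom.app X b)
  refine ⟨(inv (adj.unit.app A)).hom.app X y, ?_⟩
  have e1 : ψ = adj.unit.app A ≫ ((Over.forget U).sheafPushforwardContinuous (Type w)
      (J.over U) J).map (L.map ψ) ≫ inv (adj.unit.app B) := by
    rw [← Category.assoc]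
    rw [IsIso.eq_comp_inv]
    exact hnat
  have e2 : ∀ x, (adj.unit.app A).hom.app X ((inv (adj.unit.app A)).hom.app X x) = x := by
    intro x
    have : (inv (adj.unit.app A) ≫ adj.unit.app A).hom.app X x = x := by
      rw [IsIso.inv_hom_id]; rfl
    exact this
  have e3 : ∀ x, (inv (adj.unit.app B)).hom.app X ((adj.unit.app B).hom.app X x) = x := by
    intro x
    have : (adj.unit.app B ≫ inv (adj.unit.app B)).hom.app X x = x := by
      rw [IsIso.hom_inv_id]; rfl
    exact this
  rw [e1]
  show (inv (adj.unit.app B)).hom.app X ((L.map ψ).hom.app (op X.unop.left)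
    ((adj.unit.app A).hom.app X ((inv (adj.unit.app A)).hom.app X y))) = b
  rw [e2, hy, e3]

end Groth.Agent.Lib.Helper43.SubtermUnit
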