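import Groth.Agent.Lib.Helper43.ClosedPushAb
import Groth.Agent.Lib.Helper43.Coreflect
import Groth.Prelude.Def_LocCohZ

/-!
# `i_* ⊣ i⁻¹ Γ_Z` for the closed complement `Z` of an open `U`
-/

set_option autoImplicit false
universe u
open CategoryTheory CategoryTheory.Limits TopologicalSpace Opposite

namespace Groth.Agent.Lib.Helper43.SuppAdj

open Groth.Agent.Lib.Helper43.ClosedPush Groth.Agent.Lib.Helper43.ClosedPushAb

variable {X : TopCat.{u}} (U : Opens X)

lemma isClosedEmbedding_inclCompl : Topology.IsClosedEmbedding (CohCx.inclCompl U) :=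
  (U.isOpen.isClosed_compl).isClosedEmbedding_subtypeVal

lemma compl_inclCompl : compl (isClosedEmbedding_inclCompl U) = U := by
  ext x
  show x ∈ (Set.range (CohCx.inclCompl U))ᶜ ↔ x ∈ U
  have : Set.range (CohCx.inclCompl U) = (U : Set X)ᶜ := Subtype.range_coe
  rw [this, compl_compl]
  rfl

/-- the adjunction `j⁻¹ ⊣ j_*` for the open inclusion -/
noncomputable abbrev adjJ : CohTop.pull (CohCx.incl U) ⊣ CohTop.push (CohCx.incl U) :=
  TopCat.Sheaf.pullbackPushforwardAdjunction AddCommGrpCat.{u} (CohCx.incl U)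

lemma incl_image_le (V : Opens X) :
    U.isOpenEmbedding.isOpenMap.functor.obj ((Opens.map (CohCx.incl U)).obj V) ≤ V := by
  rintro _ ⟨y, hy, rfl⟩
  exact hy

lemma le_incl_image {V : Opens X} (hV : V ≤ U) :
    V ≤ U.isOpenEmbedding.isOpenMap.functor.obj ((Opens.map (CohCx.incl U)).obj V) := by
  intro x hx
  exact ⟨⟨x, hV hx⟩, hx, rfl⟩

/-- the concrete restriction map `F ⟶ j_* (F|_U)` -/
noncomputable def restrUnit (F : CohTop.Ab X) :
    F ⟶ (CohTop.push (CohCx.incl U)).obj ((CohTop.restrFunctor U).obj F) :=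
  ⟨{ app := fun V => F.1.map (homOfLE (incl_image_le U V.unop)).op
     naturality := by
       intro V V' g
       exact (map_map_thin F.1 g (homOfLE (incl_image_le U V'.unop)).op
         (homOfLE ((incl_image_le U V'.unop).trans g.unop.le)).op).trans
         (map_map_thin F.1 _ _ _).symm }⟩

lemma restrUnit_injective (F : CohTop.Ab X) {V : Opens X} (hV : V ≤ U) :
    Function.Injective ((restrUnit U F).hom.app (op V)).hom := by
  intro s t hst
  have h := congrArg (F.1.map (homOfLE (le_incl_image U hV)).op).hom hst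
  have e : ∀ s : F.1.obj (op V), (F.1.map (homOfLE (le_incl_image U hV)).op).hom
      (((restrUnit U F).hom.app (op V)).hom s) = s := by
    intro s
    show (F.1.map (homOfLE (le_incl_image U hV)).op).hom
      ((F.1.map (homOfLE (incl_image_le U V)).op).hom s) = s
    rw [thin_apply F.1 _ _ (𝟙 _)]
    simp
  rw [e, e] at h
  exact h

theorem unit_injective (F : CohTop.Ab X) {V : Opens X} (hV : V ≤ U) :
    Function.Injective (((adjJ U).unit.app F).hom.app (op V)).hom := by
  have hfac : restrUnit U F = (adjJ U).unit.app F ≫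
      (CohTop.push (CohCx.incl U)).map (((adjJ U).homEquiv _ _).symm (restrUnit U F)) := by
    have := (adjJ U).homEquiv_unit (X := F) (Y := (CohTop.restrFunctor U).obj F)
      (f := ((adjJ U).homEquiv _ _).symm (restrUnit U F))
    rw [Equiv.apply_symm_apply] at this
    exact this
  have key : ∀ s : F.1.obj (op V), ((restrUnit U F).hom.app (op V)).hom s =
      (((CohTop.push (CohCx.incl U)).map
        (((adjJ U).homEquiv _ _).symm (restrUnit U F))).hom.app (op V)).hom
        ((((adjJ U).unit.app F).hom.app (op V)).hom s) := by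
    intro s
    exact congrArg (fun f => (f.hom.app (op V)).hom s) hfac
  intro s t hst
  apply restrUnit_injective U F hV
  rw [key s, key t, hst]

/-- every map from `i_* D` to `j_* H` vanishes -/
theorem hom_push_push_eq_zero (D : CohTop.Ab (TopCat.of ((U : Set X)ᶜ : Set X)))
    (H : CohTop.Ab (TopCat.of U))
    (ψ : (CohTop.push (CohCx.inclCompl U)).obj D ⟶ (CohTop.push (CohCx.incl U)).obj H) :
    ψ = 0 := by
  apply ObjectProperty.hom_ext
  ext V s
  obtain ⟨V⟩ := V
  show (ψ.hom.app (op V)).hom s = 0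
  -- restrict to `V ⊓ U`
  have hVU : (Opens.map (CohCx.incl U)).obj V ≤ (Opens.map (CohCx.incl U)).obj (V ⊓ U) := by
    intro y hy
    exact ⟨hy, y.2⟩
  have hnat := ConcreteCategory.congr_hom (ψ.hom.naturality (homOfLE (inf_le_left : V ⊓ U ≤ V)).op) s
  simp only [ConcreteCategory.comp_apply] at hnat
  have hbot : (Opens.map (CohCx.inclCompl U)).obj (V ⊓ U) = ⊥ := by
    ext z
    simp only [Opens.coe_bot, Set.mem_empty_iff_false, iff_false]
    intro hz
    exact z.2 hz.2
  have hsub := subsingleton_of_eq_bot D hbot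
  have hs0 : (((CohTop.push (CohCx.inclCompl U)).obj D).1.map
      (homOfLE (inf_le_left : V ⊓ U ≤ V)).op).hom s = 0 :=
    Subsingleton.elim (α := D.1.obj (op ((Opens.map (CohCx.inclCompl U)).obj (V ⊓ U)))) _ _
  erw [hs0, map_zero] at hnat
  -- the restriction `H(j⁻¹V) → H(j⁻¹(V ⊓ U))` is injective
  have h2 := congrArg (H.1.map (homOfLE hVU).op).hom hnat.symm
  erw [thin_apply H.1 _ _ (𝟙 _), map_zero] at h2
  simp only [CategoryTheory.Functor.map_id, AddCommGrpCat.hom_id, AddMonoidHom.id_apply] at h2
  exact h2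

/-- the inclusion `Γ_Z F ⟶ F` as a natural transformation -/
noncomputable def ιΓ : LocCohZ.sectSuppF U ⟶ 𝟭 (CohTop.Ab X) where
  app F := kernel.ι ((adjJ U).unit.app F)
  naturality F G φ := by
    simp [LocCohZ.sectSuppF]

instance (F : CohTop.Ab X) : Mono ((ιΓ U).app F) := by
  show Mono (kernel.ι ((adjJ U).unit.app F))
  infer_instance

lemma sheaf_mono_injective {T : TopCat.{u}} {A B : CohTop.Ab T} (f : A ⟶ B) [Mono f]
    (V : Opens T) : Function.Injective (f.hom.app (op V)).hom := by
  have h1 : Mono ((sheafToPresheaf _ _).map f) := inferInstance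
  have h2 : Mono (((sheafToPresheaf _ _).map f).app (op V)) := inferInstance
  exact (AddCommGrpCat.mono_iff_injective _).mp h2

theorem sectSupp_sections_subsingleton (F : CohTop.Ab X) (V : Opens X) (hV : V ≤ U) :
    Subsingleton ((CohCx.sectSupp U F).1.obj (op V)) := by
  constructor
  intro s t
  have hz : ∀ s : (CohCx.sectSupp U F).1.obj (op V),
      ((kernel.ι ((adjJ U).unit.app F)).hom.app (op V)).hom s = 0 := by
    intro s
    apply unit_injective U F hV
    have h0 : kernel.ι ((adjJ U).unit.app F) ≫ (adjJ U).unit.app F = 0 := kernel.condition _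
    have := congrArg (fun f => (f.hom.app (op V)).hom s) h0
    rw [map_zero]
    exact this
  apply sheaf_mono_injective (kernel.ι ((adjJ U).unit.app F)) V
  rw [hz s, hz t]

theorem sectSupp_mem_essImage (F : CohTop.Ab X) :
    (CohTop.push (CohCx.inclCompl U)).essImage ((LocCohZ.sectSuppF U).obj F) := by
  apply mem_essImage_of_sections (isClosedEmbedding_inclCompl U)
  intro V hV
  rw [compl_inclCompl] at hV
  exact sectSupp_sections_subsingleton U F V hV

/-- `i_* ⊣ Γ_Z ⋙ i⁻¹` -/
noncomputable def adjunction :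
    CohTop.push (CohCx.inclCompl U) ⊣ LocCohZ.sectSuppF U ⋙ CohTop.pull (CohCx.inclCompl U) :=
  haveI := push_full (isClosedEmbedding_inclCompl U).isInducing
  haveI := push_faithful (isClosedEmbedding_inclCompl U).isInducing
  Coreflect.adjunction (adjI (CohCx.inclCompl U)) (LocCohZ.sectSuppF U) (ιΓ U)
    (sectSupp_mem_essImage U)
    (fun {D _} φ => kernel.lift _ φ (hom_push_push_eq_zero U D _ _))
    (fun {_ _} _ => kernel.lift_ι _ _ _)

end Groth.Agent.Lib.Helper43.SuppAdj
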