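import Mathlib

/-!
Tensor products of locally constant sheaves of modules on a site (formal part).
-/

universe u
open CategoryTheory CategoryTheory.Limits Opposite MonoidalCategory

namespace Groth.Agent.Lib.Helper43.TensLC

variable {Λ : Type (u + 1)} [CommRing Λ]

section General
variable {E : Type (u + 1)} [Category.{u} E] (J : GrothendieckTopology E)
  [HasSheafify J (ModuleCat.{u + 1} Λ)]

/-- sheafified pointwise tensor of two sheaves. -/
noncomputable def tens (F G : Sheaf J (ModuleCat.{u + 1} Λ)) : Sheaf J (ModuleCat.{u + 1} Λ) :=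
  (presheafToSheaf J _).obj (F.obj ⊗ G.obj)

/-- `tens` respects isomorphisms. -/
noncomputable def tensIso {F F' G G' : Sheaf J (ModuleCat.{u + 1} Λ)} (a : F ≅ F') (b : G ≅ G') :
    tens J F G ≅ tens J F' G' :=
  (presheafToSheaf J _).mapIso
    (((sheafToPresheaf J _).mapIso a) ⊗ᵢ ((sheafToPresheaf J _).mapIso b))

lemma W_tensorHom {P P' Q Q' : Eᵒᵖ ⥤ ModuleCat.{u + 1} Λ} {f : P ⟶ P'} {g : Q ⟶ Q'}
    (hf : J.W f) (hg : J.W g) : J.W (f ⊗ₘ g) := by
  rw [MonoidalCategory.tensorHom_def]
  exact J.W.comp_mem _ _ (hf.whiskerRight _) (hg.whiskerLeft _)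

/-- sheafification is monoidal (objectwise). -/
noncomputable def sheafifyTensIso (P Q : Eᵒᵖ ⥤ ModuleCat.{u + 1} Λ) :
    (presheafToSheaf J _).obj (P ⊗ Q) ≅
      tens J ((presheafToSheaf J _).obj P) ((presheafToSheaf J _).obj Q) := by
  have hW : J.W (toSheafify J P ⊗ₘ toSheafify J Q) :=
    W_tensorHom J (J.W_toSheafify P) (J.W_toSheafify Q)
  have : IsIso ((presheafToSheaf J (ModuleCat.{u + 1} Λ)).map (toSheafify J P ⊗ₘ toSheafify J Q)) :=
    (J.W_iff _).mp hW
  exact @asIso _ _ _ _ _ this

/-- tensor of constant presheaves. -/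
noncomputable def constTensIso (M N : ModuleCat.{u + 1} Λ) :
    ((Functor.const Eᵒᵖ).obj M ⊗ (Functor.const Eᵒᵖ).obj N) ≅ (Functor.const Eᵒᵖ).obj (M ⊗ N) :=
  NatIso.ofComponents (fun _ => Iso.refl _) (by
    intro X Y f
    simp only [Functor.const_obj_obj, Functor.const_obj_map, Iso.refl_hom, Category.comp_id,
      Category.id_comp]
    change (𝟙 M ⊗ₘ 𝟙 N) = 𝟙 _
    simp)

/-- tensor of constant sheaves is constant. -/
noncomputable def constSheafTensIso (M N : ModuleCat.{u + 1} Λ) :
    tens J ((constantSheaf J _).obj M) ((constantSheaf J _).obj N) ≅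
      (constantSheaf J _).obj (M ⊗ N) :=
  (sheafifyTensIso J _ _).symm ≪≫ (presheafToSheaf J _).mapIso (constTensIso M N)

section Over
variable [∀ W : E, HasSheafify (J.over W) (ModuleCat.{u + 1} Λ)]

/-- restriction to an over-site commutes with `tens`. -/
noncomputable def overTensIso (F G : Sheaf J (ModuleCat.{u + 1} Λ)) (W : E) :
    (tens J F G).over W ≅ tens (J.over W) (F.over W) (G.over W) :=
  (((Over.forget W).pushforwardContinuousSheafificationCompatibility (ModuleCat.{u + 1} Λ)
      (J.over W) J).app (F.obj ⊗ G.obj)).symm ≪≫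
    (presheafToSheaf (J.over W) _).mapIso
      (NatIso.ofComponents (fun _ => Iso.refl _) (by
        intro X Y f
        simp only [Iso.refl_hom, Category.comp_id, Category.id_comp]
        rfl))

/-- restriction of a constant sheaf along `Over.map g` is constant. -/
noncomputable def overMapConstIso {W U : E} (g : W ⟶ U) (M : ModuleCat.{u + 1} Λ) :
    ((Over.map g).sheafPushforwardContinuous (ModuleCat.{u + 1} Λ) (J.over W) (J.over U)).obj
      ((constantSheaf (J.over U) _).obj M) ≅ (constantSheaf (J.over W) _).obj M :=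
  (((Over.map g).pushforwardContinuousSheafificationCompatibility (ModuleCat.{u + 1} Λ)
      (J.over W) (J.over U)).app ((Functor.const _).obj M)).symm ≪≫
    (presheafToSheaf (J.over W) _).mapIso
      (NatIso.ofComponents (fun _ => Iso.refl _) (by
        intro X Y f
        simp only [Iso.refl_hom, Category.comp_id, Category.id_comp]
        rfl))

/-- if `F` is constant over `U` it is constant over any `W ⟶ U`. -/
noncomputable def overConstOfMap (F : Sheaf J (ModuleCat.{u + 1} Λ)) {W U : E} (g : W ⟶ U)
    (M : ModuleCat.{u + 1} Λ) (a : F.over U ≅ (constantSheaf (J.over U) _).obj M) :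
    F.over W ≅ (constantSheaf (J.over W) _).obj M :=
  (Sheaf.pushforwardOverMapIso F g).symm ≪≫
    ((Over.map g).sheafPushforwardContinuous (ModuleCat.{u + 1} Λ) (J.over W) (J.over U)).mapIso a ≪≫
    overMapConstIso J g M

/-- main formal statement: if `F`, `G` are constant over `U`, `V` resp. and `W` maps to both,
then `tens F G` is constant over `W` with value the tensor product. -/
noncomputable def tensConstIso (F G : Sheaf J (ModuleCat.{u + 1} Λ)) {W U V : E} (g : W ⟶ U) (h : W ⟶ V)
    (M N : ModuleCat.{u + 1} Λ) (a : F.over U ≅ (constantSheaf (J.over U) _).obj M)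
    (b : G.over V ≅ (constantSheaf (J.over V) _).obj N) :
    (tens J F G).over W ≅ (constantSheaf (J.over W) _).obj (M ⊗ N) :=
  overTensIso J F G W ≪≫
    tensIso (J.over W) (overConstOfMap J F g M a) (overConstOfMap J G h N b) ≪≫
    constSheafTensIso (J.over W) M N

end Over

end General

end Groth.Agent.Lib.Helper43.TensLC
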