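import Groth.Statements.S6643
import Groth.Agent.Lib.Helper43.TensLC

universe u
open CategoryTheory CategoryTheory.Limits AlgebraicGeometry Opposite MonoidalCategory

namespace Groth.Agent.Lib.Helper43.TensLCEt

open Groth.Agent.Lib.Helper43.TensLC

variable (Λ : Type (u + 1)) [CommRing Λ] {X : Scheme.{u}}

lemma tensorBi_eq (F G : EtModW.Mod Λ X) :
    ((EtModD.tensorBi Λ X).obj F).obj G = tens X.smallEtaleTopology F G := rfl

/-- fibre product of two étale `X`-schemes as an object of the small étale site. -/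
noncomputable def fp (U V : X.Etale) : X.Etale :=
  haveI : Etale U.hom := U.prop
  haveI : Etale V.hom := V.prop
  Scheme.Etale.mk (pullback.fst U.hom V.hom ≫ U.hom)

noncomputable def fpFst (U V : X.Etale) : fp U V ⟶ U :=
  MorphismProperty.Over.homMk (pullback.fst U.hom V.hom) (by rfl) trivial

noncomputable def fpSnd (U V : X.Etale) : fp U V ⟶ V :=
  MorphismProperty.Over.homMk (pullback.snd U.hom V.hom) (by exact pullback.condition.symm) trivial

theorem main (F G : EtModW.Mod Λ X)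
    (hF : EtModW.IsFTLocConst Λ F) (hG : EtModW.IsFTLocConst Λ G) :
    EtModW.IsFTLocConst Λ (((EtModD.tensorBi Λ X).obj F).obj G) := by
  obtain ⟨ι, U, hU, hFi⟩ := hF
  obtain ⟨κ, V, hV, hGj⟩ := hG
  refine ⟨ι × κ, fun p => fp (U p.1) (V p.2), ?_, ?_⟩
  · intro x
    obtain ⟨i, y, hy⟩ := hU x
    obtain ⟨j, z, hz⟩ := hV x
    obtain ⟨w, hw1, hw2⟩ := Scheme.Pullback.exists_preimage_pullback y z (hy.trans hz.symm)
    refine ⟨(i, j), w, ?_⟩
    change (pullback.fst (U i).hom (V j).hom ≫ (U i).hom).base w = x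
    rw [Scheme.Hom.comp_base, TopCat.comp_app, hw1, hy]
  · rintro ⟨i, j⟩
    obtain ⟨M, _, _, _, ⟨a⟩⟩ := hFi i
    obtain ⟨N, _, _, _, ⟨b⟩⟩ := hGj j
    refine ⟨TensorProduct Λ M N, inferInstance, inferInstance, inferInstance, ⟨?_⟩⟩
    exact tensConstIso X.smallEtaleTopology F G (fpFst (U i) (V j)) (fpSnd (U i) (V j))
      (ModuleCat.of Λ M) (ModuleCat.of Λ N) a b

end Groth.Agent.Lib.Helper43.TensLCEt
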