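import Groth.Prelude.Def_SGA4a
import Mathlib.CategoryTheory.Sites.Coverage
import Mathlib.CategoryTheory.Functor.Currying
import Mathlib.CategoryTheory.ObjectProperty.Equivalence
import Mathlib.CategoryTheory.Products.Basic

/-! Functor categories into a topos are topoi: the product site `Dᵒᵖ × C`. -/

set_option autoImplicit false

universe v u

open CategoryTheory Opposite

namespace Groth.Agent.Lib.Helper43.ToposFun

variable {C : Type u} [SmallCategory C] (J : GrothendieckTopology C) (D : Type u) [SmallCategory D]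

/-- index type of a sieve -/
abbrev Idx {c : C} (S : Sieve c) : Type u := Σ c' : C, {f : c' ⟶ c // S f}

/-- the family `(𝟙 d, f)`, `f ∈ S`, as a presieve on `(d, c)` -/
def slicePre (d : Dᵒᵖ) {c : C} (S : Sieve c) : Presieve ((d, c) : Dᵒᵖ × C) :=
  Presieve.ofArrows (fun i : Idx S => ((d, i.1) : Dᵒᵖ × C))
    (fun i => ((𝟙 d, i.2.1) : ((d, i.1) : Dᵒᵖ × C) ⟶ (d, c)))

/-- the coverage on the product site -/
def prodCoverage : Coverage (Dᵒᵖ × C) where
  coverings X := {R | ∃ S ∈ J X.2, R = slicePre D X.1 S}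
  pullback := by
    rintro ⟨d, c⟩ ⟨d', c'⟩ ⟨g, h⟩ R ⟨S, hS, rfl⟩
    refine ⟨slicePre D d' (S.pullback h), ⟨S.pullback h, J.pullback_stable h hS, rfl⟩, ?_⟩
    rintro Z k ⟨i⟩
    obtain ⟨c'', f', hf'⟩ := i
    refine ⟨(d, c''), (g, 𝟙 c''), (𝟙 d, f' ≫ h), ?_, ?_⟩
    · exact Presieve.ofArrows.mk (⟨c'', f' ≫ h, hf'⟩ : Idx S)
    · apply Prod.ext
      · simp
      · simp

/-- the topology on the product site -/
def prodTopology : GrothendieckTopology (Dᵒᵖ × C) := (prodCoverage J D).toGrothendieck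

variable (C)

/-- `(Dᵒᵖ × C)ᵒᵖ ⥤ D × Cᵒᵖ` -/
def pre : (Dᵒᵖ × C)ᵒᵖ ⥤ D × Cᵒᵖ where
  obj X := (X.unop.1.unop, op X.unop.2)
  map φ := (φ.unop.1.unop, φ.unop.2.op)

/-- `D × Cᵒᵖ ⥤ (Dᵒᵖ × C)ᵒᵖ` -/
def preInv : D × Cᵒᵖ ⥤ (Dᵒᵖ × C)ᵒᵖ where
  obj Y := op (op Y.1, Y.2.unop)
  map ψ := Quiver.Hom.op ((ψ.1.op, ψ.2.unop) : ((op _, _) : Dᵒᵖ × C) ⟶ (op _, _))

/-- the equivalence `D × Cᵒᵖ ≌ (Dᵒᵖ × C)ᵒᵖ` -/
def preEquiv : D × Cᵒᵖ ≌ (Dᵒᵖ × C)ᵒᵖ where
  functor := preInv C D
  inverse := pre C D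
  unitIso := NatIso.ofComponents (fun _ => Iso.refl _) (by
    intro X Y f
    erw [Category.comp_id, Category.id_comp]
    rfl)
  counitIso := NatIso.ofComponents (fun _ => Iso.refl _) (by
    intro X Y f
    erw [Category.comp_id, Category.id_comp]
    rfl)
  functor_unitIso_comp := by
    intro X
    erw [Category.comp_id]
    rfl

/-- presheaves on the product site as functors from `D` to presheaves on `C` -/
def presheafEquiv : (D ⥤ Cᵒᵖ ⥤ Type u) ≌ ((Dᵒᵖ × C)ᵒᵖ ⥤ Type u) :=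
  (Functor.currying).trans (preEquiv C D).congrLeft

variable {C D}

lemma presheafEquiv_obj (G : D ⥤ Cᵒᵖ ⥤ Type u) :
    (presheafEquiv C D).functor.obj G = pre C D ⋙ Functor.uncurry.obj G := rfl

lemma pre_uncurry_map (G : D ⥤ Cᵒᵖ ⥤ Type u) {X Y : (Dᵒᵖ × C)ᵒᵖ} (φ : X ⟶ Y)
    (x : (G.obj X.unop.1.unop).obj (op X.unop.2)) :
    (pre C D ⋙ Functor.uncurry.obj G).map φ x =
      (G.obj Y.unop.1.unop).map φ.unop.2.op ((G.map φ.unop.1.unop).app (op X.unop.2) x) := rfl

lemma map_slice (G : D ⥤ Cᵒᵖ ⥤ Type u) (d : Dᵒᵖ) {c c' : C} (f : c' ⟶ c)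
    (t : (G.obj d.unop).obj (op c)) :
    (pre C D ⋙ Functor.uncurry.obj G).map
      (Quiver.Hom.op ((𝟙 d, f) : ((d, c') : Dᵒᵖ × C) ⟶ (d, c))) t = (G.obj d.unop).map f.op t := by
  rw [pre_uncurry_map]
  have : (G.map (𝟙 d.unop)).app (op c) t = t := by
    rw [G.map_id]; rfl
  exact congrArg _ this

lemma map_pair (G : D ⥤ Cᵒᵖ ⥤ Type u) {d d' : Dᵒᵖ} {c c' : C} (a : d' ⟶ d) (b : c' ⟶ c)
    (t : (G.obj d.unop).obj (op c)) :
    (pre C D ⋙ Functor.uncurry.obj G).map
      (Quiver.Hom.op ((a, b) : ((d', c') : Dᵒᵖ × C) ⟶ (d, c))) t =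
      (G.obj d'.unop).map b.op ((G.map a.unop).app (op c) t) := rfl

lemma map_pair' (G : D ⥤ Cᵒᵖ ⥤ Type u) {d d' : Dᵒᵖ} {c c' : C} (a : d' ⟶ d) (b : c' ⟶ c)
    (t : (G.obj d.unop).obj (op c)) :
    (pre C D ⋙ Functor.uncurry.obj G).map
      (Quiver.Hom.op ((a, b) : ((d', c') : Dᵒᵖ × C) ⟶ (d, c))) t =
      (G.map a.unop).app (op c') ((G.obj d.unop).map b.op t) := by
  rw [map_pair]
  exact (NatTrans.naturality_apply (G.map a.unop) b.op t).symm

theorem isSheaf_iff (G : D ⥤ Cᵒᵖ ⥤ Type u) :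
    Presheaf.IsSheaf (prodTopology J D) (pre C D ⋙ Functor.uncurry.obj G) ↔
      ∀ d, Presheaf.IsSheaf J (G.obj d) := by
  rw [isSheaf_iff_isSheaf_of_type, prodTopology, Presieve.isSheaf_coverage]
  simp_rw [isSheaf_iff_isSheaf_of_type]
  constructor
  · intro H d c S hS
    have H1 := H (X := ((op d, c) : Dᵒᵖ × C)) (slicePre D (op d) S) ⟨S, hS, rfl⟩
    rw [slicePre, Presieve.isSheafFor_arrows_iff] at H1
    intro y hy
    have hx : Presieve.Arrows.Compatible (pre C D ⋙ Functor.uncurry.obj G)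
        (fun i : Idx S => ((𝟙 (op d), i.2.1) : (((op d, i.1) : Dᵒᵖ × C)) ⟶ (op d, c)))
        (fun i => y i.2.1 i.2.2) := by
      rintro ⟨ci, fi, hfi⟩ ⟨cj, fj, hfj⟩ ⟨dz, cz⟩ ⟨a, b⟩ ⟨a', b'⟩ hcomm
      have h1 : a = a' := by
        have := congrArg Prod.fst hcomm
        simpa using this
      have h2 : b ≫ fi = b' ≫ fj := by
        have := congrArg Prod.snd hcomm
        simpa using this
      subst h1
      change (pre C D ⋙ Functor.uncurry.obj G).map (Quiver.Hom.op ((a, b) :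
          ((dz, cz) : Dᵒᵖ × C) ⟶ (op d, ci))) (y fi hfi) =
        (pre C D ⋙ Functor.uncurry.obj G).map (Quiver.Hom.op ((a, b') :
          ((dz, cz) : Dᵒᵖ × C) ⟶ (op d, cj))) (y fj hfj)
      rw [map_pair', map_pair']
      congr 1
      exact hy b b' hfi hfj h2
    obtain ⟨t, ht, huniq⟩ := H1 _ hx
    refine ⟨t, ?_, ?_⟩
    · intro c' f hf
      have := ht ⟨c', f, hf⟩
      rw [map_slice] at this
      exact this
    · intro t' ht'
      apply huniq
      rintro ⟨c', f, hf⟩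
      rw [map_slice]
      exact ht' f hf
  · rintro H ⟨d, c⟩ R ⟨S, hS, rfl⟩
    rw [slicePre, Presieve.isSheafFor_arrows_iff]
    intro x hx
    have H1 := H d.unop S hS
    let y : Presieve.FamilyOfElements (G.obj d.unop) S.arrows := fun c' f hf => x ⟨c', f, hf⟩
    have hy : y.Compatible := by
      intro c₁ c₂ cz g₁ g₂ f₁ f₂ h₁ h₂ hcomm
      have := hx ⟨c₁, f₁, h₁⟩ ⟨c₂, f₂, h₂⟩ ((d, cz) : Dᵒᵖ × C) (𝟙 d, g₁) (𝟙 d, g₂) (by
        apply Prod.ext
        · rfl
        · exact hcomm)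
      erw [map_slice, map_slice] at this
      exact this
    obtain ⟨t, ht, huniq⟩ := H1 y hy
    refine ⟨t, ?_, ?_⟩
    · rintro ⟨c', f, hf⟩
      change (pre C D ⋙ Functor.uncurry.obj G).map (Quiver.Hom.op ((𝟙 d, f) :
          ((d, c') : Dᵒᵖ × C) ⟶ (d, c))) t = _
      rw [map_slice]
      exact ht f hf
    · intro t' ht'
      apply huniq
      intro c' f hf
      have := ht' ⟨c', f, hf⟩
      change (pre C D ⋙ Functor.uncurry.obj G).map (Quiver.Hom.op ((𝟙 d, f) :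
          ((d, c') : Dᵒᵖ × C) ⟶ (d, c))) t' = _ at this
      rw [map_slice] at this
      exact this

/-- functors to presheaves which are sectionwise sheaves -/
def sectionwiseSheaf : ObjectProperty (D ⥤ Cᵒᵖ ⥤ Type u) :=
  fun G => ∀ d, Presheaf.IsSheaf J (G.obj d)

variable (D) in
/-- the comparison functor -/
def toSectionwise : (D ⥤ Sheaf J (Type u)) ⥤ (sectionwiseSheaf (D := D) J).FullSubcategory :=
  (sectionwiseSheaf J).lift ((Functor.whiskeringRight D _ _).obj (sheafToPresheaf J (Type u)))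
    (fun H d => (H.obj d).property)

instance : (toSectionwise J D).Faithful := by
  unfold toSectionwise; infer_instance

instance : (toSectionwise J D).Full := by
  unfold toSectionwise; infer_instance

instance : (toSectionwise J D).EssSurj where
  mem_essImage := by
    rintro ⟨G, hG⟩
    exact ⟨ObjectProperty.lift (Presheaf.IsSheaf J (A := Type u)) G hG, ⟨ObjectProperty.isoMk _ (Iso.refl _)⟩⟩

instance : (toSectionwise J D).IsEquivalence where

instance isClosedUnderIso_isSheaf (J' : GrothendieckTopology (Dᵒᵖ × C)) :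
    ObjectProperty.IsClosedUnderIsomorphisms (Presheaf.IsSheaf J' (A := Type u)) where
  of_iso e h := (Presheaf.isSheaf_of_iso_iff e).1 h

/-- the main equivalence -/
noncomputable def functorSheafEquiv :
    (D ⥤ Sheaf J (Type u)) ≌ Sheaf (prodTopology J D) (Type u) :=
  (toSectionwise J D).asEquivalence.trans
    ((presheafEquiv C D).congrFullSubcategory (P := sectionwiseSheaf J)
      (Q := Presheaf.IsSheaf (prodTopology J D) (A := Type u)) (by
        funext G
        apply propext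
        exact isSheaf_iff J G))

end Groth.Agent.Lib.Helper43.ToposFun

namespace Groth.Agent.Lib.Helper43.ToposFun

theorem isTopos_functor {E : Type v} [Category.{u} E] (hE : SGA4.IsTopos E)
    (D : Type u) [SmallCategory D] : SGA4.IsTopos (D ⥤ E) := by
  obtain ⟨C, _, J, ⟨e⟩⟩ := hE
  exact ⟨Dᵒᵖ × C, inferInstance, prodTopology J D,
    ⟨(e.congrRight (E := D)).trans (functorSheafEquiv J)⟩⟩

end Groth.Agent.Lib.Helper43.ToposFun
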