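import Mathlib

/-!
# Total complexes of bounded double complexes: generalities (helper43, for S8566)
-/

set_option autoImplicit false
open CategoryTheory CategoryTheory.Limits

namespace Groth.Agent.Lib.Helper43.TotQis

universe v u

section general

variable {C : Type u} [Category.{v} C]

lemma hasCoproduct_of_finite_support [HasZeroMorphisms C] [HasFiniteCoproducts C]
    {ι : Type*} (f : ι → C) (s : Finset ι) (h : ∀ i, i ∉ s → IsZero (f i)) :
    HasCoproduct f := by
  classical
  let g : s → C := fun i => f i.1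
  let c : Cofan f := Cofan.mk (∐ g) (fun i => if hi : i ∈ s then Sigma.ι g ⟨i, hi⟩ else 0)
  have hc : IsColimit c := mkCofanColimit c (fun t => Sigma.desc (fun i : s => t.inj i.1))
    (fun t i => by
      by_cases hi : i ∈ s
      · simp only [c, hi, Cofan.mk_pt, Cofan.inj, Cofan.mk_ι_app, dite_true]
        exact Sigma.ι_desc (f := g) _ ⟨i, hi⟩
      · exact (h i hi).eq_of_src _ _)
    (fun t m hm => by
      change (∐ g) ⟶ t.pt at m
      apply Sigma.hom_ext (f := g)
      rintro ⟨i, hi⟩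
      rw [Sigma.ι_desc, ← hm]
      simp [c, hi, Cofan.inj])
  exact ⟨⟨⟨c, hc⟩⟩⟩

lemma isIso_sigma_ι_of_isZero [HasZeroMorphisms C] {ι : Type*} (f : ι → C) [HasCoproduct f]
    (i₀ : ι) (h : ∀ i, i ≠ i₀ → IsZero (f i)) : IsIso (Sigma.ι f i₀) := by
  classical
  refine ⟨Sigma.desc (fun i => if hi : i = i₀ then eqToHom (by rw [hi]) else 0), ?_, ?_⟩
  · simp
  · apply Sigma.hom_ext
    intro i
    by_cases hi : i = i₀
    · subst hi; simp
    · exact (h i hi).eq_of_src _ _

end general

section five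

open HomologicalComplex HomologySequence ComposableArrows Abelian

variable {C ι : Type*} [Category C] [Abelian C] {c : ComplexShape ι}
  {S₁ S₂ : ShortComplex (HomologicalComplex C c)} (φ : S₁ ⟶ S₂)
  (hS₁ : S₁.ShortExact) (hS₂ : S₂.ShortExact)

include hS₁ hS₂

lemma mono_homologyMap_τ₂ (i j : ι) (hij : c.Rel i j)
    (h₁ : Epi (homologyMap φ.τ₃ i)) (h₂ : Mono (homologyMap φ.τ₁ j))
    (h₃ : Mono (homologyMap φ.τ₃ j)) : Mono (homologyMap φ.τ₂ j) := by
  apply mono_of_epi_of_mono_of_mono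
      ((δ₀Functor ⋙ δ₀Functor).map (mapComposableArrows₅ φ hS₁ hS₂ i j hij))
  · exact (composableArrows₅_exact hS₁ i j hij).δ₀.δ₀
  · exact (composableArrows₅_exact hS₂ i j hij).δ₀.δ₀
  · exact h₁
  · exact h₂
  · exact h₃

lemma epi_homologyMap_τ₂ (i j : ι) (hij : c.Rel i j)
    (h₁ : Epi (homologyMap φ.τ₁ i)) (h₂ : Epi (homologyMap φ.τ₃ i))
    (h₃ : Mono (homologyMap φ.τ₁ j)) : Epi (homologyMap φ.τ₂ i) := by
  apply epi_of_epi_of_epi_of_mono
      ((δlastFunctor ⋙ δlastFunctor).map (mapComposableArrows₅ φ hS₁ hS₂ i j hij))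
  · exact (composableArrows₅_exact hS₁ i j hij).δlast.δlast
  · exact (composableArrows₅_exact hS₂ i j hij).δlast.δlast
  · exact h₁
  · exact h₂
  · exact h₃

end five

section bdd

open ComplexShape HomologicalComplex₂

variable {A : Type u} [Category.{v} A] [Abelian A]

/-- uniform lower bounds on both degrees. -/
def IsBdd (a b : ℤ) (K : HomologicalComplex₂ A (up ℤ) (up ℤ)) : Prop :=
  ∀ i j : ℤ, i < a ∨ j < b → IsZero ((K.X i).X j)

lemma hasTotal_of_isBdd {a b : ℤ} {K : HomologicalComplex₂ A (up ℤ) (up ℤ)}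
    (hK : IsBdd a b K) : K.HasTotal (up ℤ) := by
  intro n
  classical
  let s : Finset (↥(ComplexShape.π (up ℤ) (up ℤ) (up ℤ) ⁻¹' {n})) :=
    (Finset.Icc a (n - b)).attach.image (fun i => ⟨(i.1, n - i.1), by simp⟩)
  apply hasCoproduct_of_finite_support _ s
  rintro ⟨⟨i, j⟩, hx⟩ hnot
  have hij : i + j = n := hx
  by_cases h : i < a ∨ j < b
  · exact hK i j h
  · exfalso
    apply hnot
    simp only [s, Finset.mem_image, Finset.mem_attach, true_and, Subtype.exists, Finset.mem_Icc]
    refine ⟨i, ⟨by omega, by omega⟩, ?_⟩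
    apply Subtype.ext
    simp only [Prod.mk.injEq, true_and]
    omega

end bdd

end Groth.Agent.Lib.Helper43.TotQis
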