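import Groth.Agent.Lib.Helper43.TotQis1

/-!
# Total complexes: short exact sequences and single rows (helper43, for S8566)
-/

set_option autoImplicit false
open CategoryTheory CategoryTheory.Limits

namespace Groth.Agent.Lib.Helper43.TotQis

universe v u

open ComplexShape HomologicalComplex₂

variable {A : Type u} [Category.{v} A] [Abelian A]

section ses

lemma total_map_zero (K L : HomologicalComplex₂ A (up ℤ) (up ℤ)) [K.HasTotal (up ℤ)]
    [L.HasTotal (up ℤ)] : total.map (0 : K ⟶ L) (up ℤ) = 0 := by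
  ext n i j h
  simp

variable (S : ShortComplex (HomologicalComplex₂ A (up ℤ) (up ℤ)))
  [S.X₁.HasTotal (up ℤ)] [S.X₂.HasTotal (up ℤ)] [S.X₃.HasTotal (up ℤ)]

/-- the short complex of total complexes. -/
noncomputable def totalSC : ShortComplex (HomologicalComplex A (up ℤ)) :=
  ShortComplex.mk (total.map S.f (up ℤ)) (total.map S.g (up ℤ))
    (by rw [← total.map_comp, S.zero, total_map_zero])

lemma totalSC_shortExact (hS : S.ShortExact)
    (hsplit : ∀ i j, IsSplitEpi ((S.g.f i).f j)) : (totalSC S).ShortExact := by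
  have hcomp : ∀ i j, ∃ (r : (S.X₂.X i).X j ⟶ (S.X₁.X i).X j)
      (s : (S.X₃.X i).X j ⟶ (S.X₂.X i).X j),
      (S.f.f i).f j ≫ r = 𝟙 _ ∧ s ≫ (S.g.f i).f j = 𝟙 _ ∧
        r ≫ (S.f.f i).f j + (S.g.f i).f j ≫ s = 𝟙 _ := by
    intro i j
    have h1 : (S.map (HomologicalComplex.eval _ (up ℤ) i)).ShortExact :=
      hS.map_of_exact _
    have h2 : ((S.map (HomologicalComplex.eval _ (up ℤ) i)).map
        (HomologicalComplex.eval A (up ℤ) j)).ShortExact := h1.map_of_exact _
    obtain ⟨sp⟩ := (hsplit i j).exists_splitEpi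
    have spl := ShortComplex.Splitting.ofExactOfSection _ h2.exact sp.section_ sp.id h2.mono_f
    exact ⟨spl.r, spl.s, spl.f_r, spl.s_g, spl.id⟩
  choose r s h1 h2 h3 using hcomp
  apply HomologicalComplex.shortExact_of_degreewise_shortExact
  intro n
  have hfr : (total.map S.f (up ℤ)).f n ≫
      S.X₂.totalDesc (fun i j h => r i j ≫ S.X₁.ιTotal (up ℤ) i j n h) = 𝟙 _ := by
    apply total.hom_ext
    intro i j h
    rw [ιTotal_map_assoc, ι_totalDesc, reassoc_of% h1 i j, Category.comp_id]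
  have hsg : S.X₃.totalDesc (fun i j h => s i j ≫ S.X₂.ιTotal (up ℤ) i j n h) ≫
      (total.map S.g (up ℤ)).f n = 𝟙 _ := by
    apply total.hom_ext
    intro i j h
    rw [ι_totalDesc_assoc, Category.assoc, ιTotal_map, reassoc_of% h2 i j, Category.comp_id]
  have hid : S.X₂.totalDesc (fun i j h => r i j ≫ S.X₁.ιTotal (up ℤ) i j n h) ≫
      (total.map S.f (up ℤ)).f n + (total.map S.g (up ℤ)).f n ≫
      S.X₃.totalDesc (fun i j h => s i j ≫ S.X₂.ιTotal (up ℤ) i j n h) = 𝟙 _ := by
    apply total.hom_ext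
    intro i j h
    rw [Preadditive.comp_add, ι_totalDesc_assoc, Category.assoc, ιTotal_map,
      ιTotal_map_assoc, ι_totalDesc, ← Category.assoc, ← Category.assoc,
      ← Preadditive.add_comp, h3 i j, Category.id_comp, Category.comp_id]
  exact ShortComplex.Splitting.shortExact
    { r := S.X₂.totalDesc (fun i j h => r i j ≫ S.X₁.ιTotal (up ℤ) i j n h)
      s := S.X₃.totalDesc (fun i j h => s i j ≫ S.X₂.ιTotal (up ℤ) i j n h)
      f_r := hfr
      s_g := hsg
      id := hid }

end ses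

section singleRow

/-- `M` is concentrated in outer degree `a`. -/
def IsRow (M : HomologicalComplex₂ A (up ℤ) (up ℤ)) (a : ℤ) : Prop :=
  ∀ i j : ℤ, i ≠ a → IsZero ((M.X i).X j)

variable {M N : HomologicalComplex₂ A (up ℤ) (up ℤ)} {a : ℤ}

lemma isIso_ιTotal (hM : IsRow M a) [M.HasTotal (up ℤ)] (j n : ℤ) (h : a + j = n) :
    IsIso (M.ιTotal (up ℤ) a j n h) := by
  unfold ιTotal GradedObject.ιMapObj
  apply isIso_sigma_ι_of_isZero
  rintro ⟨⟨i, j'⟩, hx⟩ hne
  have hij : i + j' = n := hx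
  by_cases hi : i = a
  · exfalso
    apply hne
    subst hi
    apply Subtype.ext
    simp only [Prod.mk.injEq, true_and]
    omega
  · exact hM i j' hi

lemma ιTotal_d (hM : IsRow M a) [M.HasTotal (up ℤ)] (j j' n n' : ℤ) (hj : j + 1 = j')
    (h : a + j = n) (h' : a + j' = n') :
    M.ιTotal (up ℤ) a j n h ≫ (M.total (up ℤ)).d n n' =
      a.negOnePow • ((M.X a).d j j' ≫ M.ιTotal (up ℤ) a j' n' h') := by
  rw [total_d, Preadditive.comp_add, ι_D₁, ι_D₂]
  rw [M.d₁_eq (up ℤ) (i₁ := a) (i₁' := a + 1) rfl j n' (by change a + 1 + j = n'; omega)]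
  rw [M.d₂_eq (up ℤ) a (i₂ := j) (i₂' := j') hj n' h']
  have : (M.d a (a + 1)).f j = 0 := (hM (a + 1) j (by omega)).eq_of_tgt _ _
  rw [this, zero_comp, smul_zero, zero_add]
  rfl

/-- the total complex of a double complex concentrated in one row is a shift of that row. -/
noncomputable def rowIso (hM : IsRow M a) [M.HasTotal (up ℤ)] :
    (CategoryTheory.shiftFunctor (CochainComplex A ℤ) (-a)).obj (M.X a) ≅ M.total (up ℤ) :=
  HomologicalComplex.Hom.isoOfComponents
    (fun n => @asIso _ _ _ _ (M.ιTotal (up ℤ) a (n + -a) n (by change a + (n + -a) = n; omega))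
      (isIso_ιTotal hM _ _ _))
    (by
      intro n n' hnn'
      have hnn'' : n + 1 = n' := hnn'
      dsimp
      rw [ιTotal_d hM (n + -a) (n' + -a) n n' (by omega) (by omega) (by omega),
        Int.negOnePow_neg, Linear.units_smul_comp])

@[simp]
lemma rowIso_hom_f (hM : IsRow M a) [M.HasTotal (up ℤ)] (n : ℤ) :
    (rowIso hM).hom.f n = M.ιTotal (up ℤ) a (n + -a) n (by change a + (n + -a) = n; omega) := rfl

lemma quasiIso_total_map_of_isRow (hM : IsRow M a) (hN : IsRow N a) [M.HasTotal (up ℤ)]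
    [N.HasTotal (up ℤ)] (ψ : M ⟶ N) [QuasiIso (ψ.f a)] :
    QuasiIso (total.map ψ (up ℤ)) := by
  have e : Arrow.mk ((CategoryTheory.shiftFunctor (CochainComplex A ℤ) (-a)).map (ψ.f a)) ≅
      Arrow.mk (total.map ψ (up ℤ)) :=
    Arrow.isoMk (rowIso hM) (rowIso hN) (by
      ext n
      dsimp
      rw [ιTotal_map])
  exact quasiIso_of_arrow_mk_iso _ _ e

end singleRow

end Groth.Agent.Lib.Helper43.TotQis
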