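import Groth.Agent.Lib.Helper43.TotQis2

/-!
# Total complexes: peeling off the lowest row, and the induction (helper43, for S8566)
-/

set_option autoImplicit false
open CategoryTheory CategoryTheory.Limits

namespace Groth.Agent.Lib.Helper43.TotQis

universe v u

open ComplexShape HomologicalComplex₂

variable {A : Type u} [Category.{v} A] [Abelian A]

section peel

variable {K L : HomologicalComplex₂ A (up ℤ) (up ℤ)} {a b : ℤ}

lemma d_eq_zero_of_isBdd (hK : IsBdd a b K) (k : ℤ) (hk : k < a) (i : ℤ) : K.d k i = 0 := by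
  ext j
  exact (hK k j (Or.inl hk)).eq_of_src _ _

/-- the lowest row as a double complex. -/
noncomputable abbrev rowC (K : HomologicalComplex₂ A (up ℤ) (up ℤ)) (a : ℤ) :
    HomologicalComplex₂ A (up ℤ) (up ℤ) :=
  (HomologicalComplex.single (HomologicalComplex A (up ℤ)) (up ℤ) a).obj (K.X a)

/-- projection to the lowest row. -/
noncomputable def rowπ (hK : IsBdd a b K) : K ⟶ rowC K a :=
  HomologicalComplex.mkHomToSingle (𝟙 _) (by
    intro k hk
    have hk' : k + 1 = a := hk
    rw [d_eq_zero_of_isBdd hK k (by omega), zero_comp])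

lemma rowπ_f_self (hK : IsBdd a b K) :
    (rowπ hK).f a = (HomologicalComplex.singleObjXSelf (up ℤ) a (K.X a)).inv := by
  simp [rowπ]

lemma isRow_rowC (K : HomologicalComplex₂ A (up ℤ) (up ℤ)) (a : ℤ) : IsRow (rowC K a) a := by
  intro i j hi
  exact Functor.map_isZero (HomologicalComplex.eval A (up ℤ) j)
    (HomologicalComplex.isZero_single_obj_X (up ℤ) a (K.X a) i hi)

lemma isBdd_rowC (hK : IsBdd a b K) : IsBdd a b (rowC K a) := by
  intro i j h
  by_cases hi : i = a
  · subst hi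
    have e := (HomologicalComplex.eval A (up ℤ) j).mapIso
      (HomologicalComplex.singleObjXSelf (up ℤ) i (K.X i))
    exact (hK i j h).of_iso e
  · exact isRow_rowC K a i j hi

/-- the short complex `0 → (rows > a) → K → (row a) → 0`. -/
noncomputable abbrev peelSC (hK : IsBdd a b K) :
    ShortComplex (HomologicalComplex₂ A (up ℤ) (up ℤ)) :=
  ShortComplex.mk (kernel.ι (rowπ hK)) (rowπ hK) (kernel.condition _)

lemma isSplitEpi_rowπ (hK : IsBdd a b K) (i j : ℤ) : IsSplitEpi (((rowπ hK).f i).f j) := by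
  by_cases hi : i = a
  · subst hi
    rw [rowπ_f_self]
    infer_instance
  · exact IsSplitEpi.mk' ⟨0, (isRow_rowC K a i j hi).eq_of_src _ _⟩

lemma epi_rowπ (hK : IsBdd a b K) : Epi (rowπ hK) := by
  apply HomologicalComplex.epi_of_epi_f
  intro i
  apply HomologicalComplex.epi_of_epi_f
  intro j
  haveI := isSplitEpi_rowπ hK i j
  infer_instance

lemma peelSC_shortExact (hK : IsBdd a b K) : (peelSC hK).ShortExact := by
  haveI := epi_rowπ hK
  exact ShortComplex.ShortExact.mk'
    (ShortComplex.exact_of_f_is_kernel _ (kernelIsKernel _))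
    (by dsimp [peelSC]; infer_instance) (by dsimp [peelSC]; infer_instance)

lemma isZero_peel_X_self (hK : IsBdd a b K) : IsZero ((peelSC hK).X₁.X a) := by
  have hse := (peelSC_shortExact hK).map_of_exact (HomologicalComplex.eval _ (up ℤ) a)
  apply hse.isIso_g_iff.mp
  change IsIso ((rowπ hK).f a)
  rw [rowπ_f_self]
  infer_instance

lemma isIso_peel_f (hK : IsBdd a b K) (i : ℤ) (hi : i ≠ a) : IsIso ((peelSC hK).f.f i) := by
  have hse := (peelSC_shortExact hK).map_of_exact (HomologicalComplex.eval _ (up ℤ) i)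
  exact hse.isIso_f_iff.mpr (HomologicalComplex.isZero_single_obj_X (up ℤ) a (K.X a) i hi)

lemma isBdd_peel (hK : IsBdd a b K) : IsBdd (a + 1) b (peelSC hK).X₁ := by
  intro i j h
  by_cases hi : i = a
  · subst hi
    exact Functor.map_isZero (HomologicalComplex.eval A (up ℤ) j) (isZero_peel_X_self hK)
  · have hz : IsZero ((K.X i).X j) := hK i j (by omega)
    haveI := isIso_peel_f hK i hi
    exact hz.of_iso ((HomologicalComplex.eval A (up ℤ) j).mapIso (asIso ((peelSC hK).f.f i)))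

lemma rowπ_naturality (φ : K ⟶ L) (hK : IsBdd a b K) (hL : IsBdd a b L) :
    rowπ hK ≫ (HomologicalComplex.single (HomologicalComplex A (up ℤ)) (up ℤ) a).map (φ.f a) =
      φ ≫ rowπ hL := by
  apply HomologicalComplex.to_single_hom_ext
  simp [rowπ_f_self, HomologicalComplex.single_map_f_self]

/-- functoriality of the peel short complex. -/
noncomputable def peelMap (φ : K ⟶ L) (hK : IsBdd a b K) (hL : IsBdd a b L) :
    peelSC hK ⟶ peelSC hL where
  τ₁ := kernel.map _ _ φ
    ((HomologicalComplex.single (HomologicalComplex A (up ℤ)) (up ℤ) a).map (φ.f a))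
    (rowπ_naturality φ hK hL)
  τ₂ := φ
  τ₃ := (HomologicalComplex.single (HomologicalComplex A (up ℤ)) (up ℤ) a).map (φ.f a)
  comm₁₂ := by simp [peelSC]
  comm₂₃ := (rowπ_naturality φ hK hL).symm

lemma quasiIso_peel_τ₁ (φ : K ⟶ L) (hK : IsBdd a b K) (hL : IsBdd a b L)
    (hφ : ∀ i, QuasiIso (φ.f i)) (i : ℤ) : QuasiIso ((peelMap φ hK hL).τ₁.f i) := by
  by_cases hi : i = a
  · subst hi
    haveI : IsIso ((peelMap φ hK hL).τ₁.f i) :=
      ⟨0, (isZero_peel_X_self hK).eq_of_src _ _, (isZero_peel_X_self hL).eq_of_src _ _⟩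
    infer_instance
  · haveI := isIso_peel_f hK i hi
    haveI := isIso_peel_f hL i hi
    have hcomm : (peelMap φ hK hL).τ₁.f i ≫ (peelSC hL).f.f i = (peelSC hK).f.f i ≫ φ.f i := by
      rw [← HomologicalComplex.comp_f, ← HomologicalComplex.comp_f]
      exact congrArg (fun t => t.f i) (peelMap φ hK hL).comm₁₂
    haveI := hφ i
    haveI : QuasiIso ((peelMap φ hK hL).τ₁.f i ≫ (peelSC hL).f.f i) := by
      rw [hcomm]; infer_instance
    exact quasiIso_of_comp_right _ ((peelSC hL).f.f i)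

lemma quasiIso_peel_τ₃ (φ : K ⟶ L) (hK : IsBdd a b K) (hL : IsBdd a b L)
    (hφ : ∀ i, QuasiIso (φ.f i)) : QuasiIso ((peelMap φ hK hL).τ₃.f a) := by
  haveI := hφ a
  change QuasiIso (((HomologicalComplex.single (HomologicalComplex A (up ℤ)) (up ℤ) a).map
    (φ.f a)).f a)
  rw [HomologicalComplex.single_map_f_self]
  infer_instance

end peel

section induction

variable {K L : HomologicalComplex₂ A (up ℤ) (up ℤ)} {a b : ℤ}

lemma isZero_total_X (hK : IsBdd a b K) [K.HasTotal (up ℤ)] (n : ℤ) (hn : n < a + b) :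
    IsZero ((K.total (up ℤ)).X n) := by
  rw [IsZero.iff_id_eq_zero]
  apply total.hom_ext
  intro i j h
  have hij : i + j = n := h
  exact (hK i j (by omega)).eq_of_src _ _

/-- morphism of total short complexes. -/
noncomputable def totalSCMap {S S' : ShortComplex (HomologicalComplex₂ A (up ℤ) (up ℤ))}
    [S.X₁.HasTotal (up ℤ)] [S.X₂.HasTotal (up ℤ)] [S.X₃.HasTotal (up ℤ)]
    [S'.X₁.HasTotal (up ℤ)] [S'.X₂.HasTotal (up ℤ)] [S'.X₃.HasTotal (up ℤ)] (Φ : S ⟶ S') :
    totalSC S ⟶ totalSC S' where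
  τ₁ := total.map Φ.τ₁ (up ℤ)
  τ₂ := total.map Φ.τ₂ (up ℤ)
  τ₃ := total.map Φ.τ₃ (up ℤ)
  comm₁₂ := by dsimp [totalSC]; rw [← total.map_comp, ← total.map_comp, Φ.comm₁₂]
  comm₂₃ := by dsimp [totalSC]; rw [← total.map_comp, ← total.map_comp, Φ.comm₂₃]

open HomologicalComplex in
theorem claim (b : ℤ) (N : ℕ) : ∀ (a : ℤ) (K L : HomologicalComplex₂ A (up ℤ) (up ℤ))
    (φ : K ⟶ L) (_ : IsBdd a b K) (_ : IsBdd a b L) (_ : ∀ i, QuasiIso (φ.f i))
    [K.HasTotal (up ℤ)] [L.HasTotal (up ℤ)] (n : ℤ),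
    (n + 1 < a + b + N → IsIso (homologyMap (total.map φ (up ℤ)) n)) ∧
    (n + 1 ≤ a + b + N → Mono (homologyMap (total.map φ (up ℤ)) n)) := by
  induction N with
  | zero =>
    intro a K L φ hK hL hφ _ _ n
    have key : n + 1 ≤ a + b + ((0 : ℕ) : ℤ) → IsZero ((K.total (up ℤ)).homology n) ∧
        IsZero ((L.total (up ℤ)).homology n) := by
      intro hn
      exact ⟨(ExactAt.of_isZero (isZero_total_X hK n (by omega))).isZero_homology,
        (ExactAt.of_isZero (isZero_total_X hL n (by omega))).isZero_homology⟩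
    constructor
    · intro hn
      obtain ⟨h1, h2⟩ := key (by omega)
      exact ⟨0, h1.eq_of_src _ _, h2.eq_of_src _ _⟩
    · intro hn
      obtain ⟨h1, h2⟩ := key hn
      exact ⟨fun g h _ => h1.eq_of_tgt _ _⟩
  | succ N ih =>
    intro a K L φ hK hL hφ _ _ n
    haveI : (peelSC hK).X₁.HasTotal (up ℤ) := hasTotal_of_isBdd (isBdd_peel hK)
    haveI : (peelSC hL).X₁.HasTotal (up ℤ) := hasTotal_of_isBdd (isBdd_peel hL)
    haveI : (peelSC hK).X₃.HasTotal (up ℤ) := hasTotal_of_isBdd (isBdd_rowC hK)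
    haveI : (peelSC hL).X₃.HasTotal (up ℤ) := hasTotal_of_isBdd (isBdd_rowC hL)
    haveI : (peelSC hK).X₂.HasTotal (up ℤ) := ‹K.HasTotal (up ℤ)›
    haveI : (peelSC hL).X₂.HasTotal (up ℤ) := ‹L.HasTotal (up ℤ)›
    have hTK := totalSC_shortExact (peelSC hK) (peelSC_shortExact hK) (isSplitEpi_rowπ hK)
    have hTL := totalSC_shortExact (peelSC hL) (peelSC_shortExact hL) (isSplitEpi_rowπ hL)
    haveI : QuasiIso ((peelMap φ hK hL).τ₃.f a) := quasiIso_peel_τ₃ φ hK hL hφ
    have h3 : QuasiIso (total.map (peelMap φ hK hL).τ₃ (up ℤ)) :=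
      quasiIso_total_map_of_isRow (isRow_rowC K a) (isRow_rowC L a) (peelMap φ hK hL).τ₃
    have h3' : ∀ m, IsIso (homologyMap (totalSCMap (peelMap φ hK hL)).τ₃ m) := fun m => by
      have := h3.quasiIsoAt m
      rw [quasiIsoAt_iff_isIso_homologyMap] at this
      exact this
    have ih' := ih (a + 1) (peelSC hK).X₁ (peelSC hL).X₁ (peelMap φ hK hL).τ₁ (isBdd_peel hK)
      (isBdd_peel hL) (quasiIso_peel_τ₁ φ hK hL hφ)
    have hmono : n + 1 ≤ a + b + ((N + 1 : ℕ) : ℤ) →
        Mono (homologyMap (totalSCMap (peelMap φ hK hL)).τ₂ n) := by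
      intro hn
      refine mono_homologyMap_τ₂ (totalSCMap (peelMap φ hK hL)) hTK hTL (n - 1) n (by simp)
        ?_ ?_ ?_
      · haveI := h3' (n - 1); infer_instance
      · exact (ih' n).2 (by push_cast at hn ⊢; omega)
      · haveI := h3' n; infer_instance
    constructor
    · intro hn
      haveI := hmono (by omega)
      haveI : Epi (homologyMap (totalSCMap (peelMap φ hK hL)).τ₂ n) := by
        refine epi_homologyMap_τ₂ (totalSCMap (peelMap φ hK hL)) hTK hTL n (n + 1) (by simp)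
          ?_ ?_ ?_
        · haveI : IsIso (homologyMap (totalSCMap (peelMap φ hK hL)).τ₁ n) :=
            (ih' n).1 (by push_cast at hn ⊢; omega)
          infer_instance
        · haveI := h3' n; infer_instance
        · exact (ih' (n + 1)).2 (by push_cast at hn ⊢; omega)
      exact isIso_of_mono_of_epi (homologyMap (totalSCMap (peelMap φ hK hL)).τ₂ n)
    · exact hmono

theorem quasiIso_total_map_of_rows (φ : K ⟶ L) (hK : IsBdd a b K) (hL : IsBdd a b L)
    (hφ : ∀ i, QuasiIso (φ.f i)) [K.HasTotal (up ℤ)] [L.HasTotal (up ℤ)] :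
    QuasiIso (total.map φ (up ℤ)) := by
  rw [quasiIso_iff]
  intro n
  rw [quasiIsoAt_iff_isIso_homologyMap]
  exact (claim b (n + 2 - a - b).toNat a K L φ hK hL hφ n).1 (by omega)

end induction

end Groth.Agent.Lib.Helper43.TotQis
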