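import Groth.Agent.Lib.Helper43.TotQis3

/-!
# Total complex preserves quasi-isomorphisms of uniformly bounded below double complexes
(helper43, for S8566): flipping.
-/

set_option autoImplicit false
open CategoryTheory CategoryTheory.Limits

namespace Groth.Agent.Lib.Helper43.TotQis

universe v u

open ComplexShape HomologicalComplex₂

variable {A : Type u} [Category.{v} A] [Abelian A]

/-- the flipped morphism. -/
def flipMap {K L : HomologicalComplex₂ A (up ℤ) (up ℤ)} (φ : K ⟶ L) : K.flip ⟶ L.flip :=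
  (flipFunctor A (up ℤ) (up ℤ)).map φ

@[simp]
lemma flipMap_f_f {K L : HomologicalComplex₂ A (up ℤ) (up ℤ)} (φ : K ⟶ L) (i j : ℤ) :
    ((flipMap φ).f i).f j = (φ.f j).f i := rfl

lemma quasiIso_flip_f (K L : HomologicalComplex₂ A (up ℤ) (up ℤ)) (φ : K ⟶ L) [QuasiIso φ]
    (q : ℤ) : QuasiIso ((flipMap φ).f q) := by
  have h : QuasiIso (((HomologicalComplex.eval A (up ℤ) q).mapHomologicalComplex (up ℤ)).map φ) :=
    inferInstance
  exact h

lemma totalFlipIso_naturality (K L : HomologicalComplex₂ A (up ℤ) (up ℤ)) (φ : K ⟶ L)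
    [K.HasTotal (up ℤ)] [L.HasTotal (up ℤ)] :
    total.map (flipMap φ) (up ℤ) ≫ (L.totalFlipIso (up ℤ)).hom =
      (K.totalFlipIso (up ℤ)).hom ≫ total.map φ (up ℤ) := by
  ext n i j h
  dsimp
  rw [ιTotal_map_assoc, ιTotal_totalFlipIso_f_hom, ιTotal_totalFlipIso_f_hom_assoc]
  change (φ.f j).f i ≫ (ComplexShape.σ (up ℤ) (up ℤ) (up ℤ) j i • L.ιTotal (up ℤ) j i n _) =
    (ComplexShape.σ (up ℤ) (up ℤ) (up ℤ) j i • K.ιTotal (up ℤ) j i n _) ≫
      (total.map φ (up ℤ)).f n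
  rw [Linear.units_smul_comp, Linear.comp_units_smul, ιTotal_map]

theorem quasiIso_total_map (K L : HomologicalComplex₂ A (up ℤ) (up ℤ)) (φ : K ⟶ L) (a b : ℤ)
    (hK : ∀ p q : ℤ, p < a ∨ q < b → IsZero ((K.X p).X q))
    (hL : ∀ p q : ℤ, p < a ∨ q < b → IsZero ((L.X p).X q))
    [K.HasTotal (up ℤ)] [L.HasTotal (up ℤ)] [QuasiIso φ] :
    QuasiIso (total.map φ (up ℤ)) := by
  have hK' : IsBdd b a K.flip := fun i j h => hK j i h.symm
  have hL' : IsBdd b a L.flip := fun i j h => hL j i h.symm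
  have h := quasiIso_total_map_of_rows (flipMap φ) hK' hL'
    (quasiIso_flip_f K L φ)
  have e : Arrow.mk (total.map (flipMap φ) (up ℤ)) ≅
      Arrow.mk (total.map φ (up ℤ)) :=
    Arrow.isoMk (K.totalFlipIso (up ℤ)) (L.totalFlipIso (up ℤ))
      (totalFlipIso_naturality K L φ).symm
  exact quasiIso_of_arrow_mk_iso _ _ e

end Groth.Agent.Lib.Helper43.TotQis
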