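import Mathlib

/-!
# A trivial Kan fibration has a section and is a homotopy equivalence
-/

set_option autoImplicit false
universe u

open Simplicial CategoryTheory Limits MonoidalCategory CartesianMonoidalCategory

namespace Groth.Agent.Lib.Helper43.TrivFibHtpy

open SSet

variable {X Y : SSet.{u}}

/-- the map `X ⨿ X ⟶ X ⊗ Δ[1]` -/
noncomputable def ends (X : SSet.{u}) : X ⨿ X ⟶ X ⊗ Δ[1] := coprod.desc ι₀ ι₁

lemma exists_inl_or_inr (n : SimplexCategoryᵒᵖ) (a : (X ⨿ X).obj n) :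
    (∃ x : X.obj n, a = (coprod.inl : X ⟶ X ⨿ X).app n x) ∨
      (∃ x : X.obj n, a = (coprod.inr : X ⟶ X ⨿ X).app n x) := by
  have hc : IsColimit (((evaluation _ _).obj n).mapCocone (colimit.cocone (pair X X))) :=
    isColimitOfPreserves _ (colimit.isColimit _)
  obtain ⟨⟨j⟩, x, hx⟩ := Types.jointly_surjective_of_isColimit hc a
  cases j
  · exact Or.inl ⟨x, hx.symm⟩
  · exact Or.inr ⟨x, hx.symm⟩

lemma ends_inl (n : SimplexCategoryᵒᵖ) (x : X.obj n) :
    (ends X).app n ((coprod.inl : X ⟶ X ⨿ X).app n x) = ι₀.app n x := by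
  have h : (coprod.inl : X ⟶ X ⨿ X) ≫ ends X = ι₀ := coprod.inl_desc _ _
  exact ConcreteCategory.congr_hom (NatTrans.congr_app h n) x

lemma ends_inr (n : SimplexCategoryᵒᵖ) (x : X.obj n) :
    (ends X).app n ((coprod.inr : X ⟶ X ⨿ X).app n x) = ι₁.app n x := by
  have h : (coprod.inr : X ⟶ X ⨿ X) ≫ ends X = ι₁ := coprod.inr_desc _ _
  exact ConcreteCategory.congr_hom (NatTrans.congr_app h n) x

lemma ι₀_ne_ι₁ (n : SimplexCategoryᵒᵖ) (x x' : X.obj n) : ι₀.app n x ≠ ι₁.app n x' := by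
  obtain ⟨m⟩ := n
  induction m using SimplexCategory.rec with | _ m =>
  intro h
  have h0 := ι₀_app_snd_apply x 0
  have h1 := ι₁_app_snd_apply x' 0
  have h0' := h ▸ h0
  exact zero_ne_one (h0'.symm.trans h1)

instance mono_ends (X : SSet.{u}) : Mono (ends X) := by
  rw [NatTrans.mono_iff_mono_app]
  intro n
  rw [mono_iff_injective]
  intro a b hab
  rcases exists_inl_or_inr n a with ⟨x, rfl⟩ | ⟨x, rfl⟩ <;>
    rcases exists_inl_or_inr n b with ⟨x', rfl⟩ | ⟨x', rfl⟩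
  · rw [ends_inl, ends_inl] at hab
    have : x = x' := by
      have := congrArg Prod.fst hab
      simpa using this
    rw [this]
  · rw [ends_inl, ends_inr] at hab
    exact absurd hab (ι₀_ne_ι₁ n x x')
  · rw [ends_inr, ends_inl] at hab
    exact absurd hab.symm (ι₀_ne_ι₁ n x' x)
  · rw [ends_inr, ends_inr] at hab
    have : x = x' := by
      have := congrArg Prod.fst hab
      simpa using this
    rw [this]

lemma ι₀_eq (X : SSet.{u}) : (ι₀ : X ⟶ X ⊗ Δ[1]) = coprod.inl ≫ ends X :=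
  (coprod.inl_desc _ _).symm

lemma ι₁_eq (X : SSet.{u}) : (ι₁ : X ⟶ X ⊗ Δ[1]) = coprod.inr ≫ ends X :=
  (coprod.inr_desc _ _).symm

lemma rel_aux {Z : SSet.{u}} (a b : ((⊥ : X.Subcomplex) : SSet.{u}) ⊗ Δ[1] ⟶ Z) : a = b := by
  ext n ⟨⟨x, hx⟩, _⟩
  exact hx.elim

/-- build a homotopy from a map `X ⊗ Δ[1] ⟶ Y` with prescribed ends -/
noncomputable def mkHomotopy {a b : X ⟶ Y} (H : X ⊗ Δ[1] ⟶ Y) (h0 : ι₀ ≫ H = a)
    (h1 : ι₁ ≫ H = b) : SSet.Homotopy a b :=
  { h := H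
    h₀ := h0
    h₁ := h1
    rel := rel_aux _ _ }

theorem main (f : X ⟶ Y) (hf : SSet.modelCategoryQuillen.I.rlp f) :
    ∃ g : Y ⟶ X, g ≫ f = 𝟙 Y ∧ Nonempty (SSet.Homotopy (𝟙 X) (f ≫ g)) ∧
      Nonempty (SSet.Homotopy (f ≫ g) (𝟙 X)) := by
  rw [← SSet.rlp_monomorphisms] at hf
  -- the section
  have sq0 : CommSq (Subcomplex.isInitialBot.to X) (⊥ : Y.Subcomplex).ι f (𝟙 Y) :=
    ⟨Subcomplex.isInitialBot.hom_ext _ _⟩
  haveI : HasLiftingProperty (⊥ : Y.Subcomplex).ι f :=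
    hf _ (MorphismProperty.monomorphisms.infer_property _)
  let g : Y ⟶ X := sq0.lift
  have hg : g ≫ f = 𝟙 Y := sq0.fac_right
  haveI : HasLiftingProperty (ends X) f :=
    hf _ (MorphismProperty.monomorphisms.infer_property _)
  refine ⟨g, hg, ?_, ?_⟩
  · have sq1 : CommSq (coprod.desc (𝟙 X) (f ≫ g)) (ends X) f (fst X Δ[1] ≫ f) := by
      constructor
      apply coprod.hom_ext
      · rw [coprod.inl_desc_assoc, ← Category.assoc, ← ι₀_eq, ι₀_fst_assoc, Category.id_comp]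
      · rw [coprod.inr_desc_assoc, ← Category.assoc, ← ι₁_eq, ι₁_fst_assoc, Category.assoc, hg,
          Category.comp_id]
    refine ⟨mkHomotopy sq1.lift ?_ ?_⟩
    · rw [ι₀_eq, Category.assoc, sq1.fac_left, coprod.inl_desc]
    · rw [ι₁_eq, Category.assoc, sq1.fac_left, coprod.inr_desc]
  · have sq1 : CommSq (coprod.desc (f ≫ g) (𝟙 X)) (ends X) f (fst X Δ[1] ≫ f) := by
      constructor
      apply coprod.hom_ext
      · rw [coprod.inl_desc_assoc, ← Category.assoc, ← ι₀_eq, ι₀_fst_assoc, Category.assoc, hg,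
          Category.comp_id]
      · rw [coprod.inr_desc_assoc, ← Category.assoc, ← ι₁_eq, ι₁_fst_assoc, Category.id_comp]
    refine ⟨mkHomotopy sq1.lift ?_ ?_⟩
    · rw [ι₀_eq, Category.assoc, sq1.fac_left, coprod.inl_desc]
    · rw [ι₁_eq, Category.assoc, sq1.fac_left, coprod.inr_desc]

end Groth.Agent.Lib.Helper43.TrivFibHtpy
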