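import Groth.Agent.Lib.Helper43.UppFrac
import Groth.Agent.Lib.Helper80.FibCat

/-!
# The localisation `u_p 𝒮` is fibred over `D`
-/

set_option autoImplicit false
open CategoryTheory Functor Limits

namespace Groth.Agent.Lib.Helper43.UpFib

open Groth.Agent.Lib.Helper43.UppFrac

universe v₃ u₃ v₂ u₂ v u

variable {C : Type u} [Category.{v} C] {D : Type u₂} [Category.{v₂} D] (u : C ⥤ D)
  (𝒮 : BasedCategory.{v₃, u₃} C)

open Stk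

/-- the localisation functor -/
abbrev Lq : UppObj u 𝒮 ⥤ (uppR u 𝒮).Localization := (uppR u 𝒮).Q

/-- the structure functor of `u_p 𝒮` -/
noncomputable abbrev Pr : (uppR u 𝒮).Localization ⥤ D :=
  Localization.Construction.lift (UppObj.forget u 𝒮) (uppR_isInvertedBy u 𝒮)

lemma Pr_map {a b : UppObj u 𝒮} (f : a ⟶ b) : (Pr u 𝒮).map ((Lq u 𝒮).map f) = f.bot := by
  have h := Functor.congr_hom
    (Localization.Construction.fac (UppObj.forget u 𝒮) (uppR_isInvertedBy u 𝒮)) f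
  refine h.trans ?_
  show 𝟙 a.V ≫ f.bot ≫ 𝟙 b.V = f.bot
  rw [Category.comp_id, Category.id_comp]

variable {u 𝒮}

lemma isHomLift_of_eq {a b : UppObj u 𝒮} (k : a.V ⟶ b.V)
    (χ : (Lq u 𝒮).obj a ⟶ (Lq u 𝒮).obj b) (h : (Pr u 𝒮).map χ = k) :
    (Pr u 𝒮).IsHomLift k χ := by
  subst h
  exact CategoryTheory.IsHomLift.map (Pr u 𝒮) χ

lemma eq_of_isHomLift {a b : UppObj u 𝒮} (k : a.V ⟶ b.V)
    (χ : (Lq u 𝒮).obj a ⟶ (Lq u 𝒮).obj b) [h : (Pr u 𝒮).IsHomLift k χ] :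
    (Pr u 𝒮).map χ = k := by
  have := IsHomLift.fac' (Pr u 𝒮) k χ
  refine this.trans ?_
  show 𝟙 a.V ≫ k ≫ 𝟙 b.V = k
  rw [Category.comp_id, Category.id_comp]

/-- the object `(x, V', g ≫ φ)`. -/
abbrev baseObj (b : UppObj u 𝒮) {V' : D} (g : V' ⟶ b.V) : UppObj u 𝒮 := ⟨b.x, V', g ≫ b.φ⟩

/-- the morphism `(𝟙, g)`. -/
def baseHom (b : UppObj u 𝒮) {V' : D} (g : V' ⟶ b.V) : baseObj b g ⟶ b :=
  ⟨𝟙 b.x, g, by
    show (g ≫ b.φ) ≫ u.map (𝒮.p.map (𝟙 b.x)) = g ≫ b.φ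
    rw [𝒮.p.map_id, u.map_id, Category.comp_id]⟩

/-- factor a morphism through `baseHom`. -/
def toBase {a b : UppObj u 𝒮} {V' : D} (g : V' ⟶ b.V) (f : a ⟶ b) (k : a.V ⟶ V')
    (h : k ≫ g = f.bot) : a ⟶ baseObj b g :=
  ⟨f.top, k, by
    show a.φ ≫ u.map (𝒮.p.map f.top) = k ≫ g ≫ b.φ
    rw [f.w, ← Category.assoc, h]⟩

lemma toBase_comp {a b : UppObj u 𝒮} {V' : D} (g : V' ⟶ b.V) (f : a ⟶ b) (k : a.V ⟶ V')
    (h : k ≫ g = f.bot) : toBase g f k h ≫ baseHom b g = f := by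
  apply UppObj.hom_ext
  · exact Category.comp_id _
  · exact h

section Main

variable [𝒮.p.IsFibered]
  (hC : ∀ (I : Type) [SmallCategory I] [FinCategory I], Nonempty I → HasLimitsOfShape I C)
  (hu : ∀ (I : Type) [SmallCategory I] [FinCategory I], Nonempty I → PreservesLimitsOfShape I u)

include hC hu in
lemma exists_frac {a b : UppObj u 𝒮} (φ : (Lq u 𝒮).obj a ⟶ (Lq u 𝒮).obj b) :
    ∃ (a₁ : UppObj u 𝒮) (t : a₁ ⟶ a) (_ : uppR u 𝒮 t) (f : a₁ ⟶ b),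
      (Lq u 𝒮).map t ≫ φ = (Lq u 𝒮).map f := by
  haveI := hasRightCalculusOfFractions u 𝒮 hC hu
  obtain ⟨z, hz⟩ := Localization.exists_rightFraction (Lq u 𝒮) (uppR u 𝒮) φ
  refine ⟨z.X', z.s, z.hs, z.f, ?_⟩
  rw [hz]
  exact z.map_s_comp_map _ _

omit [𝒮.p.IsFibered] in
lemma isIso_L {a b : UppObj u 𝒮} (t : a ⟶ b) (ht : uppR u 𝒮 t) : IsIso ((Lq u 𝒮).map t) :=
  Localization.inverts (Lq u 𝒮) (uppR u 𝒮) t ht

include hC hu in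
lemma univ_baseHom (b : UppObj u 𝒮) {V' : D} (g : V' ⟶ b.V) (a : UppObj u 𝒮) (k : a.V ⟶ V')
    (φ' : (Lq u 𝒮).obj a ⟶ (Lq u 𝒮).obj b) (hφ' : (Pr u 𝒮).map φ' = k ≫ g) :
    ∃! χ : (Lq u 𝒮).obj a ⟶ (Lq u 𝒮).obj (baseObj b g),
      (Pr u 𝒮).map χ = k ∧ χ ≫ (Lq u 𝒮).map (baseHom b g) = φ' := by
  haveI := hasRightCalculusOfFractions u 𝒮 hC hu
  obtain ⟨a₁, t, ht, f, hf⟩ := exists_frac hC hu φ'
  haveI : IsIso ((Lq u 𝒮).map t) := isIso_L t ht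
  haveI : IsIso t.bot := ht.2
  have hfb : (t.bot ≫ k) ≫ g = f.bot := by
    have := congrArg (Pr u 𝒮).map hf
    rw [Functor.map_comp, Pr_map, Pr_map, hφ'] at this
    rw [Category.assoc]
    exact this
  let f' : a₁ ⟶ baseObj b g := toBase g f (t.bot ≫ k) hfb
  have hf' : f' ≫ baseHom b g = f := toBase_comp g f _ hfb
  let χ : (Lq u 𝒮).obj a ⟶ (Lq u 𝒮).obj (baseObj b g) :=
    inv ((Lq u 𝒮).map t) ≫ (Lq u 𝒮).map f'
  have hχ : (Lq u 𝒮).map t ≫ χ = (Lq u 𝒮).map f' := IsIso.hom_inv_id_assoc _ _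
  have hPχ : (Pr u 𝒮).map χ = k := by
    have := congrArg (Pr u 𝒮).map hχ
    rw [Functor.map_comp, Pr_map, Pr_map] at this
    exact (cancel_epi t.bot).mp this
  refine ⟨χ, ⟨hPχ, ?_⟩, ?_⟩
  · rw [← cancel_epi ((Lq u 𝒮).map t), ← Category.assoc, hχ, ← Functor.map_comp, hf', hf]
  · rintro χ' ⟨h1, h2⟩
    obtain ⟨a₂, t₂, ht₂, f₂, hf₂⟩ := exists_frac hC hu ((Lq u 𝒮).map t ≫ χ')
    haveI : IsIso ((Lq u 𝒮).map t₂) := isIso_L t₂ ht₂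
    have key : (Lq u 𝒮).map f₂ = (Lq u 𝒮).map (t₂ ≫ f') := by
      have e1 : (Lq u 𝒮).map (f₂ ≫ baseHom b g) =
          (Lq u 𝒮).map ((t₂ ≫ f') ≫ baseHom b g) := by
        rw [Functor.map_comp, ← hf₂, Category.assoc, Category.assoc, h2, Category.assoc, hf',
          Functor.map_comp, hf]
      obtain ⟨a₃, s, hs, hs'⟩ :=
        (MorphismProperty.map_eq_iff_precomp (Lq u 𝒮) (uppR u 𝒮) _ _).mp e1
      refine (MorphismProperty.map_eq_iff_precomp (Lq u 𝒮) (uppR u 𝒮) _ _).mpr ⟨a₃, s, hs, ?_⟩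
      apply UppObj.hom_ext
      · have h3 : s.top ≫ f₂.top ≫ 𝟙 b.x = s.top ≫ (t₂.top ≫ f.top) ≫ 𝟙 b.x :=
          congrArg UppObj.Hom.top hs'
        rw [Category.comp_id, Category.comp_id] at h3
        exact h3
      · have hb : f₂.bot = t₂.bot ≫ t.bot ≫ k := by
          have := congrArg (Pr u 𝒮).map hf₂
          rw [Functor.map_comp, Functor.map_comp, Pr_map, Pr_map, Pr_map, h1] at this
          exact this.symm
        show s.bot ≫ f₂.bot = s.bot ≫ t₂.bot ≫ (t.bot ≫ k)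
        rw [hb]
    rw [← cancel_epi ((Lq u 𝒮).map t), ← cancel_epi ((Lq u 𝒮).map t₂), hf₂, key, hχ,
      Functor.map_comp]

include hC hu in
theorem sc_baseHom (b : UppObj u 𝒮) {V' : D} (g : V' ⟶ b.V) :
    (Pr u 𝒮).IsStronglyCartesian g ((Lq u 𝒮).map (baseHom b g)) := by
  haveI : (Pr u 𝒮).IsHomLift g ((Lq u 𝒮).map (baseHom b g)) :=
    isHomLift_of_eq (a := baseObj b g) (b := b) g _ (Pr_map u 𝒮 _)
  refine ⟨?_⟩
  rintro ⟨⟨a⟩⟩ k φ' hφ'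
  obtain ⟨χ, ⟨h1, h2⟩, h3⟩ := univ_baseHom hC hu b g a k φ'
    (eq_of_isHomLift (a := a) (b := b) (k ≫ g) φ' (h := hφ'))
  refine ⟨χ, ⟨isHomLift_of_eq (a := a) (b := baseObj b g) k χ h1, h2⟩, ?_⟩
  rintro χ' ⟨h1', h2'⟩
  exact h3 χ' ⟨eq_of_isHomLift (a := a) (b := baseObj b g) k χ' (h := h1'), h2'⟩

include hC hu in
theorem isFibered_up : (Stk.up u 𝒮).p.IsFibered := by
  apply IsFibered.of_exists_isStronglyCartesian
  rintro ⟨⟨b⟩⟩ V' g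
  exact ⟨(Lq u 𝒮).obj (baseObj b g), (Lq u 𝒮).map (baseHom b g), sc_baseHom hC hu b g⟩

end Main

section Grpd

variable (h𝒮 : FibCat.IsFibGrpd 𝒮.p)
  (hC : ∀ (I : Type) [SmallCategory I] [FinCategory I], Nonempty I → HasLimitsOfShape I C)
  (hu : ∀ (I : Type) [SmallCategory I] [FinCategory I], Nonempty I → PreservesLimitsOfShape I u)

include h𝒮 hC hu in
lemma sc_of_grpd {a b : UppObj u 𝒮} (φ : (Lq u 𝒮).obj a ⟶ (Lq u 𝒮).obj b) :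
    (Pr u 𝒮).IsStronglyCartesian ((Pr u 𝒮).map φ) φ := by
  haveI : 𝒮.p.IsFibered := Groth.Agent.Lib.Helper80.IsFibGrpd.isFibered 𝒮.p h𝒮
  obtain ⟨a₁, t, ht, f, hf⟩ := exists_frac hC hu φ
  haveI : IsIso ((Lq u 𝒮).map t) := isIso_L t ht
  let f₁ : a₁ ⟶ baseObj b f.bot := toBase f.bot f (𝟙 a₁.V) (Category.id_comp _)
  have hf₁ : f₁ ≫ baseHom b f.bot = f := toBase_comp f.bot f _ (Category.id_comp _)
  have hR : uppR u 𝒮 f₁ := by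
    refine ⟨?_, ?_⟩
    · exact h𝒮.isStronglyCartesian f.top
    · show IsIso (𝟙 a₁.V)
      infer_instance
  haveI : IsIso ((Lq u 𝒮).map f₁) := isIso_L f₁ hR
  let i : (Lq u 𝒮).obj a ⟶ (Lq u 𝒮).obj (baseObj b f.bot) :=
    inv ((Lq u 𝒮).map t) ≫ (Lq u 𝒮).map f₁
  have : IsIso i := inferInstance
  have hφ : φ = i ≫ (Lq u 𝒮).map (baseHom b f.bot) := by
    rw [← cancel_epi ((Lq u 𝒮).map t), hf, Category.assoc, IsIso.hom_inv_id_assoc,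
      ← Functor.map_comp, hf₁]
  haveI h1 : (Pr u 𝒮).IsStronglyCartesian f.bot ((Lq u 𝒮).map (baseHom b f.bot)) :=
    sc_baseHom hC hu b f.bot
  haveI h2 : (Pr u 𝒮).IsStronglyCartesian ((Pr u 𝒮).map i) i := inferInstance
  rw [hφ, Functor.map_comp, Pr_map]
  exact @IsStronglyCartesian.comp _ _ _ _ (Pr u 𝒮) _ _ _ _ _ _ ((Pr u 𝒮).map i) f.bot i
    ((Lq u 𝒮).map (baseHom b f.bot)) h2 h1

include h𝒮 hC hu in
theorem isFibGrpd_up : FibCat.IsFibGrpd (Stk.up u 𝒮).p := by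
  haveI : 𝒮.p.IsFibered := Groth.Agent.Lib.Helper80.IsFibGrpd.isFibered 𝒮.p h𝒮
  refine ⟨?_, ?_⟩
  · rintro ⟨⟨b⟩⟩ V' g
    exact ⟨(Lq u 𝒮).obj (baseObj b g), (Lq u 𝒮).map (baseHom b g),
      (sc_baseHom hC hu b g).toIsHomLift⟩
  · rintro ⟨⟨a⟩⟩ ⟨⟨b⟩⟩ φ
    exact sc_of_grpd h𝒮 hC hu (a := a) (b := b) φ

end Grpd

end Groth.Agent.Lib.Helper43.UpFib
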