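import Groth.Prelude.Def_W4stkalgstUpp
import Mathlib

/-!
# Right calculus of fractions for the class `R` in `u_pp 𝒮`
-/

set_option autoImplicit false
open CategoryTheory Functor Limits

namespace Groth.Agent.Lib.Helper43.UppFrac

universe v₃ u₃ v₂ u₂ v u

variable {C : Type u} [Category.{v} C] {D : Type u₂} [Category.{v₂} D] (u : C ⥤ D)
  (𝒮 : BasedCategory.{v₃, u₃} C)

open Stk

section Basic

variable {u 𝒮}

lemma w_of_lift {a' b : UppObj u 𝒮} {W : C} (hW : 𝒮.p.obj a'.x = W) (ψ : a'.V ⟶ u.obj W)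
    (hψ : a'.φ = ψ ≫ u.map (eqToHom hW.symm)) (top : a'.x ⟶ b.x) (m : W ⟶ 𝒮.p.obj b.x)
    [𝒮.p.IsHomLift m top] (bot : a'.V ⟶ b.V) (h : ψ ≫ u.map m = bot ≫ b.φ) :
    a'.φ ≫ u.map (𝒮.p.map top) = bot ≫ b.φ := by
  subst hW
  rw [hψ, IsHomLift.fac' 𝒮.p m top]
  simp only [eqToHom_refl, Category.comp_id, Category.id_comp]
  rw [u.map_id, Category.comp_id]
  exact h

lemma uppR_id (a : UppObj u 𝒮) : uppR u 𝒮 (𝟙 a) := by
  refine ⟨?_, ?_⟩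
  · show 𝒮.p.IsStronglyCartesian (𝒮.p.map (𝟙 a.x)) (𝟙 a.x)
    infer_instance
  · show IsIso (𝟙 a.V)
    infer_instance

lemma uppR_comp {a b c : UppObj u 𝒮} (f : a ⟶ b) (g : b ⟶ c) (hf : uppR u 𝒮 f)
    (hg : uppR u 𝒮 g) : uppR u 𝒮 (f ≫ g) := by
  obtain ⟨hf1, hf2⟩ := hf
  obtain ⟨hg1, hg2⟩ := hg
  refine ⟨?_, ?_⟩
  · show 𝒮.p.IsStronglyCartesian (𝒮.p.map (f.top ≫ g.top)) (f.top ≫ g.top)
    rw [𝒮.p.map_comp]
    infer_instance
  · show IsIso (f.bot ≫ g.bot)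
    infer_instance

instance : (uppR u 𝒮).IsMultiplicative where
  id_mem a := uppR_id a
  comp_mem f g hf hg := uppR_comp f g hf hg

end Basic

section Lift

variable {u 𝒮} [𝒮.p.IsFibered]

lemma sc_map {R S : C} {a b : 𝒮.obj} (f : R ⟶ S) (φ : a ⟶ b)
    (h : 𝒮.p.IsStronglyCartesian f φ) : 𝒮.p.IsStronglyCartesian (𝒮.p.map φ) φ := by
  have h' : 𝒮.p.IsHomLift f φ := h.toIsHomLift
  obtain ⟨⟩ := h'
  exact h

variable (a : UppObj u 𝒮) {W : C} (e : W ⟶ 𝒮.p.obj a.x) (ψ : a.V ⟶ u.obj W)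

/-- the object `(e^* x, V, ψ)`. -/
noncomputable def liftObj : UppObj u 𝒮 :=
  ⟨IsPreFibered.pullbackObj (p := 𝒮.p) rfl e, a.V,
    ψ ≫ u.map (eqToHom (IsPreFibered.pullbackObj_proj (p := 𝒮.p) rfl e).symm)⟩

lemma liftObj_proj : 𝒮.p.obj (liftObj a e ψ).x = W :=
  IsPreFibered.pullbackObj_proj (p := 𝒮.p) rfl e

/-- the cartesian arrow -/
noncomputable def liftTop : (liftObj a e ψ).x ⟶ a.x := IsPreFibered.pullbackMap (p := 𝒮.p) rfl e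

instance liftTop_cart : 𝒮.p.IsStronglyCartesian e (liftTop a e ψ) := by
  haveI : 𝒮.p.IsCartesian e (liftTop a e ψ) :=
    IsPreFibered.pullbackMap.IsCartesian (p := 𝒮.p) rfl e
  infer_instance

/-- a morphism out of `liftObj`. -/
noncomputable def liftTo {b : UppObj u 𝒮} (top : (liftObj a e ψ).x ⟶ b.x) (m : W ⟶ 𝒮.p.obj b.x)
    [𝒮.p.IsHomLift m top] (bot : a.V ⟶ b.V) (h : ψ ≫ u.map m = bot ≫ b.φ) :
    liftObj a e ψ ⟶ b :=
  ⟨top, bot, w_of_lift (liftObj_proj a e ψ) ψ rfl top m bot h⟩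

/-- the morphism `liftObj ⟶ a` in `R`. -/
noncomputable def liftHom (h : ψ ≫ u.map e = a.φ) : liftObj a e ψ ⟶ a :=
  liftTo a e ψ (liftTop a e ψ) e (𝟙 a.V) (h.trans (Category.id_comp _).symm)

lemma liftHom_mem (h : ψ ≫ u.map e = a.φ) : uppR u 𝒮 (liftHom a e ψ h) := by
  refine ⟨?_, ?_⟩
  · exact sc_map e (liftTop a e ψ) (liftTop_cart a e ψ)
  · show IsIso (𝟙 a.V)
    infer_instance

end Lift

section Calculus

variable [𝒮.p.IsFibered]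
  (hC : ∀ (I : Type) [SmallCategory I] [FinCategory I], Nonempty I → HasLimitsOfShape I C)
  (hu : ∀ (I : Type) [SmallCategory I] [FinCategory I], Nonempty I → PreservesLimitsOfShape I u)

include hC hu in
lemma ore {a b b' : UppObj u 𝒮} (f : a ⟶ b') (s : b ⟶ b') (hs : uppR u 𝒮 s) :
    ∃ (a' : UppObj u 𝒮) (t : a' ⟶ a) (_ : uppR u 𝒮 t) (g : a' ⟶ b), t ≫ f = g ≫ s := by
  haveI : HasLimitsOfShape WalkingCospan C := hC WalkingCospan ⟨WalkingCospan.one⟩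
  haveI : PreservesLimitsOfShape WalkingCospan u := hu WalkingCospan ⟨WalkingCospan.one⟩
  obtain ⟨hs1, hs2⟩ := hs
  have hfw := f.w
  have hsw := s.w
  have compat : a.φ ≫ u.map (𝒮.p.map f.top) =
      (f.bot ≫ inv s.bot ≫ b.φ) ≫ u.map (𝒮.p.map s.top) := by
    rw [hfw, Category.assoc, Category.assoc, hsw, IsIso.inv_hom_id_assoc]
  obtain ⟨ψ, hψ1, hψ2⟩ := PullbackCone.IsLimit.lift'
    (isLimitOfHasPullbackOfPreservesLimit u (𝒮.p.map f.top) (𝒮.p.map s.top))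
    a.φ (f.bot ≫ inv s.bot ≫ b.φ) compat
  let e := pullback.fst (𝒮.p.map f.top) (𝒮.p.map s.top)
  let m := pullback.snd (𝒮.p.map f.top) (𝒮.p.map s.top)
  have hψ1' : ψ ≫ u.map e = a.φ := hψ1
  have hψ2' : ψ ≫ u.map m = (f.bot ≫ inv s.bot) ≫ b.φ := hψ2.trans (Category.assoc _ _ _).symm
  have hem : e ≫ 𝒮.p.map f.top = m ≫ 𝒮.p.map s.top := pullback.condition
  let gt : (liftObj a e ψ).x ⟶ b.x :=
    IsStronglyCartesian.map 𝒮.p (𝒮.p.map s.top) s.top hem (liftTop a e ψ ≫ f.top)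
  haveI : 𝒮.p.IsHomLift m gt :=
    IsStronglyCartesian.map_isHomLift 𝒮.p (𝒮.p.map s.top) s.top hem (liftTop a e ψ ≫ f.top)
  have hgt : gt ≫ s.top = liftTop a e ψ ≫ f.top :=
    IsStronglyCartesian.fac 𝒮.p (𝒮.p.map s.top) s.top hem (liftTop a e ψ ≫ f.top)
  refine ⟨liftObj a e ψ, liftHom a e ψ hψ1', liftHom_mem a e ψ hψ1',
    liftTo a e ψ gt m (f.bot ≫ inv s.bot) hψ2', ?_⟩
  apply UppObj.hom_ext
  · exact hgt.symm
  · show 𝟙 a.V ≫ f.bot = (f.bot ≫ inv s.bot) ≫ s.bot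
    rw [Category.id_comp, Category.assoc, IsIso.inv_hom_id, Category.comp_id]

include hC hu in
lemma rightExt {a b c : UppObj u 𝒮} (f₁ f₂ : a ⟶ b) (s : b ⟶ c) (hs : uppR u 𝒮 s)
    (h : f₁ ≫ s = f₂ ≫ s) :
    ∃ (a' : UppObj u 𝒮) (t : a' ⟶ a) (_ : uppR u 𝒮 t), t ≫ f₁ = t ≫ f₂ := by
  haveI : HasLimitsOfShape WalkingParallelPair C :=
    hC WalkingParallelPair ⟨WalkingParallelPair.zero⟩
  haveI : PreservesLimitsOfShape WalkingParallelPair u :=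
    hu WalkingParallelPair ⟨WalkingParallelPair.zero⟩
  obtain ⟨hs1, hs2⟩ := hs
  have htop : f₁.top ≫ s.top = f₂.top ≫ s.top := congrArg UppObj.Hom.top h
  have hbot : f₁.bot = f₂.bot := by
    have hb : f₁.bot ≫ s.bot = f₂.bot ≫ s.bot := congrArg UppObj.Hom.bot h
    exact (cancel_mono s.bot).mp hb
  have compat : a.φ ≫ u.map (𝒮.p.map f₁.top) = a.φ ≫ u.map (𝒮.p.map f₂.top) := by
    rw [f₁.w, f₂.w, hbot]
  obtain ⟨ψ, hψ⟩ := Fork.IsLimit.lift'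
    (isLimitOfHasEqualizerOfPreservesLimit u (𝒮.p.map f₁.top) (𝒮.p.map f₂.top)) a.φ compat
  let e := equalizer.ι (𝒮.p.map f₁.top) (𝒮.p.map f₂.top)
  have hψ' : ψ ≫ u.map e = a.φ := hψ
  have he : e ≫ 𝒮.p.map f₁.top = e ≫ 𝒮.p.map f₂.top := equalizer.condition _ _
  refine ⟨liftObj a e ψ, liftHom a e ψ hψ', liftHom_mem a e ψ hψ', ?_⟩
  apply UppObj.hom_ext
  · show liftTop a e ψ ≫ f₁.top = liftTop a e ψ ≫ f₂.top
    haveI : 𝒮.p.IsHomLift (e ≫ 𝒮.p.map f₁.top) (liftTop a e ψ ≫ f₂.top) := by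
      rw [he]; infer_instance
    haveI : 𝒮.p.IsHomLift ((e ≫ 𝒮.p.map f₁.top) ≫ 𝒮.p.map s.top)
      ((liftTop a e ψ ≫ f₁.top) ≫ s.top) := inferInstance
    have h1 := IsStronglyCartesian.map_uniq 𝒮.p (𝒮.p.map s.top) s.top
      (g := e ≫ 𝒮.p.map f₁.top) rfl ((liftTop a e ψ ≫ f₁.top) ≫ s.top)
      (liftTop a e ψ ≫ f₁.top) rfl
    have h2 := IsStronglyCartesian.map_uniq 𝒮.p (𝒮.p.map s.top) s.top
      (g := e ≫ 𝒮.p.map f₁.top) rfl ((liftTop a e ψ ≫ f₁.top) ≫ s.top)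
      (liftTop a e ψ ≫ f₂.top) (by rw [Category.assoc, Category.assoc, htop])
    exact h1.trans h2.symm
  · show 𝟙 a.V ≫ f₁.bot = 𝟙 a.V ≫ f₂.bot
    rw [hbot]

include hC hu in
theorem hasRightCalculusOfFractions : (uppR u 𝒮).HasRightCalculusOfFractions where
  exists_rightFraction X Y φ := by
    obtain ⟨a', t, ht, g, hg⟩ := ore u 𝒮 hC hu φ.f φ.s φ.hs
    exact ⟨⟨t, ht, g⟩, hg⟩
  ext X Y Z f₁ f₂ s hs h := rightExt u 𝒮 hC hu f₁ f₂ s hs h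

end Calculus

end Groth.Agent.Lib.Helper43.UppFrac
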