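import Mathlib
import Groth.Prelude.Def_CohSite

/-!
# Products of abelian sheaves are exact on a site with enough weakly contractible objects
-/

set_option autoImplicit false
open CategoryTheory CategoryTheory.Limits Opposite

namespace Groth.Agent.Lib.Helper43.WCProd

universe u

variable {C : Type u} [SmallCategory C] (J : GrothendieckTopology C)

/-- epimorphisms of abelian sheaves are surjective on sections over weakly contractible objects. -/
lemma surjective_of_wc {A B : Sheaf J AddCommGrpCat.{u}} (φ : A ⟶ B) [Epi φ] (U : C)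
    (hU : CohSite.IsWeaklyContractible J U) :
    Function.Surjective (φ.hom.app (op U)) := by
  haveI : Sheaf.IsLocallySurjective φ := (Sheaf.isLocallySurjective_iff_epi' (φ := φ)).2 inferInstance
  have hepi : Epi ((sheafCompose J (forget AddCommGrpCat.{u})).map φ) := inferInstance
  exact hU _ _ _ hepi

section Prod

variable {α : Type u} (G : Discrete α ⥤ Sheaf J AddCommGrpCat.{u})

/-- sections over `V`, as a type-valued functor -/
abbrev secT (V : C) : Sheaf J AddCommGrpCat.{u} ⥤ Type u :=
  sheafToPresheaf J AddCommGrpCat.{u} ⋙ (evaluation _ _).obj (op V) ⋙ forget AddCommGrpCat.{u}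

/-- the limit cone of sections -/
noncomputable def secLim (V : C) : IsLimit ((secT J V).mapCone (limit.cone G)) :=
  isLimitOfPreserves (secT J V) (limit.isLimit G)

lemma exists_section (V : C) (t : ∀ i : α, (secT J V).obj (G.obj ⟨i⟩)) :
    ∃ T : (secT J V).obj (limit G), ∀ i : α, (secT J V).map (limit.π G ⟨i⟩) T = t i := by
  have hsec : (fun j : Discrete α => t j.as) ∈ (G ⋙ secT J V).sections := by
    intro j j' f
    obtain ⟨a⟩ := j
    obtain ⟨a'⟩ := j'
    have h : a = a' := Discrete.eq_of_hom f
    subst h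
    have hf : f = 𝟙 _ := Subsingleton.elim _ _
    rw [hf, CategoryTheory.Functor.map_id]
    rfl
  refine ⟨(Types.isLimitEquivSections (secLim J G V)).symm ⟨_, hsec⟩, ?_⟩
  intro i
  exact Types.isLimitEquivSections_symm_apply (secLim J G V) ⟨_, hsec⟩ ⟨i⟩

lemma section_ext (V : C) (T T' : (secT J V).obj (limit G))
    (h : ∀ i : α, (secT J V).map (limit.π G ⟨i⟩) T = (secT J V).map (limit.π G ⟨i⟩) T') :
    T = T' := by
  apply (Types.isLimitEquivSections (secLim J G V)).injective
  apply Subtype.ext
  funext j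
  obtain ⟨i⟩ := j
  exact h i

end Prod

section Main

variable (B : Set C) (hB : ∀ U ∈ B, CohSite.IsWeaklyContractible J U)
  (hcov : ∀ V : C, ∃ (ι : Type u) (U : ι → C) (f : ∀ i, U i ⟶ V), (∀ i, U i ∈ B) ∧
    Sieve.ofArrows U f ∈ J V)

include hB hcov in
theorem epi_limMap {α : Type u} {G G' : Discrete α ⥤ Sheaf J AddCommGrpCat.{u}} (g : G ⟶ G')
    (hg : ∀ i, Epi (g.app i)) : Epi (limMap g) := by
  haveI : Sheaf.IsLocallySurjective (limMap g) := by
    constructor
    intro V s
    obtain ⟨ι, U, f, hUB, hcovV⟩ := hcov V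
    refine J.superset_covering ?_ hcovV
    intro W k hk
    obtain ⟨Z, a, b, hb, rfl⟩ := hk
    obtain ⟨j⟩ := hb
    apply Sieve.downward_closed
    have hsurj : ∀ i : α, Function.Surjective ((g.app ⟨i⟩).hom.app (op (U j))) := fun i =>
      haveI := hg ⟨i⟩
      surjective_of_wc J (g.app ⟨i⟩) (U j) (hB _ (hUB j))
    let sj : (secT J (U j)).obj (limit G') := (limit G').obj.map (f j).op s
    choose t ht using fun i => hsurj i ((secT J (U j)).map (limit.π G' ⟨i⟩) sj)
    obtain ⟨T, hT⟩ := exists_section J G (U j) t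
    refine ⟨T, ?_⟩
    show (secT J (U j)).map (limMap g) T = sj
    apply section_ext J G' (U j)
    intro i
    have h1 : limMap g ≫ limit.π G' ⟨i⟩ = limit.π G ⟨i⟩ ≫ g.app ⟨i⟩ := limMap_π g ⟨i⟩
    have h2 : (secT J (U j)).map (limit.π G' ⟨i⟩) ((secT J (U j)).map (limMap g) T) =
        (secT J (U j)).map (g.app ⟨i⟩) ((secT J (U j)).map (limit.π G ⟨i⟩) T) := by
      rw [← FunctorToTypes.map_comp_apply, ← FunctorToTypes.map_comp_apply, h1]
    rw [h2, hT i]
    exact ht i
  infer_instance

include hB hcov in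
theorem ab4Star : AB4Star (Sheaf J AddCommGrpCat.{u}) where
  ofShape α := by
    constructor
    haveI : (lim : (Discrete α ⥤ Sheaf J AddCommGrpCat.{u}) ⥤ _).Additive :=
      Functor.additive_of_preserves_binary_products _
    rw [Functor.preservesFiniteColimits_iff_forall_exact_map_and_epi]
    intro S hS
    have h1 := (Functor.preservesFiniteLimits_iff_forall_exact_map_and_mono
      (lim : (Discrete α ⥤ Sheaf J AddCommGrpCat.{u}) ⥤ _)).1 inferInstance S hS
    refine ⟨h1.1, ?_⟩
    haveI := hS.epi_g
    exact epi_limMap J B hB hcov S.g (fun i => inferInstance)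

end Main

end Groth.Agent.Lib.Helper43.WCProd
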